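import Cfsg.Agent.Lib.Classical.OrthStm

/-! Generation, perfectness, centres and simplicity for symplectic and unitary groups. -/

set_option autoImplicit false

namespace Cfsg.Agent.Classical

open Module
open scoped commutatorElement

universe u

namespace Form
variable {F : Type*} [Field F] {V : Type*} [AddCommGroup V] [Module F V]

section General
variable {K : Kind F} {Φ : Form K V}

theorem IsHyp.exists_E_swap {e f y : V} {a : F} (h : Φ.IsHyp e f) (hy : y ∈ Φ.hperp e f)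
    (ha : K.T a = Φ.N y) (ha0 : a ≠ 0) : ∃ t ∈ Φ.E, t e = -(K.ε * a) • f := by
  have h1 : Φ.IsEich f y a := ⟨h.hf, (Φ.mem_hperp.1 hy).2, ha⟩
  have h2 : Φ.B e (Φ.eich f y a h1 e) = -K.σ (K.ε * a) := by
    rw [h.eich_e hy]
    simp [h.Bee, Φ.B_symm_zero (Φ.mem_hperp.1 hy).1, h.hef]
  obtain ⟨y', a', h', h3⟩ := exists_eich_sing h.he (u := Φ.eich f y a h1 e) (v := f)
    (by rw [(Φ.eich_mem _ _ _ _).2, h.he]) h.hf (by simp [h2, ha0, K.ε_ne]) (by simp [h.hef])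
  refine ⟨_, mul_mem (Φ.eich_mem_E _ _ _ h') (Φ.eich_mem_E _ _ _ h1), ?_⟩
  rw [LinearEquiv.mul_apply, h3, h2, h.hef, div_one, map_neg, K.σσ]

theorem IsHyp.exists_E_scale {e f y y' : V} {a a' : F} (h : Φ.IsHyp e f) (hy : y ∈ Φ.hperp e f)
    (ha : K.T a = Φ.N y) (ha0 : a ≠ 0) (hy' : y' ∈ Φ.hperp e f)
    (ha' : K.T a' = Φ.N y') (ha0' : a' ≠ 0) : ∃ t ∈ Φ.E, t e = (a / a') • e := by
  obtain ⟨t, ht, h1⟩ := h.exists_E_swap hy ha ha0
  obtain ⟨t', ht', h2⟩ := h.exists_E_swap hy' ha' ha0'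
  refine ⟨_, mul_mem (inv_mem ht') ht, ?_⟩
  rw [LinearEquiv.mul_apply, LinearEquiv.coe_inv, LinearEquiv.symm_apply_eq, map_smul, h1, h2, smul_smul]
  congr 1; field_simp

theorem IsHyp.exists_adjust {e f : V} (h : Φ.IsHyp e f) {g : V ≃ₗ[F] V} (hg : g ∈ Φ.Isom) {c : F}
    (hc : g e = c • e) : ∃ x ∈ Φ.E, (x * g) e = c • e ∧ (x * g) f = (K.σ c)⁻¹ • f := by
  have hc0 : c ≠ 0 := by
    rintro rfl
    exact h.e_ne (by simpa using hc)
  have h1 := (h.map hg).hef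
  rw [hc, Φ.B_smul_left] at h1
  have h2 : Φ.IsHyp e (K.σ c • g f) :=
    ⟨h.he, by rw [Φ.N_smul, hg.2, h.hf, mul_zero], by rw [Φ.B_smul_right, K.σσ, h1]⟩
  obtain ⟨y, a, h', -, h3⟩ := h2.exists_eich h
  refine ⟨_, Φ.eich_mem_E _ _ _ h', ?_, ?_⟩
  · rw [LinearEquiv.mul_apply, hc, map_smul, eich_self]
  · rw [map_smul] at h3
    rw [LinearEquiv.mul_apply, eq_inv_smul_iff₀ (by simpa using hc0), h3]

theorem IsHyp.map_hperp {e f : V} {g : V ≃ₗ[F] V} (hg : g ∈ Φ.Isom) {c d : F} (hc : c ≠ 0) (hd : d ≠ 0)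
    (he : g e = c • e) (hf : g f = d • f) {y : V} (hy : y ∈ Φ.hperp e f) : g y ∈ Φ.hperp e f := by
  have h1 := hg.1 y e
  have h2 := hg.1 y f
  rw [he, Φ.B_smul_right, (Φ.mem_hperp.1 hy).1] at h1
  rw [hf, Φ.B_smul_right, (Φ.mem_hperp.1 hy).2] at h2
  exact Φ.mem_hperp.2 ⟨by simpa [hc] using h1, by simpa [hd] using h2⟩

theorem Nondeg.det_mul_conj [FiniteDimensional F V] (hΦ : Φ.Nondeg) {g : V ≃ₗ[F] V} (hg : g ∈ Φ.Isom) :
    (LinearEquiv.det g : F) * K.σ (LinearEquiv.det g) = 1 := by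
  rw [← hΦ.closure_elemSet] at hg
  induction hg using Subgroup.closure_induction with
  | mem x hx =>
    rcases hx with ⟨d, c, h, rfl⟩ | ⟨e, y, a, h, rfl⟩ | ⟨e, f, h, l, rfl⟩
    · have h1 := Φ.qrefl_aux h
      have h2 := Φ.symm d d
      have h3 := K.εε
      have h4 : K.σ (Φ.B d d) = K.ε * Φ.B d d := by
        conv_rhs => rw [h2, ← mul_assoc, h3, one_mul]
      rw [det_qrefl, map_add, map_mul, map_one, h4]
      linear_combination (K.ε * Φ.B d d) * h1 - (c * Φ.B d d) * h3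
    · simp [det_eich]
    · rw [det_dil, map_mul, map_inv₀, K.σσ]
      have : K.σ l ≠ 0 := by simp
      field_simp
  | one => simp
  | mul x y _ _ hx hy =>
    rw [map_mul, Units.val_mul, map_mul, mul_mul_mul_comm, hx, hy, one_mul]
  | inv x _ hx => rw [map_inv, Units.val_inv_eq_inv_val, map_inv₀, ← mul_inv, hx, inv_one]

/-- scalar maps -/
def scal (V : Type*) [AddCommGroup V] [Module F V] : Fˣ →* (V ≃ₗ[F] V) := DistribMulAction.toModuleAut F V

@[simp] theorem scal_apply (c : Fˣ) (v : V) : scal V c v = (c : F) • v := rfl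

theorem scal_mem {c : Fˣ} (h : (c : F) * K.σ c = 1) : scal V c ∈ Φ.Isom :=
  ⟨fun u v => by rw [scal_apply, scal_apply, Φ.B_smul_left, Φ.B_smul_right, ← mul_assoc, h, one_mul],
    fun v => by rw [scal_apply, Φ.N_smul, h, one_mul]⟩

theorem det_scal [FiniteDimensional F V] (c : Fˣ) : LinearEquiv.det (scal V c) = c ^ finrank F V := by
  ext
  rw [LinearEquiv.coe_det, show ((scal V c : V ≃ₗ[F] V) : V →ₗ[F] V) = (c : F) • LinearMap.id
      by ext; simp, LinearMap.det_smul]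
  simp

theorem scal_injective [Nontrivial V] : Function.Injective (scal V : Fˣ →* _) := by
  intro a b h
  obtain ⟨v, hv⟩ := exists_ne (0 : V)
  exact Units.ext (smul_left_injective F hv (DFunLike.congr_fun h v))

theorem exists_scal_of [Nontrivial V] {g : V ≃ₗ[F] V} {c : F} (h : ∀ v, g v = c • v) :
    ∃ c : Fˣ, g = scal V c := by
  obtain ⟨v, hv⟩ := exists_ne (0 : V)
  exact ⟨Units.mk0 c (by rintro rfl; exact hv (by simpa using h v)), LinearEquiv.ext h⟩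

theorem Nondeg.norm_of_scal_mem [Nontrivial V] (hΦ : Φ.Nondeg) {c : Fˣ} (h : scal V c ∈ Φ.Isom) :
    (c : F) * K.σ c = 1 := by
  obtain ⟨v, hv⟩ := _root_.exists_ne (0 : V)
  obtain ⟨u, hu⟩ := hΦ.exists_ne hv
  have := h.1 u v
  rw [scal_apply, scal_apply, Φ.B_smul_left, Φ.B_smul_right, ← mul_assoc] at this
  exact mul_right_cancel₀ hu (by rw [this, one_mul])

theorem Rich0.card_center [FiniteDimensional F V] (hR : Φ.Rich0) (hΦ : Φ.Nondeg) {e f : V}
    (h : Φ.IsHyp e f) {G : Subgroup (V ≃ₗ[F] V)} (h1 : Φ.E ≤ G) (h2 : G ≤ Φ.Isom) :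
    Nat.card (Subgroup.center G) = Nat.card (G.comap (scal V)) := by
  have : Nontrivial V := ⟨⟨e, 0, h.e_ne⟩⟩
  symm
  refine Nat.card_congr (Equiv.ofBijective (fun c => ⟨⟨scal V c.1, c.2⟩,
    (hR.mem_center_iff hΦ h h1 h2).2 ⟨c.1, fun _ => rfl⟩⟩) ⟨fun a b hab => ?_, fun g => ?_⟩)
  · exact Subtype.ext (scal_injective (congrArg (fun x => x.1.1) hab))
  · obtain ⟨c, hc⟩ := (hR.mem_center_iff hΦ h h1 h2).1 g.2
    obtain ⟨c', hc'⟩ := exists_scal_of hc
    exact ⟨⟨c', by rw [Subgroup.mem_comap, ← hc']; exact g.1.2⟩, Subtype.ext (Subtype.ext hc'.symm)⟩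

theorem closure_transvSet_le [FiniteDimensional F V] (hΦ : Φ.Nondeg) {N : Subgroup (V ≃ₗ[F] V)}
    (hT : ∀ e f, Φ.IsHyp e f → ∀ a h, Φ.eich e 0 a h ∈ N) : Subgroup.closure Φ.transvSet ≤ N := by
  rw [Subgroup.closure_le]
  rintro _ ⟨d, c, h, hd, rfl⟩
  by_cases hd0 : d = 0
  · subst hd0
    have : Φ.qrefl 0 c h = 1 := by ext x; simp [qrefl_apply]
    rw [this]; exact N.one_mem
  obtain ⟨h', e⟩ := Φ.qrefl_eq_eich h hd
  obtain ⟨f, hf⟩ := hΦ.exists_hyp hd0 hd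
  rw [e]; exact hT d f hf _ _

end General

section Symp
variable [FiniteDimensional F V] {Φ : Form (Kind.symp F) V}

theorem symp_E_eq (hΦ : Φ.Nondeg) : Φ.E = Φ.Isom :=
  le_antisymm Φ.E_le (by
    rw [← symp_closure_transvSet hΦ, Subgroup.closure_le]; exact Φ.transvSet_subset_E)

theorem symp_perfect (hΦ : Φ.Nondeg) (h : (∃ l : F, l ≠ 0 ∧ l ^ 2 ≠ 1) ∨
    ((2 : F) ≠ 0 ∧ 4 ≤ finrank F V) ∨ 5 ≤ finrank F V) : commutator Φ.Isom = ⊤ := by
  apply commutator_eq_top_of_le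
  rcases h with ⟨l, hl, hl2⟩ | ⟨h2, h4⟩ | h5
  · conv_lhs => rw [← symp_closure_transvSet hΦ]
    refine closure_transvSet_le hΦ fun e f hh a ha => ?_
    have h1 : Φ.IsEich e 0 (a / (l ^ 2 - 1)) := ⟨hh.he, by simp, by simp⟩
    obtain ⟨h', h3⟩ := commutator_eich (Φ.dil_mem e f hh (Units.mk0 l hl)) h1 (Φ.dil_e _ _ _ _) hl
    have := Subgroup.commutator_mem_commutator (Φ.dil_mem e f hh (Units.mk0 l hl)) (Φ.eich_mem _ _ _ h1)
    have h4 := sub_ne_zero.2 hl2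
    rwa [h3, Φ.eich_congr _ (y' := 0) (a' := a) (by simp) (by simp; field_simp; ring)] at this
  · conv_lhs => rw [← symp_closure_transvSet hΦ]
    refine closure_transvSet_le hΦ fun e f hh a ha => ?_
    obtain ⟨u, u', h'⟩ := symp_exists_hyp (hh.nondeg_hperp hΦ) (by have := hh.finrank_hperp; omega)
    have h' := h'.hperp_of
    have h1 : Φ.IsEich e u' 0 := ⟨hh.he, (Φ.mem_hperp.1 u'.2).1, by simp [symp_N]⟩
    have h3 : Φ.IsEich e ((a / 2) • u.1) 0 := ⟨hh.he, by simp [(Φ.mem_hperp.1 u.2).1], by simp [symp_N]⟩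
    obtain ⟨h5, h6⟩ := Φ.eich_commutator h1 h3
    have := Subgroup.commutator_mem_commutator (Φ.eich_mem _ _ _ h1) (Φ.eich_mem _ _ _ h3)
    rwa [h6, Φ.eich_congr _ rfl (a' := a) (by
      rw [Φ.B_smul_left, Φ.B_smul_right, h'.hef, h'.Bfe]; simp; field_simp; ring)] at this
  · rw [← symp_E_eq hΦ]
    exact E_le_commutator hΦ h5 fun e f hh =>
      symp_exists_hyp (hh.nondeg_hperp hΦ) (by have := hh.finrank_hperp; omega)

theorem symp_simple (hΦ : Φ.Nondeg) (h0 : finrank F V ≠ 0) (hp : commutator Φ.Isom = ⊤) :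
    IsSimpleGroup (Φ.Isom ⧸ Subgroup.center Φ.Isom) := by
  obtain ⟨e, f, h⟩ := symp_exists_hyp hΦ h0
  rw [← symp_E_eq hΦ] at hp ⊢
  exact (symp_rich Φ).simple_E hΦ h hp

end Symp

section Unit
variable {σ : F →+* F} {hσ2 : ∀ a, σ (σ a) = a}

theorem exists_sub_conj (hσ : σ ≠ RingHom.id F) (hσ2 : ∀ a, σ (σ a) = a) {b : F} (hb : b + σ b = 0) :
    ∃ s, s - σ s = b := by
  obtain ⟨s, hs⟩ : ∃ s, s - σ s ≠ 0 := by
    by_contra h
    push Not at h
    exact hσ (RingHom.ext fun a => (sub_eq_zero.1 (h a)).symm)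
  have hs' : σ s - s ≠ 0 := fun h => hs (by linear_combination -h)
  refine ⟨b / (s - σ s) * s, ?_⟩
  rw [map_mul, map_div₀, map_sub, hσ2, show σ b = -b by linear_combination hb]
  field_simp
  ring

variable [Finite F] [FiniteDimensional F V] {Φ : Form (Kind.unit σ hσ2) V}

theorem unit_exists_E_scale (hσ : σ ≠ RingHom.id F) (hΦ : Φ.Nondeg) {e f : V} (h : Φ.IsHyp e f) {c : F}
    (hc : c ≠ 0) (h3 : 3 ≤ finrank F V ∨ σ c = c) : ∃ t ∈ Φ.E, t e = c • e := by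
  obtain ⟨d, hd, hd'⟩ := exists_skew σ hσ hσ2
  obtain ⟨y, hy, hN⟩ : ∃ y ∈ Φ.hperp e f, c * d + σ (c * d) = Φ.N y := by
    rcases h3 with h3 | h3
    · obtain ⟨y, hy⟩ := unit_exists_norm hσ (h.nondeg_hperp hΦ) (c := c * d + σ (c * d))
        (by have := h.finrank_hperp; omega) (by rw [map_add, hσ2, add_comm])
      exact ⟨y, y.2, hy.symm⟩
    · exact ⟨0, zero_mem _, by simp [h3, hd']⟩
  obtain ⟨t, ht, h1⟩ := h.exists_E_scale (a := c * d) hy hN (mul_ne_zero hc hd) (zero_mem _) (a' := d)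
    (by simp [hd']) hd
  exact ⟨t, ht, by rw [h1, mul_div_cancel_right₀ _ hd]⟩

theorem unit_transv_commutator (hσ : σ ≠ RingHom.id F) (hΦ : Φ.Nondeg) (h3 : 3 ≤ finrank F V) {e f : V}
    (h : Φ.IsHyp e f) {a : F} (ha : Φ.IsEich e 0 a) :
    ∃ x ∈ Φ.E, ∃ y ∈ Φ.E, ⁅x, y⁆ = Φ.eich e 0 a ha := by
  obtain ⟨y, hy⟩ := unit_exists_norm hσ (h.nondeg_hperp hΦ) (c := 1)
    (by have := h.finrank_hperp; omega) (map_one σ)
  have hy' : Φ.B y.1 y.1 = 1 := by rw [← unit_N]; exact hy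
  obtain ⟨s, hs⟩ := exists_sub_conj hσ hσ2 (b := a) (by simpa using ha.ha)
  obtain ⟨b, hb⟩ := Φ.N_range y.1
  obtain ⟨b', hb'⟩ := Φ.N_range (s • y.1)
  have h1 : Φ.IsEich e y b := ⟨h.he, (Φ.mem_hperp.1 y.2).1, hb⟩
  have h2 : Φ.IsEich e (s • y.1) b' := ⟨h.he, by simp [(Φ.mem_hperp.1 y.2).1], hb'⟩
  obtain ⟨h5, h6⟩ := Φ.eich_commutator h1 h2
  refine ⟨_, Φ.eich_mem_E _ _ _ h1, _, Φ.eich_mem_E _ _ _ h2, h6.trans (Φ.eich_congr _ rfl ?_)⟩
  rw [Φ.B_smul_left, Φ.B_smul_right, hy']; simpa using hs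

theorem unit_E_perfect (hσ : σ ≠ RingHom.id F) (hΦ : Φ.Nondeg) (h3 : 3 ≤ finrank F V)
    (h : 4 ≤ finrank F V ∨ ∃ l : F, l ≠ 0 ∧ l * σ l ≠ 1) : commutator Φ.E = ⊤ := by
  apply commutator_eq_top_of_le
  refine E_le_of_hperp hΦ (fun e f hh a ha => ?_) fun e f hh => ?_
  · obtain ⟨x, hx, y, hy, h⟩ := unit_transv_commutator hσ hΦ h3 hh ha
    exact h ▸ Subgroup.commutator_mem_commutator hx hy
  have hr := hh.finrank_hperp
  have hW := hh.nondeg_hperp hΦ
  by_cases h4 : 4 ≤ finrank F V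
  · obtain ⟨u, u', h'⟩ := unit_exists_hyp hσ hW (by omega)
    refine exists_eich_mem_of_sing h'.hperp_of u.2 u'.2 fun y hy hN => ?_
    by_cases hy0 : y = 0
    · subst hy0
      exact ⟨0, IsEich.zero hh.he, by rw [eich_zero]; exact one_mem _⟩
    obtain ⟨y', h1⟩ := hW.exists_hyp (e := ⟨y, hy⟩) (by simpa using hy0) hN
    have h1 := h1.hperp_of
    obtain ⟨d, hd, hd'⟩ := exists_skew σ hσ hσ2
    have e1 : Φ.IsEich y 0 d := ⟨hN, by simp, by simp [hd']⟩
    have e2 : Φ.IsEich e ((-d⁻¹) • y'.1) 0 :=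
      ⟨hh.he, by simp [(Φ.mem_hperp.1 y'.2).1], by rw [Φ.N_smul, h1.hf]; simp⟩
    obtain ⟨h5, h6⟩ := commutator_eich (Φ.eich_mem _ _ _ e1) e2 (l := 1) (by
      rw [Φ.eich_of_perp _ _ _ _ (Φ.B_symm_zero (Φ.mem_hperp.1 hy).1)]; simp) one_ne_zero
    have := Subgroup.commutator_mem_commutator (Φ.eich_mem_E _ _ _ e1) (Φ.eich_mem_E _ _ _ e2)
    rw [h6, Φ.eich_congr _ (y' := y) (by
      have := h1.Bfe
      simp only [Kind.unit_ε] at this
      rw [eich_apply, Φ.B_smul_left _ y, this]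
      simp [hd]) rfl] at this
    exact ⟨_, _, this⟩
  obtain ⟨l, hl, hl'⟩ := h.resolve_left h4
  intro y hy
  by_cases hy0 : y = 0
  · subst hy0
    exact ⟨0, IsEich.zero hh.he, by rw [eich_zero]; exact one_mem _⟩
  obtain ⟨t, ht, h1⟩ := unit_exists_E_scale hσ hΦ hh hl (Or.inl h3)
  obtain ⟨x, hx, h2, h5⟩ := hh.exists_adjust (Φ.E_le ht) h1
  have hg := mul_mem hx ht
  have h6 := IsHyp.map_hperp (Φ.E_le hg) hl (by simpa using hl) h2 h5 hy
  have hy0' : (⟨y, hy⟩ : Φ.hperp e f) ≠ 0 := by simpa using hy0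
  have h7 := (finrank_eq_one_iff_of_nonzero' (K := F) _ hy0').1 (by omega)
  obtain ⟨μ, hμ⟩ := h7 ⟨_, h6⟩
  have hμ' : μ • y = (x * t) y := congrArg Subtype.val hμ
  have hN : Φ.B y y ≠ 0 := fun h => hy0' (hW _ fun u => by
    obtain ⟨c, rfl⟩ := h7 u
    show Φ.B (c • y) y = 0
    rw [Φ.B_smul_left, h, mul_zero])
  have h8 := (Φ.E_le hg).1 y y
  rw [← hμ', Φ.B_smul_left, Φ.B_smul_right, ← mul_assoc] at h8
  have h9 : μ * σ μ = 1 := mul_right_cancel₀ hN (by rw [one_mul]; exact h8)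
  have h10 : σ l * μ - 1 ≠ 0 := by
    intro h
    have h11 : σ l * μ = 1 := by linear_combination h
    have h12 := congrArg σ h11
    rw [map_mul, hσ2, map_one] at h12
    apply hl'
    linear_combination (-l * σ l) * h9 + (l * σ μ) * h11 + h12
  obtain ⟨a, ha⟩ := Φ.N_range ((σ l * μ - 1)⁻¹ • y)
  have e2 : Φ.IsEich e ((σ l * μ - 1)⁻¹ • y) a := ⟨hh.he, by simp [(Φ.mem_hperp.1 hy).1], ha⟩
  obtain ⟨h5, h6⟩ := commutator_eich (Φ.E_le hg) e2 h2 hl
  have := Subgroup.commutator_mem_commutator hg (Φ.eich_mem_E _ _ _ e2)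
  rw [h6, Φ.eich_congr _ (y' := y) (by
    rw [map_smul, ← hμ', Kind.unit_σ]; match_scalars; field_simp) rfl] at this
  exact ⟨_, _, this⟩

omit [Finite F] in
theorem SIsom_eq_bot_of_finrank_le_one {K : Kind F} (Φ : Form K V) (h : finrank F V ≤ 1) :
    Φ.SIsom = ⊥ := by
  rw [eq_bot_iff]
  intro g hg
  rcases subsingleton_or_nontrivial V with h0 | h0
  · exact Subgroup.mem_bot.2 (Subsingleton.elim _ _)
  have h1 : finrank F V = 1 := le_antisymm h Module.finrank_pos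
  obtain ⟨v, hv⟩ := exists_ne (0 : V)
  have h7 := (finrank_eq_one_iff_of_nonzero' _ hv).1 h1
  obtain ⟨c, hc⟩ := h7 (g v)
  obtain ⟨c', rfl⟩ := exists_scal_of (g := g) (c := c) fun w => by
    obtain ⟨d, rfl⟩ := h7 w
    rw [map_smul, ← hc, smul_comm]
  have := (mem_SIsom.1 hg).2
  rw [det_scal, h1, pow_one] at this
  rw [this, map_one]; exact one_mem _

end Unit

end Form

theorem unit_SIsom_le_E {F : Type*} [Field F] [Finite F] {σ : F →+* F} {hσ2 : ∀ a, σ (σ a) = a}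
    (hσ : σ ≠ RingHom.id F) (n : ℕ) : ∀ {V : Type u} [AddCommGroup V] [Module F V]
    [FiniteDimensional F V] (Φ : Form (Kind.unit σ hσ2) V), Φ.Nondeg → finrank F V = n →
    Φ.SIsom ≤ Φ.E := by
  induction n using Nat.strong_induction_on with
  | _ n ih =>
    intro V _ _ _ Φ hΦ hn
    by_cases h1 : finrank F V ≤ 1
    · rw [Form.SIsom_eq_bot_of_finrank_le_one Φ h1]; exact bot_le
    obtain ⟨e, f, h⟩ := unit_exists_hyp hσ hΦ (by omega)
    have hr := h.finrank_hperp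
    have key : ∀ g ∈ Φ.SIsom, g e = e → g ∈ Φ.E := by
      intro g hg he
      obtain ⟨x, hx, h2, h3⟩ := h.exists_adjust hg.1 (c := 1) (by simpa using he)
      have h4 := mul_mem (Φ.E_le_SIsom hx) hg
      obtain ⟨g', hg', h5⟩ := h.exists_ext h4.1 (by simpa using h2) (by simpa using h3)
      have h6 := ih _ (by omega) _ (h.nondeg_hperp hΦ) rfl
        (Form.mem_SIsom.2 ⟨hg', by rw [← h.det_ext, h5]; exact h4.2⟩)
      have := mul_mem (inv_mem hx) (h5 ▸ h.ext_mem_E h6)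
      simpa using this
    intro g hg
    obtain ⟨x, hx, c, hc, h2⟩ := (Form.unit_rich hσ Φ).rich0.trans hΦ (h.sing_e.map hg.1) h.sing_e
    have h4 := mul_mem (Φ.E_le_SIsom hx) hg
    obtain ⟨t, ht, h5⟩ := Form.unit_exists_E_scale hσ hΦ h hc (by
      by_cases h3 : 3 ≤ finrank F V
      · exact Or.inl h3
      right
      obtain ⟨x', hx', h6, h7⟩ := h.exists_adjust h4.1 (c := c) h2
      have h8 := mul_mem (Φ.E_le_SIsom hx') h4
      have : Subsingleton (Φ.hperp e f) := (Module.finrank_zero_iff (R := F)).1 (by omega)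
      have h9 : x' * (x * g) = Φ.dil e f h (Units.mk0 c hc) := by
        ext v
        obtain ⟨α, β, y, hy, rfl⟩ := h.decomp v
        have : y = 0 := congrArg Subtype.val (Subsingleton.elim (⟨y, hy⟩ : Φ.hperp e f) 0)
        subst this
        simp only [add_zero, map_add, map_smul, h6, h7, Φ.dil_e, Φ.dil_f, Units.val_mk0]
      have h10 := congrArg Units.val (Form.mem_SIsom.1 h8).2
      rw [h9, Form.det_dil] at h10
      have h11 : σ c ≠ 0 := by simpa using hc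
      simp only [Units.val_mk0, Kind.unit_σ, Units.val_one] at h10
      field_simp at h10
      exact h10.symm)
    have := key _ (mul_mem (inv_mem (Φ.E_le_SIsom ht)) h4) (by
      rw [LinearEquiv.mul_apply, LinearEquiv.coe_inv, LinearEquiv.symm_apply_eq, h5]; exact h2)
    have := mul_mem (inv_mem hx) (mul_mem ht this)
    simpa using this

section UnitFin
variable {F : Type*} [Field F] [Fintype F] {q : ℕ} {V : Type*} [AddCommGroup V] [Module F V]
  [FiniteDimensional F V]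

theorem unit_E_eq (hF : Fintype.card F = q ^ 2) {Φ : Form (unitKind hF) V} (hΦ : Φ.Nondeg) :
    Φ.E = Φ.SIsom := le_antisymm Φ.E_le_SIsom (unit_SIsom_le_E (frobq_ne_id hF) _ Φ hΦ rfl)

theorem exists_norm_ne_one (hF : Fintype.card F = q ^ 2) (hq : q ≠ 2) :
    ∃ l : F, l ≠ 0 ∧ l * frobq hF l ≠ 1 := by
  have h2 := two_le_of_card_sq hF
  obtain ⟨g, hg⟩ := IsCyclic.exists_ofOrder_eq_natCard (α := Fˣ)
  refine ⟨g, g.ne_zero, fun h => ?_⟩
  have h3 : g ^ (q + 1) = 1 := by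
    ext; rw [Units.val_pow_eq_pow_val, pow_succ']; exact h
  have := Nat.le_of_dvd (by omega) (orderOf_dvd_of_pow_eq_one h3)
  rw [hg, Nat.card_units, Nat.card_eq_fintype_card, hF] at this
  have h4 : 3 ≤ q := by omega
  have : q ^ 2 ≤ q + 2 := by omega
  nlinarith

theorem unit_perfect (hF : Fintype.card F = q ^ 2) {Φ : Form (unitKind hF) V} (hΦ : Φ.Nondeg)
    (h3 : 3 ≤ finrank F V) (h : ¬ (finrank F V = 3 ∧ q = 2)) : commutator Φ.SIsom = ⊤ := by
  rw [← unit_E_eq hF hΦ]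
  refine Form.unit_E_perfect (frobq_ne_id hF) hΦ h3 ?_
  by_cases h4 : 4 ≤ finrank F V
  · exact Or.inl h4
  · exact Or.inr (exists_norm_ne_one hF fun hq => h ⟨by omega, hq⟩)

theorem unit_simple (hF : Fintype.card F = q ^ 2) {Φ : Form (unitKind hF) V} (hΦ : Φ.Nondeg)
    (h3 : 3 ≤ finrank F V) (h : ¬ (finrank F V = 3 ∧ q = 2)) :
    IsSimpleGroup (Φ.SIsom ⧸ Subgroup.center Φ.SIsom) := by
  have hp := unit_perfect hF hΦ h3 h
  obtain ⟨e, f, hh⟩ := unit_exists_hyp (frobq_ne_id hF) hΦ (by omega)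
  rw [← unit_E_eq hF hΦ] at hp ⊢
  exact (Form.unit_rich (frobq_ne_id hF) Φ).simple_E hΦ hh hp

theorem card_ker_pow_units (n : ℕ) :
    Nat.card (powMonoidHom n : Fˣ →* Fˣ).ker = Nat.gcd n (Fintype.card F - 1) := by
  rw [IsCyclic.card_powMonoidHom_ker, Nat.card_units, Nat.card_eq_fintype_card, Nat.gcd_comm]

theorem mem_ker_norm_iff (hF : Fintype.card F = q ^ 2) {c : Fˣ} :
    c ∈ (powMonoidHom (q + 1) : Fˣ →* Fˣ).ker ↔ (c : F) * frobq hF c = 1 := by
  rw [MonoidHom.mem_ker, Units.ext_iff, powMonoidHom_apply, Units.val_pow_eq_pow_val, pow_succ']; rfl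

theorem add_one_dvd_sq_sub (q : ℕ) : q + 1 ∣ q ^ 2 - 1 := ⟨q - 1, by rw [← Nat.sq_sub_sq, one_pow]⟩

theorem card_ker_norm (hF : Fintype.card F = q ^ 2) :
    Nat.card (powMonoidHom (q + 1) : Fˣ →* Fˣ).ker = q + 1 := by
  rw [card_ker_pow_units, hF, Nat.gcd_eq_left (add_one_dvd_sq_sub q)]

theorem unit_range_det (hF : Fintype.card F = q ^ 2) {Φ : Form (unitKind hF) V} (hΦ : Φ.Nondeg)
    (h : finrank F V ≠ 0) :
    (LinearEquiv.det.comp Φ.Isom.subtype).range = (powMonoidHom (q + 1) : Fˣ →* Fˣ).ker := by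
  ext c
  rw [mem_ker_norm_iff hF]
  constructor
  · rintro ⟨g, rfl⟩; exact hΦ.det_mul_conj g.2
  · intro hc
    obtain ⟨v, hv⟩ := unit_exists_norm (frobq_ne_id hF) hΦ h (c := 1) (map_one _)
    have h1 : ((c : F) - 1) * (unitKind hF).σ (c - 1) * Φ.N v +
        (unitKind hF).T ((unitKind hF).σ (c - 1)) = 0 := by
      simp only [hv, Kind.unit_σ, Kind.unit_T, map_sub, map_one, frobq_frobq]
      linear_combination hc
    refine ⟨⟨Φ.qrefl v (c - 1) h1, Φ.qrefl_mem _ _ _⟩, ?_⟩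
    ext
    refine (Φ.det_qrefl _ _ h1).trans ?_
    rw [← Form.unit_N, hv]; ring

theorem card_unit_SIsom (hF : Fintype.card F = q ^ 2) {Φ : Form (unitKind hF) V} (hΦ : Φ.Nondeg)
    (h : finrank F V ≠ 0) : (q + 1) * Nat.card Φ.SIsom = Nat.card Φ.Isom := by
  have h1 := Subgroup.index_mul_card (LinearEquiv.det.comp Φ.Isom.subtype).ker
  rw [Subgroup.index_ker, unit_range_det hF hΦ h, card_ker_norm hF] at h1
  rw [← h1]
  congr 1
  exact Nat.card_congr (Subgroup.subgroupOfEquivOfLe (H := Φ.SIsom) (K := Φ.Isom) inf_le_left).symm.toEquiv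
    |>.trans (by congr 2; ext g; simp [Subgroup.mem_subgroupOf, Form.mem_SIsom])

theorem card_center_unit (hF : Fintype.card F = q ^ 2) {Φ : Form (unitKind hF) V} (hΦ : Φ.Nondeg)
    (h : 2 ≤ finrank F V) :
    Nat.card (Subgroup.center Φ.SIsom) = Nat.gcd (finrank F V) (q + 1) := by
  obtain ⟨e, f, hh⟩ := unit_exists_hyp (frobq_ne_id hF) hΦ h
  have : Nontrivial V := ⟨⟨e, 0, hh.e_ne⟩⟩
  rw [(Form.unit_rich (frobq_ne_id hF) Φ).rich0.card_center hΦ hh Φ.E_le_SIsom inf_le_left]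
  have : Φ.SIsom.comap (Form.scal V) =
      (powMonoidHom (Nat.gcd (finrank F V) (q + 1)) : Fˣ →* Fˣ).ker := by
    ext c
    rw [Subgroup.mem_comap, Form.mem_SIsom, Form.det_scal, MonoidHom.mem_ker, powMonoidHom_apply,
      pow_gcd_eq_one, and_comm]
    refine and_congr_right fun _ => ?_
    rw [← powMonoidHom_apply, ← MonoidHom.mem_ker, mem_ker_norm_iff hF]
    exact ⟨hΦ.norm_of_scal_mem, fun h => Form.scal_mem h⟩
  rw [this, card_ker_pow_units, hF,
    Nat.gcd_eq_left ((Nat.gcd_dvd_right _ _).trans (add_one_dvd_sq_sub q))]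

end UnitFin

theorem card_center_symp {F : Type*} [Field F] [Fintype F] {V : Type*} [AddCommGroup V] [Module F V]
    [FiniteDimensional F V] {Φ : Form (Kind.symp F) V} (hΦ : Φ.Nondeg) (h : finrank F V ≠ 0) :
    Nat.card (Subgroup.center Φ.Isom) = Nat.gcd 2 (Fintype.card F - 1) := by
  obtain ⟨e, f, hh⟩ := symp_exists_hyp hΦ h
  have : Nontrivial V := ⟨⟨e, 0, hh.e_ne⟩⟩
  rw [(Form.symp_rich Φ).rich0.card_center hΦ hh Φ.E_le le_rfl, ← card_ker_pow_units]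
  congr 2
  ext c
  rw [Subgroup.mem_comap, MonoidHom.mem_ker, powMonoidHom_apply, sq, Units.ext_iff]
  exact ⟨hΦ.norm_of_scal_mem, fun h => Form.scal_mem h⟩

theorem exists_sq_ne_one {F : Type*} [Field F] [Fintype F] (h : 4 ≤ Fintype.card F) :
    ∃ l : F, l ≠ 0 ∧ l ^ 2 ≠ 1 := by
  classical
  by_contra hc
  push Not at hc
  have : (Finset.univ : Finset F) ⊆ {0, 1, -1} := fun x _ => by
    by_cases hx : x = 0
    · simp [hx]
    · rcases sq_eq_one_iff.1 (hc x hx) with h | h <;> simp [h]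
  have h1 := Finset.card_le_card this
  have h2 : ({0, 1, -1} : Finset F).card ≤ 3 := Finset.card_le_three
  rw [Finset.card_univ] at h1
  omega

theorem symp_perfect_fin {F : Type*} [Field F] [Fintype F] {V : Type*} [AddCommGroup V] [Module F V]
    [FiniteDimensional F V] {Φ : Form (Kind.symp F) V} (hΦ : Φ.Nondeg)
    (h : 5 ≤ finrank F V ∨ (4 ≤ finrank F V ∧ 3 ≤ Fintype.card F) ∨ 4 ≤ Fintype.card F) :
    commutator Φ.Isom = ⊤ := by
  apply Form.symp_perfect hΦ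
  by_cases h4 : 4 ≤ Fintype.card F
  · exact Or.inl (exists_sq_ne_one h4)
  rcases h with h | h | h
  · exact Or.inr (Or.inr h)
  · exact Or.inr (Or.inl ⟨two_ne_zero_of_odd (by rw [show Fintype.card F = 3 by omega]; decide), h.1⟩)
  · exact absurd h h4

/-- the quotient of a finite cyclic group by the `n`-th powers -/
theorem exists_hom_zmod_gcd {C : Type*} [CommGroup C] [Finite C] [IsCyclic C] (n : ℕ) :
    ∃ ψ : C →* Multiplicative (ZMod (Nat.gcd n (Nat.card C))), Function.Surjective ψ ∧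
      ψ.ker = (powMonoidHom n : C →* C).range := by
  let R := (powMonoidHom n : C →* C).range
  have h1 : Nat.card (C ⧸ R) = Nat.gcd n (Nat.card C) := by
    rw [← Subgroup.index, IsCyclic.index_powMonoidHom_range, Nat.gcd_comm]
  have : IsCyclic (C ⧸ R) := isCyclic_of_surjective _ (QuotientGroup.mk'_surjective R)
  let e := (zmodCyclicMulEquiv this).symm
  rw [← h1]
  refine ⟨e.toMonoidHom.comp (QuotientGroup.mk' R), e.surjective.comp (QuotientGroup.mk'_surjective R), ?_⟩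
  exact (MonoidHom.ker_comp_of_injective _ e.toMonoidHom e.injective).trans (QuotientGroup.ker_mk' R)

end Cfsg.Agent.Classical
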