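import Cfsg.Agent.Lib.Classical.Omega

/-! Bridges for reflections, Siegel transformations and `Ω`. -/

set_option autoImplicit false

namespace Cfsg.Agent.Classical

open Module Matrix
open scoped commutatorElement

section Grp
variable {G H : Type*} [Group G] [Group H]

theorem closure_eq_comap (e : G ≃* H) {S : Set G} {T : Set H} (h : ∀ g, g ∈ S ↔ e g ∈ T) :
    Subgroup.closure S = (Subgroup.closure T).comap e.toMonoidHom := by
  have : T = e.toMonoidHom '' S := by
    ext x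
    obtain ⟨g, rfl⟩ := e.surjective x
    exact ⟨fun hx => ⟨g, (h g).2 hx, rfl⟩, by rintro ⟨g', hg', h'⟩; exact h' ▸ (h g').1 hg'⟩
  rw [this, ← MonoidHom.map_closure, Subgroup.comap_map_eq_self_of_injective e.injective]

theorem closure_eq_top_of_equiv (e : G ≃* H) {S : Set G} {T : Set H} (h : ∀ g, g ∈ S ↔ e g ∈ T)
    (hT : Subgroup.closure T = ⊤) : Subgroup.closure S = ⊤ := by
  rw [closure_eq_comap e h, hT, Subgroup.comap_top]

theorem mem_closure_equiv_subtype {L : Type*} [Group L] {K : Subgroup L} (e : G ≃* K) {S : Set G}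
    {T : Set L} (hT : T ⊆ K) (h : ∀ g, g ∈ S ↔ (e g).1 ∈ T) {g : G} :
    g ∈ Subgroup.closure S ↔ (e g).1 ∈ Subgroup.closure T := by
  rw [closure_eq_comap e (T := {x : K | x.1 ∈ T}) h, Subgroup.mem_comap, Form.mem_closure_subtype hT]
  rfl

theorem commutator_eq_comap (e : G ≃* H) : commutator G = (commutator H).comap e.toMonoidHom := by
  ext g; exact (mem_commutator_congr e g).symm

theorem index_comap_equiv (e : G ≃* H) (K : Subgroup H) : (K.comap e.toMonoidHom).index = K.index :=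
  Subgroup.index_comap_of_surjective K e.surjective

theorem mem_commutatorSet_equiv (e : G ≃* H) {g : G} (h : e g ∈ commutatorSet H) :
    g ∈ commutatorSet G := by
  obtain ⟨a, b, hab⟩ := h
  exact ⟨e.symm a, e.symm b, e.injective (by rw [map_commutatorElement]; simpa using hab)⟩

theorem mem_center_congr (e : G ≃* H) {g : G} : e g ∈ Subgroup.center H ↔ g ∈ Subgroup.center G :=
  MulEquivClass.apply_mem_center_iff e

theorem card_center_mul :
    Nat.card (Subgroup.center G) * Nat.card (G ⧸ Subgroup.center G) = Nat.card G := by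
  rw [mul_comm]; exact (Subgroup.card_eq_card_quotient_mul_card_subgroup _).symm

theorem card_center_congr (e : G ≃* H) : Nat.card (Subgroup.center G) = Nat.card (Subgroup.center H) :=
  Nat.card_congr (Subgroup.centerCongr e).toEquiv

end Grp

section Mat
variable {F : Type*} [Field F] {ι : Type} [Fintype ι] [DecidableEq ι] (Φ : Form (Kind.orth F) (ι → F))

theorem polarVec_dot (v x : ι → F) : Cfsg.polarVec Φ.N v ⬝ᵥ x = Φ.B x v := by
  have : ∀ j, Cfsg.polarVec Φ.N v j = Φ.B (Pi.single j 1) v := fun j => by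
    rw [Φ.orth_symm, Φ.orth_B]; rfl
  conv_rhs => rw [← Finset.univ_sum_single x, map_sum, LinearMap.sum_apply]
  refine Finset.sum_congr rfl fun j _ => ?_
  rw [this, mul_comm, ← Φ.B_smul_left, ← Pi.single_smul, smul_eq_mul, mul_one]

theorem reflectionMatrix_mulVec (v x : ι → F) :
    Cfsg.reflectionMatrix Φ.N v *ᵥ x = x - ((Φ.N v)⁻¹ * Φ.B x v) • v := by
  rw [Cfsg.reflectionMatrix, Matrix.sub_mulVec, Matrix.smul_mulVec, Matrix.vecMulVec_mulVec,
    polarVec_dot, Matrix.one_mulVec, op_smul_eq_smul, smul_smul]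

theorem siegelMatrix_mulVec (u v x : ι → F) (c : F) :
    Cfsg.siegelMatrix Φ.N u v c *ᵥ x = x + (c * Φ.B x u) • v - (c * Φ.B x v) • u := by
  rw [Cfsg.siegelMatrix, Matrix.add_mulVec, Matrix.smul_mulVec, Matrix.sub_mulVec,
    Matrix.vecMulVec_mulVec, Matrix.vecMulVec_mulVec,
    polarVec_dot, polarVec_dot, Matrix.one_mulVec, op_smul_eq_smul, op_smul_eq_smul]
  module

theorem coe_eq_iff_orthEquiv (g : Cfsg.isometryGroup F Φ.N) {M : Matrix ι ι F}
    {x : (ι → F) ≃ₗ[F] (ι → F)} (h : ∀ v, M *ᵥ v = x v) :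
    (g.1 : Matrix ι ι F) = M ↔ (orthEquiv Φ g).1 = x :=
  ⟨fun e => LinearEquiv.ext fun v => by rw [orthEquiv_apply, e, h],
    fun e => matrix_ext_mulVec fun v => by rw [h, ← e, orthEquiv_apply]⟩

theorem coe_eq_refl_iff (g : Cfsg.isometryGroup F Φ.N) {v : ι → F} (h : Φ.N v ≠ 0) :
    (g.1 : Matrix ι ι F) = Cfsg.reflectionMatrix Φ.N v ↔ (orthEquiv Φ g).1 = Φ.refl v h :=
  coe_eq_iff_orthEquiv Φ g fun x => by rw [reflectionMatrix_mulVec, Form.refl_apply]

theorem coe_eq_refl2_iff (g : Cfsg.isometryGroup F Φ.N) {v w : ι → F} (h : Φ.N v ≠ 0) (h' : Φ.N w ≠ 0) :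
    (g.1 : Matrix ι ι F) = Cfsg.reflectionMatrix Φ.N v * Cfsg.reflectionMatrix Φ.N w ↔
      (orthEquiv Φ g).1 = Φ.refl v h * Φ.refl w h' :=
  coe_eq_iff_orthEquiv Φ g fun x => by
    rw [← Matrix.mulVec_mulVec, reflectionMatrix_mulVec, reflectionMatrix_mulVec, LinearEquiv.mul_apply,
      Form.refl_apply, Form.refl_apply]

theorem coe_eq_siegel_iff (g : Cfsg.isometryGroup F Φ.N) {u v : ι → F} {c : F}
    (h : Φ.IsEich v (c • u) 0) :
    (g.1 : Matrix ι ι F) = Cfsg.siegelMatrix Φ.N u v c ↔ (orthEquiv Φ g).1 = Φ.eich v (c • u) 0 h :=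
  coe_eq_iff_orthEquiv Φ g fun x => by
    rw [siegelMatrix_mulVec, Form.eich_apply, Φ.orth_B_smul, Kind.orth_ε]; module

theorem coe_eq_neg_iff (g : Cfsg.isometryGroup F Φ.N) :
    (g.1 : Matrix ι ι F) = -1 ↔ orthEquiv Φ g = ⟨LinearEquiv.neg F, neg_mem_Isom Φ⟩ := by
  rw [Subtype.ext_iff]
  exact coe_eq_iff_orthEquiv Φ g fun x => by simp [Matrix.neg_mulVec]

theorem det_orthEquiv (g : Cfsg.isometryGroup F Φ.N) :
    LinearEquiv.det (orthEquiv Φ g).1 = Matrix.GeneralLinearGroup.det g.1 := det_glEquiv _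

theorem mem_special_iff (g : Cfsg.isometryGroup F Φ.N) :
    g ∈ Cfsg.specialIsometryGroup F Φ.N ↔ LinearEquiv.det (orthEquiv Φ g).1 = 1 := by
  rw [det_orthEquiv]; rfl

theorem nonempty_POmega : Nonempty (Cfsg.POmega F Φ.N ≃*
    commutator Φ.Isom ⧸ Subgroup.center (commutator Φ.Isom)) :=
  nonempty_central_quot_equiv (commutatorCongr (orthEquiv Φ))

theorem exists_neg_iff : (∃ g : Cfsg.isometryGroup F Φ.N, g ∈ Cfsg.Omega F Φ.N ∧
    (g.1 : Matrix ι ι F) = -1) ↔
    (⟨LinearEquiv.neg F, neg_mem_Isom Φ⟩ : Φ.Isom) ∈ commutator Φ.Isom := by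
  constructor
  · rintro ⟨g, h1, h2⟩
    rw [← (coe_eq_neg_iff Φ g).1 h2, mem_commutator_congr]; exact h1
  · intro h
    refine ⟨(orthEquiv Φ).symm ⟨LinearEquiv.neg F, neg_mem_Isom Φ⟩, ?_, ?_⟩
    · rw [← mem_commutator_congr (orthEquiv Φ), MulEquiv.apply_symm_apply]; exact h
    · rw [coe_eq_neg_iff, MulEquiv.apply_symm_apply]

end Mat

namespace Form
variable {F : Type*} [Field F] {V : Type*} [AddCommGroup V] [Module F V] [FiniteDimensional F V]
  {Φ : Form (Kind.orth F) V}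

omit [FiniteDimensional F V] in
theorem orth_scalar (hΦ : Φ.Nondeg) [Nontrivial V] {g : V ≃ₗ[F] V} (hg : g ∈ Φ.Isom) {c : F}
    (h : ∀ v, g v = c • v) : g = 1 ∨ g = LinearEquiv.neg F := by
  obtain ⟨z, hz⟩ := hΦ.orth_exists_N_ne
  have h1 := hg.2 z
  rw [h, Φ.orth_N_smul] at h1
  have : c ^ 2 = 1 := mul_right_cancel₀ hz (by rw [h1, one_mul])
  rcases sq_eq_one_iff.1 this with rfl | rfl
  · left; ext v; simp [h]
  · right; ext v; simp [h]

variable [Finite F]

theorem Good.mem_center_omega (hG : Φ.Good) (hΦ : Φ.Nondeg) (hn : 3 ≤ finrank F V)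
    {g : commutator Φ.Isom} : g ∈ Subgroup.center (commutator Φ.Isom) ↔
      g.1.1 = 1 ∨ g.1.1 = LinearEquiv.neg F := by
  obtain ⟨e, f, h⟩ := orth_exists_hyp hΦ hn
  have : Nontrivial V := Module.nontrivial_of_finrank_pos (R := F) (by omega)
  have h1 := (orth_rich0 hΦ hn).mem_center_iff hΦ h le_rfl Φ.E_le (g := hG.omegaEquiv hΦ hn g)
  rw [← mem_center_congr (hG.omegaEquiv hΦ hn), h1]
  constructor
  · rintro ⟨c, hc⟩; exact orth_scalar hΦ g.1.2 hc
  · rintro (h | h)
    · exact ⟨1, fun v => by rw [one_smul]; exact DFunLike.congr_fun h v⟩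
    · exact ⟨-1, fun v => by rw [neg_one_smul]; exact DFunLike.congr_fun h v⟩

theorem Good.card_center_omega_one (hG : Φ.Good) (hΦ : Φ.Nondeg) (hn : 3 ≤ finrank F V)
    (h : (2 : F) = 0 ∨ (⟨LinearEquiv.neg F, neg_mem_Isom Φ⟩ : Φ.Isom) ∉ commutator Φ.Isom) :
    Subgroup.center (commutator Φ.Isom) = ⊥ := by
  rw [eq_bot_iff]
  intro g hg
  rcases (hG.mem_center_omega hΦ hn).1 hg with h1 | h1
  · exact Subtype.ext (Subtype.ext h1)
  · rcases h with h | h
    · refine Subtype.ext (Subtype.ext (h1.trans ?_))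
      ext v
      have : v + v = 0 := by rw [← two_smul F, h, zero_smul]
      simpa using (neg_eq_of_add_eq_zero_left this)
    · exact absurd ((Subtype.ext h1 : g.1 = ⟨LinearEquiv.neg F, neg_mem_Isom Φ⟩) ▸ g.2) h

theorem Good.card_center_omega_two (hG : Φ.Good) (hΦ : Φ.Nondeg) (hn : 3 ≤ finrank F V)
    (h2 : (2 : F) ≠ 0) (h : (⟨LinearEquiv.neg F, neg_mem_Isom Φ⟩ : Φ.Isom) ∈ commutator Φ.Isom) :
    Nat.card (Subgroup.center (commutator Φ.Isom)) = 2 := by
  have : Nontrivial V := Module.nontrivial_of_finrank_pos (R := F) (by omega)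
  rw [Nat.card_eq_two_iff]
  refine ⟨1, ⟨⟨_, h⟩, (hG.mem_center_omega hΦ hn).2 (Or.inr rfl)⟩, fun h1 => ?_, ?_⟩
  · obtain ⟨v, hv⟩ := _root_.exists_ne (0 : V)
    have : v = -v := congrArg (fun g : Subgroup.center (commutator Φ.Isom) => g.1.1.1 v) h1
    have h3 : (2 : F) • v = 0 := by rw [two_smul]; exact add_eq_zero_iff_eq_neg.2 this
    simp [h2, hv] at h3
  · rw [Set.eq_univ_iff_forall]
    intro g
    rcases (hG.mem_center_omega hΦ hn).1 g.2 with h1 | h1
    · exact Or.inl (Subtype.ext (Subtype.ext (Subtype.ext h1)))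
    · exact Or.inr (Subtype.ext (Subtype.ext (Subtype.ext h1)))

end Form

theorem gcd_four_sub {x : ℕ} (hx : 1 ≤ x) :
    Nat.gcd 4 (x - 1) = if x % 2 = 0 then 1 else if x % 4 = 1 then 4 else 2 := by
  rw [Nat.gcd_rec]
  have : (x - 1) % 4 = 0 ∨ (x - 1) % 4 = 1 ∨ (x - 1) % 4 = 2 ∨ (x - 1) % 4 = 3 := by omega
  rcases this with h | h | h | h <;> rw [h] <;> split_ifs <;> first | rfl | omega

theorem gcd_four_add (x : ℕ) :
    Nat.gcd 4 (x + 1) = if x % 2 = 0 then 1 else if x % 4 = 3 then 4 else 2 := by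
  rw [Nat.gcd_rec]
  have : (x + 1) % 4 = 0 ∨ (x + 1) % 4 = 1 ∨ (x + 1) % 4 = 2 ∨ (x + 1) % 4 = 3 := by omega
  rcases this with h | h | h | h <;> rw [h] <;> split_ifs <;> first | rfl | omega

/-- order of `PΩ` in even dimension -/
theorem card_POmega_even {F : Type*} [Field F] [Fintype F] {V : Type*} [AddCommGroup V] [Module F V]
    [FiniteDimensional F V] {Φ : Form (Kind.orth F) V} (hΦ : Φ.Nondeg) (hG : Φ.Good) {η : ℤˣ} {m : ℕ}
    (h : Φ.IsType m η) (hm : 2 ≤ m) :
    2 * ((if Fintype.card F ^ m % 2 = 0 then 1 else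
      if Fintype.card F ^ m % 4 = (if η = 1 then 1 else 3) then 4 else 2) *
      Nat.card (commutator Φ.Isom ⧸ Subgroup.center (commutator Φ.Isom))) = Nat.card Φ.Isom := by
  have hn : 3 ≤ finrank F V := by rw [h.1]; omega
  have h1 := Subgroup.index_mul_card (commutator Φ.Isom)
  have h3 := card_center_mul (G := commutator Φ.Isom)
  by_cases h2 : (2 : F) = 0
  · have : CharP F 2 := (CharP.charP_iff_prime_eq_zero Nat.prime_two).2 (by exact_mod_cast h2)
    have h4 := FiniteField.even_card_of_char_two (ringChar.eq F 2)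
    rw [if_pos (by rw [Nat.pow_mod, h4, zero_pow (by omega)]; rfl)]
    rw [hG.card_center_omega_one hΦ hn (Or.inl h2), Subgroup.card_bot] at h3
    rw [hG.index_commutator_of_two hΦ h2 (by omega)] at h1
    rw [hG.card_center_omega_one hΦ hn (Or.inl h2)]
    omega
  · have h4 := (odd_of_two_ne_zero h2).pow (n := m)
    rw [Nat.odd_iff] at h4
    rw [if_neg (by omega)]
    rw [Form.index_commutator_odd hΦ h2 (by omega)] at h1
    have h6 := neg_mem_commutator_iff h2 hΦ h
    by_cases h5 : (⟨LinearEquiv.neg F, neg_mem_Isom Φ⟩ : Φ.Isom) ∈ commutator Φ.Isom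
    · rw [if_pos (h6.1 h5)]
      rw [hG.card_center_omega_two hΦ hn h2 h5] at h3; omega
    · rw [if_neg (mt h6.2 h5)]
      rw [hG.card_center_omega_one hΦ hn (Or.inr h5), Subgroup.card_bot] at h3
      rw [hG.card_center_omega_one hΦ hn (Or.inr h5)]; omega

theorem center_omega_odd {F : Type*} [Field F] [Finite F] {V : Type*} [AddCommGroup V] [Module F V]
    [FiniteDimensional F V] {Φ : Form (Kind.orth F) V} (hΦ : Φ.Nondeg) (h : Odd (finrank F V))
    (hn : 3 ≤ finrank F V) : Subgroup.center (commutator Φ.Isom) = ⊥ := by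
  have h2 := two_ne_of_odd hΦ h
  have hG := Form.good_of_two hΦ h2
  refine hG.card_center_omega_one hΦ hn (Or.inr fun h1 => ?_)
  have h3 := (hG.dick_eq_one_iff hΦ h2).1 ((hG.mem_commutator_iff hΦ).1 h1).1
  have := congrArg Units.val h3
  rw [LinearEquiv.coe_det, show ((LinearEquiv.neg F : V ≃ₗ[F] V) : V →ₗ[F] V) = (-1 : F) • LinearMap.id
      by ext; simp, LinearMap.det_smul, h.neg_one_pow] at this
  apply h2
  simp at this
  linear_combination -this

end Cfsg.Agent.Classical
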