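import Cfsg.Agent.Lib.Classical.Witt
import Cfsg.Prelude.Def_ClassicalGeometry
import Cfsg.Prelude.Def_LieClassical

/-! Bridges between the abstract forms and the concrete groups of the statements. -/

set_option autoImplicit false

namespace Cfsg.Agent.Classical

open Module Matrix

section Abstract
variable {F : Type*} [Field F] {V : Type*} [AddCommGroup V] [Module F V]

/-- form from an alternating bilinear form -/
def Form.ofAlt (B : LinearMap.BilinForm F V) (hA : B.IsAlt) : Form (Kind.symp F) V where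
  B := B
  N _ := 0
  symm u v := by
    have := hA.neg_eq u v
    simp only [Kind.symp_σ, Kind.symp_ε, neg_mul, one_mul]
    exact this.symm
  N_add u v := by simp
  N_smul c v := by simp
  N_range v := ⟨0, by simp⟩
  B_self v := by rw [mul_zero]; exact hA v

/-- form from a quadratic form -/
def Form.ofQuad (Q : QuadraticForm F V) : Form (Kind.orth F) V where
  B := QuadraticMap.polarBilin Q
  N := Q
  symm u v := by
    simp only [Kind.orth_σ, Kind.orth_ε, one_mul]
    exact QuadraticMap.polar_comm _ _ _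
  N_add u v := by
    show Q (u + v) = Q u + Q v + QuadraticMap.polar Q u v
    simp [QuadraticMap.polar]
  N_smul c v := by simp [QuadraticMap.map_smul]
  N_range v := ⟨Q v, rfl⟩
  B_self v := by
    show QuadraticMap.polar Q v v = 2 * Q v
    rw [QuadraticMap.polar_self]; simp

@[simp] theorem Form.ofQuad_B (Q : QuadraticForm F V) (u v : V) :
    (Form.ofQuad Q).B u v = QuadraticMap.polar Q u v := rfl
@[simp] theorem Form.ofQuad_N (Q : QuadraticForm F V) (v : V) : (Form.ofQuad Q).N v = Q v := rfl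
@[simp] theorem Form.ofAlt_B (B : LinearMap.BilinForm F V) (hA : B.IsAlt) (u v : V) :
    (Form.ofAlt B hA).B u v = B u v := rfl
@[simp] theorem Form.ofAlt_N (B : LinearMap.BilinForm F V) (hA : B.IsAlt) (v : V) :
    (Form.ofAlt B hA).N v = 0 := rfl

theorem Form.ofQuad_nondeg {Q : QuadraticForm F V} (hQ : (QuadraticMap.polarBilin Q).Nondegenerate) :
    (Form.ofQuad Q).Nondeg := fun v hv => hQ.2 v hv

theorem Form.mem_Isom_ofQuad {Q : QuadraticForm F V} {g : V ≃ₗ[F] V} :
    g ∈ (Form.ofQuad Q).Isom ↔ ∀ v, Q (g v) = Q v := by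
  refine ⟨fun h => h.2, fun h => ⟨fun u v => ?_, h⟩⟩
  simp [QuadraticMap.polar, ← map_add, h]

theorem trace_surj_fixed (σ : F →+* F) (hσ : σ ≠ RingHom.id F) (hσ2 : ∀ a, σ (σ a) = a) (b : F)
    (hb : σ b = b) : ∃ a, a + σ a = b := by
  by_cases h : ∃ a, a + σ a ≠ 0
  · obtain ⟨a, ha⟩ := h
    refine ⟨b * a / (a + σ a), ?_⟩
    rw [map_div₀, map_mul, map_add, hσ2, hb, add_comm (σ a) a]
    field_simp
  · push Not at h
    exfalso; apply hσ
    ext a
    have h1 := h 1
    have h2 := h a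
    simp only [map_one] at h1
    simp only [RingHom.id_apply]
    linear_combination h2 - a * h1

/-- form from a hermitian form, linear in the first variable -/
def Form.ofHerm (σ : F →+* F) (hσ : σ ≠ RingHom.id F) (hσ2 : ∀ a, σ (σ a) = a)
    (B : V →ₗ[F] V →ₛₗ[σ] F) (hS : ∀ u v, B v u = σ (B u v)) : Form (Kind.unit σ hσ2) V where
  B := B
  N v := B v v
  symm u v := by rw [Kind.unit_ε, one_mul]; exact hS u v
  N_add u v := by
    show B (u + v) (u + v) = B u u + B v v + (B u v + σ (B u v))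
    simp [hS u v]; ring
  N_smul c v := by
    show B (c • v) (c • v) = c * σ c * B v v
    simp; ring
  N_range v := trace_surj_fixed σ hσ hσ2 _ (hS v v).symm
  B_self v := by rw [Kind.unit_κ, one_mul]; rfl

@[simp] theorem Form.ofHerm_B (σ : F →+* F) (hσ hσ2) (B : V →ₗ[F] V →ₛₗ[σ] F) (hS) (u v : V) :
    (Form.ofHerm σ hσ hσ2 B hS).B u v = B u v := rfl
@[simp] theorem Form.ofHerm_N (σ : F →+* F) (hσ hσ2) (B : V →ₗ[F] V →ₛₗ[σ] F) (hS) (v : V) :
    (Form.ofHerm σ hσ hσ2 B hS).N v = B v v := rfl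

theorem Form.symp_N (Φ : Form (Kind.symp F) V) (v : V) : Φ.N v = 0 := by
  obtain ⟨a, ha⟩ := Φ.N_range v
  rw [← ha]; rfl

theorem Form.mem_Isom_symp {Φ : Form (Kind.symp F) V} {g : V ≃ₗ[F] V} :
    g ∈ Φ.Isom ↔ ∀ u v, Φ.B (g u) (g v) = Φ.B u v :=
  ⟨fun h => h.1, fun h => ⟨h, fun v => by rw [Φ.symp_N, Φ.symp_N]⟩⟩

theorem Form.unit_N {σ : F →+* F} {hσ} (Φ : Form (Kind.unit σ hσ) V) (v : V) : Φ.N v = Φ.B v v := by
  rw [Φ.B_self]; simp

theorem Form.mem_Isom_unit {σ : F →+* F} {hσ} {Φ : Form (Kind.unit σ hσ) V} {g : V ≃ₗ[F] V} :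
    g ∈ Φ.Isom ↔ ∀ u v, Φ.B (g u) (g v) = Φ.B u v :=
  ⟨fun h => h.1, fun h => ⟨h, fun v => by rw [Φ.unit_N, Φ.unit_N, h]⟩⟩

theorem Form.orth_B (Φ : Form (Kind.orth F) V) (u v : V) :
    Φ.B u v = Φ.N (u + v) - Φ.N u - Φ.N v := by
  rw [Φ.N_add]; simp only [Kind.orth_T]; ring

theorem Form.mem_Isom_orth {Φ : Form (Kind.orth F) V} {g : V ≃ₗ[F] V} :
    g ∈ Φ.Isom ↔ ∀ v, Φ.N (g v) = Φ.N v :=
  ⟨fun h => h.2, fun h => ⟨fun u v => by rw [Φ.orth_B, Φ.orth_B, ← map_add, h, h, h], h⟩⟩

end Abstract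

section GLsec
variable {F : Type*} [Field F] {ι : Type*} [Fintype ι] [DecidableEq ι]

/-- invertible matrices as linear automorphisms -/
noncomputable def glEquiv : GL ι F ≃* ((ι → F) ≃ₗ[F] (ι → F)) :=
  Matrix.GeneralLinearGroup.toLin.trans (LinearMap.GeneralLinearGroup.generalLinearEquiv F (ι → F))

@[simp] theorem glEquiv_apply (g : GL ι F) (v : ι → F) : glEquiv g v = (g : Matrix ι ι F) *ᵥ v := rfl

theorem glEquiv_symm_mulVec (g : (ι → F) ≃ₗ[F] (ι → F)) (v : ι → F) :
    ((glEquiv.symm g : GL ι F) : Matrix ι ι F) *ᵥ v = g v := by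
  rw [← glEquiv_apply, MulEquiv.apply_symm_apply]

theorem glEquiv_toLinearMap (g : GL ι F) :
    (glEquiv g : (ι → F) →ₗ[F] (ι → F)) = Matrix.toLin' (g : Matrix ι ι F) := by
  apply LinearMap.ext; intro v; simp

theorem det_glEquiv (g : GL ι F) : LinearEquiv.det (glEquiv g) = Matrix.GeneralLinearGroup.det g := by
  ext
  rw [LinearEquiv.coe_det, glEquiv_toLinearMap, LinearMap.det_toLin']
  rfl

theorem gl_ext_mulVec {g h : GL ι F} (e : ∀ v, (g : Matrix ι ι F) *ᵥ v = (h : Matrix ι ι F) *ᵥ v) :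
    g = h := glEquiv.injective (LinearEquiv.ext e)

theorem matrix_ext_mulVec {g h : Matrix ι ι F} (e : ∀ v, g *ᵥ v = h *ᵥ v) : g = h :=
  Matrix.toLin'.injective (LinearMap.ext e)

/-- a subgroup of `GL` corresponding to a subgroup of linear automorphisms -/
noncomputable def subEquiv (S : Subgroup (GL ι F)) (T : Subgroup ((ι → F) ≃ₗ[F] (ι → F)))
    (h : ∀ g, g ∈ S ↔ glEquiv g ∈ T) : S ≃* T where
  toFun g := ⟨glEquiv g.1, (h _).1 g.2⟩
  invFun g := ⟨glEquiv.symm g.1, (h _).2 (by simp)⟩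
  left_inv g := by simp
  right_inv g := by simp
  map_mul' a b := by simp

@[simp] theorem subEquiv_apply (S : Subgroup (GL ι F)) (T : Subgroup ((ι → F) ≃ₗ[F] (ι → F)))
    (h : ∀ g, g ∈ S ↔ glEquiv g ∈ T) (g : S) : (subEquiv S T h g : _ ≃ₗ[F] _) = glEquiv g.1 := rfl

end GLsec

section Orth
variable {F : Type*} [Field F] {ι : Type} [Fintype ι] [DecidableEq ι]

theorem mem_isometryGroup {Q : (ι → F) → F} {g : GL ι F} :
    g ∈ Cfsg.isometryGroup F Q ↔ ∀ v, Q ((g : Matrix ι ι F) *ᵥ v) = Q v :=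
  ⟨fun h v => h v v, fun h v _ => h v⟩

theorem mem_isometryGroup_iff (Φ : Form (Kind.orth F) (ι → F)) {g : GL ι F} :
    g ∈ Cfsg.isometryGroup F Φ.N ↔ glEquiv g ∈ Φ.Isom := by
  rw [mem_isometryGroup, Form.mem_Isom_orth]; rfl

/-- the orthogonal group of the statements as abstract isometry group -/
noncomputable def orthEquiv (Φ : Form (Kind.orth F) (ι → F)) : Cfsg.isometryGroup F Φ.N ≃* Φ.Isom :=
  subEquiv _ _ fun _ => mem_isometryGroup_iff Φ

@[simp] theorem orthEquiv_apply (Φ : Form (Kind.orth F) (ι → F)) (g : Cfsg.isometryGroup F Φ.N)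
    (v : ι → F) : (orthEquiv Φ g).1 v = (g.1 : Matrix ι ι F) *ᵥ v := rfl

/-- form from a function with the properties of a quadratic form -/
def Form.ofQuadFun {V : Type*} [AddCommGroup V] [Module F V] (Q : V → F) (B : V →ₗ[F] V →ₗ[F] F)
    (hadd : ∀ u v, Q (u + v) = Q u + Q v + B u v) (hsmul : ∀ (c : F) v, Q (c • v) = c * c * Q v) :
    Form (Kind.orth F) V where
  B := B
  N := Q
  symm u v := by
    have h1 := hadd u v
    have h2 := hadd v u
    rw [add_comm v u] at h2
    simp only [Kind.orth_σ, Kind.orth_ε, one_mul]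
    linear_combination h1 - h2
  N_add := hadd
  N_smul := hsmul
  N_range v := ⟨Q v, rfl⟩
  B_self v := by
    have h1 := hadd v v
    have h2 := hsmul 2 v
    rw [two_smul] at h2
    show B v v = 2 * Q v
    linear_combination h2 - h1

/-- the plus type form -/
def plusForm (m : ℕ) (F : Type*) [Field F] : Form (Kind.orth F) (Fin m ⊕ Fin m → F) :=
  Form.ofQuadFun (Cfsg.quadFormPlus m F)
    (LinearMap.mk₂ F (fun u v => ∑ i : Fin m, (u (.inl i) * v (.inr i) + u (.inr i) * v (.inl i)))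
      (by intros; simp [← Finset.sum_add_distrib]; congr; ext; ring)
      (by intros; simp [Finset.mul_sum]; congr; ext; ring)
      (by intros; simp [← Finset.sum_add_distrib]; congr; ext; ring)
      (by intros; simp [Finset.mul_sum]; congr; ext; ring))
    (by intros; simp [Cfsg.quadFormPlus, ← Finset.sum_add_distrib]; congr; ext; ring)
    (by intros; simp [Cfsg.quadFormPlus, Finset.mul_sum]; congr; ext; ring)

theorem plusForm_N (m : ℕ) : (plusForm m F).N = Cfsg.quadFormPlus m F := rfl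
theorem plusForm_B (m : ℕ) (u v : Fin m ⊕ Fin m → F) : (plusForm m F).B u v =
    ∑ i : Fin m, (u (.inl i) * v (.inr i) + u (.inr i) * v (.inl i)) := rfl

theorem plusForm_nondeg (m : ℕ) : (plusForm m F).Nondeg := by
  intro v hv
  ext (i | i)
  · simpa [plusForm_B, Pi.single_apply] using hv (Pi.single (.inr i) 1)
  · simpa [plusForm_B, Pi.single_apply] using hv (Pi.single (.inl i) 1)

/-- the odd-dimensional form -/
def oddForm (m : ℕ) (F : Type*) [Field F] : Form (Kind.orth F) (Unit ⊕ (Fin m ⊕ Fin m) → F) :=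
  Form.ofQuadFun (Cfsg.quadFormOdd m F)
    (LinearMap.mk₂ F (fun u v => 2 * u (.inl ()) * v (.inl ()) +
      ∑ i : Fin m, (u (.inr (.inl i)) * v (.inr (.inr i)) + u (.inr (.inr i)) * v (.inr (.inl i))))
      (by intros; simp [mul_add, add_mul, Finset.sum_add_distrib]; ring)
      (by intros; simp [mul_add, Finset.mul_sum, mul_assoc, mul_left_comm])
      (by intros; simp [mul_add, add_mul, Finset.sum_add_distrib]; ring)
      (by intros; simp [mul_add, Finset.mul_sum, mul_assoc, mul_left_comm]))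
    (by
      intros
      simp [Cfsg.quadFormOdd, mul_add, add_mul, Finset.sum_add_distrib, mul_comm]; ring)
    (by
      intros
      simp [Cfsg.quadFormOdd, mul_add, Finset.mul_sum, mul_assoc, mul_left_comm]; ring)

theorem oddForm_N (m : ℕ) : (oddForm m F).N = Cfsg.quadFormOdd m F := rfl
theorem oddForm_B (m : ℕ) (u v : Unit ⊕ (Fin m ⊕ Fin m) → F) : (oddForm m F).B u v =
    2 * u (.inl ()) * v (.inl ()) + ∑ i : Fin m,
      (u (.inr (.inl i)) * v (.inr (.inr i)) + u (.inr (.inr i)) * v (.inr (.inl i))) := rfl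

theorem oddForm_nondeg (m : ℕ) (h2 : (2 : F) ≠ 0) : (oddForm m F).Nondeg := by
  intro v hv
  ext (i | i | i)
  · simpa [oddForm_B, Pi.single_apply, h2] using hv (Pi.single (.inl ()) 1)
  · simpa [oddForm_B, Pi.single_apply] using hv (Pi.single (.inr (.inr i)) 1)
  · simpa [oddForm_B, Pi.single_apply] using hv (Pi.single (.inr (.inl i)) 1)

/-- the minus type form -/
def minusForm (m : ℕ) (F : Type*) [Field F] (a b : F) :
    Form (Kind.orth F) ((Fin m ⊕ Fin m) ⊕ Fin 2 → F) :=
  Form.ofQuadFun (Cfsg.quadFormMinus m F a b)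
    (LinearMap.mk₂ F (fun u v =>
      ∑ i : Fin m, (u (.inl (.inl i)) * v (.inl (.inr i)) + u (.inl (.inr i)) * v (.inl (.inl i))) +
      (2 * u (.inr 0) * v (.inr 0) + a * (u (.inr 0) * v (.inr 1) + u (.inr 1) * v (.inr 0)) +
        2 * b * u (.inr 1) * v (.inr 1)))
      (by intros; simp [mul_add, add_mul, Finset.sum_add_distrib]; ring)
      (by intros; simp [mul_add, Finset.mul_sum, mul_assoc, mul_left_comm])
      (by intros; simp [mul_add, add_mul, Finset.sum_add_distrib]; ring)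
      (by intros; simp [mul_add, Finset.mul_sum, mul_assoc, mul_left_comm]))
    (by
      intros
      simp [Cfsg.quadFormMinus, mul_add, add_mul, Finset.sum_add_distrib, mul_comm]; ring)
    (by
      intros
      simp [Cfsg.quadFormMinus, mul_add, Finset.mul_sum, mul_assoc, mul_left_comm]; ring)

theorem minusForm_N (m : ℕ) (a b : F) : (minusForm m F a b).N = Cfsg.quadFormMinus m F a b := rfl
theorem minusForm_B (m : ℕ) (a b : F) (u v : (Fin m ⊕ Fin m) ⊕ Fin 2 → F) : (minusForm m F a b).B u v =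
    ∑ i : Fin m, (u (.inl (.inl i)) * v (.inl (.inr i)) + u (.inl (.inr i)) * v (.inl (.inl i))) +
      (2 * u (.inr 0) * v (.inr 0) + a * (u (.inr 0) * v (.inr 1) + u (.inr 1) * v (.inr 0)) +
        2 * b * u (.inr 1) * v (.inr 1)) := rfl

theorem aniso_disc_ne [Finite F] {a b : F}
    (hab : ∀ z₁ z₂ : F, z₁ ^ 2 + a * z₁ * z₂ + b * z₂ ^ 2 = 0 → z₁ = 0 ∧ z₂ = 0) :
    4 * b - a ^ 2 ≠ 0 := by
  intro h
  by_cases h2 : (2 : F) = 0
  · have ha : a = 0 := by
      have : a ^ 2 = 0 := by linear_combination (2 * b) * h2 - h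
      simpa using this
    have : CharP F 2 := (CharP.charP_iff_prime_eq_zero Nat.prime_two).2 (by exact_mod_cast h2)
    obtain ⟨c, hc⟩ := FiniteField.isSquare_of_char_two (F := F) (ringChar.eq F 2) b
    have := (hab c 1 (by rw [ha, hc]; linear_combination (c * c) * h2)).2
    simp at this
  · have := (hab (-a) 2 (by linear_combination h)).2
    exact h2 this

theorem minusForm_nondeg [Finite F] (m : ℕ) {a b : F}
    (hab : ∀ z₁ z₂ : F, z₁ ^ 2 + a * z₁ * z₂ + b * z₂ ^ 2 = 0 → z₁ = 0 ∧ z₂ = 0) :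
    (minusForm m F a b).Nondeg := by
  intro v hv
  have hd := aniso_disc_ne hab
  have h0 := hv (Pi.single (.inr 0) 1)
  have h1 := hv (Pi.single (.inr 1) 1)
  simp [minusForm_B, Pi.single_apply] at h0 h1
  ext ((i | i) | i)
  · simpa [minusForm_B, Pi.single_apply] using hv (Pi.single (.inl (.inr i)) 1)
  · simpa [minusForm_B, Pi.single_apply] using hv (Pi.single (.inl (.inl i)) 1)
  · fin_cases i
    · apply mul_left_cancel₀ hd
      show _ * v (.inr 0) = _ * 0
      linear_combination (2 * b) * h0 - a * h1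
    · apply mul_left_cancel₀ hd
      show _ * v (.inr 1) = _ * 0
      linear_combination 2 * h1 - a * h0

end Orth

section Symp
variable {F : Type*} [Field F]

theorem sympForm_eq (m : ℕ) (u v : Fin m ⊕ Fin m → F) : Cfsg.sympForm m F u v =
    ∑ i : Fin m, (u (.inr i) * v (.inl i) - u (.inl i) * v (.inr i)) := by
  simp [Cfsg.sympForm, Matrix.J, Matrix.fromBlocks_mulVec, dotProduct, Fintype.sum_sum_type,
    Matrix.neg_mulVec, Finset.sum_sub_distrib]
  ring

/-- the standard symplectic form -/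
def spForm (m : ℕ) (F : Type*) [Field F] : Form (Kind.symp F) (Fin m ⊕ Fin m → F) :=
  Form.ofAlt (LinearMap.mk₂ F (Cfsg.sympForm m F)
    (fun _ _ _ => add_dotProduct _ _ _) (fun _ _ _ => smul_dotProduct _ _ _)
    (by intros; simp [Cfsg.sympForm, Matrix.mulVec_add])
    (by intros; simp [Cfsg.sympForm, Matrix.mulVec_smul]))
    (by intro v; show Cfsg.sympForm m F v v = 0; simp [sympForm_eq, mul_comm])

theorem spForm_B (m : ℕ) (u v : Fin m ⊕ Fin m → F) : (spForm m F).B u v = Cfsg.sympForm m F u v := rfl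

theorem spForm_nondeg (m : ℕ) : (spForm m F).Nondeg := by
  intro v hv
  ext (i | i)
  · simpa [spForm_B, sympForm_eq, Pi.single_apply] using hv (Pi.single (.inr i) 1)
  · simpa [spForm_B, sympForm_eq, Pi.single_apply] using hv (Pi.single (.inl i) 1)

theorem mem_spGL_iff (m : ℕ) {g : GL (Fin m ⊕ Fin m) F} :
    g ∈ Cfsg.spGL m F ↔ glEquiv g ∈ (spForm m F).Isom := by
  rw [Form.mem_Isom_symp]; rfl

theorem mem_symplecticGroup_iff_form (m : ℕ) {A : Matrix (Fin m ⊕ Fin m) (Fin m ⊕ Fin m) F} :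
    A ∈ Matrix.symplecticGroup (Fin m) F ↔
      ∀ u v, Cfsg.sympForm m F (A *ᵥ u) (A *ᵥ v) = Cfsg.sympForm m F u v := by
  rw [SymplecticGroup.mem_iff']
  have key : ∀ u v, Cfsg.sympForm m F (A *ᵥ u) (A *ᵥ v) = u ⬝ᵥ ((Aᵀ * J (Fin m) F * A) *ᵥ v) := by
    intro u v
    simp only [Cfsg.sympForm]
    rw [Matrix.mul_assoc, ← Matrix.mulVec_mulVec, ← Matrix.mulVec_mulVec, Matrix.dotProduct_mulVec u,
      Matrix.vecMul_transpose]
  constructor
  · intro h u v; rw [key, h]; rfl
  · intro h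
    ext i j
    have := h (Pi.single i 1) (Pi.single j 1)
    rw [key] at this
    simpa [Cfsg.sympForm] using this

/-- Mathlib's symplectic group as subgroup of `GL` -/
noncomputable def spToGL (m : ℕ) (F : Type*) [Field F] :
    Matrix.symplecticGroup (Fin m) F ≃* Cfsg.spGL m F where
  toFun A := ⟨(Cfsg.spToMat m F).toHomUnits A, (mem_symplecticGroup_iff_form m).1 A.2⟩
  invFun g := ⟨g.1, (mem_symplecticGroup_iff_form m).2 g.2⟩
  left_inv A := rfl
  right_inv g := by ext; rfl
  map_mul' a b := by ext; rfl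

/-- Mathlib's symplectic group as abstract isometry group -/
noncomputable def spEquiv (m : ℕ) (F : Type*) [Field F] :
    Matrix.symplecticGroup (Fin m) F ≃* (spForm m F).Isom :=
  (spToGL m F).trans (subEquiv _ _ fun _ => mem_spGL_iff m)

@[simp] theorem spEquiv_apply (m : ℕ) (A : Matrix.symplecticGroup (Fin m) F) (v : Fin m ⊕ Fin m → F) :
    (spEquiv m F A).1 v = (A : Matrix _ _ F) *ᵥ v := rfl

theorem sympTransvection_mulVec (m : ℕ) (v x : Fin m ⊕ Fin m → F) (c : F) :
    Cfsg.sympTransvection m v c *ᵥ x = x + (c * Cfsg.sympForm m F x v) • v := by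
  simp [Cfsg.sympTransvection, Matrix.add_mulVec, Matrix.smul_mulVec, Matrix.vecMulVec_mulVec,
    Cfsg.sympForm, dotProduct_comm, smul_smul]

end Symp

section Unit
variable {F : Type*} [Field F] [Fintype F] {q : ℕ}

theorem exists_pow_of_card_sq (hF : Fintype.card F = q ^ 2) :
    ∃ p k : ℕ, p.Prime ∧ CharP F p ∧ q = p ^ k ∧ 0 < k := by
  obtain ⟨p, hp⟩ := CharP.exists F
  obtain ⟨n, hpp, hn⟩ := FiniteField.card F p
  have : q ∣ p ^ (n : ℕ) := by rw [← hn, hF]; exact dvd_pow_self q two_ne_zero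
  obtain ⟨k, -, hk⟩ := (Nat.dvd_prime_pow hpp).1 this
  refine ⟨p, k, hpp, hp, hk, Nat.pos_of_ne_zero ?_⟩
  rintro rfl
  have := Fintype.one_lt_card (α := F)
  rw [hF, hk] at this; simp at this

theorem two_le_of_card_sq (hF : Fintype.card F = q ^ 2) : 2 ≤ q := by
  have := Fintype.one_lt_card (α := F)
  rw [hF] at this
  by_contra h
  have : q = 0 ∨ q = 1 := by omega
  rcases this with rfl | rfl <;> simp at this

/-- the involution `x ↦ x ^ q` of a field with `q ^ 2` elements -/
def frobq (hF : Fintype.card F = q ^ 2) : F →+* F where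
  toFun x := x ^ q
  map_one' := one_pow q
  map_mul' x y := mul_pow x y q
  map_zero' := zero_pow (by have := two_le_of_card_sq hF; omega)
  map_add' x y := by
    obtain ⟨p, k, hp, hc, rfl, -⟩ := exists_pow_of_card_sq hF
    have := Fact.mk hp
    exact add_pow_char_pow x y p k

@[simp] theorem frobq_apply (hF : Fintype.card F = q ^ 2) (x : F) : frobq hF x = x ^ q := rfl

theorem frobq_frobq (hF : Fintype.card F = q ^ 2) (x : F) : frobq hF (frobq hF x) = x := by
  simp only [frobq_apply, ← pow_mul, ← sq, ← hF, FiniteField.pow_card]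

theorem frobq_ne_id (hF : Fintype.card F = q ^ 2) : frobq hF ≠ RingHom.id F := by
  classical
  intro h
  have h2 := two_le_of_card_sq hF
  obtain ⟨g, hg⟩ := IsCyclic.exists_ofOrder_eq_natCard (α := Fˣ)
  have h1 : (g : F) ^ q = g := RingHom.congr_fun h g
  have h3 : g ^ (q - 1) = 1 := by
    ext
    apply mul_right_cancel₀ g.ne_zero
    rw [Units.val_pow_eq_pow_val, ← pow_succ, Nat.sub_add_cancel (by omega), h1]; simp
  have := Nat.le_of_dvd (by omega) (orderOf_dvd_of_pow_eq_one h3)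
  rw [hg, Nat.card_units, Nat.card_eq_fintype_card, hF] at this
  have : q ^ 2 ≤ q := by omega
  nlinarith

/-- the unitary kind for a field with `q ^ 2` elements -/
abbrev unitKind (hF : Fintype.card F = q ^ 2) : Kind F := Kind.unit (frobq hF) (frobq_frobq hF)

/-- the standard hermitian form -/
def uForm (hF : Fintype.card F = q ^ 2) (n : ℕ) : Form (unitKind hF) (Fin n → F) :=
  Form.ofHerm (frobq hF) (frobq_ne_id hF) (frobq_frobq hF)
    (LinearMap.mk₂'ₛₗ (RingHom.id F) (frobq hF) (fun u v => ∑ i, u i * frobq hF (v i))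
      (by intros; simp only [Pi.add_apply, add_mul, Finset.sum_add_distrib])
      (by intros; simp only [Pi.smul_apply, smul_eq_mul, Finset.mul_sum, mul_assoc, RingHom.id_apply])
      (by intros; simp only [Pi.add_apply, map_add, mul_add, Finset.sum_add_distrib])
      (by
        intros
        simp only [Pi.smul_apply, smul_eq_mul, Finset.mul_sum, map_mul, mul_left_comm]))
    (by
      intro u v
      simp only [LinearMap.mk₂'ₛₗ_apply, map_sum, map_mul, frobq_frobq, mul_comm])

theorem uForm_B (hF : Fintype.card F = q ^ 2) (n : ℕ) (u v : Fin n → F) :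
    (uForm hF n).B u v = Cfsg.hermForm n F q u v := rfl
theorem uForm_N (hF : Fintype.card F = q ^ 2) (n : ℕ) (v : Fin n → F) :
    (uForm hF n).N v = Cfsg.hermForm n F q v v := rfl

theorem uForm_nondeg (hF : Fintype.card F = q ^ 2) (n : ℕ) : (uForm hF n).Nondeg := by
  intro v hv
  ext i
  have := hv (Pi.single i 1)
  simp [uForm_B, Cfsg.hermForm, Pi.single_apply] at this
  exact this.1

theorem mem_GU_iff (hF : Fintype.card F = q ^ 2) (n : ℕ) {g : GL (Fin n) F} :
    g ∈ Cfsg.GU n F q ↔ glEquiv g ∈ (uForm hF n).Isom := by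
  rw [Form.mem_Isom_unit]; rfl

/-- `GU` as abstract isometry group -/
noncomputable def guEquiv (hF : Fintype.card F = q ^ 2) (n : ℕ) : Cfsg.GU n F q ≃* (uForm hF n).Isom :=
  subEquiv _ _ fun _ => mem_GU_iff hF n

/-- the special isometry group -/
noncomputable def Form.SIsom {F : Type*} [Field F] {K : Kind F} {V : Type*} [AddCommGroup V] [Module F V]
    (Φ : Form K V) : Subgroup (V ≃ₗ[F] V) := Φ.Isom ⊓ (LinearEquiv.det : (V ≃ₗ[F] V) →* Fˣ).ker

theorem Form.mem_SIsom {F : Type*} [Field F] {K : Kind F} {V : Type*} [AddCommGroup V] [Module F V]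
    {Φ : Form K V} {g : V ≃ₗ[F] V} : g ∈ Φ.SIsom ↔ g ∈ Φ.Isom ∧ LinearEquiv.det g = 1 := Iff.rfl

/-- `SU` as abstract special isometry group -/
noncomputable def suEquiv (hF : Fintype.card F = q ^ 2) (n : ℕ) :
    Cfsg.SU n F q ≃* (uForm hF n).SIsom where
  toFun g := ⟨glEquiv (Matrix.SpecialLinearGroup.toGL g.1), Form.mem_SIsom.2 ⟨(mem_GU_iff hF n).1 g.2, by
    rw [det_glEquiv]; ext; simp⟩⟩
  invFun g := ⟨⟨(glEquiv.symm g.1 : GL (Fin n) F), by
      have := (Form.mem_SIsom.1 g.2).2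
      have h := det_glEquiv (glEquiv.symm g.1)
      rw [MulEquiv.apply_symm_apply, this] at h
      exact (congrArg Units.val h).symm⟩, by
    have : glEquiv.symm g.1 ∈ Cfsg.GU n F q := (mem_GU_iff hF n).2 (by simpa using g.2.1)
    exact this⟩
  left_inv g := by ext; simp
  right_inv g := by
    ext v i
    exact congrFun (glEquiv_symm_mulVec _ _) i
  map_mul' a b := by ext; simp

@[simp] theorem suEquiv_apply (hF : Fintype.card F = q ^ 2) (n : ℕ) (g : Cfsg.SU n F q) (v : Fin n → F) :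
    (suEquiv hF n g).1 v = (g.1 : Matrix (Fin n) (Fin n) F) *ᵥ v := rfl

omit [Fintype F] in
theorem unitaryTransvection_mulVec (n : ℕ) (v x : Fin n → F) (c : F) :
    Cfsg.unitaryTransvection n q v c *ᵥ x = x + (c * Cfsg.hermForm n F q x v) • v := by
  rw [Cfsg.unitaryTransvection, Matrix.add_mulVec, Matrix.smul_mulVec, Matrix.vecMulVec_mulVec]
  simp only [Cfsg.hermForm, dotProduct, op_smul_eq_smul, smul_smul, mul_comm, Matrix.one_mulVec]

end Unit

end Cfsg.Agent.Classical
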