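import Cfsg.Agent.Lib.Classical.Decomp
import Cfsg.Agent.Lib.Classical.Bridge

/-! Isometric spaces; classification and orders in the symplectic and unitary cases. -/

set_option autoImplicit false

namespace Cfsg.Agent.Classical

open Module

universe u v

namespace Form
variable {F : Type*} [Field F] {K : Kind F} {V : Type*} [AddCommGroup V] [Module F V]
  {W : Type*} [AddCommGroup W] [Module F W]

/-- isometric spaces -/
def Iso (Φ : Form K V) (Ψ : Form K W) : Prop :=
  ∃ e : V ≃ₗ[F] W, (∀ u v, Ψ.B (e u) (e v) = Φ.B u v) ∧ ∀ v, Ψ.N (e v) = Φ.N v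

theorem Iso.refl (Φ : Form K V) : Φ.Iso Φ := ⟨LinearEquiv.refl _ _, fun _ _ => rfl, fun _ => rfl⟩

theorem Iso.symm {Φ : Form K V} {Ψ : Form K W} (h : Φ.Iso Ψ) : Ψ.Iso Φ := by
  obtain ⟨e, h1, h2⟩ := h
  exact ⟨e.symm, fun u v => by rw [← h1]; simp, fun v => by rw [← h2]; simp⟩

theorem Iso.trans {X : Type*} [AddCommGroup X] [Module F X] {Φ : Form K V} {Ψ : Form K W}
    {Θ : Form K X} (h : Φ.Iso Ψ) (h' : Ψ.Iso Θ) : Φ.Iso Θ := by
  obtain ⟨e, h1, h2⟩ := h
  obtain ⟨e', h1', h2'⟩ := h'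
  exact ⟨e.trans e', fun u v => by simp [h1', h1], fun v => by simp [h2', h2]⟩

theorem Iso.nonempty_equiv {Φ : Form K V} {Ψ : Form K W} (h : Φ.Iso Ψ) :
    Nonempty (Φ.Isom ≃* Ψ.Isom) := by
  obtain ⟨e, h1, h2⟩ := h
  exact ⟨Φ.isomCongr Ψ e h1 h2⟩

theorem Iso.cnt_eq {Φ : Form K V} {Ψ : Form K W} (h : Φ.Iso Ψ) (c : F) : Φ.cnt c = Ψ.cnt c := by
  obtain ⟨e, h1, h2⟩ := h
  exact Nat.card_congr (e.toEquiv.subtypeEquiv fun v => by simp [h2])

theorem Iso.nondeg {Φ : Form K V} {Ψ : Form K W} (h : Φ.Iso Ψ) (hΦ : Φ.Nondeg) : Ψ.Nondeg := by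
  obtain ⟨e, h1, h2⟩ := h
  intro v hv
  obtain ⟨v, rfl⟩ := e.surjective v
  rw [hΦ v fun u => by rw [← h1, hv], map_zero]

theorem iso_of_subsingleton [Subsingleton V] [Subsingleton W] (Φ : Form K V) (Ψ : Form K W) :
    Φ.Iso Ψ :=
  ⟨LinearEquiv.ofSubsingleton V W, fun u v => by
    rw [Subsingleton.elim u 0, Subsingleton.elim v 0]; simp,
    fun v => by rw [Subsingleton.elim v 0]; simp⟩

theorem IsHyp.iso {Φ : Form K V} {Ψ : Form K W} {e f : V} {e' f' : W} (h : Φ.IsHyp e f)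
    (h' : Ψ.IsHyp e' f') (hi : (Φ.restrict (Φ.hperp e f)).Iso (Ψ.restrict (Ψ.hperp e' f'))) :
    Φ.Iso Ψ := by
  obtain ⟨g, h1, h2⟩ := hi
  refine ⟨h.coord.symm ≪≫ₗ ((LinearEquiv.refl F F).prodCongr ((LinearEquiv.refl F F).prodCongr g))
    ≪≫ₗ h'.coord, fun u v => ?_, fun v => ?_⟩
  · obtain ⟨⟨a, b, y⟩, rfl⟩ := h.coord.surjective u
    obtain ⟨⟨a', b', y'⟩, rfl⟩ := h.coord.surjective v
    simp only [LinearEquiv.trans_apply, LinearEquiv.symm_apply_apply, LinearEquiv.prodCongr_apply,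
      LinearEquiv.refl_apply]
    simp only [IsHyp.coord_apply]
    rw [h.B_decomp _ _ _ _ y.2 y'.2, h'.B_decomp _ _ _ _ (g y).2 (g y').2]
    congr 1; exact h1 y y'
  · obtain ⟨⟨a, b, y⟩, rfl⟩ := h.coord.surjective v
    simp only [LinearEquiv.trans_apply, LinearEquiv.symm_apply_apply, LinearEquiv.prodCongr_apply,
      LinearEquiv.refl_apply]
    simp only [IsHyp.coord_apply]
    rw [h.N_decomp _ _ y.2, h'.N_decomp _ _ (g y).2]
    congr 1; exact h2 y

theorem iso_of_basis {ι : Type*} [Finite ι] {Φ : Form K V} {Ψ : Form K W} (b : Basis ι F V)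
    (b' : Basis ι F W) (hB : ∀ i j, Ψ.B (b' i) (b' j) = Φ.B (b i) (b j))
    (hN : ∀ i, Ψ.N (b' i) = Φ.N (b i)) : Φ.Iso Ψ := by
  have hB' : ∀ u v, Ψ.B (b.equiv b' (Equiv.refl ι) u) (b.equiv b' (Equiv.refl ι) v) = Φ.B u v := by
    have : (Ψ.comap (b.equiv b' (Equiv.refl ι)).toLinearMap).B = Φ.B :=
      b.ext fun i => b.ext fun j => by simp [hB]
    intro u v
    rw [← this]; rfl
  refine ⟨b.equiv b' (Equiv.refl ι), hB', fun v => ?_⟩
  have hv : v ∈ Submodule.span F (Set.range b) := by simp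
  induction hv using Submodule.span_induction with
  | mem x hx => obtain ⟨i, rfl⟩ := hx; simp [hN]
  | zero => simp
  | add x y _ _ hx hy => rw [map_add, Ψ.N_add, Φ.N_add, hx, hy, hB']
  | smul c x _ hx => rw [map_smul, Ψ.N_smul, Φ.N_smul, hx]

theorem card_Isom_of_subsingleton [Subsingleton V] (Φ : Form K V) : Nat.card Φ.Isom = 1 := by
  rw [Nat.card_eq_one_iff_unique]
  exact ⟨⟨fun a b => Subtype.ext (LinearEquiv.ext fun x => Subsingleton.elim _ _)⟩, ⟨1⟩⟩

theorem iso_of_finrank_one {Φ : Form K V} {Ψ : Form K W} (hV : finrank F V = 1) (hW : finrank F W = 1)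
    {v : V} {w : W} (hv : v ≠ 0) (hw : w ≠ 0) (h : Φ.N v = Ψ.N w) : Φ.Iso Ψ :=
  iso_of_basis (FiniteDimensional.basisSingleton Unit hV v hv)
    (FiniteDimensional.basisSingleton Unit hW w hw)
    (by intro i j; simp [Φ.B_self, Ψ.B_self, h]) (by intro i; simp [h])

end Form

/-! ### symplectic -/
section Symp
variable {F : Type*} [Field F]

theorem symp_exists_hyp {V : Type*} [AddCommGroup V] [Module F V] [FiniteDimensional F V]
    {Φ : Form (Kind.symp F) V} (hΦ : Φ.Nondeg) (h : finrank F V ≠ 0) : ∃ e f, Φ.IsHyp e f := by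
  have : Nontrivial V := Module.nontrivial_of_finrank_pos (R := F) (Nat.pos_of_ne_zero h)
  obtain ⟨e, he⟩ := exists_ne (0 : V)
  obtain ⟨f, hf⟩ := hΦ.exists_hyp he (Φ.symp_N e)
  exact ⟨e, f, hf⟩

theorem symp_iso (n : ℕ) : ∀ {V : Type u} [AddCommGroup V] [Module F V] [FiniteDimensional F V]
    {W : Type v} [AddCommGroup W] [Module F W] [FiniteDimensional F W]
    (Φ : Form (Kind.symp F) V) (Ψ : Form (Kind.symp F) W), Φ.Nondeg → Ψ.Nondeg →
    finrank F V = n → finrank F W = n → Φ.Iso Ψ := by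
  induction n using Nat.strong_induction_on with
  | _ n ih =>
    intro V _ _ _ W _ _ _ Φ Ψ hΦ hΨ hV hW
    by_cases hn : n = 0
    · subst hn
      have := Module.finrank_zero_iff.1 hV
      have := Module.finrank_zero_iff.1 hW
      exact Form.iso_of_subsingleton _ _
    · obtain ⟨e, f, h⟩ := symp_exists_hyp hΦ (hV ▸ hn)
      obtain ⟨e', f', h'⟩ := symp_exists_hyp hΨ (hW ▸ hn)
      have h1 := h.finrank_hperp
      have h2 := h'.finrank_hperp
      exact h.iso h' (ih (n - 2) (by omega) _ _ (h.nondeg_hperp hΦ) (h'.nondeg_hperp hΨ)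
        (by omega) (by omega))

theorem symp_even (n : ℕ) : ∀ {V : Type u} [AddCommGroup V] [Module F V] [FiniteDimensional F V]
    (Φ : Form (Kind.symp F) V), Φ.Nondeg → finrank F V = n → Even n := by
  induction n using Nat.strong_induction_on with
  | _ n ih =>
    intro V _ _ _ Φ hΦ hV
    by_cases hn : n = 0
    · subst hn; simp
    · obtain ⟨e, f, h⟩ := symp_exists_hyp hΦ (hV ▸ hn)
      have h1 := h.finrank_hperp
      have := ih (n - 2) (by omega) _ (h.nondeg_hperp hΦ) (by omega)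
      obtain ⟨k, hk⟩ := this
      exact ⟨k + 1, by omega⟩

theorem symp_iso_std {V : Type*} [AddCommGroup V] [Module F V] [FiniteDimensional F V]
    (Φ : Form (Kind.symp F) V) (hΦ : Φ.Nondeg) {m : ℕ} (h : finrank F V = 2 * m) :
    Φ.Iso (spForm m F) :=
  symp_iso (2 * m) _ _ hΦ (spForm_nondeg m) h (by simp; omega)

theorem card_symp_ker : Nat.card (Kind.symp F).T.ker = Nat.card F := by
  have : (Kind.symp F).T.ker = ⊤ := by ext; simp
  rw [this]; simp

theorem card_symp [Finite F] (m : ℕ) : ∀ {V : Type u} [AddCommGroup V] [Module F V]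
    [FiniteDimensional F V] (Φ : Form (Kind.symp F) V), Φ.Nondeg → finrank F V = 2 * m →
    Nat.card Φ.Isom =
      Nat.card F ^ (m ^ 2) * ∏ i ∈ Finset.range m, (Nat.card F ^ (2 * (i + 1)) - 1) := by
  induction m with
  | zero =>
    intro V _ _ _ Φ hΦ hV
    have := Module.finrank_zero_iff.1 hV
    simp [Form.card_Isom_of_subsingleton]
  | succ m ih =>
    intro V _ _ _ Φ hΦ hV
    obtain ⟨e, f, h⟩ := symp_exists_hyp hΦ (by omega)
    have h1 := h.finrank_hperp
    have := Module.finite_of_finite F (M := V)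
    have hc : Φ.cnt 0 = Nat.card F ^ (2 * (m + 1)) := by
      rw [← hV, ← Module.natCard_eq_pow_finrank]
      exact Nat.card_congr (Equiv.subtypeUnivEquiv Φ.symp_N)
    rw [h.card_Isom hΦ, ih _ (h.nondeg_hperp hΦ) (by omega), card_symp_ker, hc,
      Module.natCard_eq_pow_finrank (K := F) (V := Φ.hperp e f), show finrank F (Φ.hperp e f) = 2 * m by omega,
      Finset.prod_range_succ]
    ring

end Symp

/-! ### unitary -/
section Unit
variable {F : Type*} [Field F]

theorem exists_skew (σ : F →+* F) (hσ : σ ≠ RingHom.id F) (hσ2 : ∀ a, σ (σ a) = a) :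
    ∃ d, d ≠ 0 ∧ σ d = -d := by
  obtain ⟨a, ha⟩ : ∃ a, σ a ≠ a := by
    by_contra h; push Not at h; exact hσ (RingHom.ext h)
  exact ⟨a - σ a, sub_ne_zero.2 ha.symm, by simp [hσ2]⟩

theorem hilbert90 (σ : F →+* F) (hσ : σ ≠ RingHom.id F) (hσ2 : ∀ a, σ (σ a) = a) {x : F}
    (hx : x * σ x = 1) : ∃ y, y ≠ 0 ∧ y / σ y = x := by
  by_cases h : 1 + x = 0
  · obtain ⟨d, hd, hd'⟩ := exists_skew σ hσ hσ2
    refine ⟨d, hd, ?_⟩
    rw [hd', div_neg, div_self hd]; linear_combination -h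
  · refine ⟨1 + x, h, ?_⟩
    have : σ (1 + x) ≠ 0 := (map_ne_zero σ).2 h
    rw [div_eq_iff this, map_add, map_one]; linear_combination -hx

theorem norm_surj_fixed [Finite F] (σ : F →+* F) (hσ : σ ≠ RingHom.id F) (hσ2 : ∀ a, σ (σ a) = a)
    (b : F) (hb : σ b = b) : ∃ c, c * σ c = b := by
  by_cases hb0 : b = 0
  · exact ⟨0, by simp [hb0]⟩
  let s : Fˣ →* Fˣ := Units.map σ.toMonoidHom
  let n : Fˣ →* Fˣ := MonoidHom.id _ * s
  let h : Fˣ →* Fˣ := MonoidHom.id _ / s
  have h1 : h.range = n.ker := by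
    ext x
    simp only [MonoidHom.mem_range, MonoidHom.mem_ker, Units.ext_iff]
    constructor
    · rintro ⟨y, hy⟩
      have hy' : (y : F) / σ y = x := by simpa [h, s] using hy
      show (x : F) * σ x = 1
      rw [← hy', map_div₀, hσ2]
      have : σ y ≠ 0 := by simp
      field_simp
    · intro hx
      obtain ⟨y, hy, hy'⟩ := hilbert90 σ hσ hσ2 (x := x) hx
      exact ⟨Units.mk0 y hy, by simpa [h, s] using hy'⟩
  have h2 : n.range ≤ h.ker := by
    rintro _ ⟨y, rfl⟩
    rw [MonoidHom.mem_ker]; ext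
    simp [h, n, s, hσ2, mul_comm]
  have h3 : Nat.card n.range = Nat.card h.ker := by
    have e1 := n.ker.card_mul_index
    have e2 := h.ker.card_mul_index
    rw [Subgroup.index_ker] at e1 e2
    rw [h1, mul_comm, ← e1] at e2
    exact (Nat.mul_left_cancel Nat.card_pos e2).symm
  have h4 := Subgroup.eq_of_le_of_card_ge h2 h3.ge
  have : Units.mk0 b hb0 ∈ h.ker := by
    rw [MonoidHom.mem_ker]; ext; simp [h, s, hb, hb0]
  rw [← h4] at this
  obtain ⟨c, hc⟩ := this
  exact ⟨c, by simpa [n, s] using congrArg Units.val hc⟩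

variable {σ : F →+* F} {hσ2 : ∀ a, σ (σ a) = a}

theorem Form.unit_σN {V : Type*} [AddCommGroup V] [Module F V] (Φ : Form (Kind.unit σ hσ2) V) (v : V) :
    σ (Φ.N v) = Φ.N v := by
  have := Φ.symm v v
  simp only [Kind.unit_ε, one_mul, Kind.unit_σ] at this
  rw [Φ.unit_N, ← this]

theorem unit_exists_N_ne (hσ : σ ≠ RingHom.id F) {V : Type*} [AddCommGroup V] [Module F V]
    (Φ : Form (Kind.unit σ hσ2) V) {u v : V} (h : Φ.B u v ≠ 0) : ∃ w, Φ.N w ≠ 0 := by
  by_contra hc
  push Not at hc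
  obtain ⟨a, ha⟩ := trace_surj_fixed σ hσ hσ2 1 (map_one σ)
  have := Φ.N_add ((a / Φ.B u v) • u) v
  rw [hc, hc, hc, Φ.B_smul_left, div_mul_cancel₀ _ h, Kind.unit_T, ha] at this
  simp at this

theorem unit_exists_N_one [Finite F] (hσ : σ ≠ RingHom.id F) {V : Type*} [AddCommGroup V] [Module F V]
    (Φ : Form (Kind.unit σ hσ2) V) {v : V} (h : Φ.N v ≠ 0) {c : F} (hc : σ c = c) :
    ∃ a : F, Φ.N (a • v) = c := by
  obtain ⟨a, ha⟩ := norm_surj_fixed σ hσ hσ2 (c / Φ.N v) (by rw [map_div₀, hc, Φ.unit_σN])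
  exact ⟨a, by rw [Φ.N_smul, Kind.unit_σ, ha, div_mul_cancel₀ _ h]⟩

theorem unit_exists_singular [Finite F] (hσ : σ ≠ RingHom.id F) {V : Type*} [AddCommGroup V]
    [Module F V] [FiniteDimensional F V] (Φ : Form (Kind.unit σ hσ2) V) (h : 2 ≤ finrank F V) :
    ∃ v, v ≠ 0 ∧ Φ.N v = 0 := by
  have : Nontrivial V := Module.nontrivial_of_finrank_pos (R := F) (by omega)
  obtain ⟨v, hv⟩ := exists_ne (0 : V)
  by_cases h1 : Φ.N v = 0
  · exact ⟨v, hv, h1⟩
  have hk : LinearMap.ker (Φ.B.flip v) ≠ ⊥ := by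
    intro hk
    have := LinearMap.finrank_le_finrank_of_injective (LinearMap.ker_eq_bot.1 hk)
    simp at this; omega
  obtain ⟨w, hw, hw0⟩ := Submodule.exists_mem_ne_zero_of_ne_bot hk
  have hw' : Φ.B w v = 0 := hw
  obtain ⟨a, ha⟩ := unit_exists_N_one hσ Φ h1 (c := - Φ.N w) (by rw [map_neg, Φ.unit_σN])
  refine ⟨w + a • v, fun h0 => ?_, by rw [Φ.N_add_of_orth (by simp [hw']), ha]; simp⟩
  have h2 := congrArg (fun x => Φ.B x v) h0
  simp only [map_add, LinearMap.add_apply, hw', Φ.B_smul_left, ← Φ.unit_N] at h2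
  have : a = 0 := by simpa [h1] using h2
  subst this
  exact hw0 (by simpa using h0)

theorem unit_exists_hyp [Finite F] (hσ : σ ≠ RingHom.id F) {V : Type*} [AddCommGroup V]
    [Module F V] [FiniteDimensional F V] {Φ : Form (Kind.unit σ hσ2) V} (hΦ : Φ.Nondeg)
    (h : 2 ≤ finrank F V) : ∃ e f, Φ.IsHyp e f := by
  obtain ⟨e, he, he'⟩ := unit_exists_singular hσ Φ h
  obtain ⟨f, hf⟩ := hΦ.exists_hyp he he'
  exact ⟨e, f, hf⟩

theorem unit_exists_norm [Finite F] (hσ : σ ≠ RingHom.id F) {V : Type*} [AddCommGroup V]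
    [Module F V] {Φ : Form (Kind.unit σ hσ2) V} (hΦ : Φ.Nondeg)
    (h : finrank F V ≠ 0) {c : F} (hc : σ c = c) : ∃ v, Φ.N v = c := by
  have : Nontrivial V := Module.nontrivial_of_finrank_pos (R := F) (by omega)
  obtain ⟨v, hv⟩ := exists_ne (0 : V)
  obtain ⟨u, hu⟩ := hΦ.exists_ne hv
  obtain ⟨w, hw⟩ := unit_exists_N_ne hσ Φ hu
  obtain ⟨a, ha⟩ := unit_exists_N_one hσ Φ hw hc
  exact ⟨_, ha⟩

theorem unit_iso [Finite F] (hσ : σ ≠ RingHom.id F) (n : ℕ) :
    ∀ {V : Type u} [AddCommGroup V] [Module F V] [FiniteDimensional F V]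
    {W : Type v} [AddCommGroup W] [Module F W] [FiniteDimensional F W]
    (Φ : Form (Kind.unit σ hσ2) V) (Ψ : Form (Kind.unit σ hσ2) W), Φ.Nondeg → Ψ.Nondeg →
    finrank F V = n → finrank F W = n → Φ.Iso Ψ := by
  induction n using Nat.strong_induction_on with
  | _ n ih =>
    intro V _ _ _ W _ _ _ Φ Ψ hΦ hΨ hV hW
    by_cases hn : n = 0
    · subst hn
      have := Module.finrank_zero_iff.1 hV
      have := Module.finrank_zero_iff.1 hW
      exact Form.iso_of_subsingleton _ _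
    by_cases hn1 : n = 1
    · subst hn1
      obtain ⟨v, hv⟩ := unit_exists_norm hσ hΦ (by omega) (map_one σ)
      obtain ⟨w, hw⟩ := unit_exists_norm hσ hΨ (by omega) (map_one σ)
      exact Form.iso_of_finrank_one hV hW (v := v) (w := w) (by rintro rfl; simp at hv)
        (by rintro rfl; simp at hw) (hv.trans hw.symm)
    · obtain ⟨e, f, h⟩ := unit_exists_hyp hσ hΦ (by omega)
      obtain ⟨e', f', h'⟩ := unit_exists_hyp hσ hΨ (by omega)
      have h1 := h.finrank_hperp
      have h2 := h'.finrank_hperp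
      exact h.iso h' (ih (n - 2) (by omega) _ _ (h.nondeg_hperp hΦ) (h'.nondeg_hperp hΨ)
        (by omega) (by omega))

variable [Fintype F] {q : ℕ}

theorem unit_iso_std (hF : Fintype.card F = q ^ 2) {V : Type*} [AddCommGroup V] [Module F V]
    [FiniteDimensional F V] (Φ : Form (unitKind hF) V) (hΦ : Φ.Nondeg) {n : ℕ} (h : finrank F V = n) :
    Φ.Iso (uForm hF n) :=
  unit_iso (frobq_ne_id hF) n _ _ hΦ (uForm_nondeg hF n) h (by simp)

theorem card_pow_eq_one (hF : Fintype.card F = q ^ 2) :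
    Nat.card {x : F // x ^ (q + 1) = 1} = q + 1 := by
  have h2 := two_le_of_card_sq hF
  have := IsCyclic.card_powMonoidHom_ker (G := Fˣ) (q + 1)
  rw [Nat.card_units, Nat.card_eq_fintype_card (α := F), hF, Nat.gcd_eq_right
    ⟨q - 1, by simpa using Nat.sq_sub_sq q 1⟩] at this
  refine Eq.trans ?_ this
  symm
  refine Nat.card_congr (Equiv.ofBijective (fun x => ⟨x.1, by
    simpa using congrArg Units.val (MonoidHom.mem_ker.1 x.2)⟩) ⟨?_, ?_⟩)
  · intro a b hab; ext; simpa using hab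
  · rintro ⟨x, hx⟩
    have : x ≠ 0 := by rintro rfl; simp at hx
    exact ⟨⟨Units.mk0 x this, by rw [MonoidHom.mem_ker]; ext; simpa using hx⟩, rfl⟩

theorem card_norm_eq (hF : Fintype.card F = q ^ 2) (μ : F) (hμ : μ ≠ 0) (hμq : μ ^ q = μ) :
    Nat.card {x : F // x ^ (q + 1) = μ} = q + 1 := by
  obtain ⟨c, hc⟩ := norm_surj_fixed (frobq hF) (frobq_ne_id hF) (frobq_frobq hF) μ hμq
  have hc' : c ^ (q + 1) = μ := by rw [pow_succ', ← hc]; rfl
  have hc0 : c ≠ 0 := by rintro rfl; simp at hc; exact hμ hc.symm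
  refine Eq.trans ?_ (card_pow_eq_one hF)
  exact Nat.card_congr
    { toFun := fun x => ⟨x / c, by rw [div_pow, x.2, hc', div_self hμ]⟩
      invFun := fun x => ⟨x * c, by rw [mul_pow, x.2, hc', one_mul]⟩
      left_inv := fun x => by simp [hc0]
      right_inv := fun x => by simp [hc0] }

theorem card_fixed_eq (hF : Fintype.card F = q ^ 2) :
    Nat.card (unitKind hF).T.ker = q ∧ Nat.card {x : F // x ^ q = x} = q := by
  obtain ⟨d, hd, hd'⟩ := exists_skew (frobq hF) (frobq_ne_id hF) (frobq_frobq hF)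
  have e1 : Nat.card (unitKind hF).T.ker = Nat.card {x : F // x ^ q = x} := by
    symm
    refine Nat.card_congr
      { toFun := fun x => ⟨x * d, ?_⟩
        invFun := fun x => ⟨x / d, ?_⟩
        left_inv := fun x => by simp [hd]
        right_inv := fun x => by simp [hd] }
    · rw [AddMonoidHom.mem_ker, Kind.unit_T, map_mul, hd', frobq_apply, x.2]; ring
    · have := AddMonoidHom.mem_ker.1 x.2
      rw [Kind.unit_T] at this
      rw [← frobq_apply hF, map_div₀, hd', ← neg_eq_of_add_eq_zero_right this]; simp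
  have e2 : Nat.card (unitKind hF).T.range = Nat.card {x : F // x ^ q = x} := by
    refine Nat.card_congr (Equiv.subtypeEquivRight fun x => ?_)
    constructor
    · rintro ⟨a, rfl⟩
      rw [← frobq_apply hF, Kind.unit_T, map_add, frobq_frobq, add_comm]
    · intro hx
      exact trace_surj_fixed _ (frobq_ne_id hF) (frobq_frobq hF) x hx
  have e3 := (unitKind hF).T.ker.card_mul_index
  rw [AddSubgroup.index_ker, e1, e2, Nat.card_eq_fintype_card (α := F), hF, ← sq] at e3
  have := Nat.pow_left_injective two_ne_zero e3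
  exact ⟨e1.trans this, this⟩

theorem unit_cnt_of_finrank_one (hF : Fintype.card F = q ^ 2) {V : Type*} [AddCommGroup V] [Module F V]
    [FiniteDimensional F V] (Φ : Form (unitKind hF) V) (hΦ : Φ.Nondeg) (h : finrank F V = 1) (c : F) :
    Φ.cnt c = Nat.card {x : F // x ^ (q + 1) = c} := by
  rw [(unit_iso_std hF Φ hΦ h).cnt_eq]
  refine Nat.card_congr ((Equiv.funUnique (Fin 1) F).subtypeEquiv fun v => ?_)
  simp [uForm_N, Cfsg.hermForm, pow_succ']

/-- number of singular vectors of a unitary space -/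
theorem unit_cnt_zero (hF : Fintype.card F = q ^ 2) (n : ℕ) :
    ∀ {V : Type u} [AddCommGroup V] [Module F V]
    [FiniteDimensional F V] (Φ : Form (unitKind hF) V), Φ.Nondeg → finrank F V = n →
    (q : ℤ) * Φ.cnt 0 = q ^ (2 * n) + (-1) ^ n * (q ^ (n + 1) - q ^ n) := by
  induction n using Nat.strong_induction_on with
  | _ n ih =>
    intro V _ _ _ Φ hΦ hV
    obtain rfl | rfl | ⟨n, rfl⟩ : n = 0 ∨ n = 1 ∨ ∃ k, n = k + 2 := by
      rcases n with _ | _ | n <;> simp
    · have := Module.finrank_zero_iff.1 hV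
      rw [Φ.cnt_zero_of_aniso fun v _ => Subsingleton.elim _ _]; simp
    · rw [unit_cnt_of_finrank_one hF Φ hΦ hV]
      have : Nat.card {x : F // x ^ (q + 1) = 0} = 1 := by simp
      rw [this]; ring
    · obtain ⟨e, f, h⟩ := unit_exists_hyp (frobq_ne_id hF) hΦ (by omega)
      have h1 := h.finrank_hperp
      have := Module.finite_of_finite F (M := V)
      have h2 := ih n (by omega) _ (h.nondeg_hperp hΦ) (by omega)
      have hq := two_le_of_card_sq hF
      rw [h.cnt_eq ⟨0, map_zero _⟩, (card_fixed_eq hF).1, Module.natCard_eq_pow_finrank (K := F) (V := Φ.hperp e f),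
        show finrank F (Φ.hperp e f) = n by omega, Nat.card_eq_fintype_card, hF]
      have : 1 ≤ q ^ 2 := Nat.one_le_pow _ _ (by omega)
      push_cast [Nat.cast_sub this]
      linear_combination (q : ℤ) ^ 2 * h2

/-- number of vectors of a nonzero norm in a unitary space -/
theorem unit_cnt_ne (hF : Fintype.card F = q ^ 2) {c : F} (hc : c ≠ 0) (hc' : c ^ q = c) (n : ℕ) :
    ∀ {V : Type u} [AddCommGroup V] [Module F V]
    [FiniteDimensional F V] (Φ : Form (unitKind hF) V), Φ.Nondeg → finrank F V = n →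
    (q : ℤ) * Φ.cnt c = q ^ n * (q ^ n - (-1) ^ n) := by
  induction n using Nat.strong_induction_on with
  | _ n ih =>
    intro V _ _ _ Φ hΦ hV
    obtain rfl | rfl | ⟨n, rfl⟩ : n = 0 ∨ n = 1 ∨ ∃ k, n = k + 2 := by
      rcases n with _ | _ | n <;> simp
    · have := Module.finrank_zero_iff.1 hV
      have : IsEmpty {v : V // Φ.N v = c} := ⟨fun v => hc (by rw [← v.2, Subsingleton.elim v.1 0]; simp)⟩
      simp [Form.cnt]
    · rw [unit_cnt_of_finrank_one hF Φ hΦ hV, card_norm_eq hF c hc hc']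
      push_cast; ring
    · obtain ⟨e, f, h⟩ := unit_exists_hyp (frobq_ne_id hF) hΦ (by omega)
      have h1 := h.finrank_hperp
      have := Module.finite_of_finite F (M := V)
      have h2 := ih n (by omega) _ (h.nondeg_hperp hΦ) (by omega)
      have hq := two_le_of_card_sq hF
      rw [h.cnt_eq (trace_surj_fixed _ (frobq_ne_id hF) (frobq_frobq hF) c hc'),
        (card_fixed_eq hF).1, Module.natCard_eq_pow_finrank (K := F) (V := Φ.hperp e f),
        show finrank F (Φ.hperp e f) = n by omega, Nat.card_eq_fintype_card, hF]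
      have : 1 ≤ q ^ 2 := Nat.one_le_pow _ _ (by omega)
      push_cast [Nat.cast_sub this]
      linear_combination (q : ℤ) ^ 2 * h2

theorem unit_cnt_zero_nat (hF : Fintype.card F = q ^ 2) {n : ℕ} {V : Type u} [AddCommGroup V]
    [Module F V] [FiniteDimensional F V] (Φ : Form (unitKind hF) V) (hΦ : Φ.Nondeg)
    (h : finrank F V = n) : Φ.cnt 0 = (if Even n then (q ^ n - 1) * (q ^ (n - 1) + 1)
      else (q ^ n + 1) * (q ^ (n - 1) - 1)) + 1 := by
  have h1 := unit_cnt_zero hF n Φ hΦ h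
  have hq := two_le_of_card_sq hF
  have hq0 : (q : ℤ) ≠ 0 := by positivity
  rcases n with _ | n
  · have : (Φ.cnt 0 : ℤ) = 1 := mul_left_cancel₀ hq0 (by rw [h1]; ring)
    simpa using this
  zify
  apply mul_left_cancel₀ hq0
  rw [h1]
  have e1 : 1 ≤ q ^ (n + 1) := Nat.one_le_pow _ _ (by omega)
  have e2 : 1 ≤ q ^ n := Nat.one_le_pow _ _ (by omega)
  split_ifs with he
  · rw [he.neg_one_pow]; push_cast [Nat.cast_sub e1]; ring
  · rw [(Nat.not_even_iff_odd.1 he).neg_one_pow, Nat.add_sub_cancel]; push_cast [Nat.cast_sub e2]; ring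

theorem unit_card_one (hF : Fintype.card F = q ^ 2) {V : Type*} [AddCommGroup V] [Module F V]
    [FiniteDimensional F V] (Φ : Form (unitKind hF) V) (hΦ : Φ.Nondeg) (h : finrank F V = 1) :
    Nat.card Φ.Isom = q + 1 := by
  obtain ⟨v, hv⟩ := unit_exists_norm (frobq_ne_id hF) hΦ (by omega) (map_one _)
  have hv0 : v ≠ 0 := by rintro rfl; simp at hv
  rw [← card_norm_eq hF 1 one_ne_zero (one_pow q), ← unit_cnt_of_finrank_one hF Φ hΦ h]
  refine Nat.card_congr (Equiv.ofBijective (fun g => ⟨g.1 v, by rw [g.2.2, hv]⟩) ⟨?_, ?_⟩)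
  · intro a b hab
    ext x
    obtain ⟨c, rfl⟩ := (finrank_eq_one_iff_of_nonzero' v hv0).1 h x
    have : a.1 v = b.1 v := congrArg Subtype.val hab
    simp [this]
  · rintro ⟨w, hw⟩
    obtain ⟨g, hg, rfl⟩ := hΦ.exists_isom_vec hv0 (u' := w) (by rintro rfl; simp at hw) (hv.trans hw.symm)
    exact ⟨⟨g, hg⟩, rfl⟩

theorem card_unit (hF : Fintype.card F = q ^ 2) (n : ℕ) :
    ∀ {V : Type u} [AddCommGroup V] [Module F V]
    [FiniteDimensional F V] (Φ : Form (unitKind hF) V), Φ.Nondeg → finrank F V = n →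
    Nat.card Φ.Isom = q ^ (n * (n - 1) / 2) *
      ∏ i ∈ Finset.range n, (if Even i then q ^ (i + 1) + 1 else q ^ (i + 1) - 1) := by
  induction n using Nat.strong_induction_on with
  | _ n ih =>
    intro V _ _ _ Φ hΦ hV
    obtain rfl | rfl | ⟨n, rfl⟩ : n = 0 ∨ n = 1 ∨ ∃ k, n = k + 2 := by
      rcases n with _ | _ | n <;> simp
    · have := Module.finrank_zero_iff.1 hV
      simp [Form.card_Isom_of_subsingleton]
    · simp [unit_card_one hF Φ hΦ hV]
    · obtain ⟨e, f, h⟩ := unit_exists_hyp (frobq_ne_id hF) hΦ (by omega)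
      have h1 := h.finrank_hperp
      have := Module.finite_of_finite F (M := V)
      rw [h.card_Isom hΦ, ih n (by omega) _ (h.nondeg_hperp hΦ) (by omega), unit_cnt_zero_nat hF Φ hΦ hV,
        (card_fixed_eq hF).1, Module.natCard_eq_pow_finrank (K := F) (V := Φ.hperp e f),
        show finrank F (Φ.hperp e f) = n by omega, Nat.card_eq_fintype_card, hF,
        Finset.prod_range_succ, Finset.prod_range_succ, Nat.add_sub_cancel]
      have e1 : (n + 2) * (n + 2 - 1) / 2 = n * (n - 1) / 2 + (2 * n + 1) := by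
        rcases n with _ | n
        · rfl
        · have : (n + 1 + 2) * (n + 1 + 2 - 1) = (n + 1) * (n + 1 - 1) + 2 * (2 * (n + 1) + 1) := by
            simp only [Nat.add_sub_cancel, show n + 1 + 2 - 1 = n + 2 by omega]; ring
          rw [this, Nat.add_mul_div_left _ _ two_pos]
      rw [e1]
      by_cases he : Even n
      · have : Even (n + 2) := by simpa [Nat.even_add] using he
        have h' : ¬ Even (n + 1) := by simpa [Nat.even_add_one] using he
        simp only [this, he, h', if_true, if_false, show n + 2 - 1 = n + 1 by omega]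
        ring
      · have : ¬ Even (n + 2) := by simpa [Nat.even_add] using he
        have h' : Even (n + 1) := by simpa [Nat.even_add_one] using he
        simp only [this, he, h', if_true, if_false, show n + 2 - 1 = n + 1 by omega]
        ring

end Unit

end Cfsg.Agent.Classical
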