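import Cfsg.Agent.Lib.Classical.Pres15
import Cfsg.Agent.S0242

/-! Small exceptional isomorphisms from Steinberg's presentation. -/
set_option autoImplicit false
set_option linter.unusedSectionVars false
open Equiv Matrix

namespace Cfsg.Agent.Classical.Pres
variable {G J : Type*} [Group G] [Group J] {F : Type*} [Field F] {ι : Type*} [DecidableEq ι] [Fintype ι]

theorem StR.lift [Finite F] {Y : ι → ι → F → J} (h : StR Y) [Nontrivial ι] :
    ∃ φ : SpecialLinearGroup ι F →* J, ∀ i j (e : i ≠ j) a, φ (SpecialLinearGroup.transvection e a) = Y i j a := by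
  have h' := str_Tv (F := F) h.third
  let X : ι → ι → F → SpecialLinearGroup ι F × J := fun i j a => (Tv F i j a, Y i j a)
  have hX : StR X := ⟨fun e a b => Prod.ext (h'.add e a b) (h.add e a b),
    fun a b c d x y => Prod.ext (h'.comm a b c d x y) (h.comm a b c d x y),
    fun a b c x y => Prod.ext (h'.cr a b c x y) (h.cr a b c x y), h.third⟩
  let p : UR X (fun _ _ => True) →* SpecialLinearGroup ι F := (MonoidHom.fst _ _).comp (Subgroup.subtype _)
  have hp : Function.Bijective p := ⟨(injective_iff_map_eq_one p).2 fun g hg =>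
    Subtype.ext (hX.inj (MonoidHom.fst _ _) (fun i j e a => Tv_eq e a) g.2 hg), fun g =>
    Lin.transvection_induction (· ∈ p.range) (fun i j e a => ⟨⟨_, mem_UR e trivial a⟩, Tv_eq e a⟩)
      (fun _ _ => mul_mem) g⟩
  refine ⟨((MonoidHom.snd _ _).comp (Subgroup.subtype _)).comp (MulEquiv.ofBijective p hp).symm.toMonoidHom,
    fun i j e a => ?_⟩
  have : (MulEquiv.ofBijective p hp).symm (SpecialLinearGroup.transvection e a) = ⟨_, mem_UR e trivial a⟩ :=
    (MulEquiv.symm_apply_eq _).2 (Tv_eq e a).symm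
  simp only [MonoidHom.comp_apply, MulEquiv.coe_toMonoidHom, this]
  rfl

theorem eq_zero_or_one [Fintype F] (hF : Fintype.card F = 2) (a : F) : a = 0 ∨ a = 1 := by
  classical
  by_contra! h
  have : ({0, 1, a} : Finset F).card ≤ 2 := hF ▸ Finset.card_le_univ _
  rw [Finset.card_insert_of_notMem (by simp [h.1.symm]), Finset.card_pair h.2.symm] at this
  omega

theorem lift_two [Fintype F] (hF : Fintype.card F = 2) [Nontrivial ι] (y : ι → ι → J)
    (h3 : ∀ i j : ι, ∃ k, k ≠ i ∧ k ≠ j) (h1 : ∀ i j, i ≠ j → y i j * y i j = 1)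
    (h2 : ∀ i j k l, i ≠ j → k ≠ l → j ≠ k → i ≠ l → y i j * y k l = y k l * y i j)
    (h4 : ∀ i j k, i ≠ j → j ≠ k → i ≠ k → y i j * y j k = y i k * y j k * y i j) :
    ∃ φ : SpecialLinearGroup ι F →* J, ∀ i j (e : i ≠ j), φ (SpecialLinearGroup.transvection e 1) = y i j := by
  classical
  have h11 : (1 : F) + 1 = 0 := (eq_zero_or_one hF _).resolve_right (by simp)
  have : StR fun i j (a : F) => if a = 0 then 1 else y i j := by
    refine ⟨fun e a b => ?_, fun a b c d x z => ?_, fun a b c x z => ?_, h3⟩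
    · rcases eq_zero_or_one hF a with rfl | rfl <;> rcases eq_zero_or_one hF b with rfl | rfl <;>
        simp [h11, h1 _ _ e]
    · split_ifs
      exacts [Commute.one_left _, Commute.one_left _, Commute.one_right _, h2 _ _ _ _ a b c d]
    · rcases eq_zero_or_one hF x with rfl | rfl <;> rcases eq_zero_or_one hF z with rfl | rfl <;>
        simp [h4 _ _ _ a b c]
  obtain ⟨φ, hφ⟩ := this.lift
  exact ⟨φ, fun i j e => by simpa using hφ i j e 1⟩

theorem center_two [Fintype F] (hF : Fintype.card F = 2) [Nonempty ι] :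
    Subgroup.center (SpecialLinearGroup ι F) = ⊥ := by
  rw [eq_bot_iff]
  intro g hg
  obtain ⟨r, h1, h2⟩ := Matrix.SpecialLinearGroup.mem_center_iff.1 hg
  rcases eq_zero_or_one hF r with rfl | rfl
  · simp [Fintype.card_ne_zero] at h1
  · exact Subtype.ext (by rw [← h2]; simp)

noncomputable def pslTwo [Fintype F] (hF : Fintype.card F = 2) [Nonempty ι] :
    ProjectiveSpecialLinearGroup ι F ≃* SpecialLinearGroup ι F :=
  (QuotientGroup.quotientMulEquivOfEq (center_two hF)).trans QuotientGroup.quotientBot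

theorem inj_of_simple [IsSimpleGroup G] (φ : G →* J) {a : G} (h : φ a ≠ 1) : Function.Injective φ := by
  rw [← MonoidHom.ker_eq_bot_iff]
  exact (MonoidHom.normal_ker φ).eq_bot_or_eq_top.resolve_right fun e => h (e ▸ Subgroup.mem_top a : a ∈ φ.ker)

theorem simple_SL_two [Fintype F] (hF : Fintype.card F = 2) (h : 3 ≤ Fintype.card ι) :
    IsSimpleGroup (SpecialLinearGroup ι F) := by
  haveI : Nonempty ι := Fintype.card_pos_iff.1 (by omega)
  haveI := Lin.simple_PSL (F := F) h
  exact (pslTwo hF).symm.isSimpleGroup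

def y8 : Fin 4 → Fin 4 → Fin 8 → Fin 8 :=
  ![![![0, 1, 2, 3, 4, 5, 6, 7], ![1, 0, 3, 2, 5, 4, 7, 6], ![7, 6, 5, 4, 3, 2, 1, 0], ![2, 3, 0, 1, 6, 7, 4, 5]],
    ![![1, 0, 4, 7, 2, 6, 5, 3], ![0, 1, 2, 3, 4, 5, 6, 7], ![2, 4, 0, 6, 1, 7, 3, 5], ![5, 6, 7, 4, 3, 0, 1, 2]],
    ![![6, 5, 7, 4, 3, 1, 0, 2], ![3, 2, 1, 0, 6, 7, 4, 5], ![0, 1, 2, 3, 4, 5, 6, 7], ![1, 0, 3, 2, 7, 6, 5, 4]],
    ![![4, 2, 1, 6, 0, 7, 3, 5], ![6, 7, 5, 4, 3, 2, 0, 1], ![1, 0, 4, 5, 2, 3, 7, 6], ![0, 1, 2, 3, 4, 5, 6, 7]]]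

theorem y8_inv : ∀ i j x, y8 i j (y8 i j x) = x := by decide

theorem sl4_two [Fintype F] (hF : Fintype.card F = 2) :
    Nonempty (SpecialLinearGroup (Fin 4) F ≃* alternatingGroup (Fin 8)) := by
  obtain ⟨φ, hφ⟩ := lift_two hF (fun i j => Function.Involutive.toPerm (y8 i j) (y8_inv i j)) (by decide)
    (fun i j _ => Equiv.ext (y8_inv i j))
    (fun i j k l a b c d => Equiv.ext fun x => by
      show y8 i j (y8 k l x) = y8 k l (y8 i j x); revert i j k l x; decide +kernel)
    (fun i j k a b c => Equiv.ext fun x => by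
      show y8 i j (y8 j k x) = y8 i k (y8 j k (y8 i j x)); revert i j k x; decide +kernel)
  haveI := simple_SL_two (ι := Fin 4) hF (by simp)
  have hi := inj_of_simple φ (a := SpecialLinearGroup.transvection (show (0 : Fin 4) ≠ 1 by decide) 1) (by
    rw [hφ]; decide)
  have hc := S0242.result hF 4 (by norm_num)
  have h2 := φ.range.card_mul_index
  rw [← Nat.card_congr (MonoidHom.ofInjective hi).toEquiv, Nat.card_perm] at h2
  simp only [Fin.prod_univ_four] at hc
  norm_num [Nat.factorial] at hc h2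
  have : φ.range = alternatingGroup (Fin 8) := Perm.eq_alternatingGroup_of_index_eq_two (by
    rw [hc] at h2; omega)
  exact ⟨(MonoidHom.ofInjective hi).trans (MulEquiv.subgroupCongr this)⟩

end Cfsg.Agent.Classical.Pres
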