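import Cfsg.Agent.Lib.Classical.Gen

/-! Dickson invariant and spinor norm through the Clifford algebra. -/

set_option autoImplicit false

namespace Cfsg.Agent.Classical

open Module CliffordAlgebra

section Cliff
variable {F : Type*} [Field F] {V : Type*} [AddCommGroup V] [Module F V] (Q : QuadraticForm F V)

theorem cliff_algebraMap_injective : Function.Injective (algebraMap F (CliffordAlgebra Q)) := by
  obtain ⟨B, hB⟩ := LinearMap.BilinMap.toQuadraticMap_surjective (R := F) (M := V) (N := F) (0 - Q)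
  intro a b h
  have := congrArg (changeForm (Q := Q) (Q' := 0) hB) h
  rw [changeForm_algebraMap, changeForm_algebraMap] at this
  exact (ExteriorAlgebra.algebraMap_inj V a b).1 this

/-- the subalgebra generated by a subspace -/
inductive CliffIn (U : Submodule F V) : CliffordAlgebra Q → Prop
  | alg (r : F) : CliffIn U (algebraMap F _ r)
  | add {x y} : CliffIn U x → CliffIn U y → CliffIn U (x + y)
  | mul {u x} : u ∈ U → CliffIn U x → CliffIn U (ι Q u * x)

variable {Q}

theorem CliffIn.smul {U : Submodule F V} {x} (h : CliffIn Q U x) (r : F) : CliffIn Q U (r • x) := by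
  induction h with
  | alg s => rw [Algebra.smul_def, ← map_mul]; exact .alg _
  | add _ _ h1 h2 => rw [smul_add]; exact h1.add h2
  | mul hu hx _ => rw [← smul_mul_assoc, ← map_smul]; exact .mul (U.smul_mem r hu) hx

theorem CliffIn.zero {U : Submodule F V} : CliffIn Q U 0 := by simpa using CliffIn.alg (Q := Q) (U := U) 0

theorem cliffIn_top (x) : CliffIn Q ⊤ x := by
  induction x using CliffordAlgebra.left_induction with
  | algebraMap r => exact .alg r
  | add _ _ h1 h2 => exact h1.add h2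
  | ι_mul _ _ h => exact .mul trivial h

theorem CliffIn.contract {U : Submodule F V} {x} (h : CliffIn Q U x) {d : Dual F V}
    (hd : ∀ u ∈ U, d u = 0) : contractLeft d x = 0 := by
  induction h with
  | alg s => simp
  | add _ _ h1 h2 => rw [map_add, h1, h2, add_zero]
  | mul hu _ h => rw [contractLeft_ι_mul, hd _ hu, h]; simp

theorem CliffIn.split {U : Submodule F V} {x} (h : CliffIn Q U x) {d : Dual F V} {e : V} (he : e ∈ U)
    (hd : d e = 1) : ∃ a b, CliffIn Q (U ⊓ LinearMap.ker d) a ∧ CliffIn Q (U ⊓ LinearMap.ker d) b ∧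
      x = a + ι Q e * b := by
  induction h with
  | alg s => exact ⟨_, 0, .alg s, .zero, by simp⟩
  | add _ _ h1 h2 =>
    obtain ⟨a, b, ha, hb, rfl⟩ := h1
    obtain ⟨a', b', ha', hb', rfl⟩ := h2
    exact ⟨_, _, ha.add ha', hb.add hb', by rw [mul_add]; abel⟩
  | @mul u x hu _ h =>
    obtain ⟨a, b, ha, hb, rfl⟩ := h
    have h1 : u - d u • e ∈ U ⊓ LinearMap.ker d :=
      ⟨U.sub_mem hu (U.smul_mem _ he), by simp [hd]⟩
    obtain ⟨u', hu'⟩ : ∃ u', u' = u - d u • e := ⟨_, rfl⟩
    rw [← hu'] at h1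
    obtain ⟨t, ht⟩ : ∃ t, u = u' + t • e := ⟨d u, by rw [hu']; simp⟩
    refine ⟨_, _, ((CliffIn.mul h1 ha).add (hb.smul (QuadraticMap.polar Q u' e))).add (hb.smul (t * Q e)),
      ((CliffIn.mul h1 hb).smul (-1)).add (ha.smul t), ?_⟩
    have h2 : ι Q u' * ι Q e = algebraMap F _ (QuadraticMap.polar Q u' e) - ι Q e * ι Q u' :=
      ι_mul_ι_comm _ _
    rw [ht, map_add, map_smul]
    simp only [mul_add, add_mul, smul_mul_assoc, mul_smul_comm, ← mul_assoc, h2, ι_sq_scalar, sub_mul,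
      ← Algebra.smul_def, smul_smul]
    module

theorem cliff_scalar [FiniteDimensional F V] {x : CliffordAlgebra Q}
    (h : ∀ d : Dual F V, contractLeft d x = 0) : ∃ r, x = algebraMap F _ r := by
  have key : ∀ (n : ℕ) (U : Submodule F V), finrank F U = n → CliffIn Q U x → CliffIn Q ⊥ x := by
    intro n
    induction n using Nat.strong_induction_on with
    | _ n ih =>
      intro U hU hx
      by_cases h0 : U = ⊥
      · exact h0 ▸ hx
      obtain ⟨e, he, he0⟩ := (Submodule.ne_bot_iff U).1 h0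
      obtain ⟨d, hd⟩ := Module.Projective.exists_dual_eq_one F he0
      obtain ⟨a, b, ha, hb, hab⟩ := hx.split he hd
      have h1 := h d
      rw [hab, map_add, contractLeft_ι_mul, ha.contract fun u hu => hu.2, hb.contract fun u hu => hu.2,
        hd] at h1
      have hb0 : b = 0 := by simpa using h1
      rw [hb0, mul_zero, add_zero] at hab
      refine ih _ ?_ _ rfl (hab ▸ ha)
      rw [← hU]
      refine Submodule.finrank_lt_finrank_of_lt (lt_of_le_of_ne inf_le_left fun h2 => ?_)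
      have : e ∈ U ⊓ LinearMap.ker d := h2.symm ▸ he
      have := this.2
      simp [hd] at this
  have := key _ ⊤ rfl (cliffIn_top x)
  clear key h
  induction this with
  | alg s => exact ⟨s, rfl⟩
  | add _ _ h1 h2 =>
    obtain ⟨a, rfl⟩ := h1
    obtain ⟨b, rfl⟩ := h2
    exact ⟨a + b, by simp⟩
  | mul hu _ _ => exact ⟨0, by simp [(Submodule.mem_bot F).1 hu]⟩

theorem cliff_comm (w : V) (y : CliffordAlgebra Q) :
    ι Q w * y - involute y * ι Q w = contractLeft (QuadraticMap.polarBilin Q w) y := by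
  induction y using CliffordAlgebra.left_induction with
  | algebraMap r => simp [Algebra.commutes]
  | add _ _ h1 h2 => simp only [map_add, mul_add, add_mul, ← h1, ← h2]; abel
  | ι_mul b a h =>
    rw [contractLeft_ι_mul, ← h, map_mul, involute_ι, ← mul_assoc, ι_mul_ι_comm]
    simp only [QuadraticMap.polarBilin_apply_apply, sub_mul, mul_sub, mul_assoc, neg_mul,
      ← Algebra.smul_def]
    abel

end Cliff

namespace Form
variable {F : Type*} [Field F] {V : Type*} [AddCommGroup V] [Module F V]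

/-- the quadratic form of an orthogonal geometry -/
def toQuad (Φ : Form (Kind.orth F) V) : QuadraticForm F V where
  toFun := Φ.N
  toFun_smul c v := by rw [Φ.orth_N_smul, sq]; rfl
  exists_companion' := ⟨Φ.B, Φ.orth_N_add⟩

@[simp] theorem toQuad_apply (Φ : Form (Kind.orth F) V) (v : V) : Φ.toQuad v = Φ.N v := rfl

theorem toQuad_polar (Φ : Form (Kind.orth F) V) (u v : V) :
    QuadraticMap.polar Φ.toQuad u v = Φ.B u v := (Φ.orth_B u v).symm

/-- `x` lifts `g` to the Clifford group -/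
structure Lifts (Φ : Form (Kind.orth F) V) (g : V ≃ₗ[F] V) (x : CliffordAlgebra Φ.toQuad) (k : ZMod 2)
    (c : Fˣ) : Prop where
  grade : x ∈ evenOdd Φ.toQuad k
  norm : x * reverse x = algebraMap F _ c
  norm' : reverse x * x = algebraMap F _ c
  conj : ∀ w, involute x * ι Φ.toQuad w = ι Φ.toQuad (g w) * x

variable {Φ : Form (Kind.orth F) V}

theorem lifts_one : Φ.Lifts 1 1 0 1 :=
  ⟨SetLike.one_mem_graded _, by simp, by simp, by simp⟩

theorem lifts_refl (v : V) (h) : Φ.Lifts (Φ.refl v h) (ι _ v) 1 (Units.mk0 _ h) := by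
  refine ⟨ι_mem_evenOdd_one _ _, by simp, by simp, fun w => ?_⟩
  rw [refl_apply, map_sub, map_smul, sub_mul, smul_mul_assoc, ι_sq_scalar, ι_mul_ι_comm w v, toQuad_polar,
    involute_ι, Algebra.smul_def, ← map_mul (algebraMap F _), toQuad_apply, mul_right_comm,
    inv_mul_cancel₀ h]
  simp

theorem Lifts.mul {g g' x x' k k' c c'} (h : Φ.Lifts g x k c) (h' : Φ.Lifts g' x' k' c') :
    Φ.Lifts (g * g') (x * x') (k + k') (c * c') := by
  refine ⟨SetLike.mul_mem_graded h.grade h'.grade, ?_, ?_, fun w => ?_⟩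
  · rw [reverse.map_mul, mul_assoc, ← mul_assoc x', h'.norm, Algebra.commutes, ← mul_assoc, h.norm,
      ← map_mul, Units.val_mul]
  · rw [reverse.map_mul, mul_assoc, ← mul_assoc (reverse x), h.norm', Algebra.commutes, ← mul_assoc,
      h'.norm', ← map_mul, Units.val_mul, mul_comm]
  · rw [map_mul, mul_assoc, h'.conj, ← mul_assoc, h.conj, mul_assoc]; rfl

theorem Lifts.rev {g x k c} (h : Φ.Lifts g x k c) : Φ.Lifts g⁻¹ (reverse x) k c := by
  refine ⟨(reverse_mem_evenOdd_iff _).2 h.grade, by rw [reverse_reverse, h.norm'],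
    by rw [reverse_reverse, h.norm], fun w => ?_⟩
  have h1 := congrArg (fun y => involute (reverse y)) (h.conj (g⁻¹ w))
  simp only [reverse.map_mul, reverse_ι, map_mul, involute_ι, reverse_involute, involute_involute,
    neg_mul, mul_neg, neg_inj] at h1
  rw [h1]; simp [LinearEquiv.coe_inv]

variable [FiniteDimensional F V]

theorem Lifts.of_one (hΦ : Φ.Nondeg) {x k c} (h : Φ.Lifts 1 x k c) : k = 0 ∧ ∃ t : Fˣ, c = t ^ 2 := by
  obtain ⟨r, rfl⟩ : ∃ r, x = algebraMap F _ r := by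
    apply cliff_scalar
    intro d
    obtain ⟨w, hw⟩ := hΦ.exists_repr d
    have : d = QuadraticMap.polarBilin Φ.toQuad w := by
      ext u; rw [← hw, Φ.orth_symm]; exact (Φ.toQuad_polar _ _).symm
    rw [this, ← cliff_comm, h.conj]; simp
  have h1 := h.norm
  rw [reverse.commutes, ← map_mul] at h1
  have h2 := cliff_algebraMap_injective _ h1
  have hr : r ≠ 0 := by rintro rfl; exact c.ne_zero (by simpa using h2.symm)
  refine ⟨?_, Units.mk0 r hr, by ext; simp [← h2, sq]⟩
  have h3 : ∀ k : ZMod 2, k = 0 ∨ k = 1 := by decide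
  rcases h3 k with rfl | rfl
  · rfl
  · have h4 : algebraMap F _ r ∈ evenOdd Φ.toQuad 0 := SetLike.algebraMap_mem_graded _ r
    have h5 := (evenOdd_isCompl Φ.toQuad).disjoint
    rw [Submodule.disjoint_def] at h5
    have := h5 _ h4 h.grade
    exact absurd (cliff_algebraMap_injective _ (this.trans (map_zero _).symm)) hr

theorem Lifts.unique (hΦ : Φ.Nondeg) {g x x' k k' c c'} (h : Φ.Lifts g x k c) (h' : Φ.Lifts g x' k' c') :
    k = k' ∧ ∃ t : Fˣ, c = c' * t ^ 2 := by
  have := h'.rev.mul h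
  rw [inv_mul_cancel] at this
  obtain ⟨h1, t, h2⟩ := this.of_one hΦ
  refine ⟨?_, t / c', ?_⟩
  · exact (by decide : ∀ k k' : ZMod 2, k' + k = 0 → k = k') _ _ h1
  · rw [div_pow, ← h2]; simp [sq]

theorem Good.exists_lifts (hG : Φ.Good) (hΦ : Φ.Nondeg) : ∀ g ∈ Φ.Isom, ∃ x k c, Φ.Lifts g x k c :=
  hG.induction hΦ ⟨_, _, _, lifts_one⟩ fun v h _ _ ⟨_, _, _, hx⟩ => ⟨_, _, _, (lifts_refl v h).mul hx⟩

theorem Good.exists_hom (hG : Φ.Good) (hΦ : Φ.Nondeg) {A : Type*} [CommGroup A] (ψ : Fˣ →* A)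
    (hψ : ∀ x, ψ x ^ 2 = 1) (s : A) (hs : s ^ 2 = 1) :
    ∃ χ : Φ.Isom →* A, ∀ v h, χ ⟨Φ.refl v h, Φ.refl_mem v h⟩ = s * ψ (Units.mk0 _ h) := by
  choose x k c hl using hG.exists_lifts hΦ
  have key : ∀ (g : Φ.Isom) {x' k' c'}, Φ.Lifts g x' k' c' →
      s ^ (k g g.2).val * ψ (c g g.2) = s ^ k'.val * ψ c' := by
    intro g x' k' c' h
    obtain ⟨h1, t, h2⟩ := (hl g g.2).unique hΦ h
    rw [h1, h2, map_mul, map_pow, hψ, mul_one]
  refine ⟨MonoidHom.mk' (fun g => s ^ (k g g.2).val * ψ (c g g.2)) fun a b => ?_, fun v h => ?_⟩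
  · rw [key (a * b) ((hl a a.2).mul (hl b b.2)), pow_val_add hs, map_mul, mul_mul_mul_comm]
  · show s ^ (k _ _).val * _ = _
    rw [key ⟨_, Φ.refl_mem v h⟩ (lifts_refl v h)]
    simp [ZMod.val_one]

end Form

/-- the quadratic character on units -/
noncomputable def sqSign (F : Type*) [Field F] [Finite F] : Fˣ →* ℤˣ := by
  classical
  exact letI := Fintype.ofFinite F; (quadraticChar F).toUnitHom

theorem sqSign_eq_one_iff {F : Type*} [Field F] [Finite F] {x : Fˣ} :
    sqSign F x = 1 ↔ IsSquare (x : F) := by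
  classical
  letI := Fintype.ofFinite F
  rw [← quadraticChar_one_iff_isSquare x.ne_zero, Units.ext_iff]
  rfl

theorem sqSign_eq_neg_one_iff {F : Type*} [Field F] [Finite F] {x : Fˣ} :
    sqSign F x = -1 ↔ ¬ IsSquare (x : F) := by
  rw [← sqSign_eq_one_iff]
  rcases Int.units_eq_one_or (sqSign F x) with h | h <;> simp [h]

theorem sqSign_eq_iff {F : Type*} [Field F] [Finite F] {x y : Fˣ} :
    sqSign F x = sqSign F y ↔ ∃ t : F, (x : F) = t ^ 2 * y := by
  rw [← div_eq_one, ← map_div, sqSign_eq_one_iff]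
  constructor
  · rintro ⟨t, ht⟩
    refine ⟨t, ?_⟩
    rw [sq, ← ht]; simp
  · rintro ⟨t, ht⟩
    exact ⟨t, by simp [ht, sq]⟩

namespace Form
variable {F : Type*} [Field F] {V : Type*} [AddCommGroup V] [Module F V] [FiniteDimensional F V]
  {Φ : Form (Kind.orth F) V}

/-- the Dickson invariant -/
noncomputable def Good.dick (hG : Φ.Good) (hΦ : Φ.Nondeg) : Φ.Isom →* ℤˣ :=
  (hG.exists_hom hΦ 1 (by simp) (-1) (by simp)).choose

theorem Good.dick_refl (hG : Φ.Good) (hΦ : Φ.Nondeg) (v : V) (h) :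
    hG.dick hΦ ⟨Φ.refl v h, Φ.refl_mem v h⟩ = -1 := by
  exact ((hG.exists_hom hΦ (1 : Fˣ →* ℤˣ) (by simp) (-1) (by simp)).choose_spec v h).trans (by simp)

/-- the spinor norm -/
noncomputable def Good.spin [Finite F] (hG : Φ.Good) (hΦ : Φ.Nondeg) : Φ.Isom →* ℤˣ :=
  (hG.exists_hom hΦ (sqSign F) (fun _ => Int.units_sq _) 1 (by simp)).choose

theorem Good.spin_refl [Finite F] (hG : Φ.Good) (hΦ : Φ.Nondeg) (v : V) (h) :
    hG.spin hΦ ⟨Φ.refl v h, Φ.refl_mem v h⟩ = sqSign F (Units.mk0 _ h) := by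
  exact ((hG.exists_hom hΦ (sqSign F) (fun _ => Int.units_sq _) 1 (by simp)).choose_spec v h).trans
    (by simp)

/-- homomorphisms agreeing on reflections are equal -/
theorem Good.hom_ext (hG : Φ.Good) (hΦ : Φ.Nondeg) {A : Type*} [Monoid A] {χ χ' : Φ.Isom →* A}
    (h : ∀ v h, χ ⟨Φ.refl v h, Φ.refl_mem v h⟩ = χ' ⟨Φ.refl v h, Φ.refl_mem v h⟩) : χ = χ' := by
  ext ⟨g, hg⟩
  have := hG.induction hΦ (P := fun g => ∀ hg, χ ⟨g, hg⟩ = χ' ⟨g, hg⟩)
    (fun _ => (map_one χ).trans (map_one χ').symm) (fun v hv g hg ih _ => by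
      have := congrArg₂ (· * ·) (h v hv) (ih hg)
      simp only [← map_mul] at this
      exact this)
  exact this g hg hg

theorem Good.det_eq_dick (hG : Φ.Good) (hΦ : Φ.Nondeg) (g : Φ.Isom) :
    (LinearEquiv.det g.1 : F) = ((hG.dick hΦ g : ℤ) : F) := by
  have := hG.hom_ext hΦ (χ := (Units.coeHom F).comp (LinearEquiv.det.comp Φ.Isom.subtype))
    (χ' := ((Int.castRingHom F).toMonoidHom.comp (Units.coeHom ℤ)).comp (hG.dick hΦ)) (fun v h => by
      simpa [hG.dick_refl hΦ] using Φ.det_refl v h)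
  exact DFunLike.congr_fun this g

end Form

end Cfsg.Agent.Classical
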