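import Cfsg.Agent.Lib.Classical.Klein1

/-! More low-dimensional isomorphisms of orthogonal groups. -/

set_option autoImplicit false

namespace Cfsg.Agent.Classical

open Module Matrix

variable {F : Type*} [Field F]

theorem exists_conj {K : Type*} [Field K] [Finite K] [Algebra F K] (h2 : finrank F K = 2) : ∃ σ : K →+* K,
    (∀ x, σ (σ x) = x) ∧ (∀ x, σ (algebraMap F K x) = algebraMap F K x) ∧
      (∀ {x}, σ x = x → x ∈ Set.range (algebraMap F K)) ∧ ∀ x, σ x = x ^ Nat.card F :=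
  ⟨frobA F K, frobA_frobA h2, (frobA F K).commutes, mem_range_of_frobA h2, frobA_apply⟩

open SpecialLinearGroup in
theorem iso_four_minus [Fintype F] {K : Type*} [Field K] [Fintype K] (hK : Fintype.card K = Fintype.card F ^ 2)
    {a b : F} (hab : ∀ z₁ z₂ : F, z₁ ^ 2 + a * z₁ * z₂ + b * z₂ ^ 2 = 0 → z₁ = 0 ∧ z₂ = 0) :
    Nonempty (POmega F (quadFormMinus 1 F a b) ≃* ProjectiveSpecialLinearGroup (Fin 2) K) := by
  obtain ⟨_, h2⟩ := exists_algebra_of_card hK
  have hΦ := minusForm_nondeg 1 hab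
  obtain ⟨θ, hθ⟩ := exists_root_quad h2 a b fun x h => by simpa using (hab x 1 (by simpa using h)).2
  obtain ⟨σ, σσ, σc, fx, -⟩ := exists_conj h2
  have inj := (algebraMap F K).injective
  have t0 : θ ∉ Set.range (algebraMap F K) := by
    rintro ⟨x, rfl⟩
    simpa using (hab x 1 (inj (by simpa using hθ))).2
  have t1 : σ θ - θ ≠ 0 := fun k => t0 (fx (sub_eq_zero.1 k))
  have t2 := congrArg σ hθ
  simp only [map_add, map_mul, map_pow, σc, map_zero] at t2
  have t3 : algebraMap F K a = -(θ + σ θ) := mul_left_cancel₀ t1 (by linear_combination t2 - hθ)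
  have t4 : algebraMap F K b = θ * σ θ := by rw [t3] at hθ; linear_combination hθ
  obtain ⟨A, hA⟩ : ∃ A : ((Fin 1 ⊕ Fin 1) ⊕ Fin 2 → F) →ₗ[F] Matrix (Fin 2) (Fin 2) K, ∀ v, A v =
      !![algebraMap F K (v (.inl (.inl 0))), algebraMap F K (v (.inr 0)) - algebraMap F K (v (.inr 1)) * θ;
        algebraMap F K (v (.inr 0)) - algebraMap F K (v (.inr 1)) * σ θ, -algebraMap F K (v (.inl (.inr 0)))] :=
    ⟨{ toFun := _
       map_add' := fun u v => by ext i j; fin_cases i <;> fin_cases j <;> simp <;> ring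
       map_smul' := fun c v => by
        ext i j; fin_cases i <;> fin_cases j <;> simp [Algebra.smul_def c] <;> ring }, fun _ => rfl⟩
  have k : ∀ v, algebraMap F K ((minusForm 1 F a b).N v) = -(A v).det := fun v => by
    simp [minusForm_N, quadFormMinus, hA, t3, t4]; ring
  have k1 : ∀ Y : Matrix (Fin 2) (Fin 2) K, σ (Y 0 0) = Y 0 0 → σ (Y 1 1) = Y 1 1 → σ (Y 0 1) = Y 1 0 →
      ∃ w, A w = Y := fun Y p q r => by
    obtain ⟨x, hx⟩ := fx p
    obtain ⟨y, hy⟩ := fx q
    obtain ⟨z, hz⟩ := fx (x := (Y 0 1 - Y 1 0) / (σ θ - θ)) (by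
      simp only [map_div₀, map_sub, ← r, σσ]; rw [← neg_div_neg_eq]; simp)
    obtain ⟨t, ht⟩ := fx (x := (Y 0 1 * σ θ - Y 1 0 * θ) / (σ θ - θ)) (by
      simp only [map_div₀, map_sub, map_mul, ← r, σσ]; rw [← neg_div_neg_eq]; simp)
    refine ⟨Sum.elim (Sum.elim (fun _ => x) fun _ => -y) ![t, z], ?_⟩
    ext i j; fin_cases i <;> fin_cases j <;> simp [hA, hx, hy, hz, ht] <;> field_simp <;> ring
  obtain ⟨e⟩ := nonempty_POmega (minusForm 1 F a b)
  obtain ⟨l, l0, l1⟩ := exists_sq_ne_one (F := K) (by have := Fintype.one_lt_card (α := F); nlinarith)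
  refine (iso_POmega hΦ (Form.good_of_no_TS fun W hW k => ?_) (by simp) coeMonoidHom
    (σ.mapMatrix.toMonoidHom.comp coeMonoidHom) A ((injective_iff_map_eq_zero _).2 fun v h => ?_)
    (fun g v => ?_) (fun _ _ h _ => Subtype.ext h) (.inl (SL2.commutator_eq_top l0 l1)) (fun g c hc h => ?_) ?_).map
    e.trans
  · simpa using (isType_of_TS 2 _ W hΦ (by simp) k hW).unique (minusForm_isType 1 hab)
  · simp only [hA, ← Matrix.ext_iff, Fin.forall_fin_two] at h
    simp [sub_eq_zero] at h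
    have : v (.inr 1) = 0 := by simpa [t1] using (by grind : algebraMap F K (v (.inr 1)) * (σ θ - θ) = 0)
    have h' : v (.inr 0) = 0 := by simpa [this] using h.1.2
    ext ((i | i) | i) <;> fin_cases i
    exacts [h.1.1, h.2.2, h', this]
  · obtain ⟨w, hw⟩ := k1 (g.1 * A v * (g.1.map σ)ᵀ)
      (by simp [hA, Matrix.mul_apply, Fin.sum_univ_two, σσ, σc]; ring)
      (by simp [hA, Matrix.mul_apply, Fin.sum_univ_two, σσ, σc]; ring)
      (by simp [hA, Matrix.mul_apply, Fin.sum_univ_two, σσ, σc]; ring)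
    refine ⟨w, hw, inj ?_⟩
    have : (g.1.map σ).det = 1 := by rw [← RingHom.mapMatrix_apply, ← RingHom.map_det, g.2, map_one]
    simp [k, hw, this]
  · have c0 : algebraMap F K c ≠ 0 := by rcases hc with rfl | ⟨rfl, -⟩ <;> simp
    obtain ⟨u, hu⟩ := k1 !![1, 0; 0, 0] (map_one σ) (map_zero σ) (map_zero σ)
    obtain ⟨v, hv⟩ := k1 !![0, 0; 0, 1] (map_zero σ) (map_one σ) (map_zero σ)
    obtain ⟨w, hw⟩ := k1 !![0, 1; 1, 0] (map_zero σ) (map_zero σ) (map_one σ)
    have a := h u
    have b := h v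
    have d := h w
    have d' := g.2
    simp only [hu, hv, hw, ← Matrix.ext_iff, Fin.forall_fin_two, det_fin_two] at a b d d'
    simp [Matrix.mul_apply, Fin.sum_univ_two, Algebra.smul_def c] at a b d
    have p0 : g 1 1 = g 0 0 := σ.injective (by grind)
    have p : g.1 = g 0 0 • (1 : Matrix _ _ K) := by
      ext i j; fin_cases i <;> fin_cases j <;> simp [a.2.2, b.1.1, p0]
    have p1 : g 0 0 * g 0 0 = 1 := by grind
    refine ⟨_, g 0 0, p, ?_, fun _ => ⟨rfl, p1⟩⟩
    rcases mul_self_eq_one_iff.1 p1 with k | k <;> simp [p, k, Matrix.map_neg _ (map_neg σ)]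
  · zify
    rw [card_orth_even (.inr rfl) 1 _ hΦ (minusForm_isType 1 hab), card_SL_two]
    simp [hK]; ring

/-- alternating matrices in Plücker coordinates -/
def altM (F : Type*) [Field F] : (Fin 3 ⊕ Fin 3 → F) →ₗ[F] Matrix (Fin 4) (Fin 4) F where
  toFun v := !![0, v (.inl 0), v (.inl 1), v (.inl 2); -v (.inl 0), 0, v (.inr 2), -v (.inr 1);
    -v (.inl 1), -v (.inr 2), 0, v (.inr 0); -v (.inl 2), v (.inr 1), -v (.inr 0), 0]
  map_add' u v := by simp [add_comm]
  map_smul' c v := by simp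

theorem altM_apply (v : Fin 3 ⊕ Fin 3 → F) : altM F v =
  !![0, v (.inl 0), v (.inl 1), v (.inl 2); -v (.inl 0), 0, v (.inr 2), -v (.inr 1);
    -v (.inl 1), -v (.inr 2), 0, v (.inr 0); -v (.inl 2), v (.inr 1), -v (.inr 0), 0] := rfl

/-- Plücker coordinates -/
def plk (Y : Matrix (Fin 4) (Fin 4) F) : Fin 3 ⊕ Fin 3 → F := Sum.elim ![Y 0 1, Y 0 2, Y 0 3] ![Y 2 3, -Y 1 3, Y 1 2]

theorem plk_altM (v : Fin 3 ⊕ Fin 3 → F) : plk (altM F v) = v := by
  ext (i | i) <;> fin_cases i <;> simp [plk, altM_apply]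

theorem altM_injective : Function.Injective (altM F) := Function.LeftInverse.injective plk_altM

theorem altM_plk (g : Matrix (Fin 4) (Fin 4) F) (v) : altM F (plk (g * altM F v * gᵀ)) = g * altM F v * gᵀ := by
  ext i j
  fin_cases i <;> fin_cases j <;> simp [plk, altM_apply, Matrix.mul_apply, Fin.sum_univ_four] <;> ring

theorem det_four (g : Matrix (Fin 4) (Fin 4) F) : g.det =
    g 0 0 * (g 1 1 * (g 2 2 * g 3 3 - g 2 3 * g 3 2) - g 1 2 * (g 2 1 * g 3 3 - g 2 3 * g 3 1) +
      g 1 3 * (g 2 1 * g 3 2 - g 2 2 * g 3 1)) -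
    g 0 1 * (g 1 0 * (g 2 2 * g 3 3 - g 2 3 * g 3 2) - g 1 2 * (g 2 0 * g 3 3 - g 2 3 * g 3 0) +
      g 1 3 * (g 2 0 * g 3 2 - g 2 2 * g 3 0)) +
    g 0 2 * (g 1 0 * (g 2 1 * g 3 3 - g 2 3 * g 3 1) - g 1 1 * (g 2 0 * g 3 3 - g 2 3 * g 3 0) +
      g 1 3 * (g 2 0 * g 3 1 - g 2 1 * g 3 0)) -
    g 0 3 * (g 1 0 * (g 2 1 * g 3 2 - g 2 2 * g 3 1) - g 1 1 * (g 2 0 * g 3 2 - g 2 2 * g 3 0) +
      g 1 2 * (g 2 0 * g 3 1 - g 2 1 * g 3 0)) := by
  simp [Matrix.det_succ_row_zero, Fin.sum_univ_succ, Fin.succAbove]; ring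

theorem pf_plk (g : Matrix (Fin 4) (Fin 4) F) (v) :
    quadFormPlus 3 F (plk (g * altM F v * gᵀ)) = g.det * quadFormPlus 3 F v := by
  simp [quadFormPlus, det_four, plk, altM_apply, Matrix.mul_apply, Fin.sum_univ_four, Fin.sum_univ_three]; ring

theorem star_plk (g : Matrix (Fin 4) (Fin 4) F) (v) :
    gᵀ * altM F (plk (g * altM F v * gᵀ) ∘ Sum.swap) * g = g.det • altM F (v ∘ Sum.swap) := by
  have := altM_plk gᵀ (plk (g * altM F v * gᵀ) ∘ Sum.swap)
  rw [transpose_transpose] at this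
  rw [← this, ← map_smul]
  congr 1
  ext (i | i) <;> fin_cases i <;>
    simp [det_four, plk, altM_apply, Matrix.mul_apply, Fin.sum_univ_four] <;> ring

theorem scalar_of_altM {g : Matrix (Fin 4) (Fin 4) F} {c : F} (hc : c ≠ 0)
    (h : ∀ v, g * altM F v * gᵀ = c • altM F v) : ∃ d, g = d • 1 ∧ d * d = c := by
  have k : ∀ i j k l, g k i * g l j - g k j * g l i =
      (if i = k then if j = l then c else 0 else 0) - if j = k then if i = l then c else 0 else 0 := by
    intro i j k l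
    have e : altM F (plk (single i j 1 - single j i 1)) = single i j 1 - single j i 1 := by
      ext a b
      fin_cases i <;> fin_cases j <;> fin_cases a <;> fin_cases b <;> simp [plk, altM_apply, single_apply]
    have := congrFun (congrFun (h (plk (single i j 1 - single j i 1))) k) l
    rw [e] at this
    simpa [mul_sub, sub_mul, Matrix.mul_apply, single_apply, one_apply, ite_and, eq_comm] using this
  have t : ∀ i k : Fin 4, ∃ j, j ≠ i ∧ j ≠ k := by decide
  have k1 : ∀ i k, k ≠ i → g k i = 0 := fun i l h => by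
    obtain ⟨j, a, b⟩ := t i l
    have p := k i j i j
    have q := k i j l j
    have r := k i j l i
    simp [h.symm, a, b] at p q r
    exact mul_left_cancel₀ hc (by linear_combination -g l i * p + g i i * q - g j i * r)
  have k2 : ∀ i j, j ≠ i → g i i * g j j = c := fun i j h => by simpa [k1 _ _ h, h, h.symm] using k i j i j
  refine ⟨g 0 0, ?_, ?_⟩
  · ext i j
    by_cases e : i = j
    · obtain ⟨l, a, b⟩ := t i 0
      have p := k2 _ _ a
      simpa [← e] using mul_right_cancel₀ (right_ne_zero_of_mul (p ▸ hc)) (p.trans (k2 _ _ b).symm)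
    · simp [e, k1 _ _ e]
  · have := k2 0 1 (by decide)
    have := k2 0 2 (by decide)
    have := k2 1 2 (by decide)
    clear k k1 k2 h t
    grind

open SpecialLinearGroup in
theorem iso_six_plus [Fintype F] :
    Nonempty (POmega F (quadFormPlus 3 F) ≃* ProjectiveSpecialLinearGroup (Fin 4) F) := by
  have hΦ := plusForm_nondeg (F := F) 3
  obtain ⟨e⟩ := nonempty_POmega (plusForm 3 F)
  refine (iso_POmega hΦ (Form.good_of_finrank hΦ (by simp)) (by simp) coeMonoidHom coeMonoidHom (altM F)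
    altM_injective (fun g v => ⟨_, altM_plk _ _, by simp [plusForm_N, pf_plk]⟩) (fun _ _ h _ => Subtype.ext h)
    (.inl (Lin.commutator_SL (by simp))) (fun g c hc h => ?_) ?_).map e.trans
  · obtain ⟨d, a, b⟩ := scalar_of_altM (by rcases hc with rfl | ⟨rfl, -⟩ <;> simp) h
    exact ⟨d, d, a, a, fun k => ⟨rfl, b.trans k⟩⟩
  · zify
    rw [card_orth_even (.inl rfl) 2 _ hΦ (plusForm_isType 3), card_SL_four]
    simp [Finset.prod_range_succ]; ring

theorem iso_five [Fintype F] (h2 : (2 : F) ≠ 0) : Nonempty (POmega F (quadFormOdd 2 F) ≃* PSp 2 F) := by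
  have hΦ := oddForm_nondeg 2 h2
  obtain ⟨e⟩ := nonempty_POmega (oddForm 2 F)
  obtain ⟨j, hj⟩ : ∃ j : (Unit ⊕ (Fin 2 ⊕ Fin 2) → F) →ₗ[F] (Fin 3 ⊕ Fin 3 → F), ∀ v, j v =
      Sum.elim ![v (.inr (.inl 0)), v (.inl ()), v (.inr (.inl 1))]
        ![v (.inr (.inr 0)), v (.inl ()), v (.inr (.inr 1))] :=
    ⟨{ toFun := _
       map_add' := fun u v => by ext (i | i) <;> fin_cases i <;> simp
       map_smul' := fun c v => by ext (i | i) <;> fin_cases i <;> simp }, fun _ => rfl⟩
  have k : ∀ v, (oddForm 2 F).N v = quadFormPlus 3 F (j v) := fun v => by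
    simp [oddForm_N, quadFormOdd, quadFormPlus, hj, Fin.sum_univ_three]; ring
  have k1 : ∀ w : Fin 3 ⊕ Fin 3 → F, w (.inl 1) = w (.inr 1) → ∃ v, j v = w := fun w h =>
    ⟨Sum.elim (fun _ => w (.inl 1)) (Sum.elim ![w (.inl 0), w (.inl 2)] ![w (.inr 0), w (.inr 2)]), by
      ext (i | i) <;> fin_cases i <;> simp [hj, h]⟩
  let a : symplecticGroup (Fin 2) F →* Matrix (Fin 4) (Fin 4) F :=
    (reindexAlgEquiv F F finSumFinEquiv).toMonoidHom.comp (spToMat 2 F)
  have ha : ∀ g, a g = reindex finSumFinEquiv finSumFinEquiv g.1 := fun _ => rfl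
  obtain ⟨w, w1, w2⟩ : ∃ w, altM F w = reindex finSumFinEquiv finSumFinEquiv (J (Fin 2) F) ∧
      w = Sum.elim ![0, -1, 0] ![0, 1, 0] := ⟨_, by
    ext i j; fin_cases i <;> fin_cases j <;> simp [altM_apply, J, finSumFinEquiv, Fin.addCases, Fin.subNat], rfl⟩
  have k2 : ∀ g, a g * altM F w * (a g)ᵀ = altM F w := fun g => by
    rw [w1, ha, transpose_reindex, reindex_apply, reindex_apply, reindex_apply,
      submatrix_mul_equiv, submatrix_mul_equiv, SymplecticGroup.mem_iff.1 g.2]
  have k3 : ∀ g, (a g).det = 1 := fun g => by rw [ha, det_reindex_self, SymplecticGroup.det_eq_one g.2]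
  have inj : Function.Injective a := (reindexAlgEquiv F F finSumFinEquiv).injective.comp Subtype.val_injective
  haveI : Finite (symplecticGroup (Fin 2) F) := inferInstance
  refine (iso_POmega hΦ (Form.good_of_two hΦ h2) (by simp) a a (altM F ∘ₗ j)
    (altM_injective.comp ((injective_iff_map_eq_zero _).2 fun v h => ?_)) (fun g v => ?_) (fun _ _ h _ => inj h)
    (.inl (commutator_eq_top_congr (spEquiv 2 F).symm (symp_perfect_fin (spForm_nondeg 2) (.inr (.inl ⟨by simp, ?_⟩)))))
    (fun g c hc h => ?_) ?_).map e.trans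
  · simp only [hj, funext_iff, Sum.forall, Fin.forall_fin_succ] at h
    ext (i | i | i)
    · simp_all
    all_goals fin_cases i <;> simp_all
  · obtain ⟨u, hu⟩ := k1 (plk (a g * altM F (j v) * (a g)ᵀ)) (by
      have p := pf_plk (a g) (j v + w)
      have q := pf_plk (a g) (j v)
      rw [map_add, mul_add, add_mul, k2, ← altM_plk, ← map_add, plk_altM, k3] at p
      rw [k3] at q
      generalize plk (F := F) _ = y at p q ⊢
      simp [quadFormPlus, Fin.sum_univ_three, w2, hj] at p q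
      linear_combination p - q)
    exact ⟨u, by simp [hu, altM_plk], by rw [k, k, hu, pf_plk, k3, one_mul]⟩
  · have := odd_of_two_ne_zero (F := F) h2
    have := Fintype.one_lt_card (α := F)
    grind
  · obtain rfl : c = 1 := hc.resolve_right (by simp; exact fun _ => by decide)
    obtain ⟨d, p, q⟩ := scalar_of_altM (g := a g) one_ne_zero fun v => by
      obtain ⟨u, hu⟩ := k1 (v + ((v (.inl 1) - v (.inr 1)) / 2) • w) (by simp [w2]; field_simp; ring)
      have := h u
      simpa [hu, mul_add, add_mul, k2] using this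
    exact ⟨d, d, p, p, fun _ => ⟨rfl, q⟩⟩
  · rw [card_orth_odd 2 _ hΦ (by simp), Nat.card_congr (spEquiv 2 F).toEquiv, card_symp 2 _ (spForm_nondeg 2) (by simp),
      mul_assoc]

theorem iso_six_minus [Fintype F] {K : Type*} [Field K] [Fintype K] (hK : Fintype.card K = Fintype.card F ^ 2)
    {a b : F} (hab : ∀ z₁ z₂ : F, z₁ ^ 2 + a * z₁ * z₂ + b * z₂ ^ 2 = 0 → z₁ = 0 ∧ z₂ = 0) :
    Nonempty (POmega F (quadFormMinus 2 F a b) ≃* PSU 4 K (Fintype.card F)) := by
  obtain ⟨_, h2⟩ := exists_algebra_of_card hK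
  have inj := (algebraMap F K).injective
  have fr : ∀ x, frobA F K x = frobq hK x := fun x => by simp [frobA_apply]
  let Φ : Form (Kind.orth F) (Fin 3 → K) := Form.ofQuadFun (fun v => ∑ i, (normForm h2).N (v i))
    (LinearMap.mk₂ F (fun u v => ∑ i, (normForm h2).B (u i) (v i)) (by simp [Finset.sum_add_distrib])
      (by simp [Finset.mul_sum]) (by simp [Finset.sum_add_distrib]) (by simp [Finset.mul_sum]))
    (by simp [Form.orth_N_add, Finset.sum_add_distrib]) (by simp [Form.N_smul, Finset.mul_sum])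
  have k : ∀ v, algebraMap F K (Φ.N v) = ∑ i, v i * frobq hK (v i) := fun v => by
    simp only [← fr, ← normForm_N h2, ← map_sum]; rfl
  have hΦ : Φ.Nondeg := fun v h => funext fun i => normForm_nondeg h2 _ fun x => by
    have : ∑ j, (normForm h2).B ((Pi.single i x : Fin 3 → K) j) (v j) = 0 := h _
    rwa [Finset.sum_eq_single i (fun j _ hj => by simp [hj]) (by simp), Pi.single_eq_same] at this
  have hn : finrank F (Fin 3 → K) = 6 := by simp [Module.finrank_pi_fintype, h2]
  have ht : Φ.IsType 3 (-1) := ⟨hn, by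
    have := unit_cnt_zero hK 3 _ (uForm_nondeg hK 3) (by simp)
    rw [show Φ.cnt 0 = (uForm hK 3).cnt 0 from Nat.card_congr (Equiv.subtypeEquivRight fun v => by
      rw [← inj.eq_iff, k, map_zero]; rfl), Nat.card_eq_fintype_card, this]; ring⟩
  obtain ⟨e⟩ := nonempty_POmega (minusForm 2 F a b)
  obtain ⟨e1⟩ := (orth_iso_even (-1) 3 _ _ (minusForm_nondeg 2 hab) hΦ (minusForm_isType 2 hab) ht).nonempty_equiv
  obtain ⟨e2⟩ := nonempty_central_quot_equiv (commutatorCongr e1)
  have σσ := frobq_frobq hK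
  have σc : ∀ c, frobq hK (algebraMap F K c) = algebraMap F K c := fun c => by rw [← fr, AlgEquiv.commutes]
  have hU : ∀ g : SU 4 K (Fintype.card F), g.1.1ᵀ * g.1.1.map (frobq hK) = 1 := fun g => by
    ext i j
    simpa [hermForm, Matrix.mul_apply, one_apply, Pi.single_apply, Fintype.card_ne_zero, eq_comm] using
      g.2 (Pi.single i 1) (Pi.single j 1)
  have hp := commutator_eq_top_congr (suEquiv hK 4).symm (unit_perfect hK (uForm_nondeg hK 4) (by simp) (by simp))
  obtain ⟨θ, hθ⟩ : ∃ θ, frobq hK θ - θ ≠ 0 := by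
    simpa only [sub_ne_zero, RingHom.id_apply] using DFunLike.ne_iff.1 (frobq_ne_id hK)
  have hc : Nat.card Φ.Isom = 2 * Nat.card (SU 4 K (Fintype.card F)) := by
    have := card_unit_SIsom hK (uForm_nondeg hK 4) (by simp)
    rw [card_unit hK 4 _ (uForm_nondeg hK 4) (by simp), ← Nat.card_congr (suEquiv hK 4).toEquiv] at this
    simp [Finset.prod_range_succ, show ¬ Even 3 by decide] at this
    zify [Nat.one_le_pow _ _ (Fintype.card_pos (α := F))] at this ⊢
    rw [card_orth_even (.inr rfl) 2 _ hΦ ht]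
    simp [Finset.prod_range_succ]
    exact mul_left_cancel₀ (by positivity : (Fintype.card F : ℤ) + 1 ≠ 0) (by linear_combination -2 * this)
  generalize frobq hK = σ at *
  obtain ⟨A, hA⟩ : ∃ A : (Fin 3 → K) →ₗ[F] Matrix (Fin 4) (Fin 4) K, ∀ v, A v = altM K (Sum.elim v (σ ∘ v)) :=
    ⟨{ toFun := fun v => altM K (Sum.elim v (σ ∘ v))
       map_add' := fun u v => by rw [← map_add]; congr 1; ext (i | i) <;> simp
       map_smul' := fun c v => by
        rw [RingHom.id_apply, ← algebraMap_smul K c (altM K _), ← map_smul]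
        congr 1; ext (i | i) <;> simp [Algebra.smul_def c, σc] }, fun _ => rfl⟩
  have k0 : ∀ w, (altM K w).map σ = altM K (σ ∘ w) := fun w => by
    ext i j; fin_cases i <;> fin_cases j <;> simp [altM_apply]
  let a : SU 4 K (Fintype.card F) →* Matrix (Fin 4) (Fin 4) K :=
    SpecialLinearGroup.coeMonoidHom.comp (Subgroup.subtype _)
  refine (iso_POmega hΦ (Form.good_of_finrank hΦ (by omega)) (by omega) a a A
    (fun u v h => funext fun i => congrFun (altM_injective (hA u ▸ hA v ▸ h)) (.inl i)) (fun g v => ?_)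
    (fun _ _ h _ => Subtype.ext (Subtype.ext h)) (.inl hp) (fun g c hc h => ?_) hc).map fun x => (e.trans e2).trans x
  · have p := star_plk g.1.1 (Sum.elim v (σ ∘ v))
    have q := altM_plk g.1.1 (Sum.elim v (σ ∘ v))
    have r := pf_plk g.1.1 (Sum.elim v (σ ∘ v))
    rw [g.1.2, one_smul] at p
    generalize plk (F := K) _ = y at p q r
    have u := congrArg transpose (mul_eq_one_comm.1 (hU g))
    rw [transpose_mul, transpose_transpose, transpose_one] at u
    have s : y ∘ Sum.swap = σ ∘ y := altM_injective (by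
      rw [← k0, q, Matrix.map_mul, Matrix.map_mul, k0,
        show σ ∘ Sum.elim v (σ ∘ v) = Sum.elim v (σ ∘ v) ∘ Sum.swap by ext (i | i) <;> simp [σσ],
        ← p, transpose_map]
      simp only [← Matrix.mul_assoc, mul_eq_one_comm.1 (hU g), Matrix.one_mul]
      rw [Matrix.mul_assoc, u, Matrix.mul_one])
    have s' : Sum.elim (y ∘ .inl) (σ ∘ y ∘ .inl) = y := by
      ext (i | i)
      · rfl
      · exact (congrFun s (.inl i)).symm
    refine ⟨y ∘ .inl, by rw [hA, hA, s', q]; rfl, inj ?_⟩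
    rw [← s', g.1.2, one_mul] at r
    rw [k, k]; exact r
  · have c0 : algebraMap F K c ≠ 0 := by rcases hc with rfl | ⟨rfl, -⟩ <;> simp
    obtain ⟨d, p, q⟩ := scalar_of_altM (g := a g) c0 fun w => by
      have : altM K w = (σ θ - θ)⁻¹ • (A (fun i => σ θ * w (.inl i) + θ * σ (w (.inr i))) +
          θ • A (fun i => -(w (.inl i) + σ (w (.inr i))))) := by
        rw [hA, hA, ← map_smul, ← map_add, ← map_smul]
        congr 1; ext (i | i) <;> simp [σσ] <;> field_simp <;> ring
      simp only [this, mul_add, add_mul, Matrix.mul_smul, Matrix.smul_mul, h, algebraMap_smul]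
      module
    exact ⟨d, d, p, p, fun k => ⟨rfl, by simp [q, k]⟩⟩

end Cfsg.Agent.Classical
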