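import Mathlib

/-! Recognition of dihedral and generalised quaternion groups; central quotients. -/

set_option autoImplicit false

namespace Cfsg.Agent.Classical

variable {G : Type*} [Group G]

theorem pow_val_add {r : G} {n : ℕ} [NeZero n] (hr : r ^ n = 1) (i j : ZMod n) :
    r ^ (i + j).val = r ^ i.val * r ^ j.val := by
  rw [← pow_add, ZMod.val_add, ← pow_eq_pow_mod _ hr]

theorem pow_val_sub {r : G} {n : ℕ} [NeZero n] (hr : r ^ n = 1) (i j : ZMod n) :
    r ^ (j - i).val = (r ^ i.val)⁻¹ * r ^ j.val := by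
  rw [eq_inv_mul_iff_mul_eq, ← pow_val_add hr, add_sub_cancel]

theorem pow_val_inj {r : G} {n : ℕ} [NeZero n] (hr : orderOf r = n) {i j : ZMod n}
    (h : r ^ i.val = r ^ j.val) : i = j := by
  rw [pow_eq_pow_iff_modEq, hr] at h
  exact ZMod.val_injective n (Nat.ModEq.eq_of_lt_of_lt h (ZMod.val_lt i) (ZMod.val_lt j))

theorem exists_pow_val {r x : G} {n : ℕ} [NeZero n] (hr : orderOf r = n) (hx : x ∈ Subgroup.zpowers r) :
    ∃ i : ZMod n, r ^ i.val = x := by
  have hf : IsOfFinOrder r := by rw [← orderOf_pos_iff, hr]; exact NeZero.pos n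
  obtain ⟨k, rfl⟩ := (hf.mem_powers_iff_mem_zpowers.2 hx)
  refine ⟨k, ?_⟩
  rw [ZMod.val_natCast, ← hr, pow_mod_orderOf]

theorem pow_mul_of_inv {r s : G} (h : r * s = s * r⁻¹) (k : ℕ) : r ^ k * s = s * (r ^ k)⁻¹ := by
  induction k with
  | zero => simp
  | succ k ih => rw [pow_succ, mul_assoc, h, ← mul_assoc, ih, mul_assoc, ← mul_inv_rev, ← pow_succ',
      pow_succ]

/-- homomorphism out of a dihedral group -/
def dihedralHom {n : ℕ} [NeZero n] (r s : G) (hr : r ^ n = 1) (hs : s * s = 1)
    (h : r * s = s * r⁻¹) : DihedralGroup n →* G :=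
  MonoidHom.mk' (fun x => match x with
    | .r i => r ^ i.val
    | .sr i => s * r ^ i.val) (by
      rintro (i | i) (j | j)
      · exact pow_val_add hr i j
      · show s * r ^ (j - i).val = r ^ i.val * (s * r ^ j.val)
        rw [pow_val_sub hr, ← mul_assoc, ← mul_assoc, pow_mul_of_inv h]
      · show s * r ^ (i + j).val = s * r ^ i.val * r ^ j.val
        rw [pow_val_add hr, mul_assoc]
      · show r ^ (j - i).val = s * r ^ i.val * (s * r ^ j.val)
        rw [pow_val_sub hr, mul_assoc, ← mul_assoc _ s, pow_mul_of_inv h, ← mul_assoc, ← mul_assoc, hs,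
          one_mul])

theorem exists_dihedral_hom {n : ℕ} [NeZero n] (r s : G) (hr : orderOf r = n) (hs : s * s = 1)
    (h : r * s = s * r⁻¹) (hn : s ∉ Subgroup.zpowers r) :
    ∃ φ : DihedralGroup n →* G, Function.Injective φ ∧
      ∀ x, x ∈ φ.range ↔ x ∈ Subgroup.zpowers r ∨ s⁻¹ * x ∈ Subgroup.zpowers r := by
  refine ⟨dihedralHom r s (hr ▸ pow_orderOf_eq_one r) hs h, ?_, fun x => ⟨?_, ?_⟩⟩
  · rw [injective_iff_map_eq_one]
    rintro (i | i) hi
    · have : r ^ i.val = r ^ (0 : ZMod n).val := by rw [ZMod.val_zero, pow_zero]; exact hi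
      rw [pow_val_inj hr this]; rfl
    · exfalso; apply hn
      have : s * r ^ i.val = 1 := hi
      rw [eq_inv_of_mul_eq_one_left this]
      exact inv_mem (Subgroup.npow_mem_zpowers _ _)
  · rintro ⟨i | i, rfl⟩
    · exact Or.inl (Subgroup.npow_mem_zpowers _ _)
    · right
      show s⁻¹ * (s * r ^ i.val) ∈ _
      rw [inv_mul_cancel_left]; exact Subgroup.npow_mem_zpowers _ _
  · rintro (hx | hx)
    · obtain ⟨i, hi⟩ := exists_pow_val hr hx
      exact ⟨.r i, hi⟩
    · obtain ⟨i, hi⟩ := exists_pow_val hr hx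
      exact ⟨.sr i, show s * r ^ i.val = x by rw [hi, mul_inv_cancel_left]⟩

/-- a subgroup generated by a rotation and a reflection is dihedral -/
theorem nonempty_dihedral {n : ℕ} [NeZero n] (H : Subgroup G) (r s : G) (hr : orderOf r = n)
    (hs : s * s = 1) (h : r * s = s * r⁻¹) (hn : s ∉ Subgroup.zpowers r)
    (hH : ∀ x, x ∈ H ↔ x ∈ Subgroup.zpowers r ∨ s⁻¹ * x ∈ Subgroup.zpowers r) :
    Nonempty (H ≃* DihedralGroup n) := by
  obtain ⟨φ, h1, h2⟩ := exists_dihedral_hom r s hr hs h hn
  have : φ.range = H := by ext x; rw [h2, hH]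
  exact ⟨((MonoidHom.ofInjective h1).trans (MulEquiv.subgroupCongr this)).symm⟩

theorem nonempty_dihedral_of_card {n : ℕ} [NeZero n] (r s : G) (hr : orderOf r = n)
    (hs : s * s = 1) (h : r * s = s * r⁻¹) (hn : s ∉ Subgroup.zpowers r) (hc : Nat.card G = 2 * n) :
    Nonempty (G ≃* DihedralGroup n) := by
  obtain ⟨φ, h1, -⟩ := exists_dihedral_hom r s hr hs h hn
  have : Finite G := Nat.finite_of_card_ne_zero (by rw [hc]; have := NeZero.pos n; omega)
  exact ⟨(MulEquiv.ofBijective φ ((Nat.bijective_iff_injective_and_card φ).2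
    ⟨h1, by rw [hc, DihedralGroup.nat_card]⟩)).symm⟩

/-- homomorphism out of a generalised quaternion group -/
def quaternionHom {n : ℕ} [NeZero n] (r s : G) (hr : r ^ (2 * n) = 1) (hs : s * s = r ^ n)
    (h : r * s = s * r⁻¹) : QuaternionGroup n →* G :=
  MonoidHom.mk' (fun x => match x with
    | .a i => r ^ i.val
    | .xa i => s * r ^ i.val) (by
      rintro (i | i) (j | j)
      · exact pow_val_add hr i j
      · show s * r ^ (j - i).val = r ^ i.val * (s * r ^ j.val)
        rw [pow_val_sub hr, ← mul_assoc, ← mul_assoc, pow_mul_of_inv h]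
      · show s * r ^ (i + j).val = s * r ^ i.val * r ^ j.val
        rw [pow_val_add hr, mul_assoc]
      · show r ^ ((n : ZMod (2 * n)) + j - i).val = s * r ^ i.val * (s * r ^ j.val)
        rw [add_sub_assoc, pow_val_add hr, pow_val_sub hr, mul_assoc, ← mul_assoc _ s, pow_mul_of_inv h,
          ← mul_assoc, ← mul_assoc, ← mul_assoc, hs, ZMod.val_natCast_of_lt]
        have := NeZero.pos n; omega)

theorem exists_quaternion_hom {n : ℕ} [NeZero n] (r s : G) (hr : orderOf r = 2 * n) (hs : s * s = r ^ n)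
    (h : r * s = s * r⁻¹) (hn : s ∉ Subgroup.zpowers r) :
    ∃ φ : QuaternionGroup n →* G, Function.Injective φ ∧
      ∀ x, x ∈ φ.range ↔ x ∈ Subgroup.zpowers r ∨ s⁻¹ * x ∈ Subgroup.zpowers r := by
  refine ⟨quaternionHom r s (hr ▸ pow_orderOf_eq_one r) hs h, ?_, fun x => ⟨?_, ?_⟩⟩
  · rw [injective_iff_map_eq_one]
    rintro (i | i) hi
    · have : r ^ i.val = r ^ (0 : ZMod (2 * n)).val := by rw [ZMod.val_zero, pow_zero]; exact hi
      rw [pow_val_inj hr this]; rfl
    · exfalso; apply hn
      have : s * r ^ i.val = 1 := hi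
      rw [eq_inv_of_mul_eq_one_left this]
      exact inv_mem (Subgroup.npow_mem_zpowers _ _)
  · rintro ⟨i | i, rfl⟩
    · exact Or.inl (Subgroup.npow_mem_zpowers _ _)
    · right
      show s⁻¹ * (s * r ^ i.val) ∈ _
      rw [inv_mul_cancel_left]; exact Subgroup.npow_mem_zpowers _ _
  · rintro (hx | hx)
    · obtain ⟨i, hi⟩ := exists_pow_val hr hx
      exact ⟨.a i, hi⟩
    · obtain ⟨i, hi⟩ := exists_pow_val hr hx
      exact ⟨.xa i, show s * r ^ i.val = x by rw [hi, mul_inv_cancel_left]⟩

theorem nonempty_quaternion {n : ℕ} [NeZero n] (H : Subgroup G) (r s : G) (hr : orderOf r = 2 * n)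
    (hs : s * s = r ^ n) (h : r * s = s * r⁻¹) (hn : s ∉ Subgroup.zpowers r)
    (hH : ∀ x, x ∈ H ↔ x ∈ Subgroup.zpowers r ∨ s⁻¹ * x ∈ Subgroup.zpowers r) :
    Nonempty (H ≃* QuaternionGroup n) := by
  obtain ⟨φ, h1, h2⟩ := exists_quaternion_hom r s hr hs h hn
  have : φ.range = H := by ext x; rw [h2, hH]
  exact ⟨((MonoidHom.ofInjective h1).trans (MulEquiv.subgroupCongr this)).symm⟩

theorem nonempty_quaternion_of_card {n : ℕ} [NeZero n] (r s : G) (hr : orderOf r = 2 * n)
    (hs : s * s = r ^ n) (h : r * s = s * r⁻¹) (hn : s ∉ Subgroup.zpowers r) (hc : Nat.card G = 4 * n) :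
    Nonempty (G ≃* QuaternionGroup n) := by
  obtain ⟨φ, h1, -⟩ := exists_quaternion_hom r s hr hs h hn
  have : Finite G := Nat.finite_of_card_ne_zero (by rw [hc]; have := NeZero.pos n; omega)
  exact ⟨(MulEquiv.ofBijective φ ((Nat.bijective_iff_injective_and_card φ).2
    ⟨h1, by rw [hc, Nat.card_eq_fintype_card, QuaternionGroup.card]⟩)).symm⟩

/-- central quotients along a surjection whose kernel is central -/
theorem nonempty_central_quot {H : Type*} [Group H] (φ : G →* H) (hφ : Function.Surjective φ)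
    (h : (Subgroup.center H).comap φ = Subgroup.center G) :
    Nonempty (G ⧸ Subgroup.center G ≃* H ⧸ Subgroup.center H) := by
  let ψ : G →* H ⧸ Subgroup.center H := (QuotientGroup.mk' _).comp φ
  have h1 : ψ.ker = Subgroup.center G := by
    rw [← h, ← MonoidHom.comap_ker, QuotientGroup.ker_mk']
  have h2 : Function.Surjective ψ := (QuotientGroup.mk'_surjective _).comp hφ
  exact ⟨(QuotientGroup.quotientMulEquivOfEq h1.symm).trans
    (QuotientGroup.quotientKerEquivOfSurjective ψ h2)⟩

theorem center_le_comap_center {H : Type*} [Group H] (φ : G →* H) (hφ : Function.Surjective φ) :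
    Subgroup.center G ≤ (Subgroup.center H).comap φ := by
  intro x hx
  rw [Subgroup.mem_comap, Subgroup.mem_center_iff]
  intro y
  obtain ⟨y, rfl⟩ := hφ y
  rw [← map_mul, ← map_mul, Subgroup.mem_center_iff.1 hx]

theorem nonempty_central_quot' {H : Type*} [Group H] (φ : G →* H) (hφ : Function.Surjective φ)
    (hk : φ.ker ≤ Subgroup.center G) (hz : Subgroup.center (G ⧸ Subgroup.center G) = ⊥) :
    Nonempty (G ⧸ Subgroup.center G ≃* H ⧸ Subgroup.center H) := by
  refine nonempty_central_quot φ hφ (le_antisymm (fun x hx => ?_) (center_le_comap_center φ hφ))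
  have : (x : G ⧸ Subgroup.center G) ∈ Subgroup.center (G ⧸ Subgroup.center G) := by
    rw [Subgroup.mem_center_iff]
    intro y
    obtain ⟨y, rfl⟩ := QuotientGroup.mk_surjective y
    rw [← QuotientGroup.mk_mul, ← QuotientGroup.mk_mul, QuotientGroup.eq]
    apply hk
    rw [MonoidHom.mem_ker, map_mul, map_inv, map_mul, map_mul,
      Subgroup.mem_center_iff.1 (Subgroup.mem_comap.1 hx), inv_mul_cancel]
  rw [hz, Subgroup.mem_bot, QuotientGroup.eq_one_iff] at this
  exact this

theorem nonempty_central_quot_equiv {H : Type*} [Group H] (φ : G ≃* H) :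
    Nonempty (G ⧸ Subgroup.center G ≃* H ⧸ Subgroup.center H) := by
  refine nonempty_central_quot φ.toMonoidHom φ.surjective
    (le_antisymm (fun x hx => ?_) (center_le_comap_center _ φ.surjective))
  have := center_le_comap_center φ.symm.toMonoidHom φ.symm.surjective hx
  simpa using this

/-- commutator subgroups of isomorphic groups -/
def commutatorCongr {H : Type*} [Group H] (φ : G ≃* H) : commutator G ≃* commutator H :=
  (φ.subgroupMap _).trans (MulEquiv.subgroupCongr (by
    rw [commutator_def, commutator_def, Subgroup.map_commutator]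
    rw [Subgroup.map_top_of_surjective _ φ.surjective]))

theorem mem_commutator_congr {H : Type*} [Group H] (φ : G ≃* H) (x : G) :
    φ x ∈ commutator H ↔ x ∈ commutator G :=
  ⟨fun h => by
    have : φ.symm (φ x) ∈ commutator G := (commutatorCongr φ.symm ⟨_, h⟩).2
    simpa using this, fun h => (commutatorCongr φ ⟨x, h⟩).2⟩

theorem index_commutator_congr {H : Type*} [Group H] (φ : G ≃* H) :
    (commutator G).index = (commutator H).index := by
  have : commutator G = (commutator H).comap φ.toMonoidHom := by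
    ext x; exact (mem_commutator_congr φ x).symm
  rw [this, Subgroup.index_comap_of_surjective _ φ.surjective]

theorem commutator_eq_top_congr {H : Type*} [Group H] (φ : G ≃* H) (h : commutator G = ⊤) :
    commutator H = ⊤ := by
  rw [← Subgroup.index_eq_one, ← index_commutator_congr φ, h, Subgroup.index_top]

end Cfsg.Agent.Classical
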