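import Cfsg.Agent.Lib.Classical.Cnt1

/-! Triangular matrices and coordinate subspaces. -/

set_option autoImplicit false

namespace Cfsg.Agent.Classical

open Module Matrix

theorem card_congr_sub {G H : Type*} [Group G] [Group H] {X T : Subgroup H} (e : G ≃* X) {S : Subgroup G}
    (h : ∀ g, g ∈ S ↔ (e g).1 ∈ T) : Nat.card S = Nat.card (X ⊓ T : Subgroup H) :=
  Nat.card_congr ⟨fun g => ⟨e g, (e g).2, (h _).1 g.2⟩, fun g => ⟨e.symm ⟨g, g.2.1⟩, (h _).2 (by simpa using g.2.2)⟩,
    fun g => by simp, fun g => by simp⟩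

variable {F : Type*} [Field F]

theorem card_tri [Fintype F] {ι : Type*} [Fintype ι] [LinearOrder ι] :
    Nat.card {g : GL ι F // ∀ i j, j < i → g.1 i j = 0} =
      Fintype.card F ^ (Fintype.card ι).choose 2 * (Fintype.card F - 1) ^ Fintype.card ι := by
  classical
  let M : ({p : ι × ι // p.1 < p.2} → F) × (ι → Fˣ) → Matrix ι ι F := fun x i j =>
    if h : i < j then x.1 ⟨(i, j), h⟩ else if i = j then x.2 i else 0
  have k : ∀ x i j, j < i → M x i j = 0 := fun x i j h => by simp [M, h.not_gt, h.ne']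
  rw [← Nat.card_congr (Equiv.ofBijective (β := {g : GL ι F // ∀ i j, j < i → g.1 i j = 0})
    (fun x => ⟨GeneralLinearGroup.mkOfDetNeZero (M x) (by
      rw [det_of_upperTriangular (fun i j => k x i j)]; simp [M, Finset.prod_ne_zero_iff]), k x⟩) ⟨?_, ?_⟩)]
  · simp [Fintype.card_subtype, Fintype.card_product_filter_lt, Fintype.card_units]
  · intro x y h
    have : M x = M y := congrArg (·.1.1) h
    refine Prod.ext (funext fun p => ?_) (funext fun i => Units.ext ?_)
    · simpa [M, p.2] using congrFun (congrFun this p.1.1) p.1.2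
    · simpa [M] using congrFun (congrFun this i) i
  · rintro ⟨g, hg⟩
    have := g.det_ne_zero
    rw [det_of_upperTriangular (fun i j => hg i j), Finset.prod_ne_zero_iff] at this
    refine ⟨(fun p => g.1 p.1.1 p.1.2, fun i => Units.mk0 _ (this i (by simp))), Subtype.ext (Units.ext ?_)⟩
    ext i j
    change M _ i j = _
    rcases lt_trichotomy i j with h | rfl | h <;> simp [M, *, lt_asymm, ne_of_gt]

/-- coordinate subspaces -/
def coS (F : Type*) [Field F] {ι : Type*} (P : ι → Prop) : Submodule F (ι → F) where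
  carrier := {v | ∀ i, P i → v i = 0}
  zero_mem' _ _ := rfl
  add_mem' ha hb i h := by simp [ha i h, hb i h]
  smul_mem' c v hv i h := by simp [hv i h]

theorem finrank_coS {ι : Type*} [Fintype ι] (P : ι → Prop) [DecidablePred P] :
    finrank F (coS F P) = Fintype.card {i // ¬ P i} := by
  rw [← finrank_fintype_fun_eq_card F]
  exact LinearEquiv.finrank_eq
    { toFun := fun v i => v.1 i
      invFun := fun v => ⟨fun i => if h : P i then 0 else v ⟨i, h⟩, fun i h => by simp [h]⟩
      map_add' := fun _ _ => rfl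
      map_smul' := fun _ _ => rfl
      left_inv := fun v => by ext i; by_cases h : P i <;> simp [h, v.2 i]
      right_inv := fun v => by ext i; simp [i.2] }

theorem finrank_coS_le {n k : ℕ} (hk : k ≤ n) : finrank F (coS F fun i : Fin n => k ≤ i.1) = k := by
  simp [finrank_coS, Fintype.card_fin_lt_of_le hk]

theorem prod_sub_shift (q k d : ℕ) :
    ∏ i ∈ Finset.range d, (q ^ (k + d) - q ^ (k + i)) = q ^ (k * d) * ∏ i : Fin d, (q ^ d - q ^ (i : ℕ)) := by
  simp [pow_add, ← mul_tsub, Finset.prod_mul_distrib, pow_mul, Finset.prod_range]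

theorem exists_ext_lin {V : Type*} [AddCommGroup V] [Module F V] {W : Submodule F V} (s : W ≃ₗ[F] W) :
    ∃ g : V ≃ₗ[F] V, ∀ x : W, g x = s x := by
  obtain ⟨U, h⟩ := W.exists_isCompl
  exact ⟨glue h (s, 1), glue_left h _⟩

end Cfsg.Agent.Classical
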