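import Cfsg.Agent.Lib.Classical.SpU

/-! Classification of quadratic forms over finite fields and orders of orthogonal groups. -/

set_option autoImplicit false

namespace Cfsg.Agent.Classical

open Module

universe u v

section Quad
variable (F K : Type*) [Field F] [Field K] [Algebra F K] [Finite K]

/-- Frobenius of a finite extension -/
noncomputable def frobA : K ≃ₐ[F] K :=
  haveI : Finite F := Finite.of_injective _ (algebraMap F K).injective
  letI := Fintype.ofFinite F
  FiniteField.frobeniusAlgEquivOfAlgebraic F K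

variable {F K}

theorem frobA_apply (x : K) : frobA F K x = x ^ Nat.card F := by
  have : Finite F := Finite.of_injective _ (algebraMap F K).injective
  letI := Fintype.ofFinite F
  rw [Nat.card_eq_fintype_card]; rfl

theorem orderOf_frobA : orderOf (frobA F K) = finrank F K := by
  have : Finite F := Finite.of_injective _ (algebraMap F K).injective
  letI := Fintype.ofFinite F
  exact FiniteField.orderOf_frobeniusAlgEquivOfAlgebraic F K

theorem frobA_frobA (h : finrank F K = 2) (x : K) : frobA F K (frobA F K x) = x := by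
  have := pow_orderOf_eq_one (frobA F K)
  rw [orderOf_frobA, h, sq] at this
  exact DFunLike.congr_fun this x

theorem frobA_ne_one (h : finrank F K = 2) : frobA F K ≠ 1 := by
  intro h1
  have := orderOf_frobA (F := F) (K := K)
  rw [h1, h] at this; simp at this

theorem norm_quad (h : finrank F K = 2) (x : K) :
    algebraMap F K (Algebra.norm F x) = x * frobA F K x := by
  have : Finite F := Finite.of_injective _ (algebraMap F K).injective
  rw [FiniteField.algebraMap_norm_eq_prod_pow, h, frobA_apply]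
  simp [Finset.prod_range_succ]

theorem trace_quad (h : finrank F K = 2) (x : K) :
    algebraMap F K (Algebra.trace F K x) = x + frobA F K x := by
  have : Finite F := Finite.of_injective _ (algebraMap F K).injective
  rw [FiniteField.algebraMap_trace_eq_sum_pow, h, frobA_apply]
  simp [Finset.sum_range_succ]

theorem li_one_of_not_mem {θ : K} (hθ : θ ∉ Set.range (algebraMap F K)) :
    LinearIndependent F ![1, θ] := by
  rw [LinearIndependent.pair_iff]
  intro s t hst
  have ht : t = 0 := by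
    by_contra ht
    apply hθ
    refine ⟨-s / t, ?_⟩
    have : algebraMap F K t ≠ 0 := by simpa
    rw [Algebra.smul_def, Algebra.smul_def] at hst
    rw [map_div₀, map_neg, div_eq_iff this]
    linear_combination -hst
  subst ht
  simpa using hst

theorem mem_range_of_frobA (h : finrank F K = 2) {θ : K} (hθ : frobA F K θ = θ) :
    θ ∈ Set.range (algebraMap F K) := by
  by_contra hc
  apply frobA_ne_one h
  let b := basisOfLinearIndependentOfCardEqFinrank (li_one_of_not_mem hc) (by simp [h])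
  have : (frobA F K).toLinearEquiv = LinearEquiv.refl F K := b.ext' fun i => by
    fin_cases i <;> simp [b, hθ]
  ext x
  exact DFunLike.congr_fun this x

theorem exists_root_quad (h : finrank F K = 2) (a b : F) (hab : ∀ x : F, x ^ 2 + a * x + b ≠ 0) :
    ∃ θ : K, θ ^ 2 + algebraMap F K a * θ + algebraMap F K b = 0 := by
  have : Finite F := Finite.of_injective _ (algebraMap F K).injective
  let p : Polynomial F := Polynomial.X ^ 2 + Polynomial.C a * Polynomial.X + Polynomial.C b
  have hd : p.natDegree = 2 := by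
    simp only [p]; compute_degree!
  have hm : p.Monic := by simp only [p]; monicity!
  have hirr : Irreducible p := by
    rw [hm.irreducible_iff_roots_eq_zero_of_degree_le_three (by omega) (by omega)]
    rw [Multiset.eq_zero_iff_forall_notMem]
    intro x hx
    rw [Polynomial.mem_roots hm.ne_zero] at hx
    apply hab x
    simpa [p] using hx
  have := Fact.mk hirr
  have hf : finrank F (AdjoinRoot p) = 2 := by
    rw [(AdjoinRoot.powerBasis hm.ne_zero).finrank, AdjoinRoot.powerBasis_dim, hd]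
  obtain ⟨φ⟩ := FiniteField.nonempty_algHom_of_finrank_dvd (F := F) (K := AdjoinRoot p) (L := K)
    (by rw [hf, h])
  refine ⟨φ (AdjoinRoot.root p), ?_⟩
  have h1 : Polynomial.aeval (AdjoinRoot.root p) p = 0 := by simp
  have h2 := congrArg φ h1
  rw [← Polynomial.aeval_algHom_apply, map_zero] at h2
  generalize φ (AdjoinRoot.root p) = θ at h2
  simpa [p] using h2

/-- the norm form of a quadratic extension -/
noncomputable def normForm (h : finrank F K = 2) : Form (Kind.orth F) K :=
  Form.ofQuadFun (Algebra.norm F)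
    (LinearMap.mk₂ F (fun x y => Algebra.trace F K (x * frobA F K y))
      (by intros; simp [add_mul]) (by intros; simp) (by intros; simp [mul_add]) (by intros; simp))
    (by
      intro u v
      apply (algebraMap F K).injective
      simp only [map_add, norm_quad h, LinearMap.mk₂_apply, trace_quad h, map_mul, frobA_frobA h]
      ring)
    (by
      intro c v
      apply (algebraMap F K).injective
      rw [norm_quad h, map_mul (algebraMap F K), map_mul (algebraMap F K), norm_quad h]
      simp only [map_mul, Algebra.smul_def, AlgEquiv.commutes]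
      ring)

theorem normForm_N (h : finrank F K = 2) (x : K) :
    algebraMap F K ((normForm h).N x) = x * frobA F K x := norm_quad h x

theorem normForm_B (h : finrank F K = 2) (x y : K) :
    algebraMap F K ((normForm h).B x y) = x * frobA F K y + frobA F K x * y := by
  have := trace_quad h (x * frobA F K y)
  rw [map_mul (frobA F K), frobA_frobA h] at this
  exact this

theorem normForm_aniso (h : finrank F K = 2) (x : K) (hx : (normForm h).N x = 0) : x = 0 := by
  have := normForm_N h x
  rw [hx, map_zero] at this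
  simpa using this.symm

theorem normForm_nondeg (h : finrank F K = 2) : (normForm h).Nondeg := by
  intro v hv
  by_contra h0
  apply frobA_ne_one h
  ext x
  have h1 := normForm_B h (x * v) v
  have h2 := normForm_B h v v
  rw [hv, map_zero, map_mul] at h1
  rw [hv, map_zero] at h2
  have h3 : v * frobA F K v ≠ 0 := by simp [h0]
  apply mul_left_cancel₀ h3
  simp only [AlgEquiv.one_apply]
  linear_combination x * h2 - h1

end Quad

section Orth
variable {F : Type*} [Field F] {V : Type*} [AddCommGroup V] [Module F V]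

theorem Form.orth_N_add (Φ : Form (Kind.orth F) V) (u v : V) :
    Φ.N (u + v) = Φ.N u + Φ.N v + Φ.B u v := Φ.N_add u v
theorem Form.orth_N_smul (Φ : Form (Kind.orth F) V) (c : F) (v : V) :
    Φ.N (c • v) = c ^ 2 * Φ.N v := by rw [Φ.N_smul, sq]; rfl
theorem Form.orth_B_smul (Φ : Form (Kind.orth F) V) (c : F) (u v : V) :
    Φ.B u (c • v) = c * Φ.B u v := Φ.B_smul_right u v c
theorem Form.orth_symm (Φ : Form (Kind.orth F) V) (u v : V) : Φ.B u v = Φ.B v u := by
  rw [Φ.symm]; simp
theorem Form.orth_B_self (Φ : Form (Kind.orth F) V) (v : V) : Φ.B v v = 2 * Φ.N v := Φ.B_self v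

theorem Form.orth_N_comb (Φ : Form (Kind.orth F) V) (x y : F) (v w : V) :
    Φ.N (x • v + y • w) = x ^ 2 * Φ.N v + x * y * Φ.B v w + y ^ 2 * Φ.N w := by
  rw [Φ.orth_N_add, Φ.orth_N_smul, Φ.orth_N_smul, Φ.B_smul_left, Φ.orth_B_smul]; ring

theorem exists_sq_add_sq [Finite F] (h2 : (2 : F) ≠ 0) {a b : F} (ha : a ≠ 0) (hb : b ≠ 0) (c : F) :
    ∃ x y : F, x ^ 2 * a + y ^ 2 * b = c := by
  have := Fintype.ofFinite F
  obtain ⟨x, y, h⟩ := FiniteField.exists_root_sum_quadratic
    (f := Polynomial.C a * Polynomial.X ^ 2) (g := Polynomial.C b * Polynomial.X ^ 2 - Polynomial.C c)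
    (by compute_degree!) (by compute_degree!)
    (FiniteField.odd_card_of_char_ne_two (fun h => h2 (by
      have := ringChar.spec F 2
      exact_mod_cast this.2 (by rw [h]))))
  refine ⟨x, y, ?_⟩
  simp at h
  linear_combination h

theorem exists_sq_of_two [Finite F] (h2 : (2 : F) = 0) (a : F) : ∃ x : F, x ^ 2 = a := by
  have : CharP F 2 := (CharP.charP_iff_prime_eq_zero Nat.prime_two).2 (by exact_mod_cast h2)
  obtain ⟨c, hc⟩ := FiniteField.isSquare_of_char_two (F := F) (ringChar.eq F 2) a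
  exact ⟨c, by rw [hc, sq]⟩

theorem exists_ker_notMem [FiniteDimensional F V] (φ : V →ₗ[F] F) (U : Submodule F V)
    (h : finrank F U + 2 ≤ finrank F V) : ∃ w, φ w = 0 ∧ w ∉ U := by
  by_contra hc
  push Not at hc
  have h1 : LinearMap.ker φ ≤ U := fun w hw => hc w hw
  have h2 := Submodule.finrank_mono h1
  have h3 := φ.finrank_range_add_finrank_ker
  have h4 := Submodule.finrank_le (LinearMap.range φ)
  simp at h4
  omega

/-- an anisotropic form in dimension at least two represents everything -/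
theorem orth_represents_aniso [Finite F] [FiniteDimensional F V] (Φ : Form (Kind.orth F) V)
    (hA : ∀ v, Φ.N v = 0 → v = 0) (h : 2 ≤ finrank F V) (c : F) : ∃ v, Φ.N v = c := by
  have : Nontrivial V := Module.nontrivial_of_finrank_pos (R := F) (by omega)
  obtain ⟨v, hv⟩ := exists_ne (0 : V)
  have hv' : Φ.N v ≠ 0 := fun h => hv (hA v h)
  by_cases h2 : (2 : F) = 0
  · obtain ⟨x, hx⟩ := exists_sq_of_two h2 (c / Φ.N v)
    exact ⟨x • v, by rw [Φ.orth_N_smul, hx, div_mul_cancel₀ _ hv']⟩
  · obtain ⟨w, hw, hw0⟩ := exists_ker_notMem (Φ.B.flip v) ⊥ (by simpa using h)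
    have hw' : Φ.N w ≠ 0 := fun h => hw0 (hA w h)
    obtain ⟨x, y, hxy⟩ := exists_sq_add_sq h2 hv' hw' c
    refine ⟨x • v + y • w, ?_⟩
    rw [Φ.orth_N_comb, Φ.orth_symm, show Φ.B w v = 0 from hw, ← hxy]; ring

theorem orth_exists_singular [Finite F] [FiniteDimensional F V] (Φ : Form (Kind.orth F) V)
    (h : 3 ≤ finrank F V) : ∃ v, v ≠ 0 ∧ Φ.N v = 0 := by
  by_contra hc
  push Not at hc
  have hA : ∀ v, Φ.N v = 0 → v = 0 := fun v hv => by by_contra h0; exact hc v h0 hv
  have : Nontrivial V := Module.nontrivial_of_finrank_pos (R := F) (by omega)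
  obtain ⟨v, hv⟩ := exists_ne (0 : V)
  by_cases h2 : (2 : F) = 0
  · obtain ⟨w, hw, hw0⟩ := exists_ker_notMem (Φ.B.flip v) (F ∙ v)
      (by rw [finrank_span_singleton hv]; omega)
    obtain ⟨x, hx⟩ := exists_sq_of_two h2 (- Φ.N w / Φ.N v)
    have := hA (x • v + (1 : F) • w) (by
      rw [Φ.orth_N_comb, Φ.orth_symm, show Φ.B w v = 0 from hw, hx, div_mul_cancel₀ _ (hc v hv)]; ring)
    apply hw0
    rw [Submodule.mem_span_singleton]
    exact ⟨-x, by rw [one_smul] at this; rw [neg_smul, neg_eq_iff_add_eq_zero, this]⟩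
  · let U := LinearMap.ker (Φ.B.flip v)
    have hU : 2 ≤ finrank F U := by
      have h3 := (Φ.B.flip v).finrank_range_add_finrank_ker
      have h4 := Submodule.finrank_le (LinearMap.range (Φ.B.flip v))
      simp at h4
      simp only [U]
      omega
    obtain ⟨w, hw⟩ := orth_represents_aniso (Φ.restrict U) (fun x hx => Subtype.ext (hA x hx)) hU (- Φ.N v)
    have hw' : Φ.B w v = 0 := w.2
    have h0 := hA (w + v) (by rw [Φ.N_add_of_orth hw']; simp at hw; simp [hw])
    have := congrArg (fun x => Φ.B x v) h0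
    simp only [map_add, LinearMap.add_apply, hw', Φ.orth_B_self] at this
    simp [h2, hc v hv] at this

theorem orth_exists_hyp [Finite F] [FiniteDimensional F V] {Φ : Form (Kind.orth F) V} (hΦ : Φ.Nondeg)
    (h : 3 ≤ finrank F V) : ∃ e f, Φ.IsHyp e f := by
  obtain ⟨e, he, he'⟩ := orth_exists_singular Φ h
  obtain ⟨f, hf⟩ := hΦ.exists_hyp he he'
  exact ⟨e, f, hf⟩

theorem Form.IsHyp.orth_N {Φ : Form (Kind.orth F) V} {e f : V} (h : Φ.IsHyp e f) (a b : F) :
    Φ.N (a • e + b • f) = a * b := by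
  rw [Φ.orth_N_comb, h.he, h.hf, h.hef]; ring

theorem hyp_or_aniso [FiniteDimensional F V] {K : Kind F} {Φ : Form K V} (hΦ : Φ.Nondeg) :
    (∃ e f, Φ.IsHyp e f) ∨ ∀ v, Φ.N v = 0 → v = 0 := by
  by_cases h : ∃ v, v ≠ 0 ∧ Φ.N v = 0
  · obtain ⟨e, he, he'⟩ := h
    obtain ⟨f, hf⟩ := hΦ.exists_hyp he he'
    exact Or.inl ⟨e, f, hf⟩
  · push Not at h
    exact Or.inr fun v hv => by by_contra h0; exact h v h0 hv

theorem orth_represents [Finite F] [FiniteDimensional F V] {Φ : Form (Kind.orth F) V} (hΦ : Φ.Nondeg)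
    (h : 2 ≤ finrank F V) (c : F) : ∃ v, Φ.N v = c := by
  rcases hyp_or_aniso hΦ with ⟨e, f, hef⟩ | hA
  · exact ⟨c • e + (1 : F) • f, by rw [hef.orth_N, mul_one]⟩
  · exact orth_represents_aniso Φ hA h c

theorem aniso_iso_normForm {K : Type*} [Field K] [Algebra F K] [Finite K] (hK : finrank F K = 2)
    [FiniteDimensional F V] (Φ : Form (Kind.orth F) V)
    (hA : ∀ v, Φ.N v = 0 → v = 0) (h : finrank F V = 2) : Φ.Iso (normForm hK) := by
  have : Finite F := Finite.of_injective _ (algebraMap F K).injective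
  obtain ⟨v, hv⟩ := orth_represents_aniso Φ hA h.ge 1
  have hv0 : v ≠ 0 := by rintro rfl; simp at hv
  obtain ⟨w, hw⟩ := exists_linearIndependent_pair_of_one_lt_finrank (by omega : 1 < finrank F V) hv0
  have hab : ∀ x : F, x ^ 2 + Φ.B v w * x + Φ.N w ≠ 0 := by
    intro x hx
    have := hA (x • v + (1 : F) • w) (by rw [Φ.orth_N_comb, hv]; linear_combination hx)
    exact one_ne_zero (LinearIndependent.pair_iff.1 hw _ _ this).2
  obtain ⟨θ, hθ⟩ := exists_root_quad hK _ _ hab
  have hθF : -θ ∉ Set.range (algebraMap F K) := by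
    rintro ⟨x, hx⟩
    apply hab (-x)
    apply (algebraMap F K).injective
    simp only [map_add, map_pow, map_mul, map_neg, hx, neg_neg, hθ, map_zero]
  have hne : frobA F K θ - θ ≠ 0 := fun h0 => hθF (mem_range_of_frobA hK (by
    rw [map_neg, sub_eq_zero.1 h0]))
  have hθ' := congrArg (frobA F K) hθ
  simp only [map_add, map_pow, map_mul, AlgEquiv.commutes, map_zero] at hθ'
  have hs : θ + frobA F K θ = - algebraMap F K (Φ.B v w) := by
    apply mul_left_cancel₀ hne; linear_combination hθ' - hθ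
  have hN : ∀ i, (normForm hK).N (![1, -θ] i) = Φ.N (![v, w] i) := by
    intro i
    apply (algebraMap F K).injective
    rw [normForm_N]
    fin_cases i
    · simp [hv]
    · simp only [Fin.mk_one, Matrix.cons_val_one, Matrix.cons_val_zero, map_neg]
      linear_combination θ * hs - hθ
  have hB : (normForm hK).B 1 (-θ) = Φ.B v w := by
    apply (algebraMap F K).injective
    rw [normForm_B]; simp only [map_neg, map_one]; linear_combination -hs
  refine Form.iso_of_basis (basisOfLinearIndependentOfCardEqFinrank hw (by simp [h]))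
    (basisOfLinearIndependentOfCardEqFinrank (li_one_of_not_mem hθF) (by simp [hK])) ?_ ?_
  · intro i j
    simp only [coe_basisOfLinearIndependentOfCardEqFinrank]
    fin_cases i <;> fin_cases j
    · exact ((normForm hK).orth_B_self _).trans ((congrArg (2 * ·) (hN 0)).trans (Φ.orth_B_self _).symm)
    · exact hB
    · exact ((normForm hK).orth_symm _ _).trans (hB.trans (Φ.orth_symm _ _))
    · exact ((normForm hK).orth_B_self _).trans ((congrArg (2 * ·) (hN 1)).trans (Φ.orth_B_self _).symm)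
  · intro i
    simp only [coe_basisOfLinearIndependentOfCardEqFinrank]
    exact hN i

theorem exists_quad_ext (F : Type*) [Field F] [Finite F] :
    ∃ (K : Type) (_ : Field K) (_ : Algebra F K) (_ : Finite K), finrank F K = 2 := by
  obtain ⟨p, hp⟩ := CharP.exists F
  have := Fact.mk (CharP.char_is_prime F p)
  exact ⟨FiniteField.Extension F p 2, inferInstance, inferInstance, inferInstance,
    FiniteField.finrank_extension F p 2⟩

theorem aniso_iso [Finite F] {W : Type*} [AddCommGroup W] [Module F W] [FiniteDimensional F V]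
    [FiniteDimensional F W] (Φ : Form (Kind.orth F) V) (Ψ : Form (Kind.orth F) W)
    (hA : ∀ v, Φ.N v = 0 → v = 0) (h : finrank F V = 2)
    (hA' : ∀ v, Ψ.N v = 0 → v = 0) (h' : finrank F W = 2) : Φ.Iso Ψ := by
  obtain ⟨K, _, _, _, hK⟩ := exists_quad_ext F
  exact (aniso_iso_normForm hK Φ hA h).trans (aniso_iso_normForm hK Ψ hA' h').symm

theorem card_orth_ker : Nat.card (Kind.orth F).T.ker = 1 := by
  have : (Kind.orth F).T.ker = ⊥ := by ext; simp
  rw [this]; simp

/-- type of an even dimensional quadratic space, read off from the number of singular vectors -/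
def Form.IsType (Φ : Form (Kind.orth F) V) (m : ℕ) (η : ℤ) : Prop :=
  finrank F V = 2 * m ∧ (Nat.card F : ℤ) * Φ.cnt 0 =
    (Nat.card F : ℤ) ^ (2 * m) + η * ((Nat.card F : ℤ) ^ (m + 1) - (Nat.card F : ℤ) ^ m)

theorem Form.IsHyp.isType_iff [Finite F] [FiniteDimensional F V] {Φ : Form (Kind.orth F) V} {e f : V}
    (h : Φ.IsHyp e f) (m : ℕ) (η : ℤ) :
    Φ.IsType (m + 1) η ↔ (Φ.restrict (Φ.hperp e f)).IsType m η := by
  have h1 := h.finrank_hperp
  have := Module.finite_of_finite F (M := V)
  have hq : 1 ≤ Nat.card F := Nat.card_pos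
  have hq0 : (Nat.card F : ℤ) ≠ 0 := by positivity
  refine and_congr_left_iff.2 (fun _ => by omega) |>.trans (and_congr_right fun hm => ?_)
  rw [h.cnt_eq ⟨0, map_zero _⟩, card_orth_ker,
    Module.natCard_eq_pow_finrank (K := F) (V := Φ.hperp e f), hm]
  push_cast [Nat.cast_sub hq]
  constructor
  · intro h2; apply mul_left_cancel₀ hq0; linear_combination h2
  · intro h2; linear_combination (Nat.card F : ℤ) * h2

theorem isType_zero (Φ : Form (Kind.orth F) V) [FiniteDimensional F V] (h : finrank F V = 0) :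
    Φ.IsType 0 1 := by
  have := Module.finrank_zero_iff.1 h
  refine ⟨h, ?_⟩
  rw [Φ.cnt_zero_of_aniso fun v _ => Subsingleton.elim _ _]; simp

theorem isType_aniso (Φ : Form (Kind.orth F) V) (hA : ∀ v, Φ.N v = 0 → v = 0) (h : finrank F V = 2) :
    Φ.IsType 1 (-1) := by
  refine ⟨h, ?_⟩
  rw [Φ.cnt_zero_of_aniso hA]; simp

theorem Form.IsType.unique [Finite F] {Φ : Form (Kind.orth F) V} {m : ℕ} {η η' : ℤ}
    (h : Φ.IsType m η) (h' : Φ.IsType m η') : η = η' := by
  have hq : 1 < Nat.card F := Finite.one_lt_card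
  have : (Nat.card F : ℤ) ^ (m + 1) - (Nat.card F : ℤ) ^ m ≠ 0 := by
    rw [sub_ne_zero]
    exact (pow_lt_pow_right₀ (by exact_mod_cast hq) (by omega)).ne'
  apply mul_right_cancel₀ this
  linear_combination h'.2 - h.2

theorem Form.Iso.isType {W : Type*} [AddCommGroup W] [Module F W] {Φ : Form (Kind.orth F) V}
    {Ψ : Form (Kind.orth F) W} (h : Φ.Iso Ψ) {m : ℕ} {η : ℤ} (ht : Φ.IsType m η) : Ψ.IsType m η := by
  refine ⟨?_, by rw [← h.cnt_eq]; exact ht.2⟩
  obtain ⟨e, -⟩ := h
  rw [← e.finrank_eq, ht.1]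

theorem aniso_finrank_le [Finite F] [FiniteDimensional F V] {Φ : Form (Kind.orth F) V}
    (hA : ∀ v, Φ.N v = 0 → v = 0) : finrank F V ≤ 2 := by
  by_contra h
  obtain ⟨v, hv, hv'⟩ := orth_exists_singular Φ (by omega)
  exact hv (hA v hv')

theorem exists_isType [Finite F] (m : ℕ) : ∀ {V : Type u} [AddCommGroup V] [Module F V]
    [FiniteDimensional F V] (Φ : Form (Kind.orth F) V), Φ.Nondeg → finrank F V = 2 * m →
    Φ.IsType m 1 ∨ Φ.IsType m (-1) := by
  induction m with
  | zero => intro V _ _ _ Φ _ h; exact Or.inl (isType_zero Φ h)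
  | succ m ih =>
    intro V _ _ _ Φ hΦ h
    rcases hyp_or_aniso hΦ with ⟨e, f, hef⟩ | hA
    · rw [hef.isType_iff, hef.isType_iff]
      have := hef.finrank_hperp
      exact ih _ (hef.nondeg_hperp hΦ) (by omega)
    · have := aniso_finrank_le hA
      obtain rfl : m = 0 := by omega
      exact Or.inr (isType_aniso Φ hA h)

theorem Form.IsType.exists_hyp [Finite F] [FiniteDimensional F V] {Φ : Form (Kind.orth F) V}
    (hΦ : Φ.Nondeg) {m : ℕ} {η : ℤ} (h : Φ.IsType (m + 1) η) (hm : m = 0 → η ≠ -1) :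
    ∃ e f, Φ.IsHyp e f := by
  rcases hyp_or_aniso hΦ with h1 | hA
  · exact h1
  · have := aniso_finrank_le hA
    have h2 := h.1
    obtain rfl : m = 0 := by omega
    exact absurd (h.unique (isType_aniso Φ hA h2)) (hm rfl)

theorem Form.IsType.aniso [Finite F] [FiniteDimensional F V] {Φ : Form (Kind.orth F) V}
    (hΦ : Φ.Nondeg) (h : Φ.IsType 1 (-1)) : ∀ v, Φ.N v = 0 → v = 0 := by
  rcases hyp_or_aniso hΦ with ⟨e, f, hef⟩ | hA
  · have h1 := (hef.isType_iff 0 _).1 h
    have := h1.unique (isType_zero _ h1.1)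
    omega
  · exact hA

theorem orth_iso_even [Finite F] (η : ℤ) (m : ℕ) :
    ∀ {V : Type u} [AddCommGroup V] [Module F V] [FiniteDimensional F V]
    {W : Type v} [AddCommGroup W] [Module F W] [FiniteDimensional F W]
    (Φ : Form (Kind.orth F) V) (Ψ : Form (Kind.orth F) W), Φ.Nondeg → Ψ.Nondeg →
    Φ.IsType m η → Ψ.IsType m η → Φ.Iso Ψ := by
  induction m with
  | zero =>
    intro V _ _ _ W _ _ _ Φ Ψ hΦ hΨ hV hW
    have := Module.finrank_zero_iff.1 hV.1
    have := Module.finrank_zero_iff.1 hW.1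
    exact Form.iso_of_subsingleton _ _
  | succ m ih =>
    intro V _ _ _ W _ _ _ Φ Ψ hΦ hΨ hV hW
    by_cases hm : m = 0 → η ≠ -1
    · obtain ⟨e, f, h⟩ := hV.exists_hyp hΦ hm
      obtain ⟨e', f', h'⟩ := hW.exists_hyp hΨ hm
      exact h.iso h' (ih _ _ (h.nondeg_hperp hΦ) (h'.nondeg_hperp hΨ) ((h.isType_iff _ _).1 hV)
        ((h'.isType_iff _ _).1 hW))
    · push Not at hm
      obtain ⟨rfl, rfl⟩ := hm
      exact aniso_iso _ _ (hV.aniso hΦ) hV.1 (hW.aniso hΨ) hW.1

/-- rescaling a quadratic form -/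
def Form.scale (Φ : Form (Kind.orth F) V) (c : F) : Form (Kind.orth F) V :=
  Form.ofQuadFun (fun v => c * Φ.N v)
    (LinearMap.mk₂ F (fun u v => c * Φ.B u v) (by intros; simp [mul_add]) (by intros; simp; ring)
      (by intros; simp [mul_add]) (by intros; simp; ring))
    (by intros; simp [Φ.orth_N_add, mul_add]) (by intros; simp [Φ.orth_N_smul]; ring)

@[simp] theorem Form.scale_N (Φ : Form (Kind.orth F) V) (c : F) (v : V) : (Φ.scale c).N v = c * Φ.N v := rfl
@[simp] theorem Form.scale_B (Φ : Form (Kind.orth F) V) (c : F) (u v : V) :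
    (Φ.scale c).B u v = c * Φ.B u v := rfl

theorem Form.Nondeg.scale {Φ : Form (Kind.orth F) V} (h : Φ.Nondeg) {c : F} (hc : c ≠ 0) :
    (Φ.scale c).Nondeg := fun v hv => h v fun u => by simpa [hc] using hv u

theorem Form.Isom_scale (Φ : Form (Kind.orth F) V) {c : F} (hc : c ≠ 0) : (Φ.scale c).Isom = Φ.Isom := by
  ext g; simp [Form.mem_Isom_orth, hc]

theorem Form.cnt_scale (Φ : Form (Kind.orth F) V) {c : F} (hc : c ≠ 0) : (Φ.scale c).cnt 0 = Φ.cnt 0 :=
  Nat.card_congr (Equiv.subtypeEquivRight fun v => by simp [hc])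

theorem orth_N_ne_of_finrank_one {Φ : Form (Kind.orth F) V} (hΦ : Φ.Nondeg) (h : finrank F V = 1)
    {v : V} (hv : v ≠ 0) : 2 * Φ.N v ≠ 0 := by
  intro h0
  apply hv
  apply hΦ
  intro u
  obtain ⟨c, rfl⟩ := (finrank_eq_one_iff_of_nonzero' v hv).1 h u
  rw [Φ.B_smul_left, Φ.orth_B_self, h0, mul_zero]

theorem orth_iso_odd [Finite F] (m : ℕ) :
    ∀ {V : Type u} [AddCommGroup V] [Module F V] [FiniteDimensional F V]
    {W : Type v} [AddCommGroup W] [Module F W] [FiniteDimensional F W]
    (Φ : Form (Kind.orth F) V) (Ψ : Form (Kind.orth F) W), Φ.Nondeg → Ψ.Nondeg →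
    finrank F V = 2 * m + 1 → finrank F W = 2 * m + 1 → ∃ c, c ≠ 0 ∧ (Φ.scale c).Iso Ψ := by
  induction m with
  | zero =>
    intro V _ _ _ W _ _ _ Φ Ψ hΦ hΨ hV hW
    have : Nontrivial V := Module.nontrivial_of_finrank_pos (R := F) (by omega)
    have : Nontrivial W := Module.nontrivial_of_finrank_pos (R := F) (by omega)
    obtain ⟨v, hv⟩ := exists_ne (0 : V)
    obtain ⟨w, hw⟩ := exists_ne (0 : W)
    have h1 := right_ne_zero_of_mul (orth_N_ne_of_finrank_one hΦ hV hv)
    have h2 := right_ne_zero_of_mul (orth_N_ne_of_finrank_one hΨ hW hw)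
    exact ⟨Ψ.N w / Φ.N v, div_ne_zero h2 h1, Form.iso_of_finrank_one hV hW hv hw (by simp [h1])⟩
  | succ m ih =>
    intro V _ _ _ W _ _ _ Φ Ψ hΦ hΨ hV hW
    obtain ⟨e, f, h⟩ := orth_exists_hyp hΦ (by omega)
    obtain ⟨e', f', h'⟩ := orth_exists_hyp hΨ (by omega)
    have h1 := h.finrank_hperp
    have h2 := h'.finrank_hperp
    obtain ⟨c, hc, hi⟩ := ih _ _ (h.nondeg_hperp hΦ) (h'.nondeg_hperp hΨ) (by omega) (by omega)
    have h3 : (Φ.scale c).IsHyp e (c⁻¹ • f) :=
      ⟨by simp [h.he], by simp [Φ.orth_N_smul, h.hf], by simp [h.hef, hc]⟩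
    refine ⟨c, hc, h3.iso h' (Form.Iso.trans ?_ hi)⟩
    have : (Φ.scale c).hperp e (c⁻¹ • f) = Φ.hperp e f := by
      ext x; simp [Form.mem_hperp, hc]
    exact ⟨LinearEquiv.ofEq _ _ this, fun _ _ => rfl, fun _ => rfl⟩

theorem two_ne_of_odd [FiniteDimensional F V] {Φ : Form (Kind.orth F) V} (hΦ : Φ.Nondeg)
    (h : Odd (finrank F V)) : (2 : F) ≠ 0 := by
  intro h2
  have hA : LinearMap.IsAlt (show LinearMap.BilinForm F V from Φ.B) := fun v => by
    show Φ.B v v = 0
    rw [Φ.orth_B_self, h2, zero_mul]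
  have := symp_even _ (Form.ofAlt _ hA) hΦ rfl
  exact (Nat.not_even_iff_odd.2 h) this

theorem orth_cnt_odd [Finite F] (m : ℕ) : ∀ {V : Type u} [AddCommGroup V] [Module F V]
    [FiniteDimensional F V] (Φ : Form (Kind.orth F) V), Φ.Nondeg → finrank F V = 2 * m + 1 →
    Φ.cnt 0 = Nat.card F ^ (2 * m) := by
  induction m with
  | zero =>
    intro V _ _ _ Φ hΦ h
    rw [Φ.cnt_zero_of_aniso]; · simp
    intro v hv
    by_contra h0
    exact orth_N_ne_of_finrank_one hΦ h h0 (by simp [hv])
  | succ m ih =>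
    intro V _ _ _ Φ hΦ hV
    obtain ⟨e, f, h⟩ := orth_exists_hyp hΦ (by omega)
    have h1 := h.finrank_hperp
    have := Module.finite_of_finite F (M := V)
    have hq : 1 ≤ Nat.card F := Nat.card_pos
    rw [h.cnt_eq ⟨0, map_zero _⟩, card_orth_ker, ih _ (h.nondeg_hperp hΦ) (by omega),
      Module.natCard_eq_pow_finrank (K := F) (V := Φ.hperp e f),
      show finrank F (Φ.hperp e f) = 2 * m + 1 by omega]
    zify [hq]; ring

theorem neg_mem_Isom {K : Kind F} (Φ : Form K V) : LinearEquiv.neg F ∈ Φ.Isom :=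
  ⟨fun u v => by simp, fun v => by simp⟩

theorem orth_card_one {Φ : Form (Kind.orth F) V} (hΦ : Φ.Nondeg) (h : finrank F V = 1) :
    Nat.card Φ.Isom = 2 := by
  have : Nontrivial V := Module.nontrivial_of_finrank_pos (R := F) (by omega)
  obtain ⟨v, hv⟩ := exists_ne (0 : V)
  have h1 := orth_N_ne_of_finrank_one hΦ h hv
  rw [Nat.card_eq_two_iff' (1 : Φ.Isom)]
  refine ⟨⟨LinearEquiv.neg F, neg_mem_Isom Φ⟩, fun h0 => ?_, fun g hg => ?_⟩
  · have : -v = v := congrArg (fun g : Φ.Isom => g.1 v) h0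
    have h2 : (2 : F) • v = 0 := by rw [two_smul]; nth_rewrite 1 [← this]; simp
    rcases smul_eq_zero.1 h2 with h3 | h3
    · simp [h3] at h1
    · exact hv h3
  · obtain ⟨c, hc⟩ := (finrank_eq_one_iff_of_nonzero' v hv).1 h (g.1 v)
    have h2 := g.2.2 v
    rw [← hc, Φ.orth_N_smul] at h2
    have h3 : (c - 1) * (c + 1) = 0 := by
      apply mul_right_cancel₀ (right_ne_zero_of_mul h1); linear_combination h2
    have key : ∀ x, g.1 x = c • x := by
      intro x
      obtain ⟨d, rfl⟩ := (finrank_eq_one_iff_of_nonzero' v hv).1 h x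
      rw [map_smul, ← hc, smul_comm]
    rcases mul_eq_zero.1 h3 with h4 | h4
    · exact absurd (Subtype.ext (LinearEquiv.ext fun x => by rw [key, sub_eq_zero.1 h4]; simp)) hg
    · exact Subtype.ext (LinearEquiv.ext fun x => by rw [key, eq_neg_of_add_eq_zero_left h4]; simp)

theorem card_orth_odd [Finite F] (m : ℕ) : ∀ {V : Type u} [AddCommGroup V] [Module F V]
    [FiniteDimensional F V] (Φ : Form (Kind.orth F) V), Φ.Nondeg → finrank F V = 2 * m + 1 →
    Nat.card Φ.Isom =
      2 * Nat.card F ^ (m ^ 2) * ∏ i ∈ Finset.range m, (Nat.card F ^ (2 * (i + 1)) - 1) := by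
  induction m with
  | zero => intro V _ _ _ Φ hΦ h; simp [orth_card_one hΦ h]
  | succ m ih =>
    intro V _ _ _ Φ hΦ hV
    obtain ⟨e, f, h⟩ := orth_exists_hyp hΦ (by omega)
    have h1 := h.finrank_hperp
    have := Module.finite_of_finite F (M := V)
    rw [h.card_Isom hΦ, ih _ (h.nondeg_hperp hΦ) (by omega), card_orth_ker, orth_cnt_odd _ Φ hΦ hV,
      Module.natCard_eq_pow_finrank (K := F) (V := Φ.hperp e f),
      show finrank F (Φ.hperp e f) = 2 * m + 1 by omega, Finset.prod_range_succ]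
    ring

end Orth

end Cfsg.Agent.Classical
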