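import Cfsg.Agent.Lib.Classical.Orth
import Cfsg.Agent.Lib.Classical.GroupRec

/-! Orthogonal groups of planes, orders in even dimension, types, totally singular subspaces. -/

set_option autoImplicit false

namespace Cfsg.Agent.Classical

open Module

universe u v

section Quad
variable {F K : Type*} [Field F] [Field K] [Algebra F K] [Finite K]

theorem card_of_finrank_two (h : finrank F K = 2) : Nat.card K = Nat.card F ^ 2 := by
  have : FiniteDimensional F K := Module.finite_of_finrank_pos (by omega)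
  rw [Module.natCard_eq_pow_finrank (K := F), h]

theorem exists_orderOf_norm_one (h : finrank F K = 2) :
    ∃ ζ : Kˣ, orderOf ζ = Nat.card F + 1 ∧
      ∀ u : Kˣ, u ∈ Subgroup.zpowers ζ ↔ (u : K) * frobA F K u = 1 := by
  have : Finite F := Finite.of_injective _ (algebraMap F K).injective
  have hq : 1 < Nat.card F := Finite.one_lt_card
  have h1 := IsCyclic.card_powMonoidHom_ker (G := Kˣ) (Nat.card F + 1)
  rw [Nat.card_units, card_of_finrank_two h, Nat.gcd_eq_right
    ⟨Nat.card F - 1, by simpa using Nat.sq_sub_sq (Nat.card F) 1⟩] at h1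
  obtain ⟨ζ, hζ⟩ := IsCyclic.exists_generator (α := (powMonoidHom (Nat.card F + 1) : Kˣ →* Kˣ).ker)
  have h2 : orderOf (ζ : Kˣ) = Nat.card F + 1 := by
    rw [Subgroup.orderOf_coe, orderOf_eq_card_of_forall_mem_zpowers hζ, h1]
  have h3 : Subgroup.zpowers (ζ : Kˣ) = (powMonoidHom (Nat.card F + 1) : Kˣ →* Kˣ).ker :=
    Subgroup.eq_of_le_of_card_ge (by simpa using ζ.2) (by rw [h1, Nat.card_zpowers, h2])
  refine ⟨ζ, h2, fun u => ?_⟩
  rw [h3, MonoidHom.mem_ker, frobA_apply, ← pow_succ', Units.ext_iff]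
  simp

/-- multiplication by a unit as an `F`-linear automorphism -/
noncomputable def mulLin (F : Type*) {K : Type*} [Field F] [Field K] [Algebra F K] :
    Kˣ →* (K ≃ₗ[F] K) := DistribMulAction.toModuleAut F K

omit [Finite K] in
@[simp] theorem mulLin_apply (u : Kˣ) (x : K) : mulLin F u x = u * x := rfl

omit [Finite K] in
theorem mulLin_injective : Function.Injective (mulLin F (K := K)) := fun a b h => by
  have := DFunLike.congr_fun h 1
  ext; simpa using this

theorem mem_Isom_normForm (h : finrank F K = 2) {g : K ≃ₗ[F] K} :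
    g ∈ (normForm h).Isom ↔ ∀ x, g x * frobA F K (g x) = x * frobA F K x := by
  rw [Form.mem_Isom_orth]
  refine forall_congr' fun x => ?_
  rw [← normForm_N h, ← normForm_N h, (algebraMap F K).injective.eq_iff]

theorem mulLin_mem (h : finrank F K = 2) {u : Kˣ} (hu : (u : K) * frobA F K u = 1) :
    mulLin F u ∈ (normForm h).Isom := by
  rw [mem_Isom_normForm]
  intro x
  simp only [mulLin_apply, map_mul]
  linear_combination (x * frobA F K x) * hu

theorem frobA_mem (h : finrank F K = 2) : (frobA F K).toLinearEquiv ∈ (normForm h).Isom := by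
  rw [mem_Isom_normForm]
  intro x
  simp [frobA_frobA h, mul_comm]

theorem normForm_isom_cases (h : finrank F K = 2) {g : K ≃ₗ[F] K} (hg : g ∈ (normForm h).Isom) :
    ∃ u : Kˣ, (u : K) * frobA F K u = 1 ∧ ((∀ x, g x = u * x) ∨ ∀ x, g x = u * frobA F K x) := by
  have h1 := (mem_Isom_normForm h).1 hg
  have hu : g 1 * frobA F K (g 1) = 1 := by simpa using h1 1
  have hu0 : g 1 ≠ 0 := left_ne_zero_of_mul_eq_one hu
  refine ⟨Units.mk0 _ hu0, hu, ?_⟩
  obtain ⟨θ, hθ⟩ : ∃ θ, frobA F K θ ≠ θ := by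
    by_contra hc; push Not at hc; exact frobA_ne_one h (AlgEquiv.ext hc)
  have hθF : θ ∉ Set.range (algebraMap F K) := by
    rintro ⟨x, rfl⟩; simp at hθ
  let b := basisOfLinearIndependentOfCardEqFinrank (li_one_of_not_mem hθF) (by simp [h])
  have h2 := h1 θ
  have h3 := congrArg (algebraMap F K) (hg.1 1 θ)
  rw [normForm_B, normForm_B] at h3
  simp only [map_one, one_mul] at h3
  have h4 : (g θ - g 1 * θ) * (g θ - g 1 * frobA F K θ) = 0 := by
    linear_combination (g 1 * g θ) * h3 - g 1 ^ 2 * h2 - (g θ) ^ 2 * hu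
  rcases mul_eq_zero.1 h4 with h5 | h5
  · left
    have : g = mulLin F (Units.mk0 _ hu0) := b.ext' fun i => by
      fin_cases i
      · simp [b]
      · simpa [b, sub_eq_zero] using h5
    intro x; conv_lhs => rw [this]
    rfl
  · right
    have : g = mulLin F (Units.mk0 _ hu0) * (frobA F K).toLinearEquiv := b.ext' fun i => by
      fin_cases i
      · simp [b]
      · simpa [b, sub_eq_zero] using h5
    intro x; conv_lhs => rw [this]
    rfl

theorem normForm_dihedral (h : finrank F K = 2) :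
    Nonempty ((normForm h).Isom ≃* DihedralGroup (Nat.card F + 1)) := by
  obtain ⟨ζ, h1, h2⟩ := exists_orderOf_norm_one h
  have hz : ∀ g, g ∈ Subgroup.zpowers (mulLin F ζ) ↔
      ∃ u : Kˣ, (u : K) * frobA F K u = 1 ∧ ∀ x, g x = u * x := by
    intro g
    rw [← MonoidHom.map_zpowers, Subgroup.mem_map]
    simp only [h2]
    refine exists_congr fun u => and_congr_right fun _ => ⟨?_, fun h => ?_⟩
    · rintro rfl x; rfl
    · ext x; rw [h]; rfl
  have hs : (frobA F K).toLinearEquiv * (frobA F K).toLinearEquiv = 1 := by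
    ext x; exact frobA_frobA h x
  refine nonempty_dihedral _ (mulLin F ζ) (frobA F K).toLinearEquiv
    (by rw [orderOf_injective _ mulLin_injective, h1]) hs ?_ ?_ ?_
  · ext x
    have := (h2 ζ).1 (Subgroup.mem_zpowers ζ)
    rw [← map_inv]
    simp only [LinearEquiv.mul_apply, mulLin_apply, AlgEquiv.toLinearEquiv_apply, map_mul,
      Units.val_inv_eq_inv_val, map_inv₀]
    rw [← eq_inv_of_mul_eq_one_left this]
  · rw [hz]
    rintro ⟨u, -, hu⟩
    apply frobA_ne_one h
    ext x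
    have h3 := hu 1
    have h4 := hu x
    simp only [AlgEquiv.toLinearEquiv_apply, map_one, mul_one] at h3 h4
    simp [h4, ← h3]
  · intro g
    rw [inv_eq_of_mul_eq_one_right hs, hz, hz]
    constructor
    · intro hg
      obtain ⟨u, hu, h3 | h3⟩ := normForm_isom_cases h hg
      · exact Or.inl ⟨u, hu, h3⟩
      · refine Or.inr ⟨Units.map (frobA F K) u, by simpa [frobA_frobA h, mul_comm] using hu, fun x => ?_⟩
        simp [h3, frobA_frobA h]
    · rintro (⟨u, hu, h3⟩ | ⟨u, hu, h3⟩)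
      · have : g = mulLin F u := by ext x; rw [h3]; rfl
        exact this ▸ mulLin_mem h hu
      · have : (frobA F K).toLinearEquiv * g = mulLin F u := by ext x; rw [h3]; rfl
        have h4 := mul_mem (frobA_mem h) (this ▸ mulLin_mem h hu)
        rwa [← mul_assoc, hs, one_mul] at h4

end Quad

section Orth
variable {F : Type*} [Field F] {V : Type*} [AddCommGroup V] [Module F V]

theorem aniso_dihedral [Finite F] [FiniteDimensional F V] (Φ : Form (Kind.orth F) V)
    (hA : ∀ v, Φ.N v = 0 → v = 0) (h : finrank F V = 2) :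
    Nonempty (Φ.Isom ≃* DihedralGroup (Nat.card F + 1)) := by
  obtain ⟨K, _, _, _, hK⟩ := exists_quad_ext F
  obtain ⟨e⟩ := (aniso_iso_normForm hK Φ hA h).nonempty_equiv
  obtain ⟨e'⟩ := normForm_dihedral hK
  exact ⟨e.trans e'⟩

theorem Form.IsType.cnt_sub_one [Finite F] {Φ : Form (Kind.orth F) V} {m : ℕ} {η : ℤ}
    (h : Φ.IsType (m + 1) η) (hη : η = 1 ∨ η = -1) :
    (Φ.cnt 0 : ℤ) - 1 = ((Nat.card F : ℤ) ^ (m + 1) - η) * ((Nat.card F : ℤ) ^ m + η) := by
  have hq : 1 ≤ Nat.card F := Nat.card_pos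
  have hq0 : (Nat.card F : ℤ) ≠ 0 := by positivity
  apply mul_left_cancel₀ hq0
  rw [mul_sub, h.2]
  rcases hη with rfl | rfl <;> ring

theorem Form.one_le_cnt [Finite V] {K : Kind F} (Φ : Form K V) : 1 ≤ Φ.cnt 0 := by
  have : Nonempty {v : V // Φ.N v = 0} := ⟨⟨0, by simp⟩⟩
  exact Nat.card_pos

theorem card_orth_even [Finite F] {η : ℤ} (hη : η = 1 ∨ η = -1) (m : ℕ) :
    ∀ {V : Type u} [AddCommGroup V] [Module F V]
    [FiniteDimensional F V] (Φ : Form (Kind.orth F) V), Φ.Nondeg → Φ.IsType (m + 1) η →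
    (Nat.card Φ.Isom : ℤ) = 2 * (Nat.card F : ℤ) ^ ((m + 1) * m) * ((Nat.card F : ℤ) ^ (m + 1) - η) *
      ∏ i ∈ Finset.range m, ((Nat.card F : ℤ) ^ (2 * (i + 1)) - 1) := by
  induction m with
  | zero =>
    intro V _ _ _ Φ hΦ ht
    have := Module.finite_of_finite F (M := V)
    rcases hη with rfl | rfl
    · obtain ⟨e, f, h⟩ := ht.exists_hyp hΦ (by simp)
      have h1 := h.finrank_hperp
      have h2 := ht.1
      have := Module.finrank_zero_iff.1 (show finrank F (Φ.hperp e f) = 0 by omega)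
      rw [h.card_Isom hΦ, Form.card_Isom_of_subsingleton, card_orth_ker]
      push_cast [Nat.cast_sub Φ.one_le_cnt]
      rw [ht.cnt_sub_one (by simp)]
      simp; ring
    · obtain ⟨e⟩ := aniso_dihedral Φ (ht.aniso hΦ) ht.1
      rw [Nat.card_congr e.toEquiv, DihedralGroup.nat_card]
      simp
  | succ m ih =>
    intro V _ _ _ Φ hΦ ht
    have := Module.finite_of_finite F (M := V)
    obtain ⟨e, f, h⟩ := ht.exists_hyp hΦ (by simp)
    have h1 := (h.isType_iff _ _).1 ht
    rw [h.card_Isom hΦ, card_orth_ker]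
    push_cast [Nat.cast_sub Φ.one_le_cnt]
    rw [ih _ (h.nondeg_hperp hΦ) h1, ht.cnt_sub_one hη,
      Module.natCard_eq_pow_finrank (K := F) (V := Φ.hperp e f), h1.1, Finset.prod_range_succ]
    push_cast
    rcases hη with rfl | rfl <;> ring

/-- totally singular subspace -/
def Form.TS {K : Kind F} (Φ : Form K V) (W : Submodule F V) : Prop :=
  (∀ w ∈ W, Φ.N w = 0) ∧ ∀ u ∈ W, ∀ w ∈ W, Φ.B u w = 0

theorem Form.TS_orth {Φ : Form (Kind.orth F) V} {W : Submodule F V} (h : ∀ w ∈ W, Φ.N w = 0) :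
    Φ.TS W := ⟨h, fun u hu w hw => by rw [Φ.orth_B, h _ (W.add_mem hu hw), h u hu, h w hw]; simp⟩

theorem Form.TS.le_perp {K : Kind F} {Φ : Form K V} {W : Submodule F V} (h : Φ.TS W) : W ≤ Φ.perp W :=
  fun u hu w hw => h.2 u hu w hw

theorem Form.TS.mono {K : Kind F} {Φ : Form K V} {W U : Submodule F V} (h : Φ.TS W) (hU : U ≤ W) :
    Φ.TS U := ⟨fun w hw => h.1 w (hU hw), fun u hu w hw => h.2 u (hU hu) w (hU hw)⟩

theorem Form.TS.two_finrank_le [FiniteDimensional F V] {K : Kind F} {Φ : Form K V} (hΦ : Φ.Nondeg)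
    {W : Submodule F V} (h : Φ.TS W) : 2 * finrank F W ≤ finrank F V := by
  have h1 := hΦ.finrank_perp W
  have h2 := Submodule.finrank_mono h.le_perp
  omega

theorem Form.TS.map {K : Kind F} {Φ : Form K V} {W : Submodule F V} (h : Φ.TS W) {g : V ≃ₗ[F] V}
    (hg : g ∈ Φ.Isom) : Φ.TS (W.map (g : V →ₗ[F] V)) := by
  refine ⟨?_, ?_⟩
  · rintro _ ⟨w, hw, rfl⟩; exact (hg.2 w).trans (h.1 w hw)
  · rintro _ ⟨u, hu, rfl⟩ _ ⟨w, hw, rfl⟩; exact (hg.1 u w).trans (h.2 u hu w hw)

/-- a smaller totally singular subspace can be moved into a larger one -/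
theorem Form.TS.exists_map_le [FiniteDimensional F V] {K : Kind F} {Φ : Form K V} (hΦ : Φ.Nondeg)
    {W U : Submodule F V} (hW : Φ.TS W) (hU : Φ.TS U) (h : finrank F W ≤ finrank F U) :
    ∃ g ∈ Φ.Isom, W.map (g : V →ₗ[F] V) ≤ U := by
  obtain ⟨φ, hφ⟩ := finrank_le_iff_exists_linearMap.1 h
  obtain ⟨g, hg, h1⟩ := hΦ.witt_maps W.subtype (U.subtype ∘ₗ φ) W.injective_subtype
    (U.injective_subtype.comp hφ)
    (fun x y => (hW.2 _ x.2 _ y.2).trans (hU.2 _ (φ x).2 _ (φ y).2).symm)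
    (fun x => (hW.1 _ x.2).trans (hU.1 _ (φ x).2).symm)
  refine ⟨g, hg, ?_⟩
  rintro _ ⟨w, hw, rfl⟩
  have := h1 ⟨w, hw⟩
  simp only [Submodule.subtype_apply, LinearMap.comp_apply] at this
  rw [LinearEquiv.coe_coe, this]; exact (φ _).2

theorem Form.TS.exists_map_eq [FiniteDimensional F V] {K : Kind F} {Φ : Form K V} (hΦ : Φ.Nondeg)
    {W U : Submodule F V} (hW : Φ.TS W) (hU : Φ.TS U) (h : finrank F W = finrank F U) :
    ∃ g ∈ Φ.Isom, W.map (g : V →ₗ[F] V) = U := by
  obtain ⟨g, hg, h1⟩ := hW.exists_map_le hΦ hU h.le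
  exact ⟨g, hg, Submodule.eq_of_le_of_finrank_eq h1 (by rw [LinearEquiv.finrank_map_eq, h])⟩

/-- passing to the hyperbolic complement -/
theorem Form.TS.finrank_comap_hperp [FiniteDimensional F V] {K : Kind F} {Φ : Form K V}
    {W : Submodule F V} (hW : Φ.TS W) {e f : V} (h : Φ.IsHyp e f) (he : e ∈ W) :
    finrank F (W.comap (Φ.hperp e f).subtype) + 1 = finrank F W := by
  have h1 : W = (W ⊓ Φ.hperp e f) ⊔ (F ∙ e) := by
    refine le_antisymm (fun w hw => ?_) (sup_le inf_le_left (by simpa using he))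
    have := h.proj_mem w
    rw [hW.2 w hw e he, mul_zero, zero_smul, sub_zero] at this
    refine Submodule.mem_sup.2 ⟨_, ⟨W.sub_mem hw (W.smul_mem _ he), this⟩, Φ.B w f • e,
      Submodule.smul_mem _ _ (Submodule.mem_span_singleton_self e), by simp⟩
  have h2 : e ∉ W ⊓ Φ.hperp e f := fun h3 => by
    have := (Φ.mem_hperp.1 h3.2).2
    rw [h.hef] at this; simp at this
  have h3 := Submodule.finrank_sup_span_singleton h2
  rw [← h1] at h3
  rw [h3, ← Submodule.finrank_map_subtype_eq, Submodule.map_comap_subtype, inf_comm]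

theorem isType_of_TS [Finite F] (m : ℕ) : ∀ {V : Type u} [AddCommGroup V] [Module F V]
    [FiniteDimensional F V] (Φ : Form (Kind.orth F) V) (W : Submodule F V), Φ.Nondeg →
    finrank F V = 2 * m → finrank F W = m → Φ.TS W → Φ.IsType m 1 := by
  induction m with
  | zero => intro V _ _ _ Φ W _ h _ _; exact isType_zero Φ h
  | succ m ih =>
    intro V _ _ _ Φ W hΦ hV hW hT
    have : W ≠ ⊥ := by rintro rfl; simp at hW
    obtain ⟨e, he, he0⟩ := Submodule.exists_mem_ne_zero_of_ne_bot this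
    obtain ⟨f, h⟩ := hΦ.exists_hyp he0 (hT.1 e he)
    have h1 := h.finrank_hperp
    have h2 := hT.finrank_comap_hperp h he
    rw [h.isType_iff]
    exact ih _ (W.comap (Φ.hperp e f).subtype) (h.nondeg_hperp hΦ) (by omega) (by omega)
      ⟨fun w hw => hT.1 _ hw, fun u hu w hw => hT.2 _ hu _ hw⟩

/-- the standard totally singular subspace -/
def plusTS (m : ℕ) (F : Type*) [Field F] : Submodule F (Fin m ⊕ Fin m → F) :=
  LinearMap.range (LinearMap.funLeft F F (Sum.elim some fun _ => none) ∘ₗ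
    (LinearMap.pi (fun o : Option (Fin m) => o.elim 0 fun i => LinearMap.proj i)) :
    (Fin m → F) →ₗ[F] (Fin m ⊕ Fin m → F))

theorem mem_plusTS {m : ℕ} {v : Fin m ⊕ Fin m → F} : v ∈ plusTS m F ↔ ∀ i, v (.inr i) = 0 := by
  constructor
  · rintro ⟨w, rfl⟩ i; rfl
  · intro h
    refine ⟨fun i => v (.inl i), ?_⟩
    ext (i | i)
    · rfl
    · exact (h i).symm

theorem finrank_plusTS (m : ℕ) : finrank F (plusTS m F) = m := by
  rw [plusTS, LinearMap.finrank_range_of_inj]; · simp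
  intro a b h
  ext i
  exact congrFun h (.inl i)

theorem plusTS_TS (m : ℕ) : (plusForm m F).TS (plusTS m F) :=
  Form.TS_orth fun w hw => by simp [plusForm_N, Cfsg.quadFormPlus, mem_plusTS.1 hw]

theorem plusForm_isType [Finite F] (m : ℕ) : (plusForm m F).IsType m 1 :=
  isType_of_TS m _ _ (plusForm_nondeg m) (by simp; omega) (finrank_plusTS m) (plusTS_TS m)

theorem Form.Iso.exists_TS {K : Kind F} {W : Type*} [AddCommGroup W] [Module F W] {Φ : Form K V}
    {Ψ : Form K W} (h : Φ.Iso Ψ) {U : Submodule F V} (hU : Φ.TS U) :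
    ∃ U' : Submodule F W, finrank F U' = finrank F U ∧ Ψ.TS U' := by
  obtain ⟨e, h1, h2⟩ := h
  refine ⟨U.map (e : V →ₗ[F] W), LinearEquiv.finrank_map_eq e U, ?_, ?_⟩
  · rintro _ ⟨w, hw, rfl⟩; exact (h2 w).trans (hU.1 w hw)
  · rintro _ ⟨u, hu, rfl⟩ _ ⟨w, hw, rfl⟩; exact (h1 u w).trans (hU.2 u hu w hw)

theorem isType_one_iff [Finite F] [FiniteDimensional F V] {Φ : Form (Kind.orth F) V} (hΦ : Φ.Nondeg)
    {m : ℕ} (h : finrank F V = 2 * m) :
    Φ.IsType m 1 ↔ ∃ W : Submodule F V, finrank F W = m ∧ Φ.TS W := by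
  refine ⟨fun ht => ?_, fun ⟨W, h1, h2⟩ => isType_of_TS m Φ W hΦ h h1 h2⟩
  obtain ⟨U, h1, h2⟩ := (orth_iso_even 1 m _ _ (plusForm_nondeg m) hΦ (plusForm_isType m) ht).exists_TS
    (plusTS_TS m)
  exact ⟨U, h1.trans (finrank_plusTS m), h2⟩

theorem minusForm_isType [Finite F] (m : ℕ) {a b : F}
    (hab : ∀ z₁ z₂ : F, z₁ ^ 2 + a * z₁ * z₂ + b * z₂ ^ 2 = 0 → z₁ = 0 ∧ z₂ = 0) :
    (minusForm m F a b).IsType (m + 1) (-1) := by
  have hd : finrank F ((Fin m ⊕ Fin m) ⊕ Fin 2 → F) = 2 * (m + 1) := by simp; omega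
  refine (exists_isType _ _ (minusForm_nondeg m hab) hd).resolve_left fun h => ?_
  obtain ⟨W, h1, h2⟩ := (isType_one_iff (minusForm_nondeg m hab) hd).1 h
  let U : Submodule F ((Fin m ⊕ Fin m) ⊕ Fin 2 → F) :=
    LinearMap.ker (LinearMap.funLeft F F (fun i : Fin m => Sum.inl (Sum.inr i)))
  let U' : Submodule F ((Fin m ⊕ Fin m) ⊕ Fin 2 → F) :=
    LinearMap.ker (LinearMap.funLeft F F (Sum.elim (fun i : Fin m => Sum.inl (Sum.inr i))
      (Sum.inr : Fin 2 → _)))
  have hU' : finrank F U' = m := by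
    have := (LinearMap.funLeft F F (Sum.elim (fun i : Fin m => (Sum.inl (Sum.inr i) :
      (Fin m ⊕ Fin m) ⊕ Fin 2)) (Sum.inr : Fin 2 → _))).finrank_range_add_finrank_ker
    rw [LinearMap.range_eq_top.2 (LinearMap.funLeft_surjective_of_injective _ _ _
      (by rintro (i | i) (j | j) h <;> simp_all))] at this
    simp at this
    simp only [U']; omega
  have hT : (minusForm m F a b).TS U' := Form.TS_orth fun w hw => by
    have h1 : ∀ i, w (.inl (.inr i)) = 0 := fun i => congrFun hw (.inl i)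
    have h2 : ∀ i, w (.inr i) = 0 := fun i => congrFun hw (.inr i)
    simp [minusForm_N, Cfsg.quadFormMinus, h1, h2]
  obtain ⟨g, hg, h3⟩ := hT.exists_map_le (minusForm_nondeg m hab) h2 (by omega)
  have h4 : W.map (g.symm : _ →ₗ[F] _) ≤ U' := by
    intro w hw
    have hT' := h2.map (inv_mem hg)
    have h5 : ∀ i, w (.inl (.inr i)) = 0 := by
      intro i
      have hi : Pi.single (.inl (.inl i)) (1 : F) ∈ U' := by
        ext (j | j) <;> simp [LinearMap.funLeft_apply]
      have := hT'.2 w hw _ ⟨_, h3 ⟨_, hi, rfl⟩, g.symm_apply_apply _⟩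
      simpa [minusForm_B, Pi.single_apply] using this
    have h6 := hT'.1 w hw
    simp only [minusForm_N, Cfsg.quadFormMinus, h5, mul_zero, Finset.sum_const_zero, zero_add] at h6
    have h7 := hab _ _ h6
    ext (j | j)
    · exact h5 j
    · fin_cases j
      · exact h7.1
      · exact h7.2
  have := Submodule.finrank_mono h4
  rw [LinearEquiv.finrank_map_eq] at this
  omega

end Orth

end Cfsg.Agent.Classical
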