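import Cfsg.Agent.Lib.Classical.Symm

/-! The two families of maximal totally singular subspaces of a hyperbolic quadratic space. -/

set_option autoImplicit false

namespace Cfsg.Agent.Classical

open Module

namespace Form
variable {F : Type*} [Field F] {V : Type*} [AddCommGroup V] [Module F V] [FiniteDimensional F V]

/-- totally singular of half dimension -/
structure MTS {K : Kind F} (Φ : Form K V) (W : Submodule F V) : Prop where
  ts : Φ.TS W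
  dim : 2 * finrank F W = finrank F V

theorem MTS.perp_eq {K : Kind F} {Φ : Form K V} (hΦ : Φ.Nondeg) {W : Submodule F V} (h : Φ.MTS W) :
    Φ.perp W = W :=
  (Submodule.eq_of_le_of_finrank_eq h.ts.le_perp (by have := hΦ.finrank_perp W; have := h.dim; omega)).symm

omit [FiniteDimensional F V] in
theorem MTS.map {K : Kind F} {Φ : Form K V} {W : Submodule F V} (h : Φ.MTS W) {g : V ≃ₗ[F] V}
    (hg : g ∈ Φ.Isom) : Φ.MTS (W.map (g : V →ₗ[F] V)) :=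
  ⟨h.ts.map hg, by rw [LinearEquiv.finrank_map_eq, h.dim]⟩

theorem MTS.exists_ge {K : Kind F} {Φ : Form K V} (hΦ : Φ.Nondeg) {U W : Submodule F V} (h : Φ.MTS U)
    (hW : Φ.TS W) : ∃ U', Φ.MTS U' ∧ W ≤ U' := by
  obtain ⟨g, hg, h1⟩ := hW.exists_map_le hΦ h.ts (by have := hW.two_finrank_le hΦ; have := h.dim; omega)
  exact ⟨_, h.map (Φ.Isom.inv_mem hg), fun w hw => ⟨g w, h1 ⟨w, hw, rfl⟩, g.symm_apply_apply w⟩⟩

variable {Φ : Form (Kind.orth F) V}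

omit [FiniteDimensional F V] in
theorem TS.inf_map_refl {W : Submodule F V} (hW : Φ.TS W) {v : V} (hv : Φ.N v ≠ 0) :
    W ⊓ W.map (Φ.refl v hv : V →ₗ[F] V) = W ⊓ Φ.perp (F ∙ v) := by
  refine le_antisymm ?_ fun x hx => ⟨hx.1, x, hx.1, Φ.refl_of_perp v hv (Φ.mem_perp_singleton.1 hx.2)⟩
  rintro _ ⟨h1, w, hw, rfl⟩
  by_cases h : Φ.B w v = 0
  · rw [LinearEquiv.coe_coe, Φ.refl_of_perp v hv h]; exact ⟨hw, Φ.mem_perp_singleton.2 h⟩
  · have := W.smul_mem ((Φ.N v)⁻¹ * Φ.B w v)⁻¹ (W.sub_mem hw h1)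
    rw [LinearEquiv.coe_coe, refl_apply, sub_sub_cancel, inv_smul_smul₀ (by simp [hv, h])] at this
    exact absurd (hW.1 v this) hv

omit [FiniteDimensional F V] in
theorem TS.mem_or_refl {W : Submodule F V} (hW : Φ.TS W) {v : V} (hv : Φ.N v ≠ 0) {x : V} (hx : x ∈ W ⊔ F ∙ v)
    (h : Φ.N x = 0) : x ∈ W ∨ x ∈ W.map (Φ.refl v hv : V →ₗ[F] V) := by
  obtain ⟨w, hw, y, hy, rfl⟩ := Submodule.mem_sup.1 hx
  obtain ⟨a, rfl⟩ := Submodule.mem_span_singleton.1 hy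
  rw [Φ.orth_N_add, Φ.orth_N_smul, Φ.orth_B_smul, hW.1 w hw] at h
  by_cases ha : a = 0
  · simp [ha, hw]
  · refine .inr ⟨w, hw, ?_⟩
    rw [LinearEquiv.coe_coe, refl_apply, sub_eq_add_neg, ← neg_smul]
    congr 2
    field_simp
    exact mul_left_cancel₀ ha (by linear_combination -h)

theorem MTS.perp_inf (hΦ : Φ.Nondeg) {W : Submodule F V} (hW : Φ.MTS W) (v : V) :
    Φ.perp (W ⊓ Φ.perp (F ∙ v)) = W ⊔ F ∙ v := by rw [hΦ.perp_inf, hΦ.perp_perp, hW.perp_eq hΦ]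

theorem MTS.finrank_inf (hΦ : Φ.Nondeg) {W : Submodule F V} (hW : Φ.MTS W) {v : V} (hv : Φ.N v ≠ 0) :
    finrank F (W ⊓ Φ.perp (F ∙ v) : Submodule F V) + 1 = finrank F W := by
  have h1 := hΦ.finrank_perp (W ⊓ Φ.perp (F ∙ v))
  rw [hW.perp_inf hΦ, Submodule.finrank_sup_span_singleton fun h => hv (hW.ts.1 v h)] at h1
  have := hW.dim
  omega

theorem MTS.odd_refl (hΦ : Φ.Nondeg) {U W : Submodule F V} (hU : Φ.MTS U) (hW : Φ.MTS W) {v : V}
    (hv : Φ.N v ≠ 0) : Odd (finrank F (U ⊓ W : Submodule F V) +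
      finrank F (U ⊓ W.map (Φ.refl v hv : V →ₗ[F] V) : Submodule F V)) := by
  have h1 := hΦ.finrank_perp (U ⊔ W ⊓ Φ.perp (F ∙ v))
  rw [perp_sup, hU.perp_eq hΦ, hW.perp_inf hΦ] at h1
  have h2 := Submodule.finrank_sup_add_finrank_inf_eq U (W ⊓ Φ.perp (F ∙ v))
  have h3 := hW.finrank_inf hΦ hv
  have h4 := hU.dim
  have h5 := hW.dim
  have h6 := hW.ts.inf_map_refl hv
  have h7 : W.map (Φ.refl v hv : V →ₗ[F] V) ≤ W ⊔ F ∙ v := by
    rintro _ ⟨w, hw, rfl⟩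
    rw [LinearEquiv.coe_coe, refl_apply]
    exact Submodule.sub_mem _ (Submodule.mem_sup_left hw)
      (Submodule.mem_sup_right (Submodule.smul_mem _ _ (Submodule.mem_span_singleton_self v)))
  have h8 : ∀ x ∈ U ⊓ (W ⊔ F ∙ v), x ∈ W ∨ x ∈ W.map (Φ.refl v hv : V →ₗ[F] V) := fun x hx =>
    hW.ts.mem_or_refl hv hx.2 (hU.ts.1 x hx.1)
  generalize W.map (Φ.refl v hv : V →ₗ[F] V) = W' at *
  rw [← h6] at h1 h2 h3
  have key : ∀ {A B : Submodule F V}, A ≤ W ⊔ F ∙ v → B ≤ W ⊔ F ∙ v → U ⊓ (W ⊔ F ∙ v) ≤ A →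
      U ⊓ A = U ⊓ (W ⊔ F ∙ v) ∧ U ⊓ B = U ⊓ (A ⊓ B) := fun hA hB h =>
    ⟨le_antisymm (inf_le_inf_left _ hA) (le_inf inf_le_left h),
      le_antisymm (le_inf inf_le_left (le_inf ((inf_le_inf_left _ hB).trans h) inf_le_right))
        (inf_le_inf_left _ inf_le_right)⟩
  by_cases h9 : U ⊓ (W ⊔ F ∙ v) ≤ W
  · obtain ⟨k1, k2⟩ := key le_sup_left h7 h9
    rw [k1, k2]
    exact ⟨finrank F (U ⊓ (W ⊓ W') : Submodule F V), by omega⟩
  · obtain ⟨a, ha, ha'⟩ := SetLike.not_le_iff_exists.1 h9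
    obtain ⟨k1, k2⟩ := key h7 le_sup_left fun b hb => (h8 b hb).elim (fun h => (h8 _ (add_mem ha hb)).elim
      (fun h' => absurd ((W.add_mem_iff_left h).1 h') ha')
      fun h' => (W'.add_mem_iff_right ((h8 a ha).resolve_left ha')).1 h') id
    rw [k1, k2, inf_comm W']
    exact ⟨finrank F (U ⊓ (W ⊓ W') : Submodule F V), by omega⟩

theorem MTS.exists_refl (hΦ : Φ.Nondeg) {W X : Submodule F V} (hW : Φ.MTS W) (hX : Φ.MTS X) (h : W ≠ X) :
    ∃ v hv, W ⊓ X < W.map (Φ.refl v hv : V →ₗ[F] V) ⊓ X := by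
  obtain ⟨x, hx, hx'⟩ : ∃ x ∈ X, x ∉ W := SetLike.not_le_iff_exists.1 fun e =>
    h (Submodule.eq_of_le_of_finrank_eq e (by have := hW.dim; have := hX.dim; omega)).symm
  obtain ⟨w, hw, h1⟩ : ∃ w ∈ W, Φ.B w x ≠ 0 := by
    by_contra e
    push Not at e
    exact hx' (hW.perp_eq hΦ ▸ Φ.mem_perp'.2 e)
  have h2 : Φ.N (w - x) ≠ 0 := by simpa [Φ.N_sub, hW.ts.1 w hw, hX.ts.1 x hx] using h1
  refine ⟨_, h2, lt_of_le_of_ne (fun y hy => ⟨⟨y, hy.1, Φ.refl_of_perp _ h2 ?_⟩, hy.2⟩) fun e => hx' ?_⟩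
  · rw [map_sub, hW.ts.2 y hy.1 w hw, hX.ts.2 y hy.2 x hx, sub_self]
  · exact (e.ge ⟨⟨w, hw, refl_sub_map ((hW.ts.1 w hw).trans (hX.ts.1 x hx).symm) h2⟩, hx⟩).1

theorem MTS.cocycle (hΦ : Φ.Nondeg) {U W X : Submodule F V} (hU : Φ.MTS U) (hW : Φ.MTS W) (hX : Φ.MTS X) :
    Even (finrank F U + finrank F (U ⊓ W : Submodule F V) + finrank F (X ⊓ W : Submodule F V) +
      finrank F (U ⊓ X : Submodule F V)) := by
  induction hk : finrank F X - finrank F (W ⊓ X : Submodule F V) using Nat.strong_induction_on generalizing W with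
  | _ k ih =>
  by_cases h : W = X
  · subst h
    rw [inf_idem]
    exact ⟨finrank F U + finrank F (U ⊓ W : Submodule F V), by have := hU.dim; have := hW.dim; omega⟩
  obtain ⟨v, hv, h1⟩ := hW.exists_refl hΦ hX h
  have h2 := Submodule.finrank_lt_finrank_of_lt h1
  have h3 := Submodule.finrank_mono (inf_le_right : W.map (Φ.refl v hv : V →ₗ[F] V) ⊓ X ≤ X)
  obtain ⟨a, ha⟩ := ih _ (by omega) (hW.map (Φ.refl_mem v hv)) rfl
  obtain ⟨b, hb⟩ := hU.odd_refl hΦ hW hv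
  obtain ⟨c, hc⟩ := hX.odd_refl hΦ hW hv
  rw [Nat.even_iff]
  omega

omit [FiniteDimensional F V] in
theorem finrank_map_inf (g : V ≃ₗ[F] V) (U W : Submodule F V) :
    finrank F (U.map (g : V →ₗ[F] V) ⊓ W.map (g : V →ₗ[F] V) : Submodule F V) =
      finrank F (U ⊓ W : Submodule F V) := by
  rw [← Submodule.map_inf _ g.injective, LinearEquiv.finrank_map_eq]

/-- elements of the commutator subgroup preserve the two families -/
theorem MTS.even_of_mem (hΦ : Φ.Nondeg) {U : Submodule F V} (hU : Φ.MTS U) {g : Φ.Isom}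
    (hg : g ∈ commutator Φ.Isom) :
    Even (finrank F U + finrank F (U ⊓ U.map (g.1 : V →ₗ[F] V) : Submodule F V)) := by
  let χ : Φ.Isom →* ℤˣ := MonoidHom.mk'
    (fun g => (-1) ^ (finrank F U + finrank F (U ⊓ U.map (g.1 : V →ₗ[F] V) : Submodule F V))) fun a b => by
      have h1 := hU.cocycle hΦ (hU.map (a * b).2) (hU.map a.2)
      have h2 : U.map ((a * b).1 : V →ₗ[F] V) = (U.map (b.1 : V →ₗ[F] V)).map (a.1 : V →ₗ[F] V) := by
        rw [← Submodule.map_comp]; rfl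
      rw [h2, finrank_map_inf, ← h2] at h1
      rw [← pow_add]
      refine (neg_one_pow_congr ?_)
      simp only [Nat.even_iff] at h1 ⊢
      omega
  exact (neg_one_pow_eq_one_iff_even (by decide)).1 (commutator_le_ker' χ hg)

theorem MTS.map_eq_of_le (hΦ : Φ.Nondeg) {U W : Submodule F V} (hU : Φ.MTS U) (hW : W ≤ U)
    (hd : finrank F W + 1 = finrank F U) {g : Φ.Isom} (hg : g ∈ commutator Φ.Isom)
    (h : W.map (g.1 : V →ₗ[F] V) = W) : U.map (g.1 : V →ₗ[F] V) = U := by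
  have h1 := hU.even_of_mem hΦ hg
  have h2 := Submodule.finrank_mono (le_inf hW (h ▸ Submodule.map_mono hW) : W ≤ U ⊓ U.map (g.1 : V →ₗ[F] V))
  have h3 := Submodule.finrank_mono (inf_le_left : U ⊓ U.map (g.1 : V →ₗ[F] V) ≤ U)
  rw [Nat.even_iff] at h1
  have h4 := Submodule.eq_of_le_of_finrank_eq (inf_le_left : U ⊓ U.map (g.1 : V →ₗ[F] V) ≤ U) (by omega)
  exact (Submodule.eq_of_le_of_finrank_eq (inf_eq_left.1 h4) (LinearEquiv.finrank_map_eq _ _).symm).symm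

theorem MTS.inf_ne_bot (hΦ : Φ.Nondeg) {U : Submodule F V} (hU : Φ.MTS U) (ho : Odd (finrank F U))
    {g : Φ.Isom} (hg : g ∈ commutator Φ.Isom) : U ⊓ U.map (g.1 : V →ₗ[F] V) ≠ ⊥ := fun e => by
  have h1 := hU.even_of_mem hΦ hg
  rw [e, finrank_bot, add_zero] at h1
  exact Nat.not_even_iff_odd.2 ho h1

end Form

end Cfsg.Agent.Classical
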