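import Cfsg.Agent.Lib.Classical.Irred

/-! Symmetric bilinear forms, orthogonal bases and the discriminant. -/

set_option autoImplicit false

namespace Cfsg.Agent.Classical

open Module

universe u

namespace Form
variable {F : Type*} [Field F] {V : Type*} [AddCommGroup V] [Module F V]

/-- form from a symmetric bilinear form -/
def ofSymm (B : LinearMap.BilinForm F V) (hS : B.IsSymm) : Form (Kind.orth F) V :=
  Form.ofQuadFun (fun v => B v v) ((2 : F) • B)
    (by intro u v; have := hS.eq u v; simp at this ⊢; linear_combination -this)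
    (by intro c v; simp; ring)

@[simp] theorem ofSymm_N (B : LinearMap.BilinForm F V) (hS : B.IsSymm) (v : V) :
    (ofSymm B hS).N v = B v v := rfl
@[simp] theorem ofSymm_B (B : LinearMap.BilinForm F V) (hS : B.IsSymm) (u v : V) :
    (ofSymm B hS).B u v = 2 * B u v := rfl

theorem ofSymm_nondeg {B : LinearMap.BilinForm F V} (hS : B.IsSymm) (h2 : (2 : F) ≠ 0)
    (hB : B.Nondegenerate) : (ofSymm B hS).Nondeg := fun v hv =>
  hB.2 v fun u => by simpa [h2] using hv u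

theorem ofSymm_TS {B : LinearMap.BilinForm F V} (hS : B.IsSymm) (h2 : (2 : F) ≠ 0) {X : Submodule F V} :
    (ofSymm B hS).TS X ↔ ∀ x ∈ X, ∀ y ∈ X, B x y = 0 :=
  ⟨fun h x hx y hy => by simpa [h2] using h.2 x hx y hy, fun h => TS_orth fun w hw => h w hw w hw⟩

theorem linearIndependent_of_orth {K : Kind F} {Φ : Form K V} {ι : Type*} {b : ι → V}
    (h1 : ∀ i j, i ≠ j → Φ.B (b i) (b j) = 0) (h2 : ∀ i, Φ.B (b i) (b i) ≠ 0) :
    LinearIndependent F b := by
  classical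
  rw [linearIndependent_iff']
  intro s g hs i hi
  have := congrArg (fun x => Φ.B x (b i)) hs
  simp only [map_sum, LinearMap.sum_apply, Φ.B_smul_left, map_zero, LinearMap.zero_apply] at this
  rw [Finset.sum_eq_single i (fun j _ hj => by rw [h1 j i hj, mul_zero]) (fun h => absurd hi h)] at this
  exact (mul_eq_zero.1 this).resolve_right (h2 i)

theorem restrict_span_nondeg {K : Kind F} {Φ : Form K V} {v : V} (h : Φ.B v v ≠ 0) :
    (Φ.restrict (F ∙ v)).Nondeg := by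
  rintro ⟨w, hw⟩ h1
  obtain ⟨c, rfl⟩ := Submodule.mem_span_singleton.1 hw
  have : Φ.B v (c • v) = 0 := h1 ⟨v, Submodule.mem_span_singleton_self v⟩
  rw [Φ.B_smul_right] at this
  have : c = 0 := by simpa [h] using this
  simp [this]

theorem Nondeg.B_ne_of_orth_basis {K : Kind F} {Φ : Form K V} (hΦ : Φ.Nondeg) {ι : Type*} (b : Basis ι F V)
    (h1 : ∀ i j, i ≠ j → Φ.B (b i) (b j) = 0) (i : ι) : Φ.B (b i) (b i) ≠ 0 := fun h =>
  b.ne_zero i (hΦ _ fun u => by
    have : Φ.B.flip (b i) = 0 := b.ext fun j => by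
      by_cases hj : j = i
      · subst hj; exact h
      · exact h1 j i hj
    exact LinearMap.congr_fun this u)

variable [Finite F] [FiniteDimensional F V] {Φ : Form (Kind.orth F) V}

theorem spin_neg_of_basis (hΦ : Φ.Nondeg) (hG : Φ.Good) {ι : Type*} [Fintype ι] (b : Basis ι F V)
    (h1 : ∀ i j, i ≠ j → Φ.B (b i) (b j) = 0) (h2 : ∀ i, Φ.N (b i) ≠ 0) :
    hG.spin hΦ ⟨LinearEquiv.neg F, neg_mem_Isom Φ⟩ = sqSign F (∏ i, Units.mk0 _ (h2 i)) := by
  classical
  have key : ∀ s : Finset ι, ∃ g : Φ.Isom, hG.spin hΦ g = sqSign F (∏ i ∈ s, Units.mk0 _ (h2 i)) ∧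
      ∀ i, g.1 (b i) = if i ∈ s then -b i else b i := by
    intro s
    induction s using Finset.induction_on with
    | empty => exact ⟨1, by simp, by simp⟩
    | insert j s hj ih =>
      obtain ⟨g, h3, h4⟩ := ih
      refine ⟨Φ.reflI (b j) (h2 j) * g, by simp [h3, Finset.prod_insert hj], fun i => ?_⟩
      rw [Subgroup.coe_mul, LinearEquiv.mul_apply, h4, reflI_coe]
      by_cases hij : i = j
      · subst hij; simp [hj, refl_self]
      · split_ifs <;> simp_all [Φ.refl_of_perp _ _ (h1 i j hij)]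
  obtain ⟨g, h3, h4⟩ := key Finset.univ
  rw [← h3]; congr 1
  exact Subtype.ext (b.ext' fun i => by simp [h4])

theorem IsType.eq_disc (hΦ : Φ.Nondeg) (h2 : (2 : F) ≠ 0) {m : ℕ} {η : ℤˣ} (h : Φ.IsType m η)
    {ι : Type*} [Fintype ι] (b : Basis ι F V)
    (h1 : ∀ i j, i ≠ j → Φ.B (b i) (b j) = 0) (h3 : ∀ i, Φ.N (b i) ≠ 0) :
    η = sqSign F (-1) ^ m * sqSign F (∏ i, Units.mk0 _ (h3 i)) := by
  rw [← spin_neg_of_basis hΦ (good_of_two hΦ h2) b h1 h3, spin_neg h2 m Φ hΦ h, mul_left_comm,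
    Int.units_mul_self, mul_one]

theorem isType_one_iff_disc (hΦ : Φ.Nondeg) (h2 : (2 : F) ≠ 0) {m : ℕ} (h : finrank F V = 2 * m)
    {ι : Type*} [Fintype ι] (b : Basis ι F V)
    (h1 : ∀ i j, i ≠ j → Φ.B (b i) (b j) = 0) (h3 : ∀ i, Φ.N (b i) ≠ 0) :
    Φ.IsType m 1 ↔ sqSign F (-1) ^ m * sqSign F (∏ i, Units.mk0 _ (h3 i)) = 1 := by
  refine ⟨fun h4 => (IsType.eq_disc (η := 1) hΦ h2 h4 b h1 h3).symm, fun h4 => ?_⟩
  refine (exists_isType m Φ hΦ h).resolve_right fun h5 => ?_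
  have := IsType.eq_disc (η := -1) hΦ h2 h5 b h1 h3
  rw [h4] at this; simp at this

end Form

theorem exists_sq_mul_of_not_isSquare {F : Type*} [Field F] [Finite F] {a c : F} (ha : ¬ IsSquare a)
    (hc : ¬ IsSquare c) : ∃ t, a = t ^ 2 * c := by
  have ha0 : a ≠ 0 := by rintro rfl; simp at ha
  have hc0 : c ≠ 0 := by rintro rfl; simp at hc
  exact (sqSign_eq_iff (x := Units.mk0 a ha0) (y := Units.mk0 c hc0)).1
    ((sqSign_eq_neg_one_iff.2 ha).trans (sqSign_eq_neg_one_iff.2 hc).symm)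

theorem exists_orthonormal {F : Type*} [Field F] [Finite F] (h2 : (2 : F) ≠ 0) {α : F} (hα : ¬ IsSquare α)
    (n : ℕ) : ∀ {V : Type u} [AddCommGroup V] [Module F V] [FiniteDimensional F V]
    (Φ : Form (Kind.orth F) V), Φ.Nondeg → finrank F V = n + 1 → ∃ b : Fin (n + 1) → V,
    (∀ i j, i ≠ j → Φ.B (b i) (b j) = 0) ∧ (∀ i, i ≠ Fin.last n → Φ.N (b i) = 1) ∧
    (Φ.N (b (Fin.last n)) = 1 ∨ Φ.N (b (Fin.last n)) = α) := by
  induction n with
  | zero =>
    intro V _ _ _ Φ hΦ hn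
    have : Nontrivial V := Module.nontrivial_of_finrank_pos (R := F) (by omega)
    obtain ⟨v, hv⟩ := hΦ.orth_exists_N_ne
    obtain ⟨w, hw⟩ : ∃ w, Φ.N w = 1 ∨ Φ.N w = α := by
      by_cases h : IsSquare (Φ.N v)
      · obtain ⟨t, ht⟩ := h
        have : t ≠ 0 := by rintro rfl; simp [hv] at ht
        exact ⟨t⁻¹ • v, Or.inl (by rw [Φ.orth_N_smul, ht]; field_simp)⟩
      · obtain ⟨t, ht⟩ := exists_sq_mul_of_not_isSquare hα h
        exact ⟨t • v, Or.inr (by rw [Φ.orth_N_smul, ht])⟩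
    exact ⟨fun _ => w, fun i j h => absurd (Subsingleton.elim (α := Fin 1) i j) h,
      fun i h => absurd (Subsingleton.elim (α := Fin 1) i _) h, hw⟩
  | succ n ih =>
    intro V _ _ _ Φ hΦ hn
    obtain ⟨v, hv⟩ := orth_represents hΦ (by omega) 1
    have h3 : Φ.B v v ≠ 0 := by rw [Φ.orth_B_self, hv]; simpa using h2
    have hv0 : v ≠ 0 := by rintro rfl; simp at hv
    have h4 := hΦ.finrank_perp (F ∙ v)
    rw [finrank_span_singleton hv0] at h4
    obtain ⟨b, h5, h6, h7⟩ := ih _ (hΦ.restrict_perp (Form.restrict_span_nondeg h3)) (by omega)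
    have h8 : ∀ i, Φ.B (b i) v = 0 := fun i => Φ.mem_perp_singleton.1 (b i).2
    refine ⟨Fin.cons v fun i => b i, fun i j => ?_, fun i => ?_, ?_⟩
    · refine Fin.cases (Fin.cases (by simp) (fun j _ => Φ.B_symm_zero (h8 j)) j) (fun i => ?_) i
      refine Fin.cases (fun _ => h8 i) (fun j h => h5 i j (by simpa using h)) j
    · refine Fin.cases (fun _ => hv) (fun i h => h6 i ?_) i
      rintro rfl; exact h rfl
    · exact h7

theorem exists_orth_basis {F : Type*} [Field F] (h2 : (2 : F) ≠ 0) {V : Type*} [AddCommGroup V]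
    [Module F V] [FiniteDimensional F V] (Φ : Form (Kind.orth F) V) (hΦ : Φ.Nondeg) :
    ∃ b : Basis (Fin (finrank F V)) F V, (∀ i j, i ≠ j → Φ.B (b i) (b j) = 0) ∧ ∀ i, Φ.N (b i) ≠ 0 := by
  have := invertibleOfNonzero h2
  obtain ⟨b, hb⟩ := LinearMap.BilinForm.exists_orthogonal_basis (K := F) (V := V) (B := Φ.B)
    ⟨fun u v => Φ.orth_symm u v⟩
  exact ⟨b, fun i j h => hb h, fun i h => hΦ.B_ne_of_orth_basis b (fun i j h => hb h) i (Φ.B_self_of_N h)⟩

theorem tmul_nondegenerate {F U W : Type*} [Field F] [AddCommGroup U] [Module F U] [FiniteDimensional F U]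
    [AddCommGroup W] [Module F W] [FiniteDimensional F W] {B₁ : LinearMap.BilinForm F U}
    {B₂ : LinearMap.BilinForm F W} (h₁ : B₁.Nondegenerate) (h₂ : B₂.Nondegenerate) :
    LinearMap.BilinForm.Nondegenerate (B₁.tmul B₂) := by
  let b₁ := Module.finBasis F U
  let b₂ := Module.finBasis F W
  rw [LinearMap.BilinForm.nondegenerate_iff_det_ne_zero b₁] at h₁
  rw [LinearMap.BilinForm.nondegenerate_iff_det_ne_zero b₂] at h₂
  refine (LinearMap.BilinForm.nondegenerate_iff_det_ne_zero (b₁.tensorProduct b₂)).2 ?_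
  have : LinearMap.BilinForm.toMatrix (b₁.tensorProduct b₂) (B₁.tmul B₂) =
      Matrix.kroneckerMap (· * ·) (LinearMap.BilinForm.toMatrix b₁ B₁) (LinearMap.BilinForm.toMatrix b₂ B₂) := by
    ext ⟨i, j⟩ ⟨i', j'⟩
    simp [LinearMap.BilinForm.toMatrix_apply, Basis.tensorProduct_apply, mul_comm]
  rw [this, Matrix.det_kronecker]
  simp [h₁, h₂]

end Cfsg.Agent.Classical
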