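import Mathlib

/-!
The special linear groups: generation by transvections, perfectness, simplicity of PSL.
-/

set_option autoImplicit false

namespace Cfsg.Agent.Classical.Lin
open Matrix Matrix.SpecialLinearGroup
open scoped MatrixGroups LinearAlgebra.Projectivization commutatorElement

variable {ι : Type*} [Fintype ι] [DecidableEq ι] {F : Type*} [Field F]

theorem diag2n_eq {i j : ι} (hij : i ≠ j) {a : F} (ha : a ≠ 0) :
    diag2n hij a ha = transvection hij a * transvection hij.symm (-a⁻¹) * transvection hij a *
      (transvection hij (-1) * transvection hij.symm 1 * transvection hij (-1)) := by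
  apply Subtype.ext
  simp only [diag2n_coe, coe_mul, transvection_coe, mul_add, add_mul, Matrix.mul_one, Matrix.one_mul,
    single_mul_single_same, single_mul_single_of_ne _ _ _ _ hij, single_mul_single_of_ne _ _ _ _ hij.symm,
    add_zero, Matrix.zero_mul, Matrix.mul_zero]
  ext k l
  simp only [diagonal_apply, Matrix.add_apply, one_apply, single, of_apply]
  by_cases h1 : i = k <;> by_cases h2 : j = k <;> by_cases h3 : i = l <;> by_cases h4 : j = l <;>
    by_cases h5 : k = l <;> simp_all [eq_comm] <;> field_simp <;> ring

theorem transvection_induction [Nontrivial ι] (P : SpecialLinearGroup ι F → Prop)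
    (h1 : ∀ (i j : ι) (hij : i ≠ j) (a : F), P (transvection hij a))
    (h2 : ∀ A B, P A → P B → P (A * B)) (M : SpecialLinearGroup ι F) : P M :=
  diagonal_transvection_induction' P M (fun i j hij c hc => by
    rw [diag2n_eq]
    exact h2 _ _ (h2 _ _ (h2 _ _ (h1 ..) (h1 ..)) (h1 ..)) (h2 _ _ (h2 _ _ (h1 ..) (h1 ..)) (h1 ..))) h1 h2

theorem transvection_eq_commutator {i j k : ι} (hij : i ≠ j) (hik : i ≠ k) (hkj : k ≠ j) (a : F) :
    transvection hij a = ⁅transvection hik a, transvection hkj (1 : F)⁆ := by
  rw [commutatorElement_def, transvection_inv, transvection_inv]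
  apply Subtype.ext
  simp only [coe_mul, transvection_coe, mul_add, add_mul, Matrix.mul_one, Matrix.one_mul,
    single_mul_single_same, single_mul_single_of_ne _ _ _ _ hij.symm, single_mul_single_of_ne _ _ _ _ hik.symm,
    single_mul_single_of_ne _ _ _ _ hkj.symm, add_zero, Matrix.zero_mul, Matrix.mul_zero, mul_one,
    mul_neg]
  simp only [← single_neg]
  abel

theorem commutator_SL (h : 3 ≤ Fintype.card ι) : commutator (SpecialLinearGroup ι F) = ⊤ := by
  haveI : Nontrivial ι := Fintype.one_lt_card_iff_nontrivial.1 (by omega)
  refine eq_top_iff.2 fun M _ => transvection_induction (· ∈ commutator (SpecialLinearGroup ι F))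
    (fun i j hij a => ?_) (fun _ _ => mul_mem) M
  obtain ⟨k, hk⟩ : ∃ k, k ∉ ({i, j} : Finset ι) := by
    by_contra h'
    push Not at h'
    have := Finset.card_le_card (fun k _ => h' k : Finset.univ ⊆ ({i, j} : Finset ι))
    have := Finset.card_le_two (a := i) (b := j)
    rw [Finset.card_univ] at *
    omega
  simp only [Finset.mem_insert, Finset.mem_singleton, not_or] at hk
  rw [transvection_eq_commutator hij (Ne.symm hk.1) hk.2]
  exact Subgroup.commutator_mem_commutator trivial trivial

theorem iSup_lineStab [Nontrivial ι] :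
    (⨆ p : ℙ F (ι → F), lineStab p.submodule) = (⊤ : Subgroup (SpecialLinearGroup ι F)) := by
  refine eq_top_iff.2 fun M _ => transvection_induction (· ∈ ⨆ p : ℙ F (ι → F), lineStab p.submodule)
    (fun i j hij a => ?_) (fun _ _ => mul_mem) M
  refine Subgroup.mem_iSup_of_mem (Projectivization.mk F (Pi.single i 1)
    (Pi.single_ne_zero_iff.2 one_ne_zero)) ?_
  rw [Projectivization.submodule_mk]
  exact SL2Gen.transvection_mem_lineStab hij a

theorem simple_PSL (h : 3 ≤ Fintype.card ι) : IsSimpleGroup (ProjectiveSpecialLinearGroup ι F) := by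
  haveI : Nontrivial ι := Fintype.one_lt_card_iff_nontrivial.1 (by omega)
  have : Group.IsPerfect (SpecialLinearGroup ι F) := ⟨commutator_SL h⟩
  have : Group.IsPerfect (ProjectiveSpecialLinearGroup ι F) := inferInstance
  refine MulAction.IwasawaStructure.isSimpleGroup (α := ℙ F (ι → F)) this.commutator_eq_top
    { T := PSL.iwasawaT
      is_comm := fun p => ?_
      is_conj := fun g p => ?_
      is_generator := ?_ } inferInstance
  · have hSL : IsMulCommutative (lineStab (F := F) (ι := ι) p.submodule) := by
      rw [← Projectivization.mk_rep p, Projectivization.submodule_mk]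
      exact lineStab_isMulCommutative_of_span p.rep p.rep_nonzero
    exact Subgroup.map_isMulCommutative _ _
  · obtain ⟨g_SL, rfl⟩ := QuotientGroup.mk_surjective g
    rw [Matrix.ProjectiveSpecialLinearGroup.smul_proj_mk]
    change Subgroup.map _ _ = _
    rw [PSL.smul_submodule, Matrix.SpecialLinearGroup.lineStab_smul, PSL.iwasawaT_map_conj]
  · have : iSup (PSL.iwasawaT (F := F) (ι := ι)) =
        Subgroup.map (QuotientGroup.mk' (Subgroup.center (SpecialLinearGroup ι F)))
          (⨆ p : ℙ F (ι → F), lineStab (F := F) (ι := ι) p.submodule) := by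
      rw [Subgroup.map_iSup]
    rw [this, iSup_lineStab]
    exact Subgroup.map_top_of_surjective _ (QuotientGroup.mk'_surjective _)

end Cfsg.Agent.Classical.Lin
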