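import Mathlib
import Cfsg.Prelude.Def_GeometricClasses
import Cfsg.Agent.Lib.Classical.Bridge

/-!
Algebra tools for Aschbacher's subgroup theorem: normalised subalgebras of a matrix algebra.
-/

set_option autoImplicit false

namespace Cfsg.Agent.Classical.Asch
open Matrix Cfsg.Geo Module
open scoped MatrixGroups Kronecker

variable {ι : Type} [Fintype ι] [DecidableEq ι] {F : Type*} [Field F]

/-- Conjugation by an invertible matrix. -/
def cjm (g : GL ι F) : Matrix ι ι F ≃ₐ[F] Matrix ι ι F where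
  toFun x := (g : Matrix ι ι F) * x * ((g⁻¹ : GL ι F) : Matrix ι ι F)
  invFun x := ((g⁻¹ : GL ι F) : Matrix ι ι F) * x * (g : Matrix ι ι F)
  left_inv x := by
    simp only [← Matrix.mul_assoc, Units.inv_mul, Matrix.one_mul]
    rw [Matrix.mul_assoc, Units.inv_mul, Matrix.mul_one]
  right_inv x := by
    simp only [← Matrix.mul_assoc, Units.mul_inv, Matrix.one_mul]
    rw [Matrix.mul_assoc, Units.mul_inv, Matrix.mul_one]
  map_mul' x y := by
    simp only [Matrix.mul_assoc]
    rw [← Matrix.mul_assoc _ (g : Matrix ι ι F) (y * _), Units.inv_mul, Matrix.one_mul]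
  map_add' x y := by simp only [Matrix.mul_add, Matrix.add_mul]
  commutes' c := by
    simp only [Algebra.algebraMap_eq_smul_one, Matrix.mul_smul, Matrix.smul_mul, Matrix.mul_one,
      Units.mul_inv]

theorem cjm_apply (g : GL ι F) (x : Matrix ι ι F) :
    cjm g x = (g : Matrix ι ι F) * x * ((g⁻¹ : GL ι F) : Matrix ι ι F) := rfl

theorem cjm_coe (g h : GL ι F) : cjm g (h : Matrix ι ι F) = ((g * h * g⁻¹ : GL ι F) : Matrix ι ι F) := by
  simp only [cjm_apply, Units.val_mul]

theorem cjm_mul (g h : GL ι F) (x : Matrix ι ι F) : cjm (g * h) x = cjm g (cjm h x) := by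
  simp only [cjm_apply, Units.val_mul, _root_.mul_inv_rev, Matrix.mul_assoc]

theorem cjm_one (x : Matrix ι ι F) : cjm (1 : GL ι F) x = x := by simp [cjm_apply]

theorem cjm_inv_cjm (g : GL ι F) (x : Matrix ι ι F) : cjm g⁻¹ (cjm g x) = x := by
  rw [← cjm_mul, inv_mul_cancel, cjm_one]

theorem cjm_cjm_inv (g : GL ι F) (x : Matrix ι ι F) : cjm g (cjm g⁻¹ x) = x := by
  rw [← cjm_mul, mul_inv_cancel, cjm_one]

theorem cjm_mul_self (g : GL ι F) (x : Matrix ι ι F) :
    cjm g x * (g : Matrix ι ι F) = (g : Matrix ι ι F) * x := by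
  rw [cjm_apply, Matrix.mul_assoc, Units.inv_mul, Matrix.mul_one]

theorem cjm_eq_iff {g : GL ι F} {x y : Matrix ι ι F} :
    cjm g x = y ↔ (g : Matrix ι ι F) * x = y * (g : Matrix ι ι F) := by
  constructor
  · rintro rfl; rw [cjm_mul_self]
  · intro h; rw [cjm_apply, h, Matrix.mul_assoc, Units.mul_inv, Matrix.mul_one]

theorem cjm_mulVec (g : GL ι F) (x : Matrix ι ι F) (v : ι → F) :
    cjm g x *ᵥ ((g : Matrix ι ι F) *ᵥ v) = (g : Matrix ι ι F) *ᵥ (x *ᵥ v) := by
  rw [mulVec_mulVec, cjm_mul_self, mulVec_mulVec]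

theorem inv_mulVec_mulVec (g : GL ι F) (v : ι → F) :
    ((g⁻¹ : GL ι F) : Matrix ι ι F) *ᵥ ((g : Matrix ι ι F) *ᵥ v) = v := by
  rw [mulVec_mulVec, Units.inv_mul, one_mulVec]

theorem mulVec_inv_mulVec (g : GL ι F) (v : ι → F) :
    (g : Matrix ι ι F) *ᵥ (((g⁻¹ : GL ι F) : Matrix ι ι F) *ᵥ v) = v := by
  rw [mulVec_mulVec, Units.mul_inv, one_mulVec]

theorem gl_mulVec_eq_zero {g : GL ι F} {v : ι → F} : (g : Matrix ι ι F) *ᵥ v = 0 ↔ v = 0 := by
  constructor
  · intro h; rw [← inv_mulVec_mulVec g v, h, mulVec_zero]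
  · rintro rfl; exact mulVec_zero _

theorem trace_cjm (g : GL ι F) (x : Matrix ι ι F) : (cjm g x).trace = x.trace := by
  rw [cjm_apply, Matrix.trace_mul_cycle, Units.inv_mul, Matrix.one_mul]

/-- scalar matrices -/
def IsSc (x : Matrix ι ι F) : Prop := ∃ c : F, x = c • (1 : Matrix ι ι F)

theorem IsSc.comm {x : Matrix ι ι F} (h : IsSc x) (y : Matrix ι ι F) : x * y = y * x := by
  obtain ⟨c, rfl⟩ := h; simp

theorem IsSc.cjm {x : Matrix ι ι F} (h : IsSc x) (g : GL ι F) : cjm g x = x :=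
  cjm_eq_iff.2 (h.comm _).symm

theorem isSc_of_cjm {x : Matrix ι ι F} {g : GL ι F} (h : IsSc (cjm g x)) : IsSc x := by
  have := h.cjm g⁻¹
  rw [cjm_inv_cjm] at this
  rwa [this]

theorem isSc_iff_mem_bot {x : Matrix ι ι F} : IsSc x ↔ x ∈ (⊥ : Subalgebra F (Matrix ι ι F)) := by
  rw [Algebra.mem_bot]
  constructor
  · rintro ⟨c, rfl⟩; exact ⟨c, Algebra.algebraMap_eq_smul_one c⟩
  · rintro ⟨c, rfl⟩; exact ⟨c, Algebra.algebraMap_eq_smul_one c⟩

theorem isSc_of_comm_single {x : Matrix ι ι F}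
    (h : ∀ i j, x * single i j (1 : F) = single i j 1 * x) : IsSc x := by
  obtain ⟨c, hc⟩ := mem_range_scalar_iff_commute_single'.2 (fun i j => (h i j).symm)
  exact ⟨c, by rw [← hc]; simp [Matrix.smul_one_eq_diagonal]⟩

theorem isSc_of_comm {x : Matrix ι ι F} (h : ∀ y, x * y = y * x) : IsSc x :=
  isSc_of_comm_single fun _ _ => h _

theorem mem_scalars {g : GL ι F} : g ∈ scalars ι F ↔ IsSc (g : Matrix ι ι F) := by
  rw [mem_scalars_iff]
  constructor
  · rintro ⟨c, hc⟩; exact ⟨c, hc⟩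
  · rintro ⟨c, hc⟩
    by_cases h0 : c = 0
    · refine ⟨1, ?_⟩
      have : (1 : Matrix ι ι F) = 0 := by rw [← Units.mul_inv g, hc, h0]; simp
      rw [hc, this]; simp
    · exact ⟨Units.mk0 c h0, hc⟩

/-- the scalar matrix of a unit -/
def scal (ι : Type) [Fintype ι] [DecidableEq ι] : Fˣ →* GL ι F :=
  Units.map (Matrix.scalar ι : F →+* Matrix ι ι F).toMonoidHom

theorem coe_scal (c : Fˣ) : ((scal ι c : GL ι F) : Matrix ι ι F) = (c : F) • (1 : Matrix ι ι F) := by
  simp [scal, Matrix.smul_one_eq_diagonal]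

theorem scal_mem (c : Fˣ) : scal ι c ∈ scalars ι F := ⟨c, rfl⟩

theorem exists_scal {g : GL ι F} (h : g ∈ scalars ι F) : ∃ c, scal ι c = g := h

theorem scal_mulVec (c : Fˣ) (v : ι → F) : ((scal ι c : GL ι F) : Matrix ι ι F) *ᵥ v = (c : F) • v := by
  rw [coe_scal, smul_mulVec, one_mulVec]

theorem scal_injective [Nonempty ι] : Function.Injective (scal (F := F) ι) := by
  intro a b h
  have := congrArg (fun g : GL ι F => (g : Matrix ι ι F) (Classical.arbitrary ι) (Classical.arbitrary ι)) h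
  simp only [coe_scal] at this
  exact Units.ext (by simpa using this)

theorem scalars_comm {z : GL ι F} (hz : z ∈ scalars ι F) (g : GL ι F) : z * g = g * z :=
  Units.ext ((mem_scalars.1 hz).comm _)

theorem scalars_le_centralizer (S : Set (GL ι F)) : scalars ι F ≤ Subgroup.centralizer S :=
  fun _ hz g _ => (scalars_comm hz g).symm

theorem exists_mul_of_mem_sup {G : Subgroup (GL ι F)} {x : GL ι F} (h : x ∈ G ⊔ scalars ι F) :
    ∃ g ∈ G, ∃ c : Fˣ, x = g * scal ι c := by
  have : x ∈ ((G ⊔ scalars ι F : Subgroup _) : Set (GL ι F)) := h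
  rw [Subgroup.mul_normal] at this
  obtain ⟨g, hg, z, ⟨c, rfl⟩, rfl⟩ := this
  exact ⟨g, hg, c, rfl⟩

/-- irreducibility -/
def Irr (G : Subgroup (GL ι F)) : Prop :=
  ∀ W : Submodule F (ι → F), (∀ g ∈ G, ∀ w ∈ W, (g : Matrix ι ι F) *ᵥ w ∈ W) → W = ⊥ ∨ W = ⊤

theorem irr_iff {G : Subgroup (GL ι F)} : Irr G ↔ ActsIrreducibly (matrixSet G) := by
  constructor
  · intro h W hW
    exact h W fun g hg w hw => hW _ ⟨g, hg, rfl⟩ ⟨w, hw, rfl⟩
  · intro h W hW
    refine h W ?_
    rintro _ ⟨g, hg, rfl⟩ _ ⟨w, hw, rfl⟩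
    exact hW g hg w hw

theorem Irr.mono {G H : Subgroup (GL ι F)} (h : Irr G) (hle : G ≤ H) : Irr H :=
  fun W hW => h W fun g hg => hW g (hle hg)

theorem mem_subspaceStabilizer {W : Submodule F (ι → F)} {g : GL ι F} :
    g ∈ subspaceStabilizer W ↔ ∀ w ∈ W, (g : Matrix ι ι F) *ᵥ w ∈ W :=
  ⟨fun h w hw => (h w).1 hw, fun h => stab_of_le' (g := g) h⟩
where
  stab_of_le' {W : Submodule F (ι → F)} {g : GL ι F} (h : ∀ w ∈ W, (g : Matrix ι ι F) *ᵥ w ∈ W) :
      ∀ v, v ∈ W ↔ (g : Matrix ι ι F) *ᵥ v ∈ W := by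
    intro v
    refine ⟨h v, fun hv => ?_⟩
    have h1 : W.map (glEquiv g : (ι → F) →ₗ[F] (ι → F)) = W := by
      apply Submodule.eq_of_le_of_finrank_eq
      · rintro _ ⟨w, hw, rfl⟩; exact h w hw
      · exact LinearEquiv.finrank_map_eq _ _
    rw [← h1] at hv
    obtain ⟨w, hw, e⟩ := hv
    have : w = v := (glEquiv g).injective e
    rwa [← this]

theorem le_subspaceStabilizer {W : Submodule F (ι → F)} {G : Subgroup (GL ι F)} :
    G ≤ subspaceStabilizer W ↔ ∀ g ∈ G, ∀ w ∈ W, (g : Matrix ι ι F) *ᵥ w ∈ W :=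
  forall₂_congr fun _ _ => mem_subspaceStabilizer

theorem not_irr {G : Subgroup (GL ι F)} (h : ¬ Irr G) :
    ∃ W : Submodule F (ι → F), W ≠ ⊥ ∧ W ≠ ⊤ ∧ G ≤ subspaceStabilizer W := by
  unfold Irr at h
  push Not at h
  obtain ⟨W, h1, h2, h3⟩ := h
  exact ⟨W, h2, h3, le_subspaceStabilizer.2 h1⟩

theorem Irr.eq_of_le {G : Subgroup (GL ι F)} (h : Irr G) {W : Submodule F (ι → F)}
    (hW : G ≤ subspaceStabilizer W) : W = ⊥ ∨ W = ⊤ := h W (le_subspaceStabilizer.1 hW)

/-- the algebra spanned by a group of matrices -/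
def alg (N : Subgroup (GL ι F)) : Subalgebra F (Matrix ι ι F) :=
  (Submodule.span F (matrixSet N)).toSubalgebra (Submodule.subset_span ⟨1, N.one_mem, rfl⟩) (by
    intro x y hx hy
    induction hx using Submodule.span_induction with
    | zero => simp
    | add a b _ _ ha hb => rw [add_mul]; exact add_mem ha hb
    | smul c a _ ha => rw [smul_mul_assoc]; exact Submodule.smul_mem _ _ ha
    | mem a ha =>
      induction hy using Submodule.span_induction with
      | zero => simp
      | add a b _ _ ha hb => rw [mul_add]; exact add_mem ha hb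
      | smul c a _ ha => rw [mul_smul_comm]; exact Submodule.smul_mem _ _ ha
      | mem b hb =>
        obtain ⟨g, hg, rfl⟩ := ha
        obtain ⟨h, hh, rfl⟩ := hb
        exact Submodule.subset_span ⟨g * h, N.mul_mem hg hh, rfl⟩)

theorem mem_alg {N : Subgroup (GL ι F)} {x : Matrix ι ι F} :
    x ∈ alg N ↔ x ∈ Submodule.span F (matrixSet N) := Iff.rfl

theorem coe_mem_alg {N : Subgroup (GL ι F)} {g : GL ι F} (h : g ∈ N) : (g : Matrix ι ι F) ∈ alg N :=
  Submodule.subset_span ⟨g, h, rfl⟩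

theorem alg_induction {N : Subgroup (GL ι F)} {p : Matrix ι ι F → Prop}
    (h1 : ∀ g ∈ N, p (g : Matrix ι ι F)) (h0 : p 0) (h2 : ∀ x y, p x → p y → p (x + y))
    (h3 : ∀ (c : F) x, p x → p (c • x)) {x : Matrix ι ι F} (hx : x ∈ alg N) : p x := by
  induction hx using Submodule.span_induction with
  | zero => exact h0
  | add a b _ _ ha hb => exact h2 _ _ ha hb
  | smul c a _ ha => exact h3 _ _ ha
  | mem a ha => obtain ⟨g, hg, rfl⟩ := ha; exact h1 g hg

theorem alg_le {N : Subgroup (GL ι F)} {A : Subalgebra F (Matrix ι ι F)} :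
    alg N ≤ A ↔ ∀ g ∈ N, (g : Matrix ι ι F) ∈ A :=
  ⟨fun h _ hg => h (coe_mem_alg hg), fun h _ hx =>
    alg_induction h (zero_mem _) (fun _ _ => add_mem) (fun c _ h => A.smul_mem h c) hx⟩

theorem alg_mono {N L : Subgroup (GL ι F)} (h : N ≤ L) : alg N ≤ alg L :=
  alg_le.2 fun _ hg => coe_mem_alg (h hg)

theorem comm_alg {N : Subgroup (GL ι F)} {y : Matrix ι ι F}
    (h : ∀ g ∈ N, y * (g : Matrix ι ι F) = g * y) {x : Matrix ι ι F} (hx : x ∈ alg N) : y * x = x * y :=
  alg_induction (p := fun x => y * x = x * y) h (by simp)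
    (fun a b ha hb => by rw [mul_add, add_mul, ha, hb]) (fun c a ha => by simp [ha]) hx

theorem alg_comm_alg {N L : Subgroup (GL ι F)} (h : ∀ g ∈ N, ∀ l ∈ L, g * l = l * g)
    {x y : Matrix ι ι F} (hx : x ∈ alg N) (hy : y ∈ alg L) : x * y = y * x :=
  comm_alg (fun l hl => (comm_alg (fun g hg => by
    rw [← Units.val_mul, ← h g hg l hl, Units.val_mul]) hx).symm) hy

theorem isSc_of_alg_top {N : Subgroup (GL ι F)} (hN : alg N = ⊤) {y : Matrix ι ι F}
    (h : ∀ g ∈ N, y * (g : Matrix ι ι F) = g * y) : IsSc y :=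
  isSc_of_comm fun x => comm_alg h (hN ▸ Algebra.mem_top)

theorem irr_of_alg_top {N : Subgroup (GL ι F)} (hN : alg N = ⊤) : Irr N := by
  intro W hW
  by_cases h : W = ⊥
  · exact Or.inl h
  · right
    obtain ⟨w, hw, hw0⟩ := Submodule.exists_mem_ne_zero_of_ne_bot h
    obtain ⟨i, hi⟩ := Function.ne_iff.1 hw0
    have key : ∀ x : Matrix ι ι F, x *ᵥ w ∈ W := fun x =>
      alg_induction (p := fun x => x *ᵥ w ∈ W) (fun g hg => hW g hg w hw) (by simp)
        (fun a b ha hb => by rw [add_mulVec]; exact add_mem ha hb)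
        (fun c a ha => by rw [smul_mulVec]; exact W.smul_mem c ha) (hN ▸ Algebra.mem_top)
    rw [eq_top_iff]
    intro v _
    have := key (vecMulVec v (Pi.single i (w i)⁻¹))
    rwa [vecMulVec_mulVec, single_dotProduct, inv_mul_cancel₀ hi, MulOpposite.op_one, one_smul] at this

theorem absIrr_of_alg_top {N : Subgroup (GL ι F)} (hN : alg N = ⊤) :
    ActsAbsolutelyIrreducibly (matrixSet N) :=
  ⟨irr_iff.1 (irr_of_alg_top hN), fun _ hM => isSc_of_alg_top hN fun g hg => hM _ ⟨g, hg, rfl⟩⟩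

theorem isSc_of_absIrr {N : Subgroup (GL ι F)} (hN : ActsAbsolutelyIrreducibly (matrixSet N))
    {y : Matrix ι ι F} (h : ∀ g ∈ N, y * (g : Matrix ι ι F) = g * y) : IsSc y :=
  hN.2 y (by rintro _ ⟨g, hg, rfl⟩; exact h g hg)

/-- `G` normalises the subalgebra `A` -/
def Nrm (G : Subgroup (GL ι F)) (A : Subalgebra F (Matrix ι ι F)) : Prop :=
  ∀ g ∈ G, ∀ a ∈ A, cjm g a ∈ A

theorem nrm_iff {G : Subgroup (GL ι F)} {A : Subalgebra F (Matrix ι ι F)} :
    Nrm G A ↔ G ≤ subalgebraNormalizer A := by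
  constructor
  · intro h g hg k
    refine ⟨h g hg k, fun hk => ?_⟩
    have := h _ (G.inv_mem hg) _ hk
    rwa [← cjm_apply, cjm_inv_cjm] at this
  · intro h g hg a ha
    exact (h hg a).1 ha

theorem Nrm.mono {G H : Subgroup (GL ι F)} {A : Subalgebra F (Matrix ι ι F)} (h : Nrm G A)
    (hle : H ≤ G) : Nrm H A := fun g hg => h g (hle hg)

theorem nrm_alg {G N : Subgroup (GL ι F)} (h : G ≤ Subgroup.normalizer (N : Set (GL ι F))) :
    Nrm G (alg N) := fun g hg _ ha =>
  alg_induction (p := fun x => cjm g x ∈ alg N)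
    (fun x hx => by rw [cjm_coe]; exact coe_mem_alg ((Subgroup.mem_normalizer_iff.1 (h hg) x).1 hx))
    (by simp) (fun a b ha hb => by rw [map_add]; exact add_mem ha hb)
    (fun c a ha => by rw [map_smul]; exact (alg N).smul_mem ha c) ha

/-- the centre of a subalgebra -/
def cen (A : Subalgebra F (Matrix ι ι F)) : Subalgebra F (Matrix ι ι F) :=
  A ⊓ Subalgebra.centralizer F (A : Set (Matrix ι ι F))

theorem mem_cen {A : Subalgebra F (Matrix ι ι F)} {x : Matrix ι ι F} :
    x ∈ cen A ↔ x ∈ A ∧ ∀ y ∈ A, y * x = x * y := Iff.rfl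

theorem Nrm.cen {G : Subgroup (GL ι F)} {A : Subalgebra F (Matrix ι ι F)} (h : Nrm G A) :
    Nrm G (cen A) := fun g hg a ha => ⟨h g hg a ha.1, fun y hy => by
  have := ha.2 _ (h _ (G.inv_mem hg) y hy)
  have h2 := congrArg (cjm g) this
  rwa [map_mul, map_mul, cjm_cjm_inv] at h2⟩

/-- restriction of the conjugation to a normalised subalgebra -/
def Nrm.aut {G : Subgroup (GL ι F)} {A : Subalgebra F (Matrix ι ι F)} (h : Nrm G A) {g : GL ι F}
    (hg : g ∈ G) : A ≃ₐ[F] A where
  toFun a := ⟨cjm g a, h g hg a a.2⟩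
  invFun a := ⟨cjm g⁻¹ a, h _ (G.inv_mem hg) a a.2⟩
  left_inv a := Subtype.ext (cjm_inv_cjm _ _)
  right_inv a := Subtype.ext (cjm_cjm_inv _ _)
  map_mul' a b := Subtype.ext (map_mul (cjm g) _ _)
  map_add' a b := Subtype.ext (map_add (cjm g) _ _)
  commutes' c := Subtype.ext ((cjm g).commutes c)

theorem Irr.semisimple {G : Subgroup (GL ι F)} (hG : Irr G) {A : Subalgebra F (Matrix ι ι F)}
    (h : Nrm G A) : IsSemisimpleRing A := by
  haveI : IsArtinianRing A := IsArtinianRing.of_finite F A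
  rw [IsArtinianRing.isSemisimpleRing_iff_jacobson]
  let W : ℕ → Submodule F (ι → F) := fun k =>
    Submodule.span F {w | ∃ j ∈ (Ring.jacobson A) ^ k, ∃ v, w = (j : Matrix ι ι F) *ᵥ v}
  have hW : W 1 = ⊥ ∨ W 1 = ⊤ := by
    refine hG _ fun g hg w hw => ?_
    induction hw using Submodule.span_induction with
    | zero => simp
    | add a b _ _ ha hb => rw [mulVec_add]; exact add_mem ha hb
    | smul c a _ ha => rw [mulVec_smul]; exact Submodule.smul_mem _ _ ha
    | mem a ha =>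
      obtain ⟨j, hj, v, rfl⟩ := ha
      rw [Submodule.pow_one] at hj
      haveI : RingHomSurjective ((h.aut hg).toRingEquiv : A →+* A) := ⟨(h.aut hg).surjective⟩
      have := Ring.le_comap_jacobson ((h.aut hg).toRingEquiv : A →+* A) hj
      refine Submodule.subset_span ⟨h.aut hg j, by rw [Submodule.pow_one]; exact this,
        (g : Matrix ι ι F) *ᵥ v, ?_⟩
      exact (cjm_mulVec g j v).symm
  have hbot : W 1 = ⊥ → Ring.jacobson A = ⊥ := by
    intro h1
    rw [eq_bot_iff]
    intro j hj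
    rw [Submodule.mem_bot]
    apply Subtype.ext
    apply matrix_ext_mulVec
    intro v
    have : (j : Matrix ι ι F) *ᵥ v ∈ W 1 :=
      Submodule.subset_span ⟨j, by rw [Submodule.pow_one]; exact hj, v, rfl⟩
    rw [h1, Submodule.mem_bot] at this
    simp [this]
  rcases hW with h1 | h1
  · exact hbot h1
  · have key : ∀ k, ∀ v, v ∈ W k := by
      intro k
      induction k with
      | zero =>
        intro v
        exact Submodule.subset_span ⟨1, by rw [Submodule.pow_zero, Ideal.one_eq_top]; trivial, v, by simp⟩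
      | succ k ih =>
        intro v
        have hv := ih v
        induction hv using Submodule.span_induction with
        | zero => simp
        | add a b _ _ ha hb => exact add_mem ha hb
        | smul c a _ ha => exact Submodule.smul_mem _ _ ha
        | mem a ha =>
          obtain ⟨j, hj, u, rfl⟩ := ha
          have hu : u ∈ W 1 := h1 ▸ Submodule.mem_top
          induction hu using Submodule.span_induction with
          | zero => simp
          | add a b _ _ ha hb => rw [mulVec_add]; exact add_mem ha hb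
          | smul c a _ ha => rw [mulVec_smul]; exact Submodule.smul_mem _ _ ha
          | mem a ha =>
            obtain ⟨j', hj', u', rfl⟩ := ha
            rw [Submodule.pow_one] at hj'
            refine Submodule.subset_span ⟨j * j', ?_, u', by rw [mulVec_mulVec]; rfl⟩
            rw [Submodule.pow_succ]
            exact Ideal.mul_mem_mul hj hj'
    obtain ⟨k, hk⟩ := IsSemiprimaryRing.isNilpotent (R := A)
    apply hbot
    rw [eq_bot_iff]
    intro v _
    have hv := key k v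
    have : W k ≤ ⊥ := by
      refine Submodule.span_le.2 ?_
      rintro _ ⟨j, hj, u, rfl⟩
      rw [hk] at hj
      have : j = 0 := by simpa using hj
      simp [this]
    exact this hv


/-- A normalised subalgebra with scalar centre is a full matrix algebra. -/
theorem Irr.exists_matrix [Finite F] [Nonempty ι] {G : Subgroup (GL ι F)} (hG : Irr G)
    {A : Subalgebra F (Matrix ι ι F)} (h : Nrm G A) (hc : ∀ x ∈ cen A, IsSc x) :
    ∃ (d : ℕ) (φ : Matrix (Fin d) (Fin d) F →ₐ[F] Matrix ι ι F), 0 < d ∧ φ.range = A := by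
  haveI := hG.semisimple h
  obtain ⟨n, D, d, _, _, _, hd, ⟨e⟩⟩ :=
    IsSemisimpleRing.exists_algEquiv_pi_matrix_divisionRing_finite F A
  have hcen : ∀ y : (Π i, Matrix (Fin (d i)) (Fin (d i)) (D i)), (∀ z, z * y = y * z) →
      ∃ c : F, y = c • 1 := by
    intro y hy
    obtain ⟨c, hc⟩ := hc (e.symm y) ⟨(e.symm y).2, fun z hz => by
      have := congrArg (fun t => ((e.symm t : A) : Matrix ι ι F)) (hy (e ⟨z, hz⟩))
      simpa using this⟩
    refine ⟨c, ?_⟩
    have : e.symm y = c • 1 := Subtype.ext hc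
    rw [← e.apply_symm_apply y, this, map_smul, map_one]
  have hn : n ≠ 0 := by
    rintro rfl
    have : (1 : A) = 0 := e.injective (Subsingleton.elim _ _)
    exact one_ne_zero this
  obtain ⟨m, rfl⟩ := Nat.exists_eq_succ_of_ne_zero hn
  haveI := hd
  have hm : ∀ i : Fin (m + 1), i = 0 := by
    intro i
    by_contra hi
    obtain ⟨c, hc⟩ := hcen (Pi.single 0 1) (fun z => by
      ext j : 1
      by_cases hj : j = 0
      · subst hj; simp
      · simp [Pi.single_eq_of_ne hj])
    have h0 := congrFun (congrFun (congrFun hc 0) 0) 0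
    have h1 := congrFun (congrFun (congrFun hc i) 0) 0
    simp [Pi.single_eq_of_ne hi] at h0 h1
    have hc0 : c = 0 := by
      by_contra hc0
      have := congrArg (fun t => c⁻¹ • t) h1
      simp [smul_smul, hc0] at this
    rw [hc0, zero_smul] at h0; exact one_ne_zero h0
  have hsurj : Function.Surjective (algebraMap F (D 0)) := by
    intro x
    haveI : Finite (D 0) := Module.finite_of_finite F
    have hcomm : ∀ a b : D 0, a * b = b * a := fun a b => (littleWedderburn (D 0)).mul_comm a b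
    obtain ⟨c, hc⟩ := hcen (Pi.single 0 (Matrix.scalar _ x)) (fun z => by
      ext j : 1
      obtain rfl := hm j
      simp only [Pi.mul_apply, Pi.single_eq_same]
      exact ((Matrix.scalar_commute x (fun r => hcomm x r) (z 0))).symm)
    have h0 := congrFun (congrFun (congrFun hc 0) 0) 0
    simp at h0
    exact ⟨c, by rw [h0, Algebra.algebraMap_eq_smul_one]⟩
  let ψ : Matrix (Fin (d 0)) (Fin (d 0)) F →ₐ[F] Matrix (Fin (d 0)) (Fin (d 0)) (D 0) :=
    (Algebra.ofId F (D 0)).mapMatrix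
  have hψ : Function.Surjective ψ := by
    intro y
    refine ⟨Matrix.of fun i j => (hsurj (y i j)).choose, ?_⟩
    ext i j
    exact (hsurj (y i j)).choose_spec
  let ρ : Matrix (Fin (d 0)) (Fin (d 0)) (D 0) →ₐ[F] (Π i, Matrix (Fin (d i)) (Fin (d i)) (D i)) :=
    { toFun := fun y => Pi.single 0 y
      map_one' := by ext j : 1; obtain rfl := hm j; simp
      map_mul' := fun a b => by ext j : 1; obtain rfl := hm j; simp
      map_zero' := by simp
      map_add' := fun a b => by ext j : 1; obtain rfl := hm j; simp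
      commutes' := fun c => by ext j : 1; obtain rfl := hm j; simp }
  have hρ : Function.Surjective ρ := fun y => ⟨y 0, by ext j : 1; obtain rfl := hm j; simp [ρ]⟩
  refine ⟨d 0, A.val.comp ((e.symm : _ →ₐ[F] A).comp (ρ.comp ψ)), Nat.pos_of_neZero _, ?_⟩
  apply le_antisymm
  · rintro _ ⟨y, rfl⟩
    exact (e.symm _).2
  · intro x hx
    obtain ⟨y, hy⟩ := (hρ.comp hψ) (e ⟨x, hx⟩)
    refine ⟨y, ?_⟩
    simp only [Function.comp] at hy
    simp [hy]

/-! ### Transport along a change of basis -/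

section Tr
variable {κ : Type} [Fintype κ] [DecidableEq κ]

/-- transport of matrices -/
def trm (e : ι ≃ κ) (P : GL ι F) : Matrix κ κ F ≃ₐ[F] Matrix ι ι F :=
  (Matrix.reindexAlgEquiv F F e.symm).trans (cjm P)

/-- transport of invertible matrices -/
def trg (e : ι ≃ κ) (P : GL ι F) : GL κ F ≃* GL ι F :=
  (glReindex e.symm).trans (MulAut.conj P)

/-- transport of vectors -/
noncomputable def trv (e : ι ≃ κ) (P : GL ι F) : (κ → F) ≃ₗ[F] (ι → F) :=
  (LinearEquiv.funCongrLeft F F e).trans (glEquiv P)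

theorem trv_apply (e : ι ≃ κ) (P : GL ι F) (x : κ → F) :
    trv e P x = (P : Matrix ι ι F) *ᵥ (x ∘ e) := rfl

theorem coe_trg (e : ι ≃ κ) (P : GL ι F) (g : GL κ F) :
    ((trg e P g : GL ι F) : Matrix ι ι F) = trm e P (g : Matrix κ κ F) := rfl

theorem trm_apply (e : ι ≃ κ) (P : GL ι F) (a : Matrix κ κ F) :
    trm e P a = cjm P (a.submatrix e e) := rfl

theorem trm_mulVec (e : ι ≃ κ) (P : GL ι F) (a : Matrix κ κ F) (x : κ → F) :
    trm e P a *ᵥ trv e P x = trv e P (a *ᵥ x) := by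
  rw [trv_apply, trv_apply, trm_apply, cjm_mulVec, submatrix_mulVec_equiv]
  have : (x ∘ e) ∘ e.symm = x := by ext i; simp
  rw [this]

theorem trg_mulVec (e : ι ≃ κ) (P : GL ι F) (g : GL κ F) (x : κ → F) :
    ((trg e P g : GL ι F) : Matrix ι ι F) *ᵥ trv e P x = trv e P ((g : Matrix κ κ F) *ᵥ x) :=
  trm_mulVec e P g x

theorem cjm_trg (e : ι ≃ κ) (P : GL ι F) (g : GL κ F) (a : Matrix κ κ F) :
    cjm (trg e P g) (trm e P a) = trm e P (cjm g a) := by
  rw [cjm_apply, cjm_apply, ← map_inv, coe_trg, coe_trg, map_mul, map_mul]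

theorem map_trg (e : ι ≃ κ) (P : GL ι F) (S : Subgroup (GL κ F)) :
    ((S.map (glReindex e.symm).toMonoidHom).map (MulAut.conj P).toMonoidHom) =
      S.map (trg e P).toMonoidHom := by
  rw [Subgroup.map_map]; rfl

theorem mem_map_trg {e : ι ≃ κ} {P : GL ι F} {S : Subgroup (GL κ F)} {g : GL ι F} :
    g ∈ S.map (trg e P).toMonoidHom ↔ (trg e P).symm g ∈ S :=
  Subgroup.mem_map_equiv

theorem exists_trv (T : (κ → F) ≃ₗ[F] (ι → F)) : ∃ (e : ι ≃ κ) (P : GL ι F), trv e P = T := by
  have hc : Fintype.card ι = Fintype.card κ := by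
    have := T.finrank_eq
    simpa using this.symm
  let e := Fintype.equivOfCardEq hc
  refine ⟨e, glEquiv.symm ((LinearEquiv.funCongrLeft F F e).symm.trans T), ?_⟩
  ext x : 1
  simp only [trv, MulEquiv.apply_symm_apply, LinearEquiv.trans_apply, LinearEquiv.symm_apply_apply]

theorem eq_trm {e : ι ≃ κ} {P : GL ι F} {a : Matrix κ κ F} {b : Matrix ι ι F}
    (h : ∀ x, b *ᵥ trv e P x = trv e P (a *ᵥ x)) : b = trm e P a := by
  apply matrix_ext_mulVec
  intro v
  obtain ⟨x, rfl⟩ := (trv e P).surjective v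
  rw [h, trm_mulVec]

theorem isSc_trm {e : ι ≃ κ} {P : GL ι F} {a : Matrix κ κ F} : IsSc (trm e P a) ↔ IsSc a := by
  constructor
  · rintro ⟨c, hc⟩
    refine ⟨c, (trm e P).injective ?_⟩
    rw [hc, map_smul, map_one]
  · rintro ⟨c, rfl⟩
    exact ⟨c, by rw [map_smul, map_one]⟩

theorem trm_trans {κ' : Type} [Fintype κ'] [DecidableEq κ'] (e : ι ≃ κ) (e' : κ ≃ κ') (P : GL ι F)
    (a : Matrix κ' κ' F) : trm (e.trans e') P a = trm e P (a.submatrix e' e') := rfl

theorem trv_trans {κ' : Type} [Fintype κ'] [DecidableEq κ'] (e : ι ≃ κ) (e' : κ ≃ κ') (P : GL ι F)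
    (x : κ' → F) : trv (e.trans e') P x = trv e P (x ∘ e') := rfl

/-- A unital representation of a full matrix algebra is a multiple of the natural one. -/
theorem exists_tensor [Nonempty κ] (φ : Matrix κ κ F →ₐ[F] Matrix ι ι F) :
    ∃ (k : ℕ) (e : ι ≃ κ × Fin k) (P : GL ι F), ∀ a, φ a = trm e P (a ⊗ₖ (1 : Matrix (Fin k) (Fin k) F)) := by
  obtain ⟨i₀⟩ := ‹Nonempty κ›
  let U : Submodule F (ι → F) := LinearMap.range (Matrix.toLin' (φ (single i₀ i₀ 1)))
  let b := Module.finBasis F U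
  have hU : ∀ u : U, φ (single i₀ i₀ 1) *ᵥ (u : ι → F) = u := by
    rintro ⟨_, v, rfl⟩
    simp only [toLin'_apply, mulVec_mulVec, ← map_mul, single_mul_single_same, mul_one]
  let w : κ × Fin (finrank F U) → (ι → F) := fun p => φ (single p.1 i₀ 1) *ᵥ (b p.2 : ι → F)
  have hw : ∀ i j p, φ (single i j 1) *ᵥ w p = if j = p.1 then w (i, p.2) else 0 := by
    intro i j p
    simp only [w, mulVec_mulVec, ← map_mul]
    split_ifs with hj
    · subst hj; rw [single_mul_single_same, mul_one]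
    · rw [single_mul_single_of_ne _ _ _ _ hj]; simp
  let T := Fintype.linearCombination F w
  have hT : ∀ x, T x = ∑ p, x p • w p := fun x => Fintype.linearCombination_apply _ _ _
  have hinj : Function.Injective T := by
    rw [← LinearMap.ker_eq_bot, eq_bot_iff]
    intro x hx
    rw [LinearMap.mem_ker, hT] at hx
    rw [Submodule.mem_bot]
    ext ⟨j, a⟩
    have h1 := congrArg (fun v => φ (single i₀ j 1) *ᵥ v) hx
    simp only [mulVec_sum, mulVec_smul, hw, mulVec_zero, Fintype.sum_prod_type] at h1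
    rw [Finset.sum_eq_single j (fun k _ hk => by simp [Ne.symm hk]) (by simp)] at h1
    simp only [if_true, w, hU] at h1
    have h2 : ∑ a, x (j, a) • b a = 0 := by
      apply Subtype.ext
      simpa using h1
    exact Fintype.linearIndependent_iff.1 b.linearIndependent _ h2 a
  have hsurj : Function.Surjective T := by
    rw [← LinearMap.range_eq_top, eq_top_iff]
    intro v _
    have h1 : v = ∑ i, φ (single i i₀ 1) *ᵥ (φ (single i₀ i₀ 1) *ᵥ (φ (single i₀ i 1) *ᵥ v)) := by
      simp only [mulVec_mulVec, ← map_mul, single_mul_single_same, mul_one]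
      rw [← sum_mulVec, ← map_sum, sum_single_one, map_one, one_mulVec]
    rw [h1]
    refine Submodule.sum_mem _ fun i _ => ?_
    let u : U := ⟨φ (single i₀ i₀ 1) *ᵥ (φ (single i₀ i 1) *ᵥ v), _, rfl⟩
    have h2 : (u : ι → F) = ∑ a, b.repr u a • (b a : ι → F) := by
      have := congrArg Subtype.val (b.sum_repr u)
      rw [← this, Submodule.coe_sum]
      rfl
    change φ (single i i₀ 1) *ᵥ (u : ι → F) ∈ _
    rw [h2, mulVec_sum]
    refine Submodule.sum_mem _ fun a _ => ?_
    rw [mulVec_smul]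
    refine Submodule.smul_mem _ _ ⟨Pi.single (i, a) 1, ?_⟩
    simp [T, w]
  obtain ⟨e, P, hP⟩ := exists_trv (LinearEquiv.ofBijective T ⟨hinj, hsurj⟩)
  refine ⟨_, e, P, fun a => eq_trm fun x => ?_⟩
  rw [hP]
  change φ a *ᵥ T x = T _
  simp only [hT]
  have ha : ∀ p, φ a *ᵥ w p = ∑ i, a i p.1 • w (i, p.2) := by
    intro p
    conv_lhs => rw [matrix_eq_sum_single a]
    simp only [map_sum, sum_mulVec]
    refine Finset.sum_congr rfl fun i _ => ?_
    have : ∀ j, φ (single i j (a i j)) *ᵥ w p = a i j • (if j = p.1 then w (i, p.2) else 0) := by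
      intro j
      rw [← hw, ← smul_mulVec, ← map_smul, smul_single, smul_eq_mul, mul_one]
    simp only [this]
    rw [Finset.sum_eq_single p.1 (fun k _ hk => by simp [hk]) (by simp)]
    simp
  simp only [mulVec_sum, mulVec_smul, ha, Finset.smul_sum, Fintype.sum_prod_type]
  have hr : ∀ i c, ((a ⊗ₖ (1 : Matrix (Fin (finrank F U)) (Fin (finrank F U)) F)) *ᵥ x) (i, c) =
      ∑ j, a i j * x (j, c) := by
    intro i c
    simp only [mulVec, dotProduct, Fintype.sum_prod_type, kroneckerMap_apply, one_apply]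
    refine Finset.sum_congr rfl fun j _ => ?_
    rw [Finset.sum_eq_single c (fun k _ hk => by simp [Ne.symm hk]) (by simp)]
    simp
  simp only [hr, Finset.sum_smul]
  rw [Finset.sum_comm]
  conv_rhs => rw [Finset.sum_comm]
  refine Finset.sum_congr rfl fun c _ => ?_
  rw [Finset.sum_comm]
  refine Finset.sum_congr rfl fun i _ => Finset.sum_congr rfl fun j _ => ?_
  rw [smul_smul, mul_comm]

/-- A surjective representation of a matrix algebra is the natural one. -/
theorem exists_trm_of_surjective [Nonempty κ] [Nonempty ι] (φ : Matrix κ κ F →ₐ[F] Matrix ι ι F)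
    (h : Function.Surjective φ) : ∃ (e : ι ≃ κ) (P : GL ι F), ∀ a, φ a = trm e P a := by
  have hinj : Function.Injective φ := φ.toRingHom.injective
  let θ : Module.End F (κ → F) ≃ₐ[F] Module.End F (ι → F) :=
    (Matrix.toLinAlgEquiv'.symm.trans (AlgEquiv.ofBijective φ ⟨hinj, h⟩)).trans Matrix.toLinAlgEquiv'
  obtain ⟨T, hT⟩ := θ.eq_linearEquivConjAlgEquiv
  obtain ⟨e, P, hP⟩ := exists_trv T
  refine ⟨e, P, fun a => eq_trm fun x => ?_⟩
  have := congrArg (fun ψ : Module.End F (κ → F) ≃ₐ[F] Module.End F (ι → F) =>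
    ψ (Matrix.toLinAlgEquiv' a) (T x)) hT
  simp only [θ, AlgEquiv.trans_apply, AlgEquiv.symm_apply_apply, AlgEquiv.ofBijective_apply,
    LinearEquiv.conjAlgEquiv_apply] at this
  rw [hP]
  simp only [Matrix.toLinAlgEquiv'_apply, LinearMap.comp_apply, LinearEquiv.coe_coe,
    LinearEquiv.symm_apply_apply] at this
  exact this

/-- Skolem-Noether for a full matrix algebra. -/
theorem exists_cjm (θ : Matrix ι ι F →ₐ[F] Matrix ι ι F) : ∃ b : GL ι F, ∀ a, θ a = cjm b a := by
  cases isEmpty_or_nonempty ι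
  · exact ⟨1, fun a => Subsingleton.elim _ _⟩
  have hinj : Function.Injective θ := θ.toRingHom.injective
  have hs : Function.Surjective θ := LinearMap.injective_iff_surjective (f := θ.toLinearMap).1 hinj
  let θ' : Module.End F (ι → F) ≃ₐ[F] Module.End F (ι → F) :=
    (Matrix.toLinAlgEquiv'.symm.trans (AlgEquiv.ofBijective θ ⟨hinj, hs⟩)).trans Matrix.toLinAlgEquiv'
  obtain ⟨T, hT⟩ := θ'.eq_linearEquivConjAlgEquiv
  refine ⟨glEquiv.symm T, fun a => matrix_ext_mulVec fun v => ?_⟩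
  obtain ⟨x, rfl⟩ := T.surjective v
  have := congrArg (fun ψ : Module.End F (ι → F) ≃ₐ[F] Module.End F (ι → F) =>
    ψ (Matrix.toLinAlgEquiv' a) (T x)) hT
  simp only [θ', AlgEquiv.trans_apply, AlgEquiv.symm_apply_apply, AlgEquiv.ofBijective_apply,
    LinearEquiv.conjAlgEquiv_apply] at this
  conv_rhs => rw [← glEquiv_symm_mulVec T x, cjm_mulVec, glEquiv_symm_mulVec]
  simp only [Matrix.toLinAlgEquiv'_apply, LinearMap.comp_apply, LinearEquiv.coe_coe,
    LinearEquiv.symm_apply_apply] at this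
  exact this

/-- Conjugation between two embedded matrix algebras is induced by an inner automorphism. -/
theorem exists_cjm_of_range [Nonempty ι] (φ ψ : Matrix κ κ F →ₐ[F] Matrix ι ι F) (g : GL ι F)
    (h : ∀ a, cjm g (φ a) ∈ ψ.range) : ∃ b : GL κ F, ∀ a, cjm g (φ a) = ψ (cjm b a) := by
  cases isEmpty_or_nonempty κ
  · refine ⟨1, fun a => ?_⟩
    have : (1 : Matrix ι ι F) = 0 := by rw [← map_one φ, Subsingleton.elim 1 0, map_zero]
    exact absurd this one_ne_zero
  have hinj : Function.Injective ψ := ψ.toRingHom.injective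
  let θ : Matrix κ κ F →ₐ[F] Matrix κ κ F :=
    ((AlgEquiv.ofInjective ψ hinj).symm : ψ.range →ₐ[F] Matrix κ κ F).comp
      (((cjm g).toAlgHom.comp φ).codRestrict ψ.range h)
  obtain ⟨b, hb⟩ := exists_cjm θ
  refine ⟨b, fun a => ?_⟩
  rw [← hb]
  have : ∀ y : ψ.range, ψ ((AlgEquiv.ofInjective ψ hinj).symm y) = y := by
    intro y
    obtain ⟨z, rfl⟩ := (AlgEquiv.ofInjective ψ hinj).surjective y
    rw [AlgEquiv.symm_apply_apply]; rfl
  exact (this ⟨_, h a⟩).symm

end Tr

end Cfsg.Agent.Classical.Asch
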