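import Cfsg.Agent.Lib.Classical.Asch9

/-!
Tensor factors; Aschbacher's theorem for the linear groups.
-/

set_option autoImplicit false

namespace Cfsg.Agent.Classical.Asch
open Matrix Cfsg.Geo Module Cfsg.Agent.Comp
open scoped MatrixGroups Kronecker commutatorElement

variable {ι : Type} [Fintype ι] [DecidableEq ι] {F : Type*} [Field F] {σ : F →+* F}

local notation "Z" => scalars ι F
local notation "σ₀" => RingHom.id F

theorem isSc_of_map {κ : Type} [Fintype κ] [DecidableEq κ] [Nonempty ι]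
    (φ : Matrix κ κ F →ₐ[F] Matrix ι ι F) {a : Matrix κ κ F} (h : IsSc (φ a)) : IsSc a := by
  cases isEmpty_or_nonempty κ
  · exact ⟨0, Subsingleton.elim _ _⟩
  obtain ⟨c, hc⟩ := h
  exact ⟨c, RingHom.injective φ.toRingHom (hc.trans (by simp))⟩

section Fac
variable {κ₁ κ₂ : Type} [Fintype κ₁] [DecidableEq κ₁] [Fintype κ₂] [DecidableEq κ₂]

/-- the first tensor factor of a group -/
def fac (G : Subgroup (GL ι F)) (e : ι ≃ κ₁ × κ₂) (P : GL ι F) : Subgroup (GL κ₁ F) where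
  carrier := {a | ∃ b, trg e P (kgl a b) ∈ G}
  one_mem' := ⟨1, by rw [kgl_one, map_one]; exact G.one_mem⟩
  mul_mem' := fun ⟨b, hb⟩ ⟨c, hc⟩ => ⟨b * c, by rw [kgl_mul, map_mul]; exact G.mul_mem hb hc⟩
  inv_mem' := fun ⟨b, hb⟩ => ⟨b⁻¹, by rw [← kgl_inv, map_inv]; exact G.inv_mem hb⟩

/-- the embedding of the first tensor factor -/
def tkl (e : ι ≃ κ₁ × κ₂) (P : GL ι F) : Matrix κ₁ κ₁ F →ₐ[F] Matrix ι ι F :=
  (trm e P).toAlgHom.comp (kl κ₂)

theorem tkl_apply (e : ι ≃ κ₁ × κ₂) (P : GL ι F) (a : Matrix κ₁ κ₁ F) : tkl e P a = trm e P (kl κ₂ a) := rfl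

variable {G : Subgroup (GL ι F)} {e : ι ≃ κ₁ × κ₂} {P : GL ι F}

theorem cjm_tkl (a : GL κ₁ F) (b : GL κ₂ F) (x : Matrix κ₁ κ₁ F) :
    cjm (trg e P (kgl a b)) (tkl e P x) = tkl e P (cjm a x) := by
  rw [tkl_apply, cjm_trg, cjm_kgl_kl]; rfl

theorem Pb.adj_tkl (hσ : ∀ a, σ (σ a) = a) {B : GL ι F} {B₁ : GL κ₁ F} {B₂ : GL κ₂ F}
    (h : Pb σ B.val e P (kgl B₁ B₂).val) (x : Matrix κ₁ κ₁ F) :
    Asch.adj σ B (tkl e P x) = tkl e P (Asch.adj σ B₁ x) := by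
  rw [tkl_apply, h.adj hσ, adj_kgl_kl]; rfl

theorem Nrm.map_tkl (hG : ∀ g ∈ G, ∃ a b, g = trg e P (kgl a b)) {C : Subalgebra F (Matrix κ₁ κ₁ F)}
    (h : Nrm (fac G e P) C) : Nrm G (C.map (tkl e P)) := by
  rintro g hg _ ⟨x, hx, rfl⟩
  obtain ⟨a, b, rfl⟩ := hG g hg
  exact ⟨cjm a x, h a ⟨b, hg⟩ x hx, (cjm_tkl a b x).symm⟩

theorem IsComm.map {κ : Type} [Fintype κ] [DecidableEq κ] {C : Subalgebra F (Matrix κ κ F)} (h : IsComm C)
    (φ : Matrix κ κ F →ₐ[F] Matrix ι ι F) : IsComm (C.map φ) := by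
  rintro _ ⟨x, hx, rfl⟩ _ ⟨y, hy, rfl⟩
  exact (map_mul φ x y).symm.trans ((congrArg φ (h x hx y hy)).trans (map_mul φ y x))

theorem SPrim.fac [Nonempty ι] (hG : ∀ g ∈ G, ∃ a b, g = trg e P (kgl a b)) (h : SPrim G) :
    SPrim (fac G e P) := fun _ hn hc x hx =>
  isSc_of_map (tkl e P) (h _ (hn.map_tkl hG) (hc.map _) _ ⟨x, hx, rfl⟩)

theorem SPrimF.fac [Nonempty ι] (hG : ∀ g ∈ G, ∃ a b, g = trg e P (kgl a b)) (hσ : ∀ a, σ (σ a) = a)
    {B : GL ι F} {B₁ : GL κ₁ F} {B₂ : GL κ₂ F} (hB : Pb σ B.val e P (kgl B₁ B₂).val)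
    (h : SPrimF σ B G) : SPrimF σ B₁ (fac G e P) := fun _ hn hc hs x hx =>
  isSc_of_map (tkl e P) (h _ (hn.map_tkl hG) (hc.map _) (by
    rintro _ ⟨y, hy, rfl⟩
    exact ⟨_, hs y hy, (hB.adj_tkl hσ y).symm⟩) _ ⟨x, hx, rfl⟩)

theorem fac_le_Sim [Nonempty κ₁] [Nonempty κ₂] {B : Matrix ι ι F} {B₁ : GL κ₁ F} {B₂ : GL κ₂ F}
    (hB : Pb σ B e P (kgl B₁ B₂).val) (h : G ≤ Sim σ B) : fac G e P ≤ Sim σ B₁.val :=
  fun _ ⟨_, hb⟩ => (kgl_mem_Sim.1 (hB.mem_Sim.1 (h hb))).1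

theorem Irr.fac [Nonempty κ₂] (hG : ∀ g ∈ G, ∃ a b, g = trg e P (kgl a b)) (h : Irr G) :
    Irr (fac G e P) := by
  intro W hW
  let U : Submodule F (κ₁ × κ₂ → F) := ⨅ j : κ₂, W.comap (LinearMap.funLeft F F fun i => (i, j))
  have hU : ∀ v, v ∈ U ↔ ∀ j, (fun i => v (i, j)) ∈ W := fun v => Submodule.mem_iInf _
  have hk : ∀ x ∈ W, ∀ y, ktv x y ∈ U := fun x hx y => (hU _).2 fun j => by
    convert W.smul_mem (y j) hx using 1
    ext; simp [ktv, mul_comm]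
  rcases h (U.map (trv e P).toLinearMap) (by
    rintro g hg _ ⟨v, hv, rfl⟩
    obtain ⟨a, b, rfl⟩ := hG g hg
    refine ⟨_, ?_, (trg_mulVec e P _ v).symm⟩
    have : v = ∑ j, ktv (fun i => v (i, j)) (Pi.single j 1) := by
      ext p; simp [ktv, Pi.single_apply]
    rw [this, mulVec_sum]
    refine U.sum_mem fun j _ => ?_
    rw [coe_kgl, kron_mulVec]
    exact hk _ (hW a ⟨b, hg⟩ _ ((hU v).1 hv j)) _) with h1 | h1
  · left
    rw [Submodule.eq_bot_iff] at h1 ⊢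
    intro x hx
    obtain ⟨j⟩ := ‹Nonempty κ₂›
    have := (trv e P).map_eq_zero_iff.1 (h1 _ ⟨_, hk x hx (fun _ => 1), rfl⟩)
    ext i; simpa [ktv] using congrFun this (i, j)
  · right
    rw [eq_top_iff]
    intro x _
    obtain ⟨j⟩ := ‹Nonempty κ₂›
    obtain ⟨v, hv, e'⟩ : trv e P (ktv x fun _ => 1) ∈ U.map (trv e P).toLinearMap := h1 ▸ Submodule.mem_top
    rw [(trv e P).injective e'] at hv
    simpa [ktv] using (hU _).1 hv j

theorem kgl_swap (hG : ∀ g ∈ G, ∃ a b, g = trg e P (kgl a b)) :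
    ∀ g ∈ G, ∃ b a, g = trg (e.trans (Equiv.prodComm _ _)) P (kgl b a) := fun g hg => by
  obtain ⟨a, b, h⟩ := hG g hg
  exact ⟨b, a, by rw [trg_kgl_swap, h]⟩

theorem Pb.swap' {B : Matrix ι ι F} {B₁ : GL κ₁ F} {B₂ : GL κ₂ F} (h : Pb σ B e P (kgl B₁ B₂).val) :
    Pb σ B (e.trans (Equiv.prodComm _ _)) P (kgl B₂ B₁).val := by
  have := Pb.swap (σ := σ) (B := B) (e := e) (P := P) (B₁ := B₁.val) (B₂ := B₂.val) (c := (1 : F))
    (by rw [one_smul]; exact h)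
  rwa [one_smul] at this

end Fac

theorem eq_zero_or_one [Fintype F] (h : Fintype.card F = 2) (x : F) : x = 0 ∨ x = 1 := by
  have := FiniteField.pow_card x
  rw [h] at this
  have h2 : x * (x - 1) = 0 := by linear_combination this
  exact (mul_eq_zero.1 h2).imp_right sub_eq_zero.1

theorem two_eq_zero_of_card [Fintype F] (h : Even (Fintype.card F)) : (2 : F) = 0 := by
  by_contra h2
  exact Nat.not_even_iff_odd.2 (two_ne_zero_iff_odd.1 h2) h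

theorem not_sprim_two [Fintype F] (h : Fintype.card F = 2) (G : Subgroup (GL (Fin 2) F)) :
    ∃ s : Matrix (Fin 2) (Fin 2) F, ¬ IsSc s ∧ ∀ t : Matrix (Fin 2) (Fin 2) F, t * t = t + 1 →
      t ∈ Algebra.adjoin F {s} ∧ s * s = s + 1 := by
  have h2 : (1 : F) + 1 = 0 := by rw [one_add_one_eq_two, two_eq_zero_of_card (by rw [h]; decide)]
  refine ⟨!![0, 1; 1, 1], fun ⟨c, hc⟩ => by simpa using congrFun (congrFun hc 0) 1, fun t ht => ⟨?_, ?_⟩⟩
  · have : t = (0 : F) • 1 + (1 : F) • !![0, 1; 1, 1] ∨ t = (1 : F) • 1 + (1 : F) • !![0, 1; 1, 1] := by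
      rw [Matrix.eta_fin_two t] at ht ⊢
      generalize t 0 0 = a, t 0 1 = b, t 1 0 = c, t 1 1 = d at ht
      rw [one_fin_two] at ht ⊢
      rcases eq_zero_or_one h a with rfl | rfl <;> rcases eq_zero_or_one h b with rfl | rfl <;>
        rcases eq_zero_or_one h c with rfl | rfl <;> rcases eq_zero_or_one h d with rfl | rfl <;>
        simp [h2] at ht ⊢
      simpa using congrFun ht.1 0
    rcases this with e | e <;> rw [e] <;> exact add_smul_mem_adjoin _ _ _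
  · simp [one_fin_two]

theorem SPrim.card_ne_two [Fintype F] {G : Subgroup (GL (Fin 2) F)} (h : SPrim G) : Fintype.card F ≠ 2 := by
  intro h2
  obtain ⟨s, hs, hs'⟩ := not_sprim_two h2 G
  refine hs (h.isSc fun g _ => (hs' _ ?_).1)
  rw [← map_mul, (hs' s ?_).2, map_add, map_one]
  exact (hs' !![0, 1; 1, 1] (by simp [one_fin_two])).2

theorem TensCase.swap_le {G N : Subgroup (GL ι F)} {d k : ℕ} {e : ι ≃ Fin d × Fin k} {P : GL ι F}
    (h : TensCase G N d k e P) : G ≤ tensorProductSubgroup k d (e.trans (Equiv.prodComm _ _)) P := by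
  rw [tensorProductSubgroup_swap]; exact h.le

theorem le_Sim_of_wreath {m t : ℕ} {e : ι ≃ (Fin t → Fin m)} {P : GL ι F} {B : Matrix ι ι F}
    {B₀ : Matrix (Fin m) (Fin m) F} (hB : Pb σ B e P (pt fun _ => B₀)) (h : ∀ a, a ∈ Sim σ B₀) :
    tensorWreathSubgroup m t e P ≤ Sim σ B := fun g hg => by
  obtain ⟨b, π, rfl⟩ := mem_tensorWreathSubgroup.1 hg
  exact hB.mem_Sim.2 (mul_mem (pgl_mem_Sim fun i => h _) (Iso_le_Sim (fgl_mem_Iso _ _)))

theorem exists_form_two {t : ℕ} (ht : 0 < t) (e : ι ≃ (Fin t → Fin 2)) (P : GL ι F) :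
    ∃ B : GL ι F, Pb σ₀ B.val e P (pt fun _ => (J2 F).val) ∧ RF σ₀ ((-1) ^ t) B ∧
      ((-1 : F) ^ t = -1 → Alt B.val) ∧ tensorWreathSubgroup 2 t e P ≤ Sim σ₀ B.val := by
  obtain ⟨B, hB⟩ := exists_pb' σ₀ (pgl fun _ : Fin t => J2 F) e P
  refine ⟨B, hB, hB.rf' ⟨fun _ => rfl, ?_, pt_const_transpose alt_J2.rf.symm⟩,
    fun h => hB.alt_iff.2 (alt_pt alt_J2 ht h), le_Sim_of_wreath hB mem_Sim_J2⟩
  rw [← mul_pow]; simp

theorem realisableOver_of {F₀ : Subfield F} {K : Subgroup (GL ι F)} {P : GL ι F}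
    (h : ∀ x ∈ K, ∀ i j, cjm P⁻¹ x.val i j ∈ F₀) : RealisableOver F₀ (matrixSet K) :=
  ⟨P⁻¹, by rintro _ ⟨x, hx, rfl⟩; exact h x hx⟩

theorem exists_of_realisableOver [Finite F] {F₀ : Subfield F} (h0 : F₀ ≠ ⊤) {K : Subgroup (GL ι F)}
    (h : RealisableOver F₀ (matrixSet K)) : ∃ (Q r : ℕ) (hF : Nat.card F = Q ^ r) (P : GL ι F), r.Prime ∧
      ∀ x ∈ K, ∀ i j, cjm P⁻¹ x.val i j ∈ fixSub hF := by
  obtain ⟨F₁, r, hr, -, h1, h2⟩ := exists_prime_subfield h0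
  obtain ⟨B, hB⟩ := h
  exact ⟨_, r, h1, B⁻¹, hr, fun x hx i j => (mem_fixSub h1).2 (pow_card_of_mem (h2 (by
    rw [inv_inv]; exact hB _ ⟨x, hx, rfl⟩ i j)))⟩

theorem fixSub_ne_top [Finite F] {Q r : ℕ} (hF : Nat.card F = Q ^ r) (hr : 2 ≤ r) : fixSub hF ≠ ⊤ := by
  intro e
  have h1 := card_fixSub hF
  rw [e, Nat.card_congr Subfield.topEquiv.toEquiv, hF] at h1
  have h2 := (two_le_of_card_pow hF).1
  have := Nat.pow_right_injective h2 (h1.trans (pow_one Q).symm)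
  omega

theorem le_subfieldSubgroup_fix [Finite F] {Q r : ℕ} (hF : Nat.card F = Q ^ r) {P : GL ι F}
    {N G : Subgroup (GL ι F)} (hN : alg N = ⊤) (hP : ∀ x ∈ N, ∀ i j, cjm P⁻¹ x.val i j ∈ fixSub hF)
    (hG : G ≤ Subgroup.normalizer (N : Set (GL ι F))) : G ≤ subfieldSubgroup (fixSub hF) P :=
  le_subfieldSubgroup (σ := frob hF) (fun _ => Iff.rfl) hN hP fun _ hg _ hx =>
    conj_mem_of_le_normalizer hG hg hx

theorem card_eq_fixSub [Fintype F] {Q r : ℕ} (hF : Nat.card F = Q ^ r) :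
    Fintype.card F = Nat.card (fixSub hF) ^ r := by rw [card_fixSub, ← hF, Nat.card_eq_fintype_card]

/-- the outcomes in the linear case -/
inductive LinOut [Fintype F] (G : Subgroup (GL ι F)) : Prop
  | red (W : Submodule F (ι → F)) (h1 : W ≠ ⊥) (h2 : W ≠ ⊤) (h : G ≤ subspaceStabilizer W)
  | dec {t : ℕ} (m : ℕ) (D : Fin t → Submodule F (ι → F)) (hD : IsMDecomposition m D)
      (h : G ≤ decompositionStabilizer D)
  | fld (r : ℕ) (K : Subalgebra F (Matrix ι ι F)) (hr : r.Prime) (hK : IsFieldSubalgebra r K)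
      (h : G ≤ subalgebraNormalizer K)
  | ten (n₁ n₂ : ℕ) (e : ι ≃ Fin n₁ × Fin n₂) (P : GL ι F) (h1 : 2 ≤ n₁) (h2 : n₁ < n₂)
      (h3 : n₁ = 2 → 3 ≤ Fintype.card F) (h : G ≤ tensorProductSubgroup n₁ n₂ e P)
  | sub (F₀ : Subfield F) (r : ℕ) (P : GL ι F) (hr : r.Prime) (hF : Fintype.card F = Nat.card F₀ ^ r)
      (h : G ≤ subfieldSubgroup F₀ P)
  | ext (r m : ℕ) (R : Subgroup (GL ι F)) (hR : IsLinearSymplecticTypeData r R) (hm : Fintype.card ι = r ^ m)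
      (h : G ≤ subgroupNormalizer R)
  | wre (m t : ℕ) (e : ι ≃ (Fin t → Fin m)) (P : GL ι F) (hm : 3 ≤ m) (ht : 2 ≤ t)
      (h : G ≤ tensorWreathSubgroup m t e P)
  | symp (B : GL ι F) (hB : Alt B.val) (h : G ≤ Sim σ₀ B.val)
  | unit (τ : F →+* F) (B : GL ι F) (hτ : τ ≠ σ₀) (hB : RF τ 1 B) (h : G ≤ Sim τ B.val)
  | quad (Q : (ι → F) → F) (B : GL ι F) (hQ : QF Q B.val) (ho : Odd (Fintype.card F))
      (h : G ≤ quadSimilarityGroup Q)
  | res (h : InLinearResidualClass G)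

theorem LinOut.of_bil [Fintype F] {G : Subgroup (GL ι F)} (hG : Irr G) (hι : 2 ≤ Fintype.card ι) {ε : F}
    {B : GL ι F} (hB : RF σ₀ ε B) (h : G ≤ Sim σ₀ B.val) : LinOut G := by
  by_cases h2 : (2 : F) = 0
  · exact .symp B (hG.alt hι h2 (by simpa using (hB.one_of_two h2).symm) h) h
  rcases eq_one_or_of_mul_self hB.εε with rfl | rfl
  · obtain ⟨Q, hQ⟩ := exists_qf_of_symm h2 (B := B.val) (by simpa using hB.symm)
    exact .quad Q B hQ (two_ne_zero_iff_odd.1 h2) (hQ.quadSim_eq h2 ▸ h)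
  · exact .symp B (hB.alt h2) h

theorem LinOut.of_Iso [Fintype F] {G N : Subgroup (GL ι F)} (hι : 2 ≤ Fintype.card ι) (hG : Irr G)
    (hN : alg N = ⊤) (hn : G ≤ Subgroup.normalizer (N : Set (GL ι F))) (hσ : ∀ a, σ (σ a) = a)
    {B : GL ι F} (h : N ≤ Iso σ B.val) : LinOut G := by
  haveI : Nonempty ι := Fintype.card_pos_iff.1 (by omega)
  obtain ⟨α, hα⟩ := exists_symm_of_Iso hσ hN h
  have hS := le_Sim_of_nrm hN h hn
  by_cases hne : σ = σ₀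
  · subst hne
    exact .of_bil hG hι (RF.of_id hα) hS
  · obtain ⟨c, hc⟩ := exists_herm hσ hne hα
    exact .unit σ _ hne hc (by rwa [coe_scal_mul, Sim_smul c.ne_zero])

theorem LinOut.of_wreath [Fintype F] {G : Subgroup (GL ι F)} (hG : Irr G) (hι : 2 ≤ Fintype.card ι)
    {m t : ℕ} {e : ι ≃ (Fin t → Fin m)} {P : GL ι F} (hm : 2 ≤ m) (ht : 2 ≤ t)
    (h : G ≤ tensorWreathSubgroup m t e P) : LinOut G := by
  by_cases h2 : m = 2
  · subst h2
    obtain ⟨B, -, h1, -, h3⟩ := exists_form_two (by omega) e P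
    exact .of_bil hG hι h1 (h.trans h3)
  · exact .wre m t e P (by omega) ht h

theorem frob_frob [Finite F] {Q : ℕ} (hF : Nat.card F = Q ^ 2) (x : F) : frob hF (frob hF x) = x := by
  rw [frob_apply, frob_apply, ← pow_mul, ← sq, ← hF, pow_natCard]

theorem frob_ne_id [Finite F] {Q : ℕ} (hF : Nat.card F = Q ^ 2) : frob hF ≠ σ₀ := fun e =>
  fixSub_ne_top hF le_rfl (eq_top_iff.2 fun x _ => RingHom.congr_fun e x)

theorem dvd_add_one_of_minimal {z p e : ℕ} (hz : z.Prime ∨ z = 4) (hp : 1 ≤ p) (h1 : z ∣ p ^ (2 * e) - 1)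
    (h2 : ¬ z ∣ p ^ e - 1) : z ∣ p ^ e + 1 := by
  rw [mul_comm, pow_mul, ← Nat.one_pow 2, Nat.sq_sub_sq] at h1
  rcases hz with hz | rfl
  · exact ((Nat.Prime.dvd_mul hz).1 h1).resolve_right h2
  · obtain ⟨y, hy⟩ : ∃ y, p ^ e = y + 1 := ⟨p ^ e - 1, by have := Nat.one_le_pow e p hp; omega⟩
    rw [hy] at h1 h2 ⊢
    simp only [Nat.add_sub_cancel] at h1 h2
    have h3 : y % 4 = 0 ∨ y % 4 = 1 ∨ y % 4 = 2 ∨ y % 4 = 3 := by omega
    rw [Nat.dvd_iff_mod_eq_zero] at h1 h2 ⊢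
    rcases h3 with h | h | h | h <;> simp [Nat.mul_mod, Nat.add_mod, h] at h1 h2 ⊢

theorem XR.exists_Iso_of_even [Fintype F] {G R : Subgroup (GL ι F)} {r : ℕ} (h : XR G R r) {p e : ℕ}
    (he : 0 < e) (hz : Odd r ∨ Nat.card (Subgroup.center R) = 4)
    (hmin : IsMinimalFieldFor (Nat.card (Subgroup.center R)) p (2 * e) F) :
    ∃ hF : Nat.card F = (p ^ e) ^ 2, ∃ B : GL ι F, R ≤ Iso (frob hF) B.val := by
  obtain ⟨hp, -, h1, h2, h3⟩ := hmin
  have hF : Nat.card F = (p ^ e) ^ 2 := by rw [Nat.card_eq_fintype_card, h1, ← pow_mul, mul_comm]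
  obtain ⟨k, hk⟩ := dvd_add_one_of_minimal (hz.imp_left fun ho => (h.center_odd ho).symm ▸ h.prime)
    hp.one_le h2 (h3 e he (by omega))
  refine ⟨hF, h.exists_Iso (frob_frob hF) fun c hc => ?_⟩
  rw [frob_apply, ← pow_succ', hk, pow_mul, hc, one_pow]

theorem IsMinimalFieldFor.le_two [Fintype F] {p e : ℕ} (h : IsMinimalFieldFor 4 p e F) (he : 0 < e) :
    e ≤ 2 := by
  obtain ⟨hp, -, -, h2, h3⟩ := h
  by_contra hlt
  refine h3 2 (by omega) (by omega) ?_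
  rcases hp.eq_two_or_odd' with rfl | ⟨k, rfl⟩
  · exfalso
    obtain ⟨j, rfl⟩ : ∃ j, e = j + 1 := ⟨e - 1, by omega⟩
    have := Nat.one_le_two_pow (n := j)
    rw [pow_succ] at h2; omega
  · exact ⟨k * k + k, by rw [Nat.sub_eq_iff_eq_add (Nat.one_le_pow _ _ (by omega))]; ring⟩

theorem exists_pow_four [Finite F] (h : 4 ∣ Nat.card F - 1) : ∃ c : Fˣ, orderOf c = 4 := by
  rw [← Nat.card_units] at h
  obtain ⟨g, hg⟩ := IsCyclic.exists_ofOrder_eq_natCard (α := Fˣ)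
  exact ⟨g ^ (orderOf g / 4), orderOf_pow_orderOf_div (orderOf_pos g).ne' (hg ▸ h)⟩

theorem XR.linOut [Fintype F] {G R : Subgroup (GL ι F)} {r : ℕ} (h : XR G R r) (hG : Irr G)
    (hι : 3 ≤ Fintype.card ι) : LinOut G := by
  obtain ⟨m, hm, hm1, hm2⟩ := h.exists_card
  rcases h.field_cases with ⟨p, e, hp, he, hmin⟩ | ⟨Q, s, hs, hF, hQ⟩
  swap
  · obtain ⟨P, hP⟩ := h.exists_descent hF hQ
    exact .sub _ s P hs (card_eq_fixSub hF) (le_subfieldSubgroup_fix hF h.top hP h.nrm)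
  have hev : Even e → (Odd r ∨ Nat.card (Subgroup.center R) = 4) → LinOut G := by
    rintro ⟨e, rfl⟩ hz
    obtain ⟨hF, B, hB⟩ := h.exists_Iso_of_even (e := e) (by omega) hz (two_mul e ▸ hmin)
    exact .of_Iso h.two_le hG h.top h.nrm (frob_frob hF) hB
  rcases h.prime.eq_two_or_odd' with rfl | ho
  · rcases h.center_two with hz | hz
    · obtain ⟨B, hB⟩ := h.exists_Iso (σ := σ₀) (fun _ => rfl) fun c hc => by rwa [hz, sq] at hc
      exact .of_Iso h.two_le hG h.top h.nrm (fun _ => rfl) hB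
    · have := IsMinimalFieldFor.le_two (hz ▸ hmin) he
      by_cases he1 : e = 1
      · refine .ext 2 m R ⟨h.isSymplecticTypeGroup, h.absIrr, p, e, hp, hmin, Or.inr (Or.inl
          ⟨rfl, he1, hz, ?_, m, by rw [hm2, hz]; ring⟩)⟩ hm1 h.nrm
        rcases m with _ | _ | m
        · omega
        · omega
        · rw [hm1, pow_add, pow_add]; have := Nat.one_le_two_pow (n := m); omega
      · exact hev (by obtain rfl : e = 2 := by omega
                      decide) (Or.inr hz)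
  · rcases Nat.even_or_odd e with he' | he'
    · exact hev he' (Or.inl ho)
    · exact .ext r m R ⟨h.isSymplecticTypeGroup, h.absIrr, p, e, hp, hmin, Or.inl
        ⟨ho, he', h.center_odd ho, m, hm, by rw [hm2, h.center_odd ho]; ring⟩⟩ hm1 h.nrm

theorem linOut [Fintype F] (hι : 3 ≤ Fintype.card ι) (G : Subgroup (GL ι F)) : LinOut G := by
  haveI : Nonempty ι := Fintype.card_pos_iff.1 (by omega)
  have hι2 : 2 ≤ Fintype.card ι := by omega
  by_cases hG : Irr G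
  swap
  · obtain ⟨W, h1, h2, h3⟩ := not_irr hG
    exact .red W h1 h2 h3
  by_cases hP : SPrim G
  swap
  · rcases hG.dec_or_fld hP with ⟨t, E, hE⟩ | ⟨r, K, h1, h2, h3⟩
    · obtain ⟨m, hm⟩ := hE.isMDecomposition
      exact .dec m _ hm hE.le
    · exact .fld r K h1 h2 (nrm_iff.1 h3)
  have key : ∀ (d k : ℕ) (e : ι ≃ Fin d × Fin k) (P : GL ι F), 2 ≤ d → d < k →
      G ≤ tensorProductSubgroup d k e P → LinOut G := fun d k e P h1 h2 h => by
    refine .ten d k e P h1 h2 ?_ h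
    rintro rfl
    have := (hP.fac fun g hg => mem_tensorProductSubgroup.1 (h hg)).card_ne_two
    have := Fintype.one_lt_card (α := F)
    omega
  rcases hG.raw hι2 hP.prim with ⟨N, d, k, e, P, -, h⟩ | ⟨N, r, h⟩ | ⟨t, m, K, e, P, h⟩ | ⟨K, h⟩
  · rcases lt_trichotomy d k with h1 | rfl | h1
    · exact key _ _ _ _ h.hd h1 h.le
    · exact .of_wreath hG hι2 h.hd le_rfl (h.le.trans (tensorProductSubgroup_le_wreath e P))
    · exact key _ _ _ _ h.hk h1 h.swap_le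
  · obtain ⟨R, hR, -⟩ := h.exists_xr hι2
    exact hR.linOut hG hι
  · exact .of_wreath hG hι2 h.hm (by omega) h.le_wreath
  by_cases h1 : ∃ F₀ : Subfield F, F₀ ≠ ⊤ ∧ RealisableOver F₀ (matrixSet K)
  · obtain ⟨F₀, h0, h1⟩ := h1
    obtain ⟨Q, r, hF, P, hr, hP⟩ := exists_of_realisableOver h0 h1
    exact .sub _ r P hr (card_eq_fixSub hF) (le_subfieldSubgroup_fix hF h.top hP h.nrm)
  push Not at h1
  by_cases h2 : ∃ Q : (ι → F) → F, IsNondegenerateQuadraticForm Q ∧ FixesQuadForm (matrixSet K) Q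
  · obtain ⟨Q, hQ, h2⟩ := h2
    obtain ⟨B, hB⟩ := IsNondegenerateQuadraticForm.exists hQ
    exact .of_Iso hι2 hG h.top h.nrm (fun _ => rfl) ((fixesQuadForm_iff.1 h2).trans hB.isom_le)
  by_cases h3 : ∃ f : (ι → F) → (ι → F) → F, IsSymplecticForm f ∧ FixesForm (matrixSet K) f
  · obtain ⟨f, hf, h3⟩ := h3
    obtain ⟨B, -, rfl⟩ := IsSymplecticForm.exists hf
    exact .of_Iso hι2 hG h.top h.nrm (fun _ => rfl) (fixesForm_iff.1 h3)
  by_cases h4 : ∃ (σ : F ≃+* F) (f : (ι → F) → (ι → F) → F), IsUnitaryForm σ f ∧ FixesForm (matrixSet K) f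
  · obtain ⟨τ, f, hf, h4⟩ := h4
    obtain ⟨-, B, hB, rfl⟩ := IsUnitaryForm.exists hf
    exact .of_Iso hι2 hG h.top h.nrm hB.σσ (fixesForm_iff.1 h4)
  exact .res ⟨K, h.isResidualCore h1, h2, h3, h4⟩

theorem LinOut.inLinearClass [Fintype F] {n : ℕ} (hn : 3 ≤ n) {G : Subgroup (GL (Fin n) F)} (h : LinOut G) :
    (∃ M, InLinearClass n F M ∧ G ≤ M) ∨ InLinearResidualClass G := by
  cases h with
  | red W h1 h2 h => exact Or.inl ⟨_, Or.inl ⟨W, h1, h2, rfl⟩, h⟩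
  | dec m D hD h => exact Or.inl ⟨_, .inr (.inr (.inr (.inl ⟨_, m, D, hD, rfl⟩))), h⟩
  | fld r K hr hK h => exact Or.inl ⟨_, .inr (.inr (.inr (.inr (.inl ⟨r, K, hr, hK, rfl⟩)))), h⟩
  | ten n₁ n₂ e P h1 h2 _ h =>
    exact Or.inl ⟨_, .inr (.inr (.inr (.inr (.inr (.inl ⟨n₁, n₂, e, P, h1, h2, rfl⟩))))), h⟩
  | sub F₀ r P hr hF h =>
    exact Or.inl ⟨_, .inr (.inr (.inr (.inr (.inr (.inr (.inl ⟨F₀, r, P, hr, hF, rfl⟩)))))), h⟩
  | ext r m R hR _ h =>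
    exact Or.inl ⟨_, .inr (.inr (.inr (.inr (.inr (.inr (.inr (.inl ⟨r, R, hR, rfl⟩))))))), h⟩
  | wre m t e P hm ht h =>
    exact Or.inl ⟨_, .inr (.inr (.inr (.inr (.inr (.inr (.inr (.inr (.inl ⟨m, t, e, P, hm, ht, rfl⟩)))))))), h⟩
  | symp B hB h =>
    have := hB.even
    rw [Fintype.card_fin] at this
    exact Or.inl ⟨_, .inr (.inr (.inr (.inr (.inr (.inr (.inr (.inr (.inr (.inl
      ⟨_, hB.isSymplecticForm, this, by obtain ⟨k, hk⟩ := this; omega, rfl⟩))))))))), h⟩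
  | unit τ B hτ hB h =>
    obtain ⟨τ', h'⟩ := hB.isUnitaryForm hτ
    exact Or.inl ⟨_, .inr (.inr (.inr (.inr (.inr (.inr (.inr (.inr (.inr (.inr (.inl
      ⟨τ', _, h', hn, rfl⟩)))))))))), h⟩
  | quad Q B hQ ho h =>
    exact Or.inl ⟨_, .inr (.inr (.inr (.inr (.inr (.inr (.inr (.inr (.inr (.inr (.inr
      ⟨Q, hQ.isNondegenerate, ho, hn, rfl⟩)))))))))), h⟩
  | res h => exact Or.inr h

end Cfsg.Agent.Classical.Asch
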