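import Cfsg.Agent.Lib.Classical.Asch10
import Cfsg.Agent.Lib.Classical.Orth2
import Cfsg.Agent.S0144

/-!
Tools for Aschbacher's theorem for groups with a form.
-/

set_option autoImplicit false

namespace Cfsg.Agent.Classical.Asch
open Matrix Cfsg.Geo Module Cfsg.Agent.Comp
open scoped MatrixGroups Kronecker commutatorElement

variable {ι : Type} [Fintype ι] [DecidableEq ι] {F : Type*} [Field F] {σ : F →+* F}

local notation "Z" => scalars ι F
local notation "σ₀" => RingHom.id F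

/-! ### bridges to abstract forms -/

/-- the sesquilinear map of a Gram matrix -/
def gfl (σ : F →+* F) (B : Matrix ι ι F) : (ι → F) →ₗ[F] (ι → F) →ₛₗ[σ] F :=
  LinearMap.mk₂'ₛₗ (RingHom.id F) σ (gf σ B) (gf_add_left B) (gf_smul_left B) (gf_add_right B)
    (fun c u v => gf_smul_right B c u v)

/-- abstract alternating form -/
def Alt.form {B : Matrix ι ι F} (h : Alt B) : Form (Kind.symp F) (ι → F) := Form.ofAlt (gfl σ₀ B) h

/-- abstract hermitian form -/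
def RF.form {B : GL ι F} (h : RF σ 1 B) (hne : σ ≠ σ₀) : Form (Kind.unit σ h.σσ) (ι → F) :=
  Form.ofHerm σ hne h.σσ (gfl σ B.val) (fun u v => (h.gf_symm u v).trans (one_mul _))

/-- abstract quadratic form -/
def QF.form {Q : (ι → F) → F} {B : Matrix ι ι F} (h : QF Q B) : Form (Kind.orth F) (ι → F) :=
  Form.ofQuadFun Q (gfl σ₀ B) h.add (fun c v => by rw [h.smul, sq])

theorem Alt.form_B {B : Matrix ι ι F} (h : Alt B) (u v : ι → F) : h.form.B u v = gf σ₀ B u v := rfl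
theorem RF.form_B {B : GL ι F} (h : RF σ 1 B) (hne : σ ≠ σ₀) (u v : ι → F) :
    (h.form hne).B u v = gf σ B.val u v := rfl
theorem RF.form_N {B : GL ι F} (h : RF σ 1 B) (hne : σ ≠ σ₀) (v : ι → F) :
    (h.form hne).N v = gf σ B.val v v := rfl
theorem QF.form_B {Q : (ι → F) → F} {B : Matrix ι ι F} (h : QF Q B) (u v : ι → F) :
    h.form.B u v = gf σ₀ B u v := rfl
theorem QF.form_N {Q : (ι → F) → F} {B : Matrix ι ι F} (h : QF Q B) : h.form.N = Q := rfl

theorem Alt.nondeg {B : GL ι F} (h : Alt B.val) : h.form.Nondeg := fun _ hv => gf_eq_zero_right B hv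
theorem RF.nondeg {B : GL ι F} (h : RF σ 1 B) (hne : σ ≠ σ₀) : (h.form hne).Nondeg :=
  fun _ hv => gf_eq_zero_right B hv
theorem QF.nondeg {Q : (ι → F) → F} {B : GL ι F} (h : QF Q B.val) : h.form.Nondeg :=
  fun _ hv => gf_eq_zero_right B hv

theorem Alt.mem_Iso {B : Matrix ι ι F} (h : Alt B) {g : GL ι F} :
    g ∈ Iso σ₀ B ↔ glEquiv g ∈ h.form.Isom := by rw [Form.mem_Isom_symp]; rfl
theorem RF.mem_Iso {B : GL ι F} (h : RF σ 1 B) (hne : σ ≠ σ₀) {g : GL ι F} :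
    g ∈ Iso σ B.val ↔ glEquiv g ∈ (h.form hne).Isom := by rw [Form.mem_Isom_unit]; rfl

theorem restrict_nondeg_of {K : Kind F} {Φ : Form K (ι → F)} {W : Submodule F (ι → F)}
    (h : IsNondegenerateOn (fun u v => Φ.B u v) W) : (Φ.restrict W).Nondeg := fun w hw => by
  by_contra h0
  obtain ⟨x, hx, hx'⟩ := (h w.1 w.2 (fun e => h0 (Subtype.ext e))).1
  exact hx' (hw ⟨x, hx⟩)

theorem Alt.even_of_nondeg {B : Matrix ι ι F} (h : Alt B) {W : Submodule F (ι → F)}
    (hW : IsNondegenerateOn (gf σ₀ B) W) : Even (finrank F W) :=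
  symp_even _ (h.form.restrict W) (restrict_nondeg_of hW) rfl

theorem isSolvable_of_card {H : Type*} [Group H] [Finite H] {a b : ℕ} (h : Nat.card H = 2 ^ a * 3 ^ b) :
    Group.IsSolvable H :=
  S0144.aux 2 3 Nat.prime_two Nat.prime_three _ rfl fun r hr hd => by
    rw [h] at hd
    exact ((Nat.Prime.dvd_mul hr).1 hd).imp
      (fun h => (Nat.prime_dvd_prime_iff_eq hr Nat.prime_two).1 (hr.dvd_of_dvd_pow h))
      (fun h => (Nat.prime_dvd_prime_iff_eq hr Nat.prime_three).1 (hr.dvd_of_dvd_pow h))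

theorem Alt.isSolvable [Finite F] {B : GL ι F} (h : Alt B.val) (hι : Fintype.card ι = 2)
    (hq : Nat.card F ≤ 3) : Group.IsSolvable (Iso σ₀ B.val) := by
  have h1 := card_symp 1 h.form h.nondeg (by simpa using hι)
  rw [← Nat.card_congr (subEquiv _ _ fun _ => h.mem_Iso).toEquiv] at h1
  have := Finite.one_lt_card (α := F)
  obtain e | e : Nat.card F = 2 ∨ Nat.card F = 3 := by omega
  · exact isSolvable_of_card (a := 1) (b := 1) (by rw [h1, e]; decide)
  · exact isSolvable_of_card (a := 3) (b := 1) (by rw [h1, e]; decide)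

theorem RF.isSolvable_three [Finite F] {B : GL ι F} (h : RF σ₀ 1 B) (hι : Fintype.card ι = 3)
    (hq : Nat.card F = 3) (h2 : (2 : F) ≠ 0) : Group.IsSolvable (Iso σ₀ B.val) := by
  obtain ⟨Q, hQ⟩ := exists_qf_of_symm h2 (B := B.val) (by simpa using h.symm)
  have h1 := card_orth_odd 1 hQ.form hQ.nondeg (by simpa using hι)
  rw [← Nat.card_congr (orthEquiv hQ.form).toEquiv, hQ.form_N, hQ.isom_eq h2] at h1
  exact isSolvable_of_card (a := 4) (b := 1) (by rw [h1, hq]; decide)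

theorem RF.isSolvable_unit [Fintype F] (hF : Fintype.card F = 2 ^ 2) {B : GL ι F} (h : RF (frobq hF) 1 B)
    (hι : Fintype.card ι = 2 ∨ Fintype.card ι = 3) : Group.IsSolvable (Iso (frobq hF) B.val) := by
  have h1 := card_unit hF _ (h.form (frobq_ne_id hF)) (h.nondeg _) rfl
  rw [← Nat.card_congr (subEquiv _ _ fun _ => h.mem_Iso (frobq_ne_id hF)).toEquiv,
    finrank_fintype_fun_eq_card] at h1
  rcases hι with e | e
  · exact isSolvable_of_card (a := 1) (b := 2) (by rw [h1, e]; decide)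
  · exact isSolvable_of_card (a := 3) (b := 4) (by rw [h1, e]; decide)

theorem Irr.raw_prime [Finite F] {G : Subgroup (GL ι F)} (hG : Irr G) (hι : (Fintype.card ι).Prime)
    {ε : F} {B : GL ι F} (hB : RF σ ε B) (hGB : G ≤ Sim σ B.val) (hP : SPrimF σ B G)
    (hs : Group.IsSolvable (Iso σ B.val)) : ∃ N, ExtraCase G N (Fintype.card ι) := by
  rcases hG.raw hι.two_le (hP.prim hB (sup_le hGB scalars_le_Sim)) with
    ⟨N, d, k, e, P, -, h⟩ | ⟨N, r, h⟩ | ⟨t, m, K, e, P, h⟩ | ⟨K, h⟩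
  · have := Fintype.card_congr e
    simp only [Fintype.card_prod, Fintype.card_fin] at this
    have h1 := h.hd
    have h2 := h.hk
    exact absurd (this ▸ hι) (Nat.not_prime_mul (by omega) (by omega))
  · obtain ⟨R, hR, -⟩ := h.exists_xr hι.two_le
    exact ⟨N, (Nat.prime_dvd_prime_iff_eq h.prime hι).1 hR.dvd_card ▸ h⟩
  · have := Fintype.card_congr e
    simp only [Fintype.card_pi, Fintype.card_fin, Finset.prod_const, Finset.card_univ] at this
    have := (this ▸ hι).eq_one_of_pow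
    omega
  · exact absurd (le_Iso_of_perfect h.qs.perfect (h.le.trans hGB)) (h.qs.not_le_of_isSolvable hs)

theorem Irr.not_sprimF [Finite F] {G : Subgroup (GL ι F)} (hG : Irr G) (hι : (Fintype.card ι).Prime)
    {ε : F} {B : GL ι F} (hB : RF σ ε B) (hGB : G ≤ Sim σ B.val)
    (hs : Group.IsSolvable (Iso σ B.val)) (h0 : (Fintype.card ι : F) = 0) : ¬ SPrimF σ B G := fun hP => by
  obtain ⟨N, h⟩ := hG.raw_prime hι hB hGB hP hs
  obtain ⟨R, hR, -⟩ := h.exists_xr hι.two_le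
  exact hR.cast_ne_zero h0

theorem RF.not_sprimF_two {B : GL (Fin 2) F} (hB : RF σ₀ 1 B) (h2 : (2 : F) ≠ 0)
    {G : Subgroup (GL (Fin 2) F)} (hGB : G ≤ Sim σ₀ B.val) : ¬ SPrimF σ₀ B G := fun hP => by
  have hT : B.valᵀ = B.val := by simpa using hB.symm
  have h1 : adj σ₀ B (B⁻¹.val * (J2 F).val) = (-1 : F) • (B⁻¹.val * (J2 F).val) := by
    rw [adj, map_σ₀, cjm_apply, inv_inv, transpose_mul, alt_J2.transpose, Matrix.mul_assoc, Matrix.mul_assoc,
      ← hT, ← transpose_mul, Units.mul_inv]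
    simp
  obtain ⟨c, hc⟩ := hP.isSc (s := B⁻¹.val * (J2 F).val) (fun g hg => by
    obtain ⟨c, hc⟩ := mem_Sim.1 (hGB hg)
    have h3 : g.val * B⁻¹.val = (c : F) • (B⁻¹.val * g⁻¹.valᵀ) := by
      have := congrArg (fun y => B⁻¹.val * g⁻¹.valᵀ * y * B⁻¹.val) hc
      simp only [map_σ₀, Matrix.mul_assoc, Matrix.mul_smul, Matrix.smul_mul, Units.mul_inv,
        Matrix.mul_one] at this
      rw [← this, ← Matrix.mul_assoc g⁻¹.valᵀ, ← transpose_mul, Units.mul_inv, transpose_one, Matrix.one_mul,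
        ← Matrix.mul_assoc, Units.inv_mul, Matrix.one_mul]
    rw [cjm_apply, ← Matrix.mul_assoc, h3, Matrix.smul_mul, Matrix.smul_mul, Matrix.mul_assoc,
      Matrix.mul_assoc, ← Matrix.mul_assoc g⁻¹.valᵀ, pb_J2, Matrix.mul_smul, smul_smul]
    exact smul_mem_adjoin _ _) (h1 ▸ smul_mem_adjoin _ _)
  rw [hc, adj_smul, adj_one, smul_smul] at h1
  have h4 : c = 0 := by
    have := congrFun (congrFun h1 0) 0
    simp at this
    apply mul_left_cancel₀ h2
    linear_combination this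
  rw [h4, zero_smul] at hc
  exact gl_ne_zero (B⁻¹ * J2 F) hc

/-! ### tensor powers -/

theorem cjm_scal_mul (c : Fˣ) (g : GL ι F) : cjm (scal ι c * g) = cjm g := by
  ext1 x; rw [cjm_mul]; exact cjm_eq_iff.2 ((mem_scalars.1 (scal_mem c)).comm _)

theorem adj_scal_mul (c : Fˣ) (B : GL ι F) (x : Matrix ι ι F) : adj σ (scal ι c * B) x = adj σ B x := by
  rw [adj, scalars_comm (scal_mem c), _root_.mul_inv_rev, ← map_inv, cjm_scal_mul]; rfl

theorem WreathCase.exists_fac {G : Subgroup (GL ι F)} {t m : ℕ} {K : Fin (t + 2) → Subgroup (GL ι F)}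
    {e : ι ≃ (Fin (t + 2) → Fin m)} {P : GL ι F} (h : WreathCase G m K e P) (hσ : ∀ a, σ (σ a) = a)
    {B : GL ι F} (hG : G ≤ Sim σ B.val) {B₀ : GL (Fin m) F} {c : F} (hc : c ≠ 0)
    (hB : Pb σ B.val e P (c • pt fun _ => B₀.val)) :
    ∃ K₀ : Subgroup (GL (Fin m) F), alg K₀ = ⊤ ∧ QS K₀ ∧ K₀ ≤ Iso σ B₀.val := by
  haveI : Nonempty (Fin m) := ⟨⟨0, by have := h.hm; omega⟩⟩
  haveI : Nonempty ι := e.nonempty
  let φ : Matrix (Fin m) (Fin m) F →ₐ[F] Matrix ι ι F := (trm e P).toAlgHom.comp (emb 0)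
  have hφ : Function.Injective φ := RingHom.injective φ.toRingHom
  let ψ : GL (Fin m) F →* GL ι F := Units.map φ.toRingHom.toMonoidHom
  have hψ : Function.Injective ψ := Units.map_injective hφ
  have h1 : K 0 ≤ ψ.range := fun g hg => by
    obtain ⟨a, ha⟩ := (h.mem 0 _).1 (coe_mem_alg hg)
    obtain ⟨b, hb⟩ := exists_gl_of_alghom φ ha.symm
    exact ⟨b, Units.ext (by rw [ha, ← hb]; rfl)⟩
  refine ⟨(K 0).comap ψ, ?_, QS.of_map_injective hψ (by rw [Subgroup.map_comap_eq_self h1]; exact h.qs 0),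
    fun a ha => mem_Iso_of_adj hσ (hφ ?_)⟩
  · rw [eq_top_iff]
    intro a _
    have : alg (K 0) ≤ (alg ((K 0).comap ψ)).map φ := alg_le.2 fun g hg => by
      obtain ⟨b, rfl⟩ := h1 hg
      exact ⟨b.val, coe_mem_alg hg, rfl⟩
    obtain ⟨b, hb, e'⟩ := this ((h.mem 0 _).2 ⟨a, rfl⟩)
    exact hφ e' ▸ hb
  · have h2 := adj_of_Iso hσ (le_Iso_of_perfect (h.qs 0).perfect ((h.le 0).trans hG) ha)
    have h3 : Pb σ B.val e P (scal _ (Units.mk0 c hc) * pgl fun _ => B₀).val := by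
      rw [coe_scal_mul]; exact hB
    have h4 := h3.adj hσ (emb 0 a.val)
    rw [adj_scal_mul, adj_pgl_emb] at h4
    rw [map_mul, map_one]
    change trm e P (emb 0 (adj σ B₀ a.val)) * (ψ a).val = 1
    rw [← h4]
    change adj σ B (ψ a).val * _ = 1
    rw [h2, Units.inv_mul]

/-! ### subfields -/

theorem alg_comap_trg {κ : Type} [Fintype κ] [DecidableEq κ] (e : ι ≃ κ) (P : GL ι F)
    {N : Subgroup (GL ι F)} (hN : alg N = ⊤) : alg (N.comap (trg e P).toMonoidHom) = ⊤ := by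
  rw [eq_top_iff]
  intro a _
  have : alg N ≤ (alg (N.comap (trg e P).toMonoidHom)).map (trm e P).toAlgHom := alg_le.2 fun g hg => by
    obtain ⟨b, rfl⟩ := (trg e P).surjective g
    exact ⟨b.val, coe_mem_alg hg, rfl⟩
  obtain ⟨b, hb, e'⟩ := this (hN ▸ Algebra.mem_top : trm e P a ∈ alg N)
  exact (trm e P).injective e' ▸ hb

theorem trm_refl (P : GL ι F) (a : Matrix ι ι F) : trm (Equiv.refl ι) P a = cjm P a := rfl

theorem map_frob_eq [Finite F] {Q s : ℕ} (hF : Nat.card F = Q ^ s) {κ κ' : Type} {x : Matrix κ κ' F} :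
    x.map (frob hF) = x ↔ ∀ i j, x i j ∈ fixSub hF :=
  ⟨fun h i j => congrFun (congrFun h i) j, fun h => Matrix.ext h⟩

theorem exists_smul_mem_fix [Finite F] {Q s : ℕ} (hF : Nat.card F = Q ^ s) [Nonempty ι] {C : GL ι F} {l : F}
    (h : C.val.map (frob hF) = l • C.val) : ∃ ζ : F, ζ ≠ 0 ∧ ∀ i j, ζ * C.val i j ∈ fixSub hF := by
  obtain ⟨i, j, hij⟩ : ∃ i j, C.val i j ≠ 0 := by
    by_contra h'; push Not at h'; exact gl_ne_zero C (Matrix.ext h')
  have e : ∀ i j, frob hF (C.val i j) = l * C.val i j := fun i j => congrFun (congrFun h i) j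
  have hl : l ≠ 0 := by
    rintro rfl; exact hij ((map_eq_zero (frob hF)).1 (by rw [e, zero_mul]))
  refine ⟨(C.val i j)⁻¹, inv_ne_zero hij, fun a b => ?_⟩
  rw [mem_fixSub, ← frob_apply hF, map_mul, map_inv₀, e, e]
  field_simp

theorem exists_rational [Finite F] [Nonempty ι] {Q s : ℕ} (hF : Nat.card F = Q ^ s) {N : Subgroup (GL ι F)}
    (hN : alg N = ⊤) {P : GL ι F} (hP : ∀ x ∈ N, ∀ i j, cjm P⁻¹ x.val i j ∈ fixSub hF) {B C : GL ι F}
    (hC : Pb σ B.val (Equiv.refl ι) P C.val)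
    (h : ∀ x ∈ N, ∃ c ∈ fixSub hF, x.valᵀ * B.val * x.val.map σ = c • B.val) :
    ∃ ζ : F, ζ ≠ 0 ∧ ∀ i j, ζ * C.val i j ∈ fixSub hF := by
  obtain ⟨l, hl⟩ := schur_form (σ := σ) (alg_comap_trg (Equiv.refl ι) P hN) (B := C)
    (C := C.val.map (frob hF)) fun x hx => by
    obtain ⟨c, hc, h1⟩ := h _ hx
    have h2 : x.valᵀ * C.val * x.val.map σ = c • C.val := gf_ext (σ := σ) fun u v => by
      rw [← gf_mulVec, gf_smul]
      exact hC.mul_iff.1 (fun u v => by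
        rw [← gf_smul, ← h1, ← gf_mulVec]; rfl) u v
    have h3 : x.val.map (frob hF) = x.val := (map_frob_eq hF).2 (by
      have := hP _ hx
      rwa [MulEquiv.coe_toMonoidHom, coe_trg, trm_refl, cjm_inv_cjm] at this)
    refine ⟨c, h2, ?_⟩
    have h4 := congrArg (·.map (frob hF)) h2
    simp only [Matrix.map_mul] at h4
    have h5 : (x.val.map σ).map (frob hF) = (x.val.map (frob hF)).map σ := by ext; simp
    rw [h5, transpose_map, h3, Matrix.map_smul' _ _ _ (map_mul _)] at h4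
    rw [h4]; congr 1
  exact exists_smul_mem_fix hF hl

theorem σ_mem_fixSub [Finite F] {Q s : ℕ} (hF : Nat.card F = Q ^ s) {x : F} (hx : x ∈ fixSub hF) :
    σ x ∈ fixSub hF := by rw [mem_fixSub] at hx ⊢; rw [← map_pow, hx]

theorem gf_mem {F₀ : Subfield F} (hσ : ∀ x ∈ F₀, σ x ∈ F₀) {C : Matrix ι ι F} (h : ∀ i j, C i j ∈ F₀)
    {u v : ι → F} (hu : ∀ i, u i ∈ F₀) (hv : ∀ i, v i ∈ F₀) : gf σ C u v ∈ F₀ := by
  rw [gf_eq_sum]
  exact sum_mem fun a _ => sum_mem fun b _ => mul_mem (mul_mem (hu a) (h a b)) (hσ _ (hv b))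

theorem Pb.isFormRationalStructure {F₀ : Subfield F} (hσ : ∀ x ∈ F₀, σ x ∈ F₀) {B C : Matrix ι ι F}
    {P : GL ι F} (hC : Pb σ B (Equiv.refl ι) P C) {ζ : F} (h : ∀ i j, ζ * C i j ∈ F₀) :
    IsFormRationalStructure (gf σ B) F₀ ζ P := fun u v hu hv => by
  have := hC u v
  rw [trv_apply, trv_apply] at this
  change ζ * gf σ B (P.val *ᵥ (u ∘ Equiv.refl ι)) (P.val *ᵥ (v ∘ Equiv.refl ι)) ∈ F₀
  rw [this, ← gf_smul]
  exact gf_mem hσ h hu hv

theorem subfieldSubgroup_scal_mul [Finite F] (F₀ : Subfield F) (c : Fˣ) (P : GL ι F) :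
    subfieldSubgroup F₀ (scal ι c * P) = subfieldSubgroup F₀ P := by
  ext g
  rw [mem_subfieldSubgroup, mem_subfieldSubgroup, scalars_comm (scal_mem c), _root_.mul_inv_rev, ← map_inv,
    cjm_scal_mul]

theorem Pb.scal_mul {κ : Type} [Fintype κ] [DecidableEq κ] {e : ι ≃ κ} {P : GL ι F} {B : Matrix ι ι F}
    {C : Matrix κ κ F} (h : Pb σ B e P C) (c : Fˣ) : Pb σ B e (scal ι c * P) ((c * σ c) • C) := fun x y => by
  rw [gf_smul, ← h, trv_apply, trv_apply, trv_apply, trv_apply, coe_scal_mul, smul_mulVec, smul_mulVec,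
    gf_smul_left, gf_smul_right, mul_assoc]

theorem comm_of_two_forms {B H : GL ι F} {x : GL ι F} {c d : F}
    (h1 : x.valᵀ * B.val * x.val = c • B.val) (h2 : x.valᵀ * H.val * x.val.map σ = d • H.val) :
    c • ((B⁻¹ * H).val * x.val.map σ) = d • (x.val * (B⁻¹ * H).val) := by
  have h3 : x.val * B⁻¹.val * x.valᵀ = c • B⁻¹.val := by
    have h4 : B⁻¹.val * x.valᵀ * B.val = c • x⁻¹.val := by
      have := congrArg (fun y => B⁻¹.val * y * x⁻¹.val) h1
      simpa [Matrix.mul_assoc] using this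
    have := congrArg (fun y => x.val * y * B⁻¹.val) h4
    simpa [Matrix.mul_assoc] using this
  rw [Units.val_mul, ← Matrix.smul_mul, ← Matrix.smul_mul, ← h3, ← Matrix.mul_smul, ← Matrix.mul_smul, ← h2]
  simp only [Matrix.mul_assoc]

theorem realisable_of_two_forms [Finite F] (hσ : ∀ a, σ (σ a) = a) (hne : σ ≠ σ₀) {K : Subgroup (GL ι F)}
    (hK : alg K = ⊤) {B H : GL ι F} (h1 : K ≤ Iso σ₀ B.val) (h2 : K ≤ Iso σ H.val) :
    ∃ F₀ : Subfield F, F₀ ≠ ⊤ ∧ RealisableOver F₀ (matrixSet K) := by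
  obtain ⟨Q, hF, hQ⟩ := exists_eq_pow_of_ne_id hσ hne
  obtain rfl : σ = frob hF := RingHom.ext hQ
  obtain ⟨P, hP⟩ := exists_descent hF hK (B⁻¹ * H) fun x hx => by
    simpa only [one_smul] using comm_of_two_forms (c := (1 : F)) (d := (1 : F))
      ((mem_Iso.1 (h1 hx)).trans (one_smul _ _).symm) ((mem_Iso.1 (h2 hx)).trans (one_smul _ _).symm)
  exact ⟨_, fixSub_ne_top hF le_rfl, realisableOver_of hP⟩

/-! ### characteristic two -/

theorem Alt.gf_self_adj [Finite F] {B : GL ι F} (hB : Alt B.val) {d : ℕ} {K : Subalgebra F (Matrix ι ι F)}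
    (hK : IsFieldSubalgebra d K) {y : Matrix ι ι F} (hy : y ∈ K) (ha : adj σ₀ B y = y) (v : ι → F) :
    gf σ₀ B.val (y *ᵥ v) v = 0 := by
  by_cases h2 : (2 : F) = 0
  · cases isEmpty_or_nonempty ι
    · rw [Subsingleton.elim v 0, gf_zero_right]
    haveI := Fintype.ofFinite F
    have hd : d ≠ 0 := by rw [← hK.finrank_eq]; exact finrank_pos.ne'
    have he : Even (Nat.card F ^ d) := by
      rw [Nat.even_pow, Nat.card_eq_fintype_card, ← Nat.not_odd_iff_even, ← two_ne_zero_iff_odd]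
      exact ⟨fun h => h h2, hd⟩
    obtain ⟨k, hk⟩ := he
    rw [← IsFieldSubalgebra.pow_card hK hy, hk, pow_add, ← mulVec_mulVec, hB.rf.gf_adj, adj_pow, ha, hB]
  · have := hB.skew (y *ᵥ v) v
    rw [hB.rf.gf_adj', ha] at this
    apply mul_left_cancel₀ h2
    linear_combination this

theorem le_isom_of_add {B : GL ι F} {G : Subgroup (GL ι F)} (hG : G ≤ Iso σ₀ B.val) {k : Matrix ι ι F}
    (h : ∀ g ∈ G, ∀ v, gf σ₀ B.val (cjm g k *ᵥ v) v = gf σ₀ B.val (k *ᵥ v) v) :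
    G ≤ Cfsg.isometryGroup F fun v => gf σ₀ B.val (k *ᵥ v) v := fun g hg => mem_isometryGroup.2 fun v => by
  rw [← h g hg, cjm_mulVec, mem_Iso'.1 (hG hg)]

theorem IdemDec.exists_qf (h2 : (2 : F) = 0) {B : GL ι F} (hB : Alt B.val) {G : Subgroup (GL ι F)}
    (hG : G ≤ Iso σ₀ B.val) {E : Fin 2 → Matrix ι ι F} (hE : IdemDec G E)
    (ha : ∀ i, adj σ₀ B (E i) = 1 - E i) :
    ∃ Q, QF Q B.val ∧ G ≤ Cfsg.isometryGroup F Q ∧ ∀ i, IsTotallySingularQuad Q (rng (E i)) := by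
  have h1 : ∀ i v, gf σ₀ B.val (E i *ᵥ v) v = gf σ₀ B.val (E 0 *ᵥ v) v := fun i v => by
    fin_cases i
    · rfl
    · have := hB v
      nth_rewrite 1 [← one_mulVec v] at this
      rw [← hE.sum, Fin.sum_univ_two, add_mulVec, gf_add_left] at this
      change gf σ₀ B.val (E 1 *ᵥ v) v = _
      linear_combination this - gf σ₀ B.val (E 0 *ᵥ v) v * h2
  refine ⟨_, (hB.rf.one_of_two h2).qf_of_add (k := E 0) (by rw [ha]; simp),
    le_isom_of_add hG fun g hg v => ?_, ?_⟩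
  · obtain ⟨π, hπ⟩ := hE.perm g hg
    rw [hπ, h1]
  · intro i w hw
    simp only
    rw [← h1 i, (mem_rng_idem (hE.idem i)).1 hw, hB]

theorem IsFieldSubalgebra.exists_qf [Finite F] (h2 : (2 : F) = 0) {B : GL ι F} (hB : Alt B.val)
    {G : Subgroup (GL ι F)} (hG : G ≤ Iso σ₀ B.val) {d : ℕ} {K : Subalgebra F (Matrix ι ι F)}
    (hK : IsFieldSubalgebra d K) (hn : Nrm G K) (hs : StCl σ₀ B K) {x : Matrix ι ι F} (hx : x ∈ K)
    (hx' : adj σ₀ B x ≠ x) : ∃ Q, QF Q B.val ∧ G ≤ Cfsg.isometryGroup F Q ∧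
      ∃ k ∈ K, ∀ v, Q v = gf σ₀ B.val (k *ᵥ v) v := by
  have hn2 : ∀ y : Matrix ι ι F, y + y = 0 := fun y => by rw [← two_smul F, h2, zero_smul]
  obtain ⟨y, hy, e⟩ := hK.inv (x + adj σ₀ B x) (K.add_mem hx (hs x hx)) (fun e => hx' (by
    rw [← add_left_cancel_iff (a := x), e, hn2]))
  have h1 : adj σ₀ B y = y := by
    have := congrArg (adj σ₀ B) e
    rw [adj_mul, adj_add, hB.rf.adj_adj, adj_one, add_comm] at this
    rw [← Matrix.mul_one (adj σ₀ B y), ← e, ← Matrix.mul_assoc, this, Matrix.one_mul]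
  have h3 : x * y + adj σ₀ B (x * y) = 1 := by
    rw [adj_mul, h1, hK.comm y hy _ (hs x hx), ← Matrix.add_mul, e]
  refine ⟨_, (hB.rf.one_of_two h2).qf_of_add h3, le_isom_of_add hG fun g hg v => ?_,
    x * y, K.mul_mem hx hy, fun _ => rfl⟩
  have h4 := congrArg (cjm g) h3
  rw [map_add, map_one, ← adj_cjm (fun _ => rfl) (Iso_le_Sim (hG hg))] at h4
  have := hB.gf_self_adj hK (K.add_mem (hn g hg _ (K.mul_mem hx hy)) (K.mul_mem hx hy)) (by
    rw [adj_add, eq_sub_of_add_eq' h4, eq_sub_of_add_eq' h3]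
    have a := hn2 (1 : Matrix ι ι F)
    have b := hn2 (cjm g (x * y) + x * y)
    rw [← sub_eq_zero, ← sub_eq_zero.2 (a.trans b.symm)]
    abel) v
  rw [add_mulVec, gf_add_left] at this
  linear_combination this - gf σ₀ B.val ((x * y) *ᵥ v) v * h2

theorem exists_qf_of_kgl [Finite F] {κ₁ κ₂ : Type} [Fintype κ₁] [DecidableEq κ₁] [Fintype κ₂] [DecidableEq κ₂]
    {e : ι ≃ κ₁ × κ₂} {P : GL ι F} {B : Matrix ι ι F} {B₁ : Matrix κ₁ κ₁ F} {B₂ : Matrix κ₂ κ₂ F}
    (hB : Pb σ₀ B e P (B₁ ⊗ₖ B₂)) (h1 : Alt B₁) (h2 : Alt B₂) {G : Subgroup (GL ι F)}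
    (hG : ∀ g ∈ G, ∃ a b, g = trg e P (kgl a b)) (hGB : G ≤ Iso σ₀ B) :
    ∃ Q, QF Q B ∧ G ≤ Cfsg.isometryGroup F Q ∧ ∀ x y, Q (trv e P (ktv x y)) = 0 := by
  obtain ⟨Q, hQ, h0⟩ := exists_qf_kron h1 h2
  refine ⟨_, hQ.trv_symm hB, fun g hg => mem_isometryGroup.2 fun v => ?_, fun x y => by simp [h0]⟩
  obtain ⟨a, b, rfl⟩ := hG g hg
  obtain ⟨x, rfl⟩ := (trv e P).surjective v
  simp only [trg_mulVec, LinearEquiv.symm_apply_apply]
  have h3 := mem_Iso.1 (hB.mem_Iso.1 (hGB hg))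
  rw [map_σ₀, coe_kgl] at h3
  rw [coe_kgl, hQ.kron_mul h0 (c := 1) (h3.trans (one_smul _ _).symm), one_mul]

theorem exists_qf_of_wreath (h2 : (2 : F) = 0) {m t : ℕ} {e : ι ≃ (Fin (t + 2) → Fin m)} {P : GL ι F}
    {B : Matrix ι ι F} {B₀ : Matrix (Fin m) (Fin m) F} {c : F} (hB : Pb σ₀ B e P (c • pt fun _ => B₀))
    (h1 : Alt B₀) {G : Subgroup (GL ι F)} (hG : G ≤ tensorWreathSubgroup m (t + 2) e P)
    (hGB : G ≤ Iso σ₀ B) : ∃ Q, QF Q B ∧ G ≤ Cfsg.isometryGroup F Q ∧ ∀ x, Q (trv e P (ptv x)) = 0 := by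
  obtain ⟨Q, hQ, h0⟩ := exists_qf_pt (t := t) h2 h1
  refine ⟨_, (hQ.mul c).trv_symm hB, fun g hg => mem_isometryGroup.2 fun v => ?_, fun x => by simp [h0]⟩
  obtain ⟨a, b, rfl⟩ := mem_tensorWreathSubgroup.1 (hG hg)
  obtain ⟨x, rfl⟩ := (trv e P).surjective v
  simp only [trg_mulVec, LinearEquiv.symm_apply_apply]
  have h3 := mem_Iso.1 (hB.mem_Iso.1 (hGB hg))
  rw [map_σ₀] at h3
  rw [(hQ.mul c).pt_mul (fun x => by simp [h0]) (c := 1) (h3.trans (one_smul _ _).symm), one_mul]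

/-! ### elementary abelian subgroups of extraspecial groups -/

theorem XR.exists_dec_of_elem [Finite F] {G R : Subgroup (GL ι F)} (h : XR G R 2) {A : Subgroup (GL ι F)}
    (hA : A ≤ R) (h1 : ∀ x ∈ A, x * x = 1) (hZ : ¬ A ≤ Z) :
    ∃ (t : ℕ) (E : Fin t → Matrix ι ι F), IdemDec R E ∧ (∀ i, E i ∈ alg A) ∧
      Nat.card (A ⧸ (Z).subgroupOf A) ≤ t := by
  haveI := h.nonempty
  have h2 : (2 : F) ≠ 0 := by exact_mod_cast h.cast_ne_zero
  have hc : ∀ x ∈ A, ∀ y ∈ A, x * y = y * x := fun x hx y hy => by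
    have := h1 _ (A.mul_mem hx hy)
    rw [← inv_eq_of_mul_eq_one_right this, _root_.mul_inv_rev, inv_eq_of_mul_eq_one_right (h1 x hx),
      inv_eq_of_mul_eq_one_right (h1 y hy)]
  have hC : IsComm (alg A) := fun _ ha _ hb => alg_comm_alg hc ha hb
  have hn : Nrm R (alg A) := fun g hg _ ha => alg_induction (p := fun a => cjm g a ∈ alg A)
    (fun x hx => by
      obtain ⟨c, hc⟩ := exists_scal (h.comm g hg x (hA hx))
      have : g * x * g⁻¹ = scal ι c * x := by rw [hc]; simp [commutatorElement_def]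
      rw [cjm_coe, this, coe_scal_mul]
      exact Subalgebra.smul_mem _ (coe_mem_alg hx) _) (by simp)
    (fun a b ha hb => by rw [map_add]; exact add_mem ha hb)
    (fun c a ha => by rw [map_smul]; exact Subalgebra.smul_mem _ ha c) ha
  have hid : ∀ x ∈ A, (2⁻¹ : F) • (1 + x.val) ∈ {e | e ∈ alg A ∧ e * e = e} := fun x hx =>
    ⟨Subalgebra.smul_mem _ (add_mem (one_mem _) (coe_mem_alg hx)) _, by
      rw [Matrix.smul_mul, Matrix.mul_smul, smul_smul, Matrix.add_mul, Matrix.mul_add, Matrix.mul_add,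
        ← Units.val_mul, h1 x hx]
      simp only [Matrix.mul_one, Matrix.one_mul, Units.val_one]
      rw [add_comm x.val, ← two_smul F, smul_smul]
      congr 1; field_simp⟩
  obtain ⟨x, hx, hxZ⟩ := SetLike.not_le_iff_exists.1 hZ
  obtain ⟨t, E, hE, hES, hmin⟩ := (irr_of_alg_top h.top).exists_idemDec (S := {e | e ∈ alg A ∧ e * e = e})
    (fun e he => he.2)
    (fun e he f hf => ⟨mul_mem he.1 hf.1, by
      rw [Matrix.mul_assoc, ← Matrix.mul_assoc f, hC f hf.1 e he.1, ← Matrix.mul_assoc,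
        ← Matrix.mul_assoc, he.2, Matrix.mul_assoc, hf.2]⟩)
    (fun e he f hf => hC e he.1 f hf.1) (fun g hg e he => ⟨hn g hg e he.1, by rw [← map_mul, he.2]⟩)
    (hid x hx) (fun e => hxZ (mem_scalars.2 ⟨-1, by
      rw [smul_eq_zero_iff_right (inv_ne_zero h2), add_eq_zero_iff_neg_eq] at e
      rw [← e, neg_one_smul]⟩)) (fun e => hxZ (mem_scalars.2 ⟨1, by
      rw [inv_smul_eq_iff₀ h2, two_smul, add_right_inj] at e
      rw [e, one_smul]⟩))
  refine ⟨t, E, hE, fun i => (hES i).1, ?_⟩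
  rw [← finrank_alg_eq h.top h.comm hA, ← Subalgebra.finrank_toSubmodule]
  refine (Submodule.finrank_mono (t := Submodule.span F (Set.range E)) ?_).trans
    ((finrank_range_le_card E).trans (by simp))
  refine Submodule.span_le.2 ?_
  rintro _ ⟨y, hy, rfl⟩
  change y.val ∈ _
  rw [← Matrix.one_mul y.val, ← hE.sum, Finset.sum_mul]
  refine Submodule.sum_mem _ fun i _ => ?_
  have hEi : E i ∈ Submodule.span F (Set.range E) := Submodule.subset_span ⟨i, rfl⟩
  rcases hmin i _ (hid y hy) with e | e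
  · rw [Matrix.mul_smul, smul_eq_zero_iff_right (inv_ne_zero h2), Matrix.mul_add, Matrix.mul_one,
      add_eq_zero_iff_neg_eq] at e
    rw [← e]; exact neg_mem hEi
  · rw [Matrix.mul_smul, inv_smul_eq_iff₀ h2, two_smul, Matrix.mul_add, Matrix.mul_one, add_right_inj] at e
    rw [e]; exact hEi

theorem XR.card_le [Finite F] {G R : Subgroup (GL ι F)} {r : ℕ} (h : XR G R r) {A : Subgroup (GL ι F)}
    (hA : A ≤ R) : Nat.card A ≤ Nat.card (A ⧸ (Z).subgroupOf A) * Nat.card (Subgroup.center R) := by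
  rw [Subgroup.card_eq_card_quotient_mul_card_subgroup ((Z).subgroupOf A), center_eq_of_top h.top]
  refine Nat.mul_le_mul_left _ (Nat.card_le_card_of_injective
    (fun x => (⟨⟨x.1.1, hA x.1.2⟩, x.2⟩ : (Z).subgroupOf R)) fun x y e => ?_)
  exact Subtype.ext (Subtype.ext (congrArg (fun z : (Z).subgroupOf R => z.1.1) e))

theorem XR.isOfMinusType [Finite F] {G R : Subgroup (GL ι F)} (h : XR G R 2) {B : GL ι F} (hB : Alt B.val)
    (hR : R ≤ Iso σ₀ B.val) {k : ℕ} (hk : Fintype.card ι = 2 ^ k) (hz : Nat.card (Subgroup.center R) = 2) :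
    IsOfMinusType k R := by
  intro A _ hA
  by_contra hlt
  have h1 : ∀ x ∈ A.map R.subtype, x * x = 1 := by
    rintro _ ⟨x, hx, rfl⟩; exact congrArg Subtype.val (hA x hx)
  have h2 := h.card_le (Subgroup.map_subtype_le A)
  rw [Subgroup.card_subtype, hz] at h2
  have h3 : 2 ^ k ≤ Nat.card (A.map R.subtype ⧸ (Z).subgroupOf (A.map R.subtype)) := by
    rw [pow_succ] at hlt; omega
  obtain ⟨t, E, hE, hEA, ht⟩ := h.exists_dec_of_elem (Subgroup.map_subtype_le A) h1 (fun hZ => by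
    rw [Subgroup.subgroupOf_eq_top.2 hZ, ← Subgroup.index_eq_card, Subgroup.index_top] at h3
    have := h.two_le; omega)
  obtain ⟨m, hm⟩ := hE.nondeg hB.rf fun i => alg_induction (p := fun a => adj σ₀ B a = a)
    (fun x hx => by
      rw [adj_of_Iso (fun _ => rfl) (hR (Subgroup.map_subtype_le A hx)), inv_eq_of_mul_eq_one_right (h1 x hx)])
    (adj_zero B) (fun a b ha hb => by rw [adj_add, ha, hb]) (fun c a ha => by rw [adj_smul, ha]; rfl) (hEA i)
  have h4 := IsMDecomposition.card_eq hm.decomp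
  have h5 := hE.two_le
  have h6 := hB.even_of_nondeg (hm.nondegenerate ⟨0, by omega⟩)
  rw [hm.decomp.finrank_eq] at h6
  have h7 := hm.decomp.pos
  have h8 : t * 2 ≤ t * m := Nat.mul_le_mul_left _ (by obtain ⟨j, rfl⟩ := h6; omega)
  omega

theorem IsMinimalFieldFor.eq_one [Fintype F] {p e : ℕ} (h : IsMinimalFieldFor 2 p e F) (he : 0 < e)
    (hp : 2 ≠ p) : e = 1 ∧ Odd p := by
  have ho := h.1.eq_two_or_odd'.resolve_left hp.symm
  refine ⟨?_, ho⟩
  by_contra h1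
  obtain ⟨k, rfl⟩ := ho
  exact h.2.2.2.2 1 one_pos (by omega) ⟨k, by simp⟩

/-- the extraspecial case for bilinear forms -/
theorem ExtraCase.xr_Iso [Finite F] {G N : Subgroup (GL ι F)} (h : ExtraCase G N 2) (hι : 2 ≤ Fintype.card ι)
    {B : GL ι F} (hG : G ≤ Iso σ₀ B.val) : XR G (N ⊓ Iso σ₀ B.val) 2 ∧
      Nat.card (Subgroup.center (N ⊓ Iso σ₀ B.val : Subgroup _)) = 2 := by
  haveI : Nonempty ι := Fintype.card_pos_iff.1 (by omega)
  have key : ∀ c : Fˣ, scal ι c ∈ Iso σ₀ B.val → scal ι c ^ 2 = 1 := fun c hc => by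
    rw [← map_pow, sq, show c * c = 1 from Units.ext (scal_mem_Iso.1 hc), map_one]
  have h1 : XR G (N ⊓ Iso σ₀ B.val) 2 := h.xr hι inf_le_left (h.le_inf_sup hG)
    (le_normalizer_inf h.nrm (hG.trans Subgroup.le_normalizer)) fun x hx => by
      obtain ⟨c, hc⟩ := exists_scal (h.pow x hx.1)
      rw [show 2 * Nat.gcd 2 2 = 2 * 2 from rfl, pow_mul, ← hc]
      exact key c (hc ▸ pow_mem hx.2 2)
  refine ⟨h1, h1.center_two.resolve_right fun e => ?_⟩
  haveI := h1.isCyclic_center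
  have : Monoid.exponent (Subgroup.center (N ⊓ Iso σ₀ B.val : Subgroup _)) ∣ 2 :=
    Monoid.exponent_dvd_of_forall_pow_eq_one fun x => by
      obtain ⟨c, hc⟩ := exists_scal ((center_eq_of_top h1.top).le x.2)
      exact Subtype.ext (Subtype.ext (by
        change x.1.1 ^ 2 = 1
        have : scal ι c = x.1.1 := hc
        rw [← this]; exact key c (this ▸ x.1.2.2)))
  rw [IsCyclic.exponent_eq_card, e] at this
  omega

end Cfsg.Agent.Classical.Asch
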