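import Cfsg.Agent.Lib.Classical.Asch11

/-!
Aschbacher's theorem for the symplectic groups.
-/

set_option autoImplicit false

namespace Cfsg.Agent.Classical.Asch
open Matrix Cfsg.Geo Module Cfsg.Agent.Comp
open scoped MatrixGroups Kronecker commutatorElement

variable {ι : Type} [Fintype ι] [DecidableEq ι] {F : Type*} [Field F] {σ : F →+* F}

local notation "Z" => scalars ι F
local notation "σ₀" => RingHom.id F

theorem IsFieldSubalgebra.dvd_finrank [Finite F] {d : ℕ} {C : Subalgebra F (Matrix ι ι F)} [Nonempty ι]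
    (hC : IsFieldSubalgebra d C) {W : Submodule F (ι → F)} (hW : ∀ k ∈ C, ∀ w ∈ W, k *ᵥ w ∈ W) :
    d ∣ finrank F W := by
  letI := (IsFieldSubalgebra.isField hC).toField
  letI : Module C (ι → F) := Module.compHom (ι → F)
    ((Matrix.toLinAlgEquiv' (R := F) (n := ι)).toRingEquiv.toRingHom.comp C.val.toRingHom)
  let W' : Submodule C (ι → F) :=
    { carrier := W
      zero_mem' := W.zero_mem
      add_mem' := W.add_mem
      smul_mem' := fun c w hw => hW c.1 c.2 w hw }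
  have h1 := Module.natCard_eq_pow_finrank (K := C) (V := W')
  rw [Module.natCard_eq_pow_finrank (K := F) (V := C), hC.finrank_eq, ← pow_mul] at h1
  have h2 := Module.natCard_eq_pow_finrank (K := F) (V := W)
  exact ⟨_, Nat.pow_right_injective Finite.one_lt_card (h2.symm.trans h1)⟩

theorem IsFieldSubalgebra.two_mul_dvd [Finite F] [Nonempty ι] {d : ℕ} {K : Subalgebra F (Matrix ι ι F)}
    (hK : IsFieldSubalgebra d K) {ε : F} {B : GL ι F} (hB : RF σ ε B) (hs : StCl σ B K)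
    (h0 : ∀ k ∈ K, ∀ v, gf σ B.val (k *ᵥ v) v = 0) : 2 * d ∣ Fintype.card ι := by
  obtain ⟨W, ⟨h1, h2⟩, hmax⟩ := Set.exists_max_image {W : Submodule F (ι → F) |
    (∀ k ∈ K, ∀ w ∈ W, k *ᵥ w ∈ W) ∧ W ≤ perp σ B.val W} (fun W => finrank F W) (Set.toFinite _)
    ⟨⊥, by simp, bot_le⟩
  have h3 : perp σ B.val W ≤ W := fun v hv => by
    let U : Submodule F (ι → F) :=
      { carrier := {u | ∃ w ∈ W, ∃ k ∈ K, u = w + k *ᵥ v}
        zero_mem' := ⟨0, W.zero_mem, 0, K.zero_mem, by simp⟩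
        add_mem' := by
          rintro _ _ ⟨w, hw, k, hk, rfl⟩ ⟨w', hw', k', hk', rfl⟩
          exact ⟨w + w', W.add_mem hw hw', k + k', K.add_mem hk hk', by rw [add_mulVec]; abel⟩
        smul_mem' := by
          rintro c _ ⟨w, hw, k, hk, rfl⟩
          exact ⟨c • w, W.smul_mem c hw, c • k, K.smul_mem hk c, by rw [smul_mulVec, smul_add]⟩ }
    have hWU : W ≤ U := fun w hw => ⟨w, hw, 0, K.zero_mem, by simp⟩
    have hv' : ∀ k ∈ K, ∀ w ∈ W, gf σ B.val (k *ᵥ v) w = 0 := fun k hk w hw => by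
      rw [hB.gf_adj]; exact hv _ (h1 _ (hs k hk) w hw)
    rw [Submodule.eq_of_le_of_finrank_le hWU (hmax U ⟨?_, ?_⟩)]
    · exact ⟨0, W.zero_mem, 1, K.one_mem, by simp⟩
    · rintro l hl _ ⟨w, hw, k, hk, rfl⟩
      exact ⟨_, h1 l hl w hw, _, K.mul_mem hl hk, by rw [mulVec_add, mulVec_mulVec]⟩
    · rintro _ ⟨w, hw, k, hk, rfl⟩ _ ⟨w', hw', k', hk', rfl⟩
      rw [gf_add_left, gf_add_right, gf_add_right, h2 hw w' hw', hv' k hk w' hw',
        hB.gf_eq_zero_comm.1 (hv' k' hk' w hw), hB.gf_adj', mulVec_mulVec, h0 _ (K.mul_mem (hs _ hk') hk)]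
      simp
  have h4 := finrank_perp hB.σσ B W
  rw [← le_antisymm h2 h3, ← two_mul] at h4
  rw [← h4]
  exact Nat.mul_dvd_mul_left 2 (IsFieldSubalgebra.dvd_finrank hK h1)

theorem three_ne_of_card [Fintype F] (h : Fintype.card F = 3) : ((3 : ℕ) : F) = 0 := by
  rw [← h]; exact FiniteField.cast_card_eq_zero F

/-- a symmetric tensor factor of a primitive group -/
theorem sym_factor [Fintype F] [Nonempty ι] (h2 : (2 : F) ≠ 0) {G : Subgroup (GL ι F)} (hG : Irr G)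
    {B : GL ι F} (hGB : G ≤ Sim σ₀ B.val) (hP : SPrimF σ₀ B G) {k : ℕ} {κ : Type} [Fintype κ]
    [DecidableEq κ] {e : ι ≃ Fin k × κ} {P : GL ι F} (h : ∀ g ∈ G, ∃ a b, g = trg e P (kgl a b))
    {B₁ : GL (Fin k) F} {B₂ : GL κ F} (hB : Pb σ₀ B.val e P (kgl B₁ B₂).val) (h1 : RF σ₀ 1 B₁) :
    k ≠ 2 ∧ (k = 3 → Fintype.card F ≠ 3) := by
  haveI : Nonempty (Fin k) := ⟨(e (Classical.arbitrary ι)).1⟩
  haveI : Nonempty κ := ⟨(e (Classical.arbitrary ι)).2⟩
  have h3 := hP.fac h (fun _ => rfl) hB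
  have h4 := fac_le_Sim hB hGB
  constructor
  · rintro rfl
    exact h1.not_sprimF_two h2 h4 h3
  · rintro rfl h5
    exact (hG.fac h).not_sprimF (by simpa using Nat.prime_three) h1 h4
      (h1.isSolvable_three (by simp) (by rw [Nat.card_eq_fintype_card, h5]) h2)
      (by simpa using three_ne_of_card h5) h3

/-- the outcomes in the symplectic case -/
inductive SpOut [Fintype F] (B : GL ι F) (G : Subgroup (GL ι F)) : Prop
  | ts (W : Submodule F (ι → F)) (h1 : W ≠ ⊥) (h2 : IsTotallySingularFor (gf σ₀ B.val) W)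
      (h : G ≤ subspaceStabilizer W)
  | nd (W : Submodule F (ι → F)) (h1 : W ≠ ⊥) (h2 : IsNondegenerateOn (gf σ₀ B.val) W)
      (h3 : 2 * finrank F W < Fintype.card ι) (h : G ≤ subspaceStabilizer W)
  | dec {t : ℕ} (m : ℕ) (D : Fin t → Submodule F (ι → F))
      (hD : IsNondegenerateMDecomposition (gf σ₀ B.val) m D) (h : G ≤ decompositionStabilizer D)
  | pair (m : ℕ) (D : Fin 2 → Submodule F (ι → F)) (ho : Odd (Fintype.card F)) (hD : IsMDecomposition m D)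
      (h2 : ∀ i, IsTotallySingularFor (gf σ₀ B.val) (D i)) (h : G ≤ decompositionStabilizer D)
  | fld (r : ℕ) (K : Subalgebra F (Matrix ι ι F)) (hr : r.Prime) (hK : IsFieldSubalgebra r K)
      (h1 : IsSelfAdjointFor (gf σ₀ B.val) K) (h2 : ∀ k ∈ K, ∀ v, gf σ₀ B.val (k *ᵥ v) v = 0)
      (h3 : 2 * r ∣ Fintype.card ι) (h : G ≤ subalgebraNormalizer K)
  | ufld (K : Subalgebra F (Matrix ι ι F)) (ho : Odd (Fintype.card F)) (hK : IsFieldSubalgebra 2 K)
      (h1 : IsAdjointClosedFor (gf σ₀ B.val) K) (h2 : ¬ IsSelfAdjointFor (gf σ₀ B.val) K)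
      (h : G ≤ subalgebraNormalizer K)
  | ten (n₁ n₂ : ℕ) (e : ι ≃ Fin n₁ × Fin n₂) (P : GL ι F) (B₁ : GL (Fin n₁) F) (B₂ : GL (Fin n₂) F)
      (ho : Odd (Fintype.card F)) (h1 : 3 ≤ n₂) (h2 : n₂ = 3 → Fintype.card F ≠ 3) (hB₁ : Alt B₁.val)
      (hB₂ : RF σ₀ 1 B₂) (hB : Pb σ₀ B.val e P (kgl B₁ B₂).val) (hP : SPrimF σ₀ B G)
      (h : G ≤ tensorProductSubgroup n₁ n₂ e P)
  | sub (F₀ : Subfield F) (r : ℕ) (P : GL ι F) (ζ : F) (hr : r.Prime)
      (hF : Fintype.card F = Nat.card F₀ ^ r) (h1 : ζ ≠ 0)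
      (h2 : IsFormRationalStructure (gf σ₀ B.val) F₀ ζ P) (h : G ≤ subfieldSubgroup F₀ P)
  | ext (R : Subgroup (GL ι F)) (k : ℕ) (hR : XR G R 2) (h1 : R ≤ Iso σ₀ B.val)
      (hp : (Fintype.card F).Prime) (ho : Odd (Fintype.card F)) (hk : Fintype.card ι = 2 ^ k)
      (h2 : Nat.card R = 2 ^ (1 + 2 * k)) (h3 : Nat.card (Subgroup.center R) = 2) (h4 : IsOfMinusType k R)
  | wre (k t : ℕ) (e : ι ≃ (Fin t → Fin k)) (P : GL ι F) (B₀ : GL (Fin k) F) (c : F)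
      (ho : Odd (Fintype.card F)) (h1 : Odd t) (h2 : 3 ≤ t) (h3 : ¬ (Fintype.card F = 3 ∧ k = 2))
      (hB₀ : Alt B₀.val) (hc : c ≠ 0) (hB : Pb σ₀ B.val e P (c • pt fun _ => B₀.val))
      (h : G ≤ tensorWreathSubgroup k t e P)
  | quad (Q : (ι → F) → F) (he : ¬ Odd (Fintype.card F)) (hQ : QF Q B.val) (h : G ≤ Cfsg.isometryGroup F Q)
  | res (h : InSymplecticResidualClass G)

theorem SpOut.of_descent [Fintype F] [Nonempty ι] {B : GL ι F} {G N : Subgroup (GL ι F)} (hN : alg N = ⊤)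
    (hn : G ≤ Subgroup.normalizer (N : Set (GL ι F))) (hB : N ≤ Iso σ₀ B.val) {Q r : ℕ} (hr : r.Prime)
    (hF : Nat.card F = Q ^ r) {P : GL ι F} (hP : ∀ x ∈ N, ∀ i j, cjm P⁻¹ x.val i j ∈ fixSub hF) :
    SpOut B G := by
  obtain ⟨C, hC⟩ := exists_pb σ₀ B (Equiv.refl ι) P
  obtain ⟨ζ, h1, h2⟩ := exists_rational hF hN hP hC fun x hx =>
    ⟨1, one_mem _, (mem_Iso.1 (hB hx)).trans (one_smul _ _).symm⟩
  exact .sub _ r P ζ hr (card_eq_fixSub hF) h1 (hC.isFormRationalStructure (fun _ h => h) h2)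
    (le_subfieldSubgroup_fix hF hN hP hn)

theorem XR.spOut [Fintype F] {B : GL ι F} (hB : Alt B.val) {G R : Subgroup (GL ι F)} (h : XR G R 2)
    (hR : R ≤ Iso σ₀ B.val) (hz : Nat.card (Subgroup.center R) = 2) : SpOut B G := by
  haveI := h.nonempty
  obtain ⟨m, -, hm1, hm2⟩ := h.exists_card
  rcases h.field_cases with ⟨p, e, hp, he, hmin⟩ | ⟨Q, s, hs, hF, hQ⟩
  · rw [hz] at hmin
    obtain ⟨rfl, ho⟩ := IsMinimalFieldFor.eq_one hmin he hp
    have hq : Fintype.card F = p := by rw [hmin.2.2.1, pow_one]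
    exact .ext R m h hR (hq ▸ hmin.1) (hq ▸ ho) hm1 (by rw [hm2, hz]; ring) hz (h.isOfMinusType hB hR hm1 hz)
  · obtain ⟨P, hP⟩ := h.exists_descent hF hQ
    exact .of_descent h.top h.nrm hR hs hF hP

theorem SpOut.of_not_sprimF [Fintype F] [Nonempty ι] {B : GL ι F} (hB : Alt B.val) {G : Subgroup (GL ι F)}
    (hG : Irr G) (hGB : G ≤ Iso σ₀ B.val) (hP : ¬ SPrimF σ₀ B G) : SpOut B G := by
  rcases hG.tri hB.rf (hGB.trans Iso_le_Sim) hP with ⟨t, E, hE, h⟩ | ⟨E, hE, h⟩ | ⟨r, K, hr, hK, hn, hs⟩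
  · obtain ⟨m, hm⟩ := hE.nondeg hB.rf h
    exact .dec m _ hm hE.le
  · by_cases h2 : (2 : F) = 0
    · obtain ⟨Q, h1, h3, -⟩ := hE.exists_qf h2 hB hGB h
      exact .quad Q (fun ho => two_ne_zero_iff_odd.2 ho h2) h1 h3
    · obtain ⟨m, hm⟩ := hE.isMDecomposition
      exact .pair m _ (two_ne_zero_iff_odd.1 h2) hm (hE.ts hB.rf h) hE.le
  · by_cases ha : ∀ k ∈ K, adj σ₀ B k = k
    · have h0 := fun k hk => hB.gf_self_adj hK hk (ha k hk)
      exact .fld r K hr hK ((isSelfAdjointFor_iff fun _ => rfl).2 ha) h0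
        (IsFieldSubalgebra.two_mul_dvd hK hB.rf hs h0) (nrm_iff.1 hn)
    · have ha' := ha
      push Not at ha'
      obtain ⟨x, hx, hx'⟩ := ha'
      by_cases h2 : (2 : F) = 0
      · obtain ⟨Q, h1, h3, -⟩ := IsFieldSubalgebra.exists_qf h2 hB hGB hK hn hs hx hx'
        exact .quad Q (fun ho => two_ne_zero_iff_odd.2 ho h2) h1 h3
      · obtain rfl := hr.even_iff.1 (IsFieldSubalgebra.even_of_adj_ne hK hB.rf hs hx hx')
        exact .ufld K (two_ne_zero_iff_odd.1 h2) hK (hs.isAdjointClosedFor fun _ => rfl)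
          (by rwa [isSelfAdjointFor_iff fun _ => rfl]) (nrm_iff.1 hn)

theorem SpOut.of_not_irr [Fintype F] {B : GL ι F} (hB : Alt B.val) {G : Subgroup (GL ι F)}
    (hGB : G ≤ Iso σ₀ B.val) (hG : ¬ Irr G) : SpOut B G := by
  rcases red_cases hB.rf (hGB.trans Iso_le_Sim) hG with ⟨W, h1, h2, h3⟩ | ⟨W, h1, h2, h3, h4⟩
  · exact .ts W h1 h2 h3
  · rcases h3.lt_or_eq with h3 | h3
    · exact .nd W h1 h2 h3 h4
    · obtain ⟨h5, h6⟩ := half_dec hB.rf h1 h2 h3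
      exact .dec _ _ h5 ((le_inf h4 (hGB.trans Iso_le_Sim)).trans h6)

theorem spOut [Fintype F] (hι : 2 ≤ Fintype.card ι) {B : GL ι F} (hB : Alt B.val) {G : Subgroup (GL ι F)}
    (hGB : G ≤ Iso σ₀ B.val) : SpOut B G := by
  haveI : Nonempty ι := Fintype.card_pos_iff.1 (by omega)
  have hS := hGB.trans Iso_le_Sim
  by_cases hG : Irr G
  swap
  · exact .of_not_irr hB hGB hG
  by_cases hP : SPrimF σ₀ B G
  swap
  · exact .of_not_sprimF hB hG hGB hP
  rcases hG.raw hι (hP.prim hB.rf (sup_le hS scalars_le_Sim)) with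
    ⟨N, d, k, e, P, hN, h⟩ | ⟨N, r, h⟩ | ⟨t, m, K, e, P, h⟩ | ⟨K, h⟩
  · haveI : Nonempty (Fin d) := ⟨(e (Classical.arbitrary ι)).1⟩
    haveI : Nonempty (Fin k) := ⟨(e (Classical.arbitrary ι)).2⟩
    obtain ⟨B₁, B₂, α, β, h1, h2, h3, h4⟩ := h.form hB.rf (hN.trans (sup_le hS scalars_le_Sim))
    have h2 := RF.of_id h2
    have h3 := RF.of_id h3
    have hk := fun g hg => mem_tensorProductSubgroup.1 (h.le (x := g) hg)
    by_cases he : (2 : F) = 0
    · obtain ⟨Q, h5, h6, -⟩ := exists_qf_of_kgl h1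
        ((hG.fac hk).alt (by simpa using h.hd) he (by simpa using (h2.one_of_two he).symm) (fac_le_Sim h1 hS))
        ((hG.fac (kgl_swap hk)).alt (by simpa using h.hk) he (by simpa using (h3.one_of_two he).symm)
          (fac_le_Sim (Pb.swap' h1) hS)) hk hGB
      exact .quad Q (fun ho => two_ne_zero_iff_odd.2 ho he) h5 h6
    rcases eq_one_or_of_mul_self h2.εε with rfl | rfl
    · rw [one_mul] at h4
      subst h4
      obtain ⟨h5, h6⟩ := sym_factor he hG hS hP hk h1 h2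
      exact .ten k d _ P B₂ B₁ (two_ne_zero_iff_odd.1 he) (by have := h.hd; omega) h6 (h3.alt he) h2
        (Pb.swap' h1) hP h.swap_le
    · obtain rfl : β = 1 := by linear_combination -h4
      obtain ⟨h5, h6⟩ := sym_factor he hG hS hP (kgl_swap hk) (Pb.swap' h1) h3
      exact .ten d k _ P B₁ B₂ (two_ne_zero_iff_odd.1 he) (by have := h.hk; omega) h6 (h2.alt he) h3
        h1 hP h.le
  · obtain ⟨R, hR, -⟩ := h.exists_xr hι
    obtain ⟨m, -, hm, -⟩ := hR.exists_card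
    obtain rfl : r = 2 := h.prime.even_iff.1 (Nat.even_pow.1 (hm ▸ hB.even)).1
    obtain ⟨h1, h2⟩ := h.xr_Iso hι hGB
    exact h1.spOut hB inf_le_right h2
  · haveI : Nonempty (Fin m) := ⟨⟨0, by have := h.hm; omega⟩⟩
    obtain ⟨B₀, c, α, hc, h1, h2, h3⟩ := h.form hB.rf hS
    have h2 := RF.of_id h2
    obtain ⟨K₀, h4, h5, h6⟩ := h.exists_fac (fun _ => rfl) hS hc h1
    by_cases he : (2 : F) = 0
    · obtain ⟨Q, h7, h8, -⟩ := exists_qf_of_wreath he h1 ((irr_of_alg_top h4).alt (by simpa using h.hm) he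
        (by simpa using (h2.one_of_two he).symm) (h6.trans Iso_le_Sim)) h.le_wreath hGB
      exact .quad Q (fun ho => two_ne_zero_iff_odd.2 ho he) h7 h8
    have h7 : α ^ (t + 2) = -1 := mul_left_cancel₀ hc (by rw [h3]; simp)
    have h8 : (1 : F) ≠ -1 := fun e => he (by linear_combination e)
    rcases eq_one_or_of_mul_self h2.εε with rfl | rfl
    · exact absurd (by simpa using h7) h8
    have h9 : Odd (t + 2) := by
      by_contra h9
      rw [(Nat.not_odd_iff_even.1 h9).neg_one_pow] at h7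
      exact h8 h7
    refine .wre m _ e P B₀ c (two_ne_zero_iff_odd.1 he) h9 (by obtain ⟨j, hj⟩ := h9; omega) ?_ (h2.alt he)
      hc h1 h.le_wreath
    rintro ⟨hq, rfl⟩
    exact h5.not_le_of_isSolvable ((h2.alt he).isSolvable (by simp)
      (by rw [Nat.card_eq_fintype_card, hq])) h6
  by_cases h1 : ∃ F₀ : Subfield F, F₀ ≠ ⊤ ∧ RealisableOver F₀ (matrixSet K)
  · obtain ⟨F₀, h0, h1⟩ := h1
    obtain ⟨Q, r, hF, P, hr, hP⟩ := exists_of_realisableOver h0 h1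
    exact .of_descent h.top h.nrm (h.le.trans hGB) hr hF hP
  by_cases h2 : ∃ Q : (ι → F) → F, IsNondegenerateQuadraticForm Q ∧ FixesQuadForm (matrixSet K) Q
  · obtain ⟨Q, hQ, h2⟩ := h2
    obtain ⟨C, hC⟩ := IsNondegenerateQuadraticForm.exists hQ
    have h2 := fixesQuadForm_iff.1 h2
    obtain ⟨l, hl⟩ := schur_Iso h.top (h2.trans hC.isom_le) (h.le.trans hGB)
    have h3 := hC.mul l
    rw [← hl] at h3
    refine .quad _ (fun ho => gl_ne_zero B ?_) h3 (h3.le_isom_of_nrm hι (irr_of_alg_top h.top)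
      (fun x hx => mem_isometryGroup.2 fun v => by rw [mem_isometryGroup.1 (h2 hx)]) h.nrm hGB)
    have h4 := h3.transpose.symm.trans hB.transpose
    rw [eq_neg_iff_add_eq_zero, ← two_smul F] at h4
    exact (smul_eq_zero.1 h4).resolve_left (two_ne_zero_iff_odd.2 ho)
  refine .res ⟨K, h.isResidualCore (by push Not at h1; exact h1), h2, ?_⟩
  rintro ⟨τ, f, hf, h4⟩
  obtain ⟨hτ, H, hH, rfl⟩ := IsUnitaryForm.exists hf
  exact h1 (realisable_of_two_forms hH.σσ hτ h.top (h.le.trans hGB) (fixesForm_iff.1 h4))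

theorem SpOut.inSymplecticClass [Fintype F] {m : ℕ} (hm : 0 < m) {G : Subgroup (GL (Fin m ⊕ Fin m) F)}
    (hG : G ≤ Cfsg.spGL m F) (h : SpOut (JG m F) G) :
    (∃ M, InSymplecticClass m F M ∧ G ≤ M) ∨ InSymplecticResidualClass G := by
  haveI : Nonempty (Fin m) := ⟨⟨0, hm⟩⟩
  cases h with
  | ts W h1 h2 h => exact .inl ⟨_, .inl (.inl ⟨W, h1, h2, rfl⟩), le_inf h hG⟩
  | nd W h1 h2 h3 h =>
    exact .inl ⟨_, .inl (.inr (.inl ⟨W, h1, h2, by simp at h3; omega, rfl⟩)), le_inf h hG⟩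
  | dec k D hD h => exact .inl ⟨_, .inl (.inr (.inr (.inl ⟨_, k, D, hD, rfl⟩))), le_inf h hG⟩
  | pair k D ho hD h2 h =>
    obtain rfl : k = m := by have := IsMDecomposition.card_eq hD; simp at this; omega
    exact .inl ⟨_, .inl (.inr (.inr (.inr (.inl ⟨D, ho, hD, h2, rfl⟩)))), le_inf h hG⟩
  | fld r K hr hK h1 h2 _ h => exact .inl ⟨_, .inr (.inl ⟨r, K, hr, hK, h1, h2, rfl⟩), le_inf h hG⟩
  | ufld K ho hK h1 h2 h => exact .inl ⟨_, .inr (.inr (.inl ⟨K, ho, hK, h1, h2, rfl⟩)), le_inf h hG⟩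
  | ten n₁ n₂ e P B₁ B₂ ho h1 _ hB₁ hB₂ hB _ h =>
    have h5 : IsTensorFormStructure id (sympForm m F) (gf σ₀ B₁.val) (gf σ₀ B₂.val) e P :=
      Pb.isTensorFormStructure (σ := σ₀) (B := (JG m F).val) (B₁ := B₁.val) (B₂ := B₂.val) (c := 1)
        one_ne_zero (by rw [one_smul]; exact hB)
    exact .inl ⟨_, .inr (.inr (.inr (.inl ⟨n₁, n₂, e, P, gf σ₀ B₁.val, gf σ₀ B₂.val, ho, h1,
      hB₁.isSymplecticForm, hB₂.isSymmetricForm, h5, rfl⟩))), le_inf h hG⟩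
  | sub F₀ r P ζ hr hF h1 h2 h =>
    exact .inl ⟨_, .inl (.inr (.inr (.inr (.inr (.inl ⟨F₀, r, P, ζ, hr, hF, h1, h2, rfl⟩))))), le_inf h hG⟩
  | ext R k hR h1 hp ho _ h2 h3 h4 =>
    exact .inl ⟨_, .inl (.inr (.inr (.inr (.inr (.inr (.inl ⟨R, _, k, hR.isSymplecticTypeGroup, hR.absIrr,
      h1.trans Iso_le_Sim, hp, ho, rfl, h2, h3, h4, rfl⟩)))))), le_inf hR.nrm hG⟩
  | wre k t e P B₀ c ho h1 h2 h3 hB₀ hc hB h =>
    have h5 : IsTensorPowerFormStructure id (sympForm m F) (gf σ₀ B₀.val) e P :=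
      hB.isTensorPowerFormStructure (σ := σ₀) hc
    exact .inl ⟨_, .inr (.inr (.inr (.inr ⟨k, t, e, P, gf σ₀ B₀.val, ho, h1, h2, h3, hB₀.isSymplecticForm,
      h5, rfl⟩))), le_inf h hG⟩
  | quad Q he hQ h =>
    exact .inl ⟨_, .inl (.inr (.inr (.inr (.inr (.inr (.inr ⟨Q, he, hQ.isNondegenerate,
      fun u v => congrFun (congrFun hQ.polar u) v, rfl⟩)))))), le_inf (h.trans isom_le_quadSim) hG⟩
  | res h => exact .inr h

end Cfsg.Agent.Classical.Asch
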