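import Cfsg.Agent.Lib.Classical.SpUE

/-! Irreducibility of the classical groups, orthogonal planes, orthogonal bases. -/

set_option autoImplicit false

namespace Cfsg.Agent.Classical

open Module

namespace Form
variable {F : Type*} [Field F] {V : Type*} [AddCommGroup V] [Module F V]

section General
variable {K : Kind F} {Φ : Form K V}

theorem IsHyp.eq_top_of_sing {e f : V} (h : Φ.IsHyp e f) {W : Submodule F V}
    (hW : ∀ v, Φ.Sing v → v ∈ W) : W = ⊤ := by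
  have key : ∀ v, Φ.N v = 0 → v ∈ W := fun v hv => by
    by_cases h0 : v = 0
    · rw [h0]; exact W.zero_mem
    · exact hW v ⟨h0, hv⟩
  rw [Submodule.eq_top_iff']
  intro x
  obtain ⟨α, β, h1⟩ := h.exists_add_sing x
  have := add_mem (add_mem (key _ h1) (W.smul_mem β (key _ h.hf))) (W.smul_mem α (key _ h.he))
  simpa using this

theorem IsHyp.exists_sing_ne (hΦ : Φ.Nondeg) {e f : V} (h : Φ.IsHyp e f) {w : V} (hw : w ≠ 0) :
    ∃ u, Φ.Sing u ∧ Φ.B w u ≠ 0 := by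
  by_contra hc
  push Not at hc
  have := h.eq_top_of_sing (W := Φ.perp (F ∙ w)) fun v hv =>
    Φ.mem_perp_singleton.2 (Φ.B_symm_zero (hc v hv))
  exact hw (hΦ w fun u => Φ.mem_perp_singleton.1 (this ▸ Submodule.mem_top))

theorem Rich0.irred [FiniteDimensional F V] (hR : Φ.Rich0) (hΦ : Φ.Nondeg) {e f : V} (h : Φ.IsHyp e f)
    {W : Submodule F V} (hW : ∀ g ∈ Φ.E, ∀ w ∈ W, g w ∈ W) : W = ⊥ ∨ W = ⊤ := by
  by_cases h0 : W = ⊥
  · exact Or.inl h0
  right
  obtain ⟨w, hw, hw0⟩ := (Submodule.ne_bot_iff W).1 h0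
  obtain ⟨u, hu, h1⟩ := h.exists_sing_ne hΦ hw0
  obtain ⟨u', hh⟩ := hΦ.exists_hyp hu.1 hu.2
  obtain ⟨y, a, h', α, h2⟩ := hh.exists_move h1
  have h3 := hW _ (Φ.eich_mem_E _ _ _ h') w hw
  rw [h2] at h3
  have hβ : K.ε * Φ.B w u ≠ 0 := mul_ne_zero K.ε_ne h1
  generalize K.ε * Φ.B w u = β at h3 hβ
  have key : ∀ y ∈ Φ.hperp u u', ∀ a, K.T a = Φ.N y → y + a • u ∈ W := by
    intro y hy a ha
    have h4 : Φ.IsEich u y a := ⟨hu.2, (Φ.mem_hperp.1 hy).1, ha⟩
    have h5 := W.smul_mem β⁻¹ (sub_mem h3 (hW _ (Φ.eich_mem_E _ _ _ h4) _ h3))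
    rw [map_add, map_smul, map_smul, eich_self, hh.eich_f hy] at h5
    convert h5 using 1
    match_scalars <;> field_simp <;> ring
  have huW : u ∈ W := by
    obtain ⟨y, a, hy, ha, ha0⟩ := hR _ _ hh
    by_cases hy0 : y = 0
    · have := W.smul_mem a⁻¹ (key y hy a ha)
      simpa [hy0, smul_smul, ha0] using this
    obtain ⟨y', hy'⟩ := (hh.nondeg_hperp hΦ).exists_ne (v := ⟨y, hy⟩) (by simpa using hy0)
    have hy'' : Φ.B y' y ≠ 0 := hy'
    obtain ⟨a', ha'⟩ := Φ.N_range y'.1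
    have e1 : Φ.IsEich u y a := ⟨hu.2, (Φ.mem_hperp.1 hy).1, ha⟩
    have e2 : Φ.IsEich u y' a' := ⟨hu.2, (Φ.mem_hperp.1 y'.2).1, ha'⟩
    have := W.smul_mem (Φ.B y' y)⁻¹ (sub_mem (sub_mem (key _ (add_mem hy y'.2) _ (e1.add e2).ha)
      (key y hy a ha)) (key _ y'.2 a' ha'))
    convert this using 1
    match_scalars <;> field_simp <;> ring
  refine h.eq_top_of_sing fun v hv => ?_
  obtain ⟨g, hg, c, hc, h4⟩ := hR.trans hΦ hu hv
  have := W.smul_mem c⁻¹ (hW g hg u huW)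
  rwa [h4, smul_smul, inv_mul_cancel₀ hc, one_smul] at this

end General

section Orth
variable [FiniteDimensional F V] {Φ : Form (Kind.orth F) V}

theorem plane_refl (hΦ : Φ.Nondeg) (h2 : (2 : F) ≠ 0) (hn : finrank F V = 2) {u : V} (hu : Φ.N u ≠ 0) :
    ∃ w, ∃ hw : Φ.N w ≠ 0, Φ.B w u = 0 ∧ LinearIndependent F ![u, w] ∧
      Φ.refl u hu * Φ.refl w hw = LinearEquiv.neg F ∧
      ∀ g ∈ Φ.Isom, g u = u → g = 1 ∨ g = Φ.refl w hw := by
  obtain ⟨w, hw, hw'⟩ := exists_ker_notMem (Φ.B.flip u) ⊥ (by simp [hn])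
  have hw0 : w ≠ 0 := by simpa using hw'
  have hwu : Φ.B w u = 0 := hw
  have huw := Φ.B_symm_zero hwu
  have hli : LinearIndependent F ![u, w] := by
    rw [LinearIndependent.pair_iff]
    intro s t hst
    have h4 := congrArg (fun x => Φ.B x u) hst
    simp [hwu, Φ.orth_B_self, h2, hu] at h4
    subst h4
    exact ⟨rfl, by simpa [hw0] using hst⟩
  let b := basisOfLinearIndependentOfCardEqFinrank hli (by simp [hn])
  have hb : ∀ x, ∃ s t : F, x = s • u + t • w := fun x =>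
    ⟨b.repr x 0, b.repr x 1, by simpa [b, Fin.sum_univ_two] using (b.sum_repr x).symm⟩
  have hwN : Φ.N w ≠ 0 := fun h => hw0 (hΦ w fun x => by
    obtain ⟨s, t, rfl⟩ := hb x
    simp [huw, Φ.B_self_of_N h])
  refine ⟨w, hwN, hwu, hli, ?_, fun g hg hgu => ?_⟩
  · ext x
    obtain ⟨s, t, rfl⟩ := hb x
    simp [Φ.refl_self, Φ.refl_of_perp _ _ hwu, Φ.refl_of_perp _ _ huw]
    abel
  · obtain ⟨s, t, h1⟩ := hb (g w)
    have h3 := hg.1 w u
    rw [hgu, h1, hwu] at h3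
    simp [hwu, Φ.orth_B_self, h2, hu] at h3
    subst h3
    have h4 := hg.2 w
    rw [h1, zero_smul, zero_add, Φ.orth_N_smul] at h4
    have : t ^ 2 = 1 := mul_right_cancel₀ hwN (by rw [h4, one_mul])
    rcases sq_eq_one_iff.1 this with rfl | rfl
    · left; ext x
      obtain ⟨s, t, rfl⟩ := hb x
      simp [hgu, h1]
    · right; ext x
      obtain ⟨s, t, rfl⟩ := hb x
      simp [hgu, h1, Φ.refl_self, Φ.refl_of_perp _ _ huw]

omit [FiniteDimensional F V] in
theorem refl_sub_map {u u' : V} (h : Φ.N u = Φ.N u') (h' : Φ.N (u - u') ≠ 0) :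
    Φ.refl (u - u') h' u = u' := by
  have h1 : Φ.B u (u - u') = Φ.N (u - u') := by
    rw [Φ.N_sub, map_sub, Φ.orth_B_self, ← h, Kind.orth_T]; ring
  rw [refl_apply, h1, inv_mul_cancel₀ h']; simp

theorem plane_det_neg (hΦ : Φ.Nondeg) (h2 : (2 : F) ≠ 0) (hn : finrank F V = 2) {g : V ≃ₗ[F] V}
    (hg : g ∈ Φ.Isom) (hd : (LinearEquiv.det g : F) = -1) : ∃ x hx, g = Φ.refl x hx := by
  have : Nontrivial V := Module.nontrivial_of_finrank_pos (R := F) (by omega)
  obtain ⟨v, hv⟩ := hΦ.orth_exists_N_ne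
  obtain ⟨w, hw, hwv, -, h3, h4⟩ := plane_refl hΦ h2 hn hv
  have h12 : (1 : F) ≠ -1 := fun h => h2 (by linear_combination h)
  by_cases h1 : Φ.N (g v - v) = 0
  · have h5 : Φ.N (g v - -v) ≠ 0 := by
      intro h5
      rw [Φ.N_sub, hg.2] at h1 h5
      simp only [N_neg, map_neg, Kind.orth_T] at h1 h5
      have : 2 * (2 * Φ.N v) = 0 := by linear_combination h1 + h5
      simp [h2, hv] at this
    have h6 := refl_sub_map (u := g v) (u' := -v) (by rw [hg.2, N_neg]) h5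
    rcases h4 (Φ.refl v hv * Φ.refl _ h5 * g) (mul_mem (mul_mem (Φ.refl_mem _ _) (Φ.refl_mem _ _)) hg)
      (by rw [LinearEquiv.mul_apply, LinearEquiv.mul_apply, h6, map_neg, refl_self, neg_neg]) with h | h
    · have := congrArg (fun x => (LinearEquiv.det x : F)) h
      simp only [map_mul, Units.val_mul, det_refl, hd, map_one, Units.val_one] at this
      exact absurd (by linear_combination -this) h12
    · obtain ⟨x, hx, -, -, h7, -⟩ := plane_refl hΦ h2 hn h5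
      refine ⟨x, hx, ?_⟩
      rw [← h, ← mul_assoc, ← mul_assoc, refl_mul_self, one_mul, ← h7] at h3
      exact mul_left_cancel h3
  · have h6 := refl_sub_map (u := g v) (u' := v) (hg.2 v) h1
    rcases h4 (Φ.refl _ h1 * g) (mul_mem (Φ.refl_mem _ _) hg) h6 with h | h
    · exact ⟨_, h1, by rw [← Φ.refl_inv]; exact eq_inv_of_mul_eq_one_right h⟩
    · have := congrArg (fun x => (LinearEquiv.det x : F)) h
      simp only [map_mul, Units.val_mul, det_refl, hd] at this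
      exact absurd (by linear_combination this) h12

theorem orth_irred [Finite F] (hΦ : Φ.Nondeg) (hn : 3 ≤ finrank F V) {W : Submodule F V}
    (hW : ∀ g ∈ Φ.E, ∀ w ∈ W, g w ∈ W) : W = ⊥ ∨ W = ⊤ := by
  obtain ⟨e, f, h⟩ := orth_exists_hyp hΦ hn
  exact (orth_rich0 hΦ hn).irred hΦ h hW

end Orth

end Form

end Cfsg.Agent.Classical
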