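import Cfsg.Agent.Lib.Classical.Asch12
import Cfsg.Agent.Lib.Classical.Lin1
import Cfsg.Agent.Lib.Classical.Irred

/-!
The geometric subgroups are proper.
-/

set_option autoImplicit false

namespace Cfsg.Agent.Classical.Asch
open Matrix Cfsg.Geo Module Cfsg.Agent.Comp
open scoped MatrixGroups Kronecker commutatorElement

variable {ι : Type} [Fintype ι] [DecidableEq ι] {F : Type*} [Field F] {σ : F →+* F}

local notation "Z" => scalars ι F
local notation "σ₀" => RingHom.id F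

theorem IsMaximalIn.eq_inf {G : Type*} [Group G] {X H M : Subgroup G} (h : IsMaximalIn X H) (h1 : H ≤ M)
    (h2 : ¬ X ≤ M) : H = M ⊓ X :=
  ((h.2 _ (le_inf h1 h.1.le) inf_le_right).resolve_right fun e => h2 (inf_eq_right.1 e)).symm

/-- rank one perturbation of the identity -/
def IsRk (g : GL ι F) (u : ι → F) (φ : (ι → F) →ₗ[F] F) : Prop := ∀ x, g.val *ᵥ x = x + φ x • u

theorem exists_isRk {u : ι → F} {φ : (ι → F) →ₗ[F] F} (h : 1 + φ u ≠ 0) : ∃ g : GL ι F, IsRk g u φ := by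
  let e : (ι → F) ≃ₗ[F] (ι → F) := LinearEquiv.ofLinearMap (LinearMap.id + φ.smulRight u)
    (LinearMap.id - ((1 + φ u)⁻¹ • φ).smulRight u)
    (by
      refine LinearMap.ext fun x => ?_
      simp only [LinearMap.comp_apply, LinearMap.add_apply, LinearMap.sub_apply, LinearMap.id_apply,
        LinearMap.smulRight_apply, LinearMap.smul_apply, map_sub, map_smul, smul_eq_mul]
      match_scalars <;> field_simp <;> ring)
    (by
      refine LinearMap.ext fun x => ?_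
      simp only [LinearMap.comp_apply, LinearMap.add_apply, LinearMap.sub_apply, LinearMap.id_apply,
        LinearMap.smulRight_apply, LinearMap.smul_apply, map_add, map_smul, smul_eq_mul]
      match_scalars <;> field_simp <;> ring)
  exact ⟨glEquiv.symm e, fun x => by rw [glEquiv_symm_mulVec]; rfl⟩

theorem exists_ne_zero_ker (hι : 2 ≤ Fintype.card ι) (φ : (ι → F) →ₗ[F] F) : ∃ x ≠ 0, φ x = 0 := by
  obtain ⟨w, h1, h2⟩ := exists_ker_notMem φ ⊥ (by simpa using hι)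
  exact ⟨w, by simpa using h2, h1⟩

theorem IsRk.not_isSc {g : GL ι F} {u : ι → F} {φ : (ι → F) →ₗ[F] F} (h : IsRk g u φ)
    (hι : 2 ≤ Fintype.card ι) (hu : u ≠ 0) (hφ : φ ≠ 0) : ¬ IsSc g.val := by
  rintro ⟨c, hc⟩
  have h1 : ∀ x, c • x = x + φ x • u := fun x => by rw [← h x, hc, smul_mulVec, one_mulVec]
  obtain ⟨x, hx, hx'⟩ := exists_ne_zero_ker hι φ
  have h2 := h1 x
  rw [hx', zero_smul, add_zero] at h2
  obtain rfl : c = 1 := smul_left_injective F hx (h2.trans (one_smul _ _).symm)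
  exact hφ (LinearMap.ext fun y => (smul_eq_zero.1 (by simpa using h1 y)).resolve_right hu)

theorem IsRk.mem_stab {g : GL ι F} {u : ι → F} {φ : (ι → F) →ₗ[F] F} (h : IsRk g u φ)
    {W : Submodule F (ι → F)} (hW : u ∈ W ∨ ∀ w ∈ W, φ w = 0) : g ∈ subspaceStabilizer W :=
  mem_subspaceStabilizer.2 fun w hw => by
    rw [h]
    rcases hW with hW | hW
    · exact W.add_mem hw (W.smul_mem _ hW)
    · simpa [hW w hw] using hw

theorem IsRk.entry_mem [Finite F] {g : GL ι F} {u : ι → F} {φ : (ι → F) →ₗ[F] F} (h : IsRk g u φ)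
    (hι : 3 ≤ Fintype.card ι) {F₀ : Subfield F} {P : GL ι F} (hg : g ∈ subfieldSubgroup F₀ P) (i j : ι) :
    (P⁻¹.val *ᵥ u) i * φ (P.val *ᵥ Pi.single j 1) ∈ F₀ := by
  obtain ⟨c, hc⟩ := mem_subfieldSubgroup.1 hg
  set a : ι → F := P⁻¹.val *ᵥ u
  set b : ι → F := fun j => φ (P.val *ᵥ Pi.single j 1)
  have h1 : ∀ i j, cjm P⁻¹ g.val i j = (if i = j then 1 else 0) + a i * b j := fun i j => by
    have := congrFun (cjm_mulVec P⁻¹ g.val (P.val *ᵥ Pi.single j 1)) i
    rw [inv_mulVec_mulVec, h, mulVec_add, inv_mulVec_mulVec, mulVec_smul] at this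
    rw [mulVec_single_one, Pi.add_apply, Pi.single_apply, Pi.smul_apply, smul_eq_mul, mul_comm] at this
    exact this
  have h2 : ∀ i j, i ≠ j → c * (a i * b j) ∈ F₀ := fun i j hij => by simpa [h1, hij] using hc i j
  have h3 : ∀ i, c + c * (a i * b i) ∈ F₀ := fun i => by simpa [h1, mul_add] using hc i i
  have h4 : (c : F) ∈ F₀ := by
    by_cases h5 : ∃ j k, j ≠ k ∧ a j * b k ≠ 0
    · obtain ⟨j, k, hjk, h5⟩ := h5
      obtain ⟨i, hi⟩ : ∃ i, i ∉ ({j, k} : Finset ι) := by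
        by_contra h'
        push Not at h'
        have := Finset.card_le_card (fun k _ => h' k : Finset.univ ⊆ ({j, k} : Finset ι))
        have := Finset.card_le_two (a := j) (b := k)
        rw [Finset.card_univ] at *
        omega
      simp only [Finset.mem_insert, Finset.mem_singleton, not_or] at hi
      have h6 := F₀.sub_mem (h3 i) (F₀.div_mem (F₀.mul_mem (h2 i k hi.2) (h2 j i (Ne.symm hi.1))) (h2 j k hjk))
      have := left_ne_zero_of_mul h5
      have := right_ne_zero_of_mul h5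
      have := c.ne_zero
      convert h6 using 1
      field_simp
      ring
    · push Not at h5
      obtain ⟨j, k, hjk⟩ := Fintype.exists_pair_of_one_lt_card (α := ι) (by omega)
      have : a j * b j * (a k * b k) = 0 := by linear_combination (a k * b j) * h5 j k hjk
      rcases mul_eq_zero.1 this with e | e
      · simpa [e] using h3 j
      · simpa [e] using h3 k
  have h5 : c * (a i * b j) ∈ F₀ := by
    by_cases hij : i = j
    · subst hij; simpa using F₀.sub_mem (h3 i) h4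
    · exact h2 i j hij
  have := F₀.mul_mem (F₀.inv_mem h4) h5
  rwa [inv_mul_cancel_left₀ c.ne_zero] at this

theorem apply_eq_sum (φ : (ι → F) →ₗ[F] F) (P : GL ι F) (u : ι → F) :
    φ u = ∑ i, (P⁻¹.val *ᵥ u) i * φ (P.val *ᵥ Pi.single i 1) := by
  conv_lhs => rw [← mulVec_inv_mulVec P u, pi_eq_sum_univ' (P⁻¹.val *ᵥ u)]
  simp only [mulVec_sum, mulVec_smul, map_sum, map_smul, smul_eq_mul]

theorem IsRk.apply_mem [Finite F] {g : GL ι F} {u : ι → F} {φ : (ι → F) →ₗ[F] F} (h : IsRk g u φ)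
    (hι : 3 ≤ Fintype.card ι) {F₀ : Subfield F} {P : GL ι F} (hg : g ∈ subfieldSubgroup F₀ P) : φ u ∈ F₀ := by
  rw [apply_eq_sum φ P]
  exact F₀.sum_mem fun i _ => h.entry_mem hι hg i i

theorem IsRk.mul_mem [Finite F] {g g' : GL ι F} {u u' : ι → F} {φ φ' : (ι → F) →ₗ[F] F} (h : IsRk g u φ)
    (h' : IsRk g' u' φ') (hι : 3 ≤ Fintype.card ι) {F₀ : Subfield F} {P : GL ι F}
    (hg : g ∈ subfieldSubgroup F₀ P) (hg' : g' ∈ subfieldSubgroup F₀ P) : φ u' * φ' u ∈ F₀ := by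
  rw [apply_eq_sum φ P, apply_eq_sum φ' P, Finset.sum_mul_sum]
  refine F₀.sum_mem fun i _ => F₀.sum_mem fun j _ => ?_
  convert F₀.mul_mem (h.entry_mem hι hg j i) (h'.entry_mem hι hg' i j) using 1
  ring

theorem Irr.alg_eq_top {G : Subgroup (GL ι F)} (hG : Irr G) {u : ι → F} {φ : (ι → F) →ₗ[F] F} (hu : u ≠ 0)
    (hφ : φ ≠ 0) {y : Matrix ι ι F} (hy : y ∈ alg G) (h : ∀ x, y *ᵥ x = φ x • u) : alg G = ⊤ := by
  let U : Submodule F (ι → F) :=
    { carrier := {v | ∃ a ∈ alg G, ∀ x, a *ᵥ x = φ x • v}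
      zero_mem' := ⟨0, zero_mem _, by simp⟩
      add_mem' := fun ⟨a, ha, h1⟩ ⟨b, hb, h2⟩ => ⟨a + b, add_mem ha hb, fun x => by
        rw [add_mulVec, h1, h2, smul_add]⟩
      smul_mem' := fun c _ ⟨a, ha, h1⟩ => ⟨c • a, Subalgebra.smul_mem _ ha c, fun x => by
        rw [smul_mulVec, h1, smul_comm]⟩ }
  have hU : U = ⊤ := (hG U fun g hg _ ⟨a, ha, h1⟩ => ⟨g.val * a, mul_mem (coe_mem_alg hg) ha, fun x => by
    rw [← mulVec_mulVec, h1, mulVec_smul]⟩).resolve_left fun e => hu (by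
      rw [← Submodule.mem_bot F, ← e]; exact ⟨y, hy, h⟩)
  let S : Submodule F (Module.Dual F (ι → F)) :=
    { carrier := {ψ | ∀ v, ∃ a ∈ alg G, ∀ x, a *ᵥ x = ψ x • v}
      zero_mem' := fun v => ⟨0, zero_mem _, by simp⟩
      add_mem' := fun h1 h2 v => by
        obtain ⟨a, ha, h1⟩ := h1 v
        obtain ⟨b, hb, h2⟩ := h2 v
        exact ⟨a + b, add_mem ha hb, fun x => by rw [add_mulVec, h1, h2, LinearMap.add_apply, add_smul]⟩
      smul_mem' := fun c _ h1 v => by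
        obtain ⟨a, ha, h1⟩ := h1 v
        exact ⟨c • a, Subalgebra.smul_mem _ ha c, fun x => by
          rw [smul_mulVec, h1, LinearMap.smul_apply, smul_assoc]⟩ }
  have hS : S = ⊤ := by
    have h1 := (hG S.dualCoannihilator fun g hg w hw => (Submodule.mem_dualCoannihilator _).2 fun ψ hψ =>
      (Submodule.mem_dualCoannihilator _).1 hw (ψ ∘ₗ Matrix.toLin' g.val) fun v => by
        obtain ⟨a, ha, h1⟩ := hψ v
        exact ⟨a * g.val, mul_mem ha (coe_mem_alg hg), fun x => by rw [← mulVec_mulVec, h1]; rfl⟩).resolve_right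
      fun e => hφ (LinearMap.ext fun x => (Submodule.mem_dualCoannihilator (Φ := S) _).1 (e ▸ Submodule.mem_top) φ
        fun v => (hU ▸ Submodule.mem_top : v ∈ U))
    rw [← Subspace.dualCoannihilator_dualAnnihilator_eq (W := S), h1, Submodule.dualAnnihilator_bot]
  refine eq_top_iff.2 fun a _ => ?_
  rw [matrix_eq_sum_single a]
  refine Subalgebra.sum_mem _ fun i _ => Subalgebra.sum_mem _ fun j _ => ?_
  obtain ⟨b, hb, h1⟩ := (hS ▸ Submodule.mem_top : LinearMap.proj j ∈ S) (Pi.single i (a i j))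
  convert hb
  refine matrix_ext_mulVec fun x => ?_
  rw [h1, single_mulVec_eq]
  ext k
  simp [Pi.single_apply, mul_comm]

/-- a quasisimple absolutely irreducible group with a normalising overgroup -/
structure Amb (X Γ : Subgroup (GL ι F)) : Prop where
  qs : QS X
  top : alg X = ⊤
  le : X ≤ Γ
  nrm : Γ ≤ Subgroup.normalizer (X : Set (GL ι F))

namespace Amb
variable {X Γ : Subgroup (GL ι F)}

theorem le_or (h : Amb X Γ) {L : Subgroup (GL ι F)} (h1 : L ≤ Γ)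
    (h2 : X ≤ Subgroup.normalizer (L : Set (GL ι F))) : L ≤ Z ∨ X ≤ L := by
  rcases h.qs.normal (X ⊓ L) inf_le_left (le_normalizer_inf Subgroup.le_normalizer h2) with e | e
  · exact .inr (inf_eq_left.1 e)
  refine .inl fun l hl => mem_scalars.2 (isSc_of_alg_top h.top fun g hg =>
    congrArg Units.val (comm_of_perfect h.qs.perfect (fun x hx => ?_) g hg))
  refine mem_scalars.2 (isSc_of_alg_top h.top fun g hg => congrArg Units.val (e (x := l * x * l⁻¹ * x⁻¹)
    ⟨X.mul_mem ((Subgroup.mem_normalizer_iff.1 (h.nrm (h1 hl)) x).1 hx) (X.inv_mem hx), ?_⟩ g hg).symm)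
  have := L.mul_mem hl ((Subgroup.mem_normalizer_iff.1 (h2 hx) _).1 (L.inv_mem hl))
  simpa [mul_assoc] using this

theorem two_le (h : Amb X Γ) : 2 ≤ Fintype.card ι := by
  by_contra h1
  haveI : Subsingleton ι := Fintype.card_le_one_iff_subsingleton.1 (by omega)
  exact QS.not_le_scalars h.qs fun g _ => mem_scalars.2 (isSc_of_comm fun y => by
    ext i j
    obtain rfl := Subsingleton.elim i j
    simp [mul_apply, Fintype.sum_subsingleton _ i, mul_comm])

theorem irr (h : Amb X Γ) : Irr X := irr_of_alg_top h.top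

theorem not_le_stab (h : Amb X Γ) {W : Submodule F (ι → F)} (h1 : W ≠ ⊥) (h2 : W ≠ ⊤) :
    ¬ X ≤ subspaceStabilizer W := fun e => (h.irr.eq_of_le e).elim h1 h2

theorem not_nrm [Finite F] (h : Amb X Γ) {A : Subalgebra F (Matrix ι ι F)} (hA : A ≠ ⊤) {g : GL ι F}
    (hg : g ∈ Γ) (h1 : g.val ∈ A) (h2 : ¬ IsSc g.val) : ¬ Nrm X A := fun hn => by
  have h3 : X ≤ Subgroup.normalizer (unitsOf A : Set (GL ι F)) :=
    Subgroup.le_normalizer_iff.2 fun x hx a ha => ⟨(cjm_coe x a) ▸ hn x hx _ ha.1, by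
      have := hn x hx _ ha.2
      rw [cjm_coe] at this
      simpa only [_root_.mul_inv_rev, inv_inv, mul_assoc] using this⟩
  rcases h.le_or (L := unitsOf A ⊓ Γ) inf_le_right (le_normalizer_inf h3
    (h.le.trans Subgroup.le_normalizer)) with e | e
  · refine h2 (mem_scalars.1 (e ⟨⟨h1, ?_⟩, hg⟩))
    obtain ⟨k, hk⟩ := mem_powers_iff_mem_zpowers.2 (Subgroup.inv_mem _ (Subgroup.mem_zpowers g))
    simp only at hk
    rw [← hk, Units.val_pow_eq_pow_val]
    exact A.pow_mem h1 k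
  · exact hA (eq_top_iff.2 (h.top ▸ alg_le.2 fun x hx => (e hx).1.1))

theorem not_le_dec (h : Amb X Γ) {t m : ℕ} {D : Fin t → Submodule F (ι → F)} (hD : IsMDecomposition m D)
    {g : GL ι F} (hg : g ∈ Γ) (h1 : ∀ i, g ∈ subspaceStabilizer (D i)) (h2 : ¬ IsSc g.val) :
    ¬ X ≤ decompositionStabilizer D := fun hX => by
  have := hD.two_le
  have h3 : X ≤ Subgroup.normalizer ((⨅ i, subspaceStabilizer (D i) : Subgroup (GL ι F)) : Set (GL ι F)) := by
    refine Subgroup.le_normalizer_iff.2 fun x hx a ha => Subgroup.mem_iInf.2 fun i => ?_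
    obtain ⟨π, hπ⟩ := hX hx
    refine mem_subspaceStabilizer.2 fun w hw => ?_
    rw [← π.apply_symm_apply i, ← hπ] at hw ⊢
    obtain ⟨v, hv, rfl⟩ := hw
    refine ⟨_, mem_subspaceStabilizer.1 (Subgroup.mem_iInf.1 ha _) v hv, ?_⟩
    simp only [toLin'_apply, Units.val_mul, ← mulVec_mulVec, inv_mulVec_mulVec]
  rcases h.le_or (L := (⨅ i, subspaceStabilizer (D i)) ⊓ Γ) inf_le_right (le_normalizer_inf h3
    (h.le.trans Subgroup.le_normalizer)) with e | e
  · exact h2 (mem_scalars.1 (e ⟨Subgroup.mem_iInf.2 h1, hg⟩))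
  · refine h.not_le_stab (W := D ⟨0, by omega⟩) (fun e => ?_) (fun e => ?_)
      (e.trans (inf_le_left.trans (iInf_le _ _)))
    · have := hD.finrank_eq ⟨0, by omega⟩
      rw [e, finrank_bot] at this
      exact hD.pos.ne this
    · have h3 := hD.finrank_eq ⟨0, by omega⟩
      rw [e, finrank_top, finrank_fintype_fun_eq_card, IsMDecomposition.card_eq hD] at h3
      have := hD.pos
      nlinarith

theorem not_le_fld [Finite F] (h : Amb X Γ) {r : ℕ} {K : Subalgebra F (Matrix ι ι F)} (hr : r.Prime)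
    (hK : IsFieldSubalgebra r K) : ¬ X ≤ subalgebraNormalizer K := fun hX => by
  haveI : Nonempty ι := Fintype.card_pos_iff.1 (by have := h.two_le; omega)
  obtain ⟨x, hx, hx'⟩ := IsFieldSubalgebra.exists_not_isSc hK hr.two_le
  exact hx' (isSc_of_alg_top h.top fun g hg => IsFieldSubalgebra.comm_of_mem_commutator hK (nrm_iff.2 hX)
    (h.qs.perfect.symm ▸ hg) hx)

theorem not_perm [Finite F] (h : Amb X Γ) {κ κ' : Type} [Fintype κ] [DecidableEq κ]
    (φ : κ' → Matrix κ κ F →ₐ[F] Matrix ι ι F) {i : κ'} {z : Matrix ι ι F} (hz : ¬ IsSc z)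
    (hz' : ∀ a, z * φ i a = φ i a * z)
    (hX : ∀ g ∈ X, ∀ j, ∃ j' b, ∀ x, cjm g (φ j x) = φ j' (cjm b x)) {g : GL ι F} (hg : g ∈ Γ)
    {a : GL κ F} (ha : g.val = φ i a.val) (h1 : ¬ IsSc a.val)
    (h2 : ∀ j, ∃ b, ∀ x, cjm g (φ j x) = φ j (cjm b x)) : False := by
  haveI : Nonempty ι := Fintype.card_pos_iff.1 (by have := h.two_le; omega)
  have h3 : ∀ {g j j' b}, (∀ x, cjm g (φ j x) = φ j' (cjm b x)) → ∀ y, y ∈ (φ j).range ↔
      cjm g y ∈ (φ j').range := fun {g j j' b} hb y => ⟨fun ⟨x, hx⟩ => ⟨cjm b x, (hb x).symm.trans (congrArg _ hx)⟩,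
    fun ⟨x, hx⟩ => ⟨cjm b⁻¹ x, (cjm g).injective ((hb _).trans (by rw [cjm_cjm_inv]; exact hx))⟩⟩
  have h4 : X ≤ Subgroup.normalizer
      ((⨅ i, subalgebraNormalizer (φ i).range : Subgroup (GL ι F)) : Set (GL ι F)) := by
    refine Subgroup.le_normalizer_iff.2 fun x hx a ha => Subgroup.mem_iInf.2 fun j y => ?_
    obtain ⟨j', b, hb⟩ := hX _ (X.inv_mem hx) j
    rw [h3 hb, Subgroup.mem_iInf.1 ha j', h3 hb, ← cjm_apply, ← cjm_apply, cjm_mul, cjm_mul, cjm_inv_cjm]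
  have h5 : ¬ IsSc g.val := fun h5 => h1 (isSc_of_map (φ i) (ha ▸ h5))
  rcases h.le_or (L := (⨅ i, subalgebraNormalizer (φ i).range) ⊓ Γ) inf_le_right (le_normalizer_inf h4
    (h.le.trans Subgroup.le_normalizer)) with e | e
  · exact h5 (mem_scalars.1 (e ⟨Subgroup.mem_iInf.2 fun j => h3 (h2 j).choose_spec, hg⟩))
  · refine h.not_nrm (A := (φ i).range) (fun hA => hz (isSc_of_comm fun y => ?_)) hg ⟨_, ha.symm⟩ h5
      (nrm_iff.2 (e.trans (inf_le_left.trans (iInf_le _ _))))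
    obtain ⟨x, rfl⟩ : y ∈ (φ i).range := hA ▸ Algebra.mem_top
    exact hz' x

theorem not_isSc_single {κ : Type} [Fintype κ] [DecidableEq κ] {i j : κ} (hij : i ≠ j) :
    ¬ IsSc (single i j (1 : F)) := fun ⟨c, hc⟩ => by simpa [hij] using congrFun (congrFun hc i) j

theorem not_le_kgl [Finite F] (h : Amb X Γ) {κ₁ κ₂ : Type} [Fintype κ₁] [DecidableEq κ₁] [Fintype κ₂]
    [DecidableEq κ₂] (hκ : 2 ≤ Fintype.card κ₂) {e : ι ≃ κ₁ × κ₂} {P : GL ι F} {a : GL κ₁ F}
    (ha : trg e P (kgl a 1) ∈ Γ) (h2 : ¬ IsSc a.val) : ¬ ∀ g ∈ X, ∃ a b, g = trg e P (kgl a b) := fun hX => by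
  haveI : Nonempty ι := Fintype.card_pos_iff.1 (by have := h.two_le; omega)
  haveI : Nonempty (κ₁ × κ₂) := ⟨e (Classical.arbitrary ι)⟩
  obtain ⟨i, j, hij⟩ := Fintype.exists_pair_of_one_lt_card (α := κ₂) (by omega)
  refine h.not_perm (fun _ : Unit => tkl e P) (i := ()) (z := trm e P (kr κ₁ (single i j 1)))
    (fun h3 => not_isSc_single hij (isSc_of_map (kr κ₁) (isSc_trm.1 h3))) (fun x => ?_) (fun g hg _ => ?_)
    ha rfl h2 fun _ => ⟨a, cjm_tkl a 1⟩
  · rw [tkl_apply, ← map_mul, ← map_mul, kr_mul_kl, kl_mul_kr]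
  · obtain ⟨a, b, rfl⟩ := hX g hg
    exact ⟨(), a, cjm_tkl a b⟩

theorem not_le_tens [Finite F] (h : Amb X Γ) {n₁ n₂ : ℕ} (hn : 2 ≤ n₂) {e : ι ≃ Fin n₁ × Fin n₂} {P : GL ι F}
    {a : GL (Fin n₁) F} (ha : trg e P (kgl a 1) ∈ Γ) (h2 : ¬ IsSc a.val) :
    ¬ X ≤ tensorProductSubgroup n₁ n₂ e P := fun hX =>
  h.not_le_kgl (by simpa using hn) ha h2 fun _ hg => mem_tensorProductSubgroup.1 (hX hg)

theorem not_le_wre [Finite F] (h : Amb X Γ) {m t : ℕ} (hm : 2 ≤ m) (ht : 2 ≤ t) {e : ι ≃ (Fin t → Fin m)}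
    {P : GL ι F} {i : Fin t} {a : GL (Fin m) F} (ha : trg e P (pgl (Function.update 1 i a)) ∈ Γ)
    (h2 : ¬ IsSc a.val) : ¬ X ≤ tensorWreathSubgroup m t e P := fun hX => by
  haveI : Nonempty ι := Fintype.card_pos_iff.1 (by have := h.two_le; omega)
  haveI : Nonempty (Fin t → Fin m) := ⟨e (Classical.arbitrary ι)⟩
  let φ := fun i : Fin t => (trm e P).toAlgHom.comp (emb (F := F) (κ := Fin m) i)
  have hφ : ∀ i x, φ i x = trm e P (emb i x) := fun _ _ => rfl
  have h4 : ∀ b π j x, cjm (trg e P (pgl b * fgl (Fin m) F π)) (φ j x) = φ (π j) (cjm (b (π j)) x) :=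
    fun b π j x => by rw [hφ, hφ, cjm_trg, cjm_mul, cjm_fgl_emb, cjm_pgl_emb]
  obtain ⟨j, hj⟩ := Fintype.exists_ne_of_one_lt_card (by simp; omega) i
  refine h.not_perm φ (i := i) (z := φ j (single ⟨0, by omega⟩ ⟨1, by omega⟩ 1))
    (fun h3 => not_isSc_single (by simp) (isSc_of_map (φ j) h3)) (fun x => ?_) (fun g hg j => ?_)
    ha ?_ h2 fun j => ⟨_, fun x => by rw [hφ, hφ, cjm_trg, cjm_pgl_emb]⟩
  · rw [hφ, hφ, ← map_mul, ← map_mul, emb_apply, emb_apply, pt_mul, pt_mul]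
    congr 2
    ext k : 1
    by_cases h1 : k = i
    · subst h1; simp [hj.symm]
    · simp [h1]
  · obtain ⟨b, π, rfl⟩ := mem_tensorWreathSubgroup.1 (hX hg)
    exact ⟨_, _, h4 b π j⟩
  · refine congrArg (trm e P) (congrArg pt (funext fun j => ?_))
    by_cases hj : j = i
    · subst hj; simp
    · simp [hj]

theorem not_le_ext [Finite F] (h : Amb X Γ) {r : ℕ} {R : Subgroup (GL ι F)} (hR : R ≤ Γ)
    (h1 : IsSymplecticTypeGroup r R) (h2 : ActsAbsolutelyIrreducibly (matrixSet R)) :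
    ¬ X ≤ subgroupNormalizer R := fun hX => by
  haveI := Fact.mk h1.prime
  rcases h.le_or hR hX with e | e
  · exact (irr_iff.2 h2.1).not_le_scalars h.two_le e
  · haveI := h1.pGroup.isNilpotent
    exact h.qs.not_le_of_isSolvable inferInstance e

theorem le_subfield [Finite F] (h : Amb X Γ) {F₀ : Subfield F} {P : GL ι F} (hX : X ≤ subfieldSubgroup F₀ P) :
    Γ ≤ subfieldSubgroup F₀ P := by
  have hF := card_eq_pow_subfield F₀
  have h1 : X ≤ (Matrix.GeneralLinearGroup.map (F₀.subtype : F₀ →+* F)).range.map (MulAut.conj P).toMonoidHom := by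
    refine le_of_perfect h.qs.perfect (hX.trans ?_)
    rw [subfieldSubgroup, Subgroup.map_sup]
    refine sup_le_sup_left ?_ _
    rintro _ ⟨z, hz, rfl⟩
    simpa [← scalars_comm hz P] using hz
  refine le_subfieldSubgroup (σ := frob hF) (fun x => (mem_iff_pow_card hF).symm) h.top (fun x hx i j => ?_)
    fun g hg x hx => conj_mem_of_le_normalizer h.nrm hg hx
  obtain ⟨_, ⟨y, rfl⟩, rfl⟩ := h1 hx
  have : ∀ y : GL ι F, cjm P⁻¹ ((MulAut.conj P).toMonoidHom y).val = y.val := fun y => cjm_inv_cjm P y.val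
  rw [this]
  exact (y.val i j).2

theorem le_Sim (h : Amb X Γ) {B : GL ι F} (hX : X ≤ Sim σ B.val) : Γ ≤ Sim σ B.val :=
  le_Sim_of_nrm h.top (le_Iso_of_perfect h.qs.perfect hX) h.nrm

end Amb

theorem isQuasisimple_of {H : Type*} [Group H] (h1 : commutator H = ⊤)
    (h2 : IsSimpleGroup (H ⧸ Subgroup.center H)) : IsQuasisimple H := ⟨⟨h1⟩, h2⟩

theorem mem_specialLinear {g : GL ι F} : g ∈ specialLinear ι F ↔ g.val.det = 1 :=
  ⟨fun h => congrArg Units.val h, fun h => Units.ext h⟩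

instance : (specialLinear ι F).Normal := MonoidHom.normal_ker _

/-- `SL` as a subgroup of `GL` -/
def slEquiv : Matrix.SpecialLinearGroup ι F ≃* specialLinear ι F where
  toFun g := ⟨Matrix.SpecialLinearGroup.toGL g, mem_specialLinear.2 g.2⟩
  invFun g := ⟨g.1.1, mem_specialLinear.1 g.2⟩
  left_inv _ := rfl
  right_inv _ := Subtype.ext (Units.ext rfl)
  map_mul' _ _ := Subtype.ext (map_mul _ _ _)

theorem exists_transvection {i j : ι} (hij : i ≠ j) (a : F) :
    ∃ g ∈ specialLinear ι F, g.val = 1 + single i j a :=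
  ⟨_, (slEquiv (Matrix.SpecialLinearGroup.transvection hij a)).2, rfl⟩

theorem amb_SL (hι : 3 ≤ Fintype.card ι) : Amb (specialLinear ι F) ⊤ := by
  refine ⟨qs_iff.2 (isQuasisimple_congr slEquiv (isQuasisimple_of (Lin.commutator_SL hι) (Lin.simple_PSL hι))),
    eq_top_iff.2 fun a _ => ?_, le_top, normal_iff_top_le_normalizer.1 inferInstance⟩
  have h1 : ∀ i j, i ≠ j → ∀ a : F, single i j a ∈ alg (specialLinear ι F) := fun i j hij a => by
    obtain ⟨g, hg, h⟩ := exists_transvection hij a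
    simpa [h] using sub_mem (coe_mem_alg hg) (one_mem _)
  rw [matrix_eq_sum_single a]
  refine Subalgebra.sum_mem _ fun i _ => Subalgebra.sum_mem _ fun j _ => ?_
  by_cases hij : i = j
  · subst hij
    obtain ⟨j, hj⟩ := Fintype.exists_ne_of_one_lt_card (by omega) i
    simpa using mul_mem (h1 i j hj.symm (a i i)) (h1 j i hj 1)
  · exact h1 i j hij _

theorem not_SL_le_Sim (hι : 3 ≤ Fintype.card ι) (B : GL ι F) : ¬ specialLinear ι F ≤ Sim σ B.val := fun h => by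
  haveI : Nonempty ι := Fintype.card_pos_iff.1 (by omega)
  have h := le_Iso_of_perfect (amb_SL hι).qs.perfect h
  refine gl_ne_zero B (Matrix.ext fun k i => ?_)
  obtain ⟨j, hj⟩ : ∃ j, j ∉ ({i, k} : Finset ι) := by
    by_contra h'
    push Not at h'
    have := Finset.card_le_card (fun k _ => h' k : Finset.univ ⊆ ({i, k} : Finset ι))
    have := Finset.card_le_two (a := i) (b := k)
    rw [Finset.card_univ] at *
    omega
  simp only [Finset.mem_insert, Finset.mem_singleton, not_or] at hj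
  obtain ⟨g, hg, h1⟩ := exists_transvection (Ne.symm hj.1) (1 : F)
  have := mem_Iso'.1 (h hg) (Pi.single k 1) (Pi.single j 1)
  rw [h1, add_mulVec, add_mulVec, one_mulVec, one_mulVec, single_mulVec_eq, single_mulVec_eq] at this
  simpa [hj.2, gf_add_right, gf_single] using this

theorem not_SL_le_subfield [Finite F] (hι : 3 ≤ Fintype.card ι) {F₀ : Subfield F} (h0 : F₀ ≠ ⊤) (P : GL ι F) :
    ¬ specialLinear ι F ≤ subfieldSubgroup F₀ P := fun h => by
  have h := (amb_SL hι).le_subfield h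
  obtain ⟨i, j, hij⟩ := Fintype.exists_pair_of_one_lt_card (α := ι) (by omega)
  refine h0 (eq_top_iff.2 fun a _ => ?_)
  obtain ⟨g, hg⟩ := exists_isRk (u := Pi.single i a) (φ := (LinearMap.proj j : (ι → F) →ₗ[F] F)) (by simp [hij.symm])
  obtain ⟨g', hg'⟩ := exists_isRk (u := Pi.single j 1) (φ := (LinearMap.proj i : (ι → F) →ₗ[F] F)) (by simp [hij])
  simpa using hg.mul_mem hg' hι (h trivial) (h trivial)

theorem ne_top_of_card [Fintype F] {F₀ : Subfield F} {r : ℕ} (hr : r.Prime)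
    (hF : Fintype.card F = Nat.card F₀ ^ r) : F₀ ≠ ⊤ := by
  rintro rfl
  rw [Nat.card_congr Subfield.topEquiv.toEquiv, Nat.card_eq_fintype_card] at hF
  have := Nat.pow_right_injective Fintype.one_lt_card ((pow_one _).trans hF)
  exact hr.ne_one this.symm

theorem IsMDecomposition.exists_dual {t m : ℕ} {D : Fin t → Submodule F (ι → F)} (hD : IsMDecomposition m D)
    (i : Fin t) {u : ι → F} (hu : u ∈ D i) (h0 : u ≠ 0) :
    ∃ φ : (ι → F) →ₗ[F] F, φ u = 1 ∧ ∀ j ≠ i, ∀ w ∈ D j, φ w = 0 := by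
  have h1 : u ∉ ⨆ j, ⨆ (_ : j ≠ i), D j := fun h => h0 (Submodule.disjoint_def.1 (hD.indep i) u hu h)
  obtain ⟨φ, h2, h3⟩ := Submodule.exists_le_ker_of_notMem h1
  exact ⟨(φ u)⁻¹ • φ, by simp [h2], fun j hj w hw => by
    simp [LinearMap.mem_ker.1 (h3 (Submodule.mem_iSup_of_mem j (Submodule.mem_iSup_of_mem hj hw)))]⟩

theorem exists_mem_ker {W : Submodule F (ι → F)} (h : 2 ≤ finrank F W) (φ : (ι → F) →ₗ[F] F) :
    ∃ w ∈ W, w ≠ 0 ∧ φ w = 0 := by
  obtain ⟨w, h1, h2⟩ := exists_ker_notMem (φ ∘ₗ W.subtype) ⊥ (by simpa using h)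
  exact ⟨w, w.2, by simpa using h2, h1⟩

theorem IsMDecomposition.exists_ne_zero {t m : ℕ} {D : Fin t → Submodule F (ι → F)}
    (hD : IsMDecomposition m D) (i : Fin t) : ∃ u ∈ D i, u ≠ 0 :=
  Submodule.exists_mem_ne_zero_of_ne_bot fun e => by
    have := hD.finrank_eq i
    rw [e, finrank_bot] at this
    exact hD.pos.ne this

theorem not_SL_le_dec [Fintype F] (hι : 3 ≤ Fintype.card ι) {t m : ℕ} {D : Fin t → Submodule F (ι → F)}
    (hD : IsMDecomposition m D) (h : 2 ≤ m ∨ 3 ≤ Fintype.card F) :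
    ¬ specialLinear ι F ≤ decompositionStabilizer D := by
  classical
  have := hD.two_le
  let i : Fin t := ⟨0, by omega⟩
  obtain ⟨u, hu, h0⟩ := IsMDecomposition.exists_ne_zero hD i
  obtain ⟨φ, h1, h2⟩ := IsMDecomposition.exists_dual hD i hu h0
  obtain ⟨w, hw, h3, h4⟩ : ∃ w ∈ D i, w ≠ 0 ∧ 1 + φ w ≠ 0 := by
    rcases h with h | h
    · obtain ⟨w, hw, h3, h4⟩ := exists_mem_ker (hD.finrank_eq i ▸ h) φ
      exact ⟨w, hw, h3, by simp [h4]⟩
    · obtain ⟨a, ha⟩ : ∃ a : F, a ∉ ({0, -1} : Finset F) := by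
        by_contra h'
        push Not at h'
        have := Finset.card_le_card (fun k _ => h' k : Finset.univ ⊆ ({0, -1} : Finset F))
        have := Finset.card_le_two (a := (0 : F)) (b := -1)
        rw [Finset.card_univ] at *
        omega
      simp only [Finset.mem_insert, Finset.mem_singleton, not_or] at ha
      exact ⟨a • u, (D i).smul_mem _ hu, smul_ne_zero ha.1 h0, fun e => ha.2 (by
        rw [map_smul, h1, smul_eq_mul] at e; linear_combination e)⟩
  obtain ⟨g, hg⟩ := exists_isRk h4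
  refine (amb_SL hι).not_le_dec hD trivial (fun j => hg.mem_stab ?_)
    (hg.not_isSc (by omega) h3 fun e => by simp [e] at h1)
  by_cases hj : j = i
  · exact .inl (hj ▸ hw)
  · exact .inr (h2 j hj)

theorem exists_not_isSc (hι : 2 ≤ Fintype.card ι) : ∃ a : GL ι F, ¬ IsSc a.val := by
  obtain ⟨i, j, hij⟩ := Fintype.exists_pair_of_one_lt_card (α := ι) (by omega)
  obtain ⟨g, -, hg⟩ := exists_transvection hij (1 : F)
  exact ⟨g, fun ⟨c, hc⟩ => by simpa [hij, hg] using congrFun (congrFun hc i) j⟩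

section Form
variable {K : Kind F}

/-- the isometry group in matrix form -/
noncomputable def IsoF (Φ : Form K (ι → F)) : Subgroup (GL ι F) := Φ.Isom.comap glEquiv.toMonoidHom
/-- the group generated by Eichler transformations in matrix form -/
noncomputable def EF (Φ : Form K (ι → F)) : Subgroup (GL ι F) := Φ.E.comap glEquiv.toMonoidHom

theorem amb_form {Φ : Form K (ι → F)} (hR : Φ.Rich) (hΦ : Φ.Nondeg) {e f : ι → F} (h : Φ.IsHyp e f)
    (hp : commutator Φ.E = ⊤) (hι : 3 ≤ Fintype.card ι) : Amb (EF Φ) (IsoF Φ) := by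
  refine ⟨qs_iff.2 (isQuasisimple_congr (subEquiv _ _ fun _ => Iff.rfl).symm
    (isQuasisimple_of hp (hR.simple_E hΦ h hp))), ?_, Subgroup.comap_mono Φ.E_le,
    Subgroup.le_normalizer_iff.2 fun g hg x hx => ?_⟩
  · have h1 := h.finrank_hperp
    rw [finrank_fintype_fun_eq_card] at h1
    obtain ⟨y, hy⟩ := finrank_pos_iff_exists_ne_zero.1 (by omega : 0 < finrank F (Φ.hperp e f))
    obtain ⟨y', hy'⟩ := (h.nondeg_hperp hΦ).exists_ne hy
    obtain ⟨a, ha⟩ := Φ.N_range y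
    obtain ⟨a', ha'⟩ := Φ.N_range y'
    have k : Φ.IsEich e y a := ⟨h.he, (Φ.mem_hperp.1 y.2).1, ha⟩
    have k' : Φ.IsEich e y' a' := ⟨h.he, (Φ.mem_hperp.1 y'.2).1, ha'⟩
    have k1 : ∀ {y a} (k : Φ.IsEich e y a), (glEquiv.symm (Φ.eich e y a k)).val - 1 ∈ alg (EF Φ) := fun k =>
      sub_mem (coe_mem_alg (show glEquiv (glEquiv.symm _) ∈ Φ.E by
        rw [MulEquiv.apply_symm_apply]; exact Φ.eich_mem_E _ _ _ k)) (one_mem _)
    refine Irr.alg_eq_top (fun W hW => hR.rich0.irred hΦ h fun g hg w hw => ?_) h.e_ne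
      (φ := (-(K.ε * Φ.B y' y)) • Φ.B.flip e) (fun e' => ?_) (mul_mem (k1 k) (k1 k')) fun x => ?_
    · rw [← glEquiv_symm_mulVec]
      exact hW _ (show glEquiv (glEquiv.symm _) ∈ Φ.E by rwa [MulEquiv.apply_symm_apply]) w hw
    · have := LinearMap.congr_fun e' f
      simp only [LinearMap.smul_apply, LinearMap.flip_apply, h.Bfe, LinearMap.zero_apply, smul_eq_mul,
        mul_eq_zero, neg_eq_zero, K.ε_ne, false_or, or_false] at this
      exact hy' this
    · rw [← mulVec_mulVec, sub_mulVec, sub_mulVec, one_mulVec, one_mulVec, glEquiv_symm_mulVec,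
        glEquiv_symm_mulVec, Φ.eich_of_perp, Φ.eich_apply]
      · simp [Φ.B_symm_zero k.hy]
        ring_nf
      · simp [Φ.eich_apply, h.Bee, k'.hy]
  · exact (by simpa using Φ.E_conj hg hx : glEquiv (g * x * g⁻¹) ∈ Φ.E)

theorem exists_qrefl (Φ : Form K (ι → F)) {d : ι → F} {c : F} (h : c * K.σ c * Φ.N d + K.T (K.σ c) = 0) :
    ∃ g ∈ IsoF Φ, IsRk g d (c • Φ.B.flip d) :=
  ⟨glEquiv.symm (Φ.qrefl d c h), show glEquiv (glEquiv.symm _) ∈ Φ.Isom by
    rw [MulEquiv.apply_symm_apply]; exact Φ.qrefl_mem _ _ _,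
    fun x => by rw [glEquiv_symm_mulVec, Φ.qrefl_apply]; rfl⟩

theorem smul_flip_ne_zero {Φ : Form K (ι → F)} (hΦ : Φ.Nondeg) {d : ι → F} (hd : d ≠ 0) {c : F} (hc : c ≠ 0) :
    c • Φ.B.flip d ≠ 0 := fun e => by
  obtain ⟨u, hu⟩ := hΦ.exists_ne hd
  simpa [hc, hu] using LinearMap.congr_fun e u

/-- every non-degenerate subspace supports a quasi-reflection -/
def HasRf (Φ : Form K (ι → F)) : Prop := ∀ W : Submodule F (ι → F), W ≠ ⊥ →
  IsNondegenerateOn (fun u v => Φ.B u v) W → ∃ d ∈ W, ∃ c, d ≠ 0 ∧ c ≠ 0 ∧ c * K.σ c * Φ.N d + K.T (K.σ c) = 0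

theorem hasRf_symp (Φ : Form (Kind.symp F) (ι → F)) : HasRf Φ := fun W h _ => by
  obtain ⟨d, h1, h2⟩ := Submodule.exists_mem_ne_zero_of_ne_bot h
  exact ⟨d, h1, 1, h2, one_ne_zero, by simp [Φ.symp_N]⟩

theorem hasRf_orth (Φ : Form (Kind.orth F) (ι → F)) : HasRf Φ := fun W h h' => by
  obtain ⟨d, h1, h2⟩ : ∃ d ∈ W, Φ.N d ≠ 0 := by
    by_contra h3
    push Not at h3
    obtain ⟨d, h1, h2⟩ := Submodule.exists_mem_ne_zero_of_ne_bot h
    obtain ⟨x, hx, h4⟩ := (h' d h1 h2).1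
    exact h4 ((Form.TS_orth h3).2 x hx d h1)
  exact ⟨d, h1, -(Φ.N d)⁻¹, fun e => h2 (by simp [e]), by simpa using h2, by simp; field_simp; ring⟩

theorem hasRf_unit {hσ : ∀ a, σ (σ a) = a} (hne : σ ≠ σ₀) (Φ : Form (Kind.unit σ hσ) (ι → F)) :
    HasRf Φ := fun W h _ => by
  obtain ⟨d, h1, h2⟩ := Submodule.exists_mem_ne_zero_of_ne_bot h
  obtain ⟨θ, hθ⟩ : ∃ θ, σ θ ≠ θ := by
    by_contra h3
    push Not at h3
    exact hne (RingHom.ext h3)
  have h3 : θ ≠ 0 := fun e => hθ (by simp [e])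
  have h4 : σ θ ≠ 0 := by simpa using h3
  have h5 : σ (Φ.N d) = Φ.N d := by rw [Φ.unit_N]; simpa using (Φ.symm d d).symm
  by_cases hd : Φ.N d = 0
  · exact ⟨d, h1, θ - σ θ, h2, sub_ne_zero.2 hθ.symm, by simp [hd, hσ]⟩
  · refine ⟨d, h1, (σ θ / θ - 1) / Φ.N d, h2, div_ne_zero (sub_ne_zero.2 fun e => hθ ?_) hd, ?_⟩
    · field_simp at e; exact e
    · simp [hσ, h5]; field_simp; ring

theorem HasRf.exists_not_isSc {Φ : Form K (ι → F)} (h : HasRf Φ) (hΦ : Φ.Nondeg) (hι : 2 ≤ Fintype.card ι) :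
    ∃ a ∈ IsoF Φ, ¬ IsSc a.val := by
  haveI : Nonempty ι := Fintype.card_pos_iff.1 (by omega)
  obtain ⟨d, -, c, h1, h2, h3⟩ := h ⊤ top_ne_bot fun w _ hw => ⟨(hΦ.exists_ne hw).imp fun _ h => ⟨trivial, h⟩,
    (hΦ.exists_ne hw).imp fun _ h => ⟨trivial, fun e => h (Φ.B_symm_zero e)⟩⟩
  obtain ⟨g, hg, h4⟩ := exists_qrefl Φ h3
  exact ⟨g, hg, h4.not_isSc hι h1 (smul_flip_ne_zero hΦ h1 h2)⟩

theorem Amb.not_le_nd {Φ : Form K (ι → F)} {X : Subgroup (GL ι F)} (h : Amb X (IsoF Φ)) (hΦ : Φ.Nondeg)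
    (hR : HasRf Φ) {t m : ℕ} {D : Fin t → Submodule F (ι → F)}
    (hD : IsNondegenerateMDecomposition (fun u v => Φ.B u v) m D) : ¬ X ≤ decompositionStabilizer D := by
  have := hD.decomp.two_le
  let i : Fin t := ⟨0, by omega⟩
  obtain ⟨u, hu, h0⟩ := IsMDecomposition.exists_ne_zero hD.decomp i
  obtain ⟨d, hd, c, h1, h2, h3⟩ := hR (D i) (fun e => h0 (by simpa [e] using hu)) (hD.nondegenerate i)
  obtain ⟨g, hg, h4⟩ := exists_qrefl Φ h3
  refine h.not_le_dec hD.decomp hg (fun j => h4.mem_stab ?_)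
    (h4.not_isSc h.two_le h1 (smul_flip_ne_zero hΦ h1 h2))
  by_cases hj : j = i
  · exact .inl (hj ▸ hd)
  · exact .inr fun w hw => by simp [hD.orthogonal j i hj w hw d hd]

theorem Amb.not_le_pair {Φ : Form K (ι → F)} {X : Subgroup (GL ι F)} (h : Amb X (IsoF Φ)) (hΦ : Φ.Nondeg)
    {m : ℕ} (hm : 2 ≤ m) {D : Fin 2 → Submodule F (ι → F)} (hD : IsMDecomposition m D)
    (hT : ∀ i, Φ.TS (D i)) : ¬ X ≤ decompositionStabilizer D := by
  obtain ⟨w, hw, h0⟩ := IsMDecomposition.exists_ne_zero hD 1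
  obtain ⟨u, hu, h1, h2⟩ := exists_mem_ker (hD.finrank_eq 0 ▸ hm) (Φ.B.flip w)
  have k : Φ.IsEich u w 0 := ⟨(hT 0).1 u hu, Φ.B_symm_zero h2, by rw [map_zero, (hT 1).1 w hw]⟩
  have h3 : ∀ x, (glEquiv.symm (Φ.eich u w 0 k)).val *ᵥ x = x + Φ.B x w • u - (K.ε * Φ.B x u) • w :=
    fun x => by rw [glEquiv_symm_mulVec, Φ.eich_apply]; simp
  refine h.not_le_dec hD (g := glEquiv.symm (Φ.eich u w 0 k)) (show glEquiv (glEquiv.symm _) ∈ Φ.Isom by
    rw [MulEquiv.apply_symm_apply]; exact Φ.eich_mem _ _ _ _) (fun i => mem_subspaceStabilizer.2 fun x hx => ?_) ?_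
  · rw [h3]
    fin_cases i
    · simpa [(hT 0).2 x hx u hu] using (D 0).add_mem hx ((D 0).smul_mem _ hu)
    · simpa [(hT 1).2 x hx w hw] using (D 1).sub_mem hx ((D 1).smul_mem _ hw)
  · rintro ⟨c, hc⟩
    simp only [hc, smul_mulVec, one_mulVec] at h3
    have h4 := h3 u
    rw [show Φ.B u w = 0 from h2, (hT 0).2 u hu u hu] at h4
    obtain rfl : c = 1 := smul_left_injective F h1 (h4.trans (by simp))
    obtain ⟨x, hx⟩ := hΦ.exists_ne h0
    have h5 : Φ.B x w • u = (K.ε * Φ.B x u) • w := by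
      have := h3 x
      rw [one_smul] at this
      linear_combination (exp := 1) -this
    exact smul_ne_zero hx h1 (Submodule.disjoint_def.1 (hD.indep.pairwiseDisjoint (i := 0) (j := 1) (by simp)) _
      ((D 0).smul_mem _ hu) (h5 ▸ (D 1).smul_mem _ hw))

end Form

end Cfsg.Agent.Classical.Asch
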