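import Cfsg.Agent.Lib.Classical.Asch13

/-!
Block monomial coordinates for stabilisers of decompositions.
-/

set_option autoImplicit false

namespace Cfsg.Agent.Classical.Asch
open Matrix Cfsg.Geo Module Cfsg.Agent.Comp
open scoped MatrixGroups Kronecker commutatorElement

variable {ι : Type} [Fintype ι] [DecidableEq ι] {F : Type*} [Field F] {σ : F →+* F}

local notation "Z" => scalars ι F
local notation "σ₀" => RingHom.id F

section Blk
variable {κ τ : Type} [Fintype κ] [DecidableEq κ] [Fintype τ] [DecidableEq τ]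

/-- permutation matrices -/
def pmg (F : Type*) [Field F] : Equiv.Perm τ →* GL τ F := (permMatrixHom (n := τ) (R := F)).toHomUnits

theorem pmg_apply (π : Equiv.Perm τ) (i j : τ) : (pmg F π).val i j = if i = π j then 1 else 0 := by
  change (π⁻¹.permMatrix F) i j = _
  simp [PEquiv.toMatrix_apply, Equiv.toPEquiv_apply, Equiv.symm_apply_eq]

theorem pmg_mulVec (π : Equiv.Perm τ) (v : τ → F) : (pmg F π).val *ᵥ v = v ∘ π.symm :=
  permMatrix_mulVec π⁻¹

theorem pmg_single (π : Equiv.Perm τ) (j : τ) (c : F) :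
    (pmg F π).val *ᵥ Pi.single j c = Pi.single (π j) c := by
  rw [pmg_mulVec]; ext i; simp [Pi.single_apply, Equiv.symm_apply_eq]

theorem det_pmg (π : Equiv.Perm τ) : (pmg F π).val.det = Equiv.Perm.sign π := by
  change (π⁻¹.permMatrix F).det = _
  rw [det_permutation, Equiv.Perm.sign_inv]

theorem pmg_mem_Iso (π : Equiv.Perm τ) : pmg F π ∈ Iso σ (1 : Matrix τ τ F) := mem_Iso.2 (by
  ext i j; simp [mul_apply, pmg_apply, one_apply, apply_ite σ, eq_comm])

/-- block diagonal matrices -/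
def bdg (a : τ → GL κ F) : GL (κ × τ) F :=
  ⟨blockDiagonal fun j => (a j).val, blockDiagonal fun j => (a j)⁻¹.val,
    by rw [← blockDiagonal_mul, ← blockDiagonal_one]; congr 1; ext j : 1; exact Units.mul_inv _,
    by rw [← blockDiagonal_mul, ← blockDiagonal_one]; congr 1; ext j : 1; exact Units.inv_mul _⟩

theorem coe_bdg (a : τ → GL κ F) : (bdg a).val = blockDiagonal fun j => (a j).val := rfl

theorem bdg_one : bdg (1 : τ → GL κ F) = 1 := Units.ext blockDiagonal_one

theorem bdg_const (C : GL κ F) : bdg (fun _ : τ => C) = kgl C 1 := Units.ext (by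
  ext ⟨i, j⟩ ⟨k, l⟩; simp [coe_bdg, coe_kgl, blockDiagonal_apply', one_apply])

/-- a vector supported on one block -/
def blk (j : τ) (x : κ → F) : κ × τ → F := ktv x (Pi.single j 1)

omit [Fintype κ] [DecidableEq κ] [Fintype τ] in
theorem blk_apply (j : τ) (x : κ → F) (p : κ × τ) : blk j x p = if p.2 = j then x p.1 else 0 := by
  simp [blk, ktv, Pi.single_apply]

/-- `blk j` as a linear map -/
def blkL (j : τ) : (κ → F) →ₗ[F] (κ × τ → F) where
  toFun := blk j
  map_add' x y := by ext p; simp only [blk_apply, Pi.add_apply]; split_ifs <;> simp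
  map_smul' c x := by ext p; simp [blk_apply]

omit [Fintype κ] [DecidableEq κ] [Fintype τ] in
theorem blk_injective (j : τ) : Function.Injective (blk (κ := κ) (F := F) j) := fun x y h =>
  funext fun k => by simpa [blk_apply] using congrFun h (k, j)

omit [Fintype κ] [DecidableEq κ] in
theorem sum_blk (v : κ × τ → F) : ∑ j, blk j (fun k => v (k, j)) = v := by
  ext p; simp [blk_apply]

omit [Fintype κ] [Fintype τ] in
theorem blk_single (j : τ) (k : κ) : blk j (Pi.single k (1 : F)) = Pi.single (k, j) 1 :=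
  (single_eq_ktv (k, j)).symm

omit [DecidableEq κ] in
theorem blockDiagonal_blk (a : τ → Matrix κ κ F) (j : τ) (x : κ → F) :
    blockDiagonal a *ᵥ blk j x = blk j (a j *ᵥ x) := by
  ext ⟨k, l⟩
  simp only [mulVec, dotProduct, blk_apply, Fintype.sum_prod_type, blockDiagonal_apply']
  split_ifs with h
  · subst h; simp
  · simp [h]

theorem ext_blk {x y : Matrix (κ × τ) (κ × τ) F} (h : ∀ j v, x *ᵥ blk j v = y *ᵥ blk j v) : x = y :=
  matrix_ext_mulVec fun v => by rw [← sum_blk v]; simp only [mulVec_sum, h]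

omit [DecidableEq κ] in
theorem gf_blk (C : τ → Matrix κ κ F) (i j : τ) (x y : κ → F) :
    gf σ (blockDiagonal C) (blk i x) (blk j y) = if i = j then gf σ (C i) x y else 0 := by
  have : σ ∘ blk j y = blk j (σ ∘ y) := by ext p; simp [blk_apply, apply_ite σ]
  rw [gf, this, blockDiagonal_blk]
  simp only [dotProduct, blk_apply, Fintype.sum_prod_type, gf]
  split_ifs with h
  · subst h; simp
  · simp [Ne.symm h]

/-- block monomial matrices -/
def bm (π : Equiv.Perm τ) (a : τ → GL κ F) : GL (κ × τ) F := kgl 1 (pmg F π) * bdg a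

theorem bm_blk (π : Equiv.Perm τ) (a : τ → GL κ F) (j : τ) (x : κ → F) :
    (bm π a).val *ᵥ blk j x = blk (π j) ((a j).val *ᵥ x) := by
  rw [bm, Units.val_mul, ← mulVec_mulVec, coe_bdg, blockDiagonal_blk, blk, coe_kgl, kron_mulVec, pmg_single,
    Units.val_one, one_mulVec, blk]

theorem bm_one (a : τ → GL κ F) : bm 1 a = bdg a := by rw [bm, map_one, kgl_one, one_mul]

theorem bm_mul (π ρ : Equiv.Perm τ) (a b : τ → GL κ F) :
    bm π a * bm ρ b = bm (π * ρ) fun j => a (ρ j) * b j := Units.ext (ext_blk fun j v => by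
  rw [Units.val_mul, ← mulVec_mulVec, bm_blk, bm_blk, bm_blk, mulVec_mulVec]; rfl)

theorem bm_inv (π : Equiv.Perm τ) (a : τ → GL κ F) : (bm π a)⁻¹ = bm π⁻¹ fun j => (a (π⁻¹ j))⁻¹ :=
  inv_eq_of_mul_eq_one_right (by rw [bm_mul, mul_inv_cancel, bm_one, ← bdg_one]; congr 1; ext j : 1; simp)

theorem det_bm (π : Equiv.Perm τ) (a : τ → GL κ F) :
    (bm π a).val.det = (Equiv.Perm.sign π : F) ^ Fintype.card κ * ∏ j, (a j).val.det := by
  rw [bm, Units.val_mul, det_mul, coe_kgl, det_kronecker, coe_bdg, det_blockDiagonal, det_pmg]; simp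

theorem bm_pb (π : Equiv.Perm τ) (a : τ → GL κ F) (C : τ → Matrix κ κ F) :
    (bm π a).valᵀ * blockDiagonal C * (bm π a).val.map σ =
      blockDiagonal fun j => (a j).valᵀ * C (π j) * (a j).val.map σ := by
  ext ⟨k, i⟩ ⟨l, j⟩
  rw [← gf_single (σ := σ) (_ * _), ← gf_single (σ := σ) (blockDiagonal _), ← gf_mulVec, ← blk_single, ← blk_single,
    bm_blk, bm_blk, gf_blk, gf_blk, gf_mulVec]
  by_cases h : i = j <;> simp [h]

theorem bm_mul_iff {π : Equiv.Perm τ} {a : τ → GL κ F} {C : τ → Matrix κ κ F} {c : F} :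
    (bm π a).valᵀ * blockDiagonal C * (bm π a).val.map σ = c • blockDiagonal C ↔
      ∀ j, (a j).valᵀ * C (π j) * (a j).val.map σ = c • C j := by
  rw [bm_pb, ← blockDiagonal_smul, blockDiagonal_inj, funext_iff]; rfl

theorem bm_mem_Iso {π : Equiv.Perm τ} {a : τ → GL κ F} {C : τ → Matrix κ κ F} :
    bm π a ∈ Iso σ (blockDiagonal C) ↔ ∀ j, (a j).valᵀ * C (π j) * (a j).val.map σ = C j := by
  simpa [mem_Iso] using bm_mul_iff (σ := σ) (π := π) (a := a) (C := C) (c := 1)

theorem rf_bdg {ε : F} {C : τ → GL κ F} (h : RF σ ε (bdg C)) (j : τ) : RF σ ε (C j) :=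
  RF.of_gf h.σσ h.εε fun u v => by
    simpa [coe_bdg, gf_blk] using h.gf_symm (blk j u) (blk j v)

theorem rf_bdg_of {ε : F} {C : τ → GL κ F} (h1 : ∀ a, σ (σ a) = a) (h2 : ε * ε = 1)
    (h : ∀ j, RF σ ε (C j)) : RF σ ε (bdg C) :=
  ⟨h1, h2, by
    rw [coe_bdg, blockDiagonal_transpose, blockDiagonal_map _ _ (map_zero σ), ← blockDiagonal_smul]
    congr 1; ext j : 1; exact (h j).symm⟩

theorem alt_blockDiagonal {C : τ → Matrix κ κ F} : Alt (blockDiagonal C) ↔ ∀ j, Alt (C j) :=
  ⟨fun h j v => by simpa [gf_blk] using h (blk j v), fun h => alt_of (by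
    rw [blockDiagonal_transpose, ← blockDiagonal_neg]; congr 1; ext j : 1; exact (h j).transpose)
    fun p => by rw [blockDiagonal_apply, if_pos rfl, (h _).diag]⟩

end Blk

section Coord
variable {κ : Type} [Fintype κ] [DecidableEq κ] {t : ℕ}

/-- coordinates adapted to a decomposition -/
def Coord (D : Fin t → Submodule F (ι → F)) (e : ι ≃ κ × Fin t) (P : GL ι F) : Prop :=
  ∀ j v, v ∈ D j ↔ ∃ x, v = trv e P (blk j x)

theorem IsMDecomposition.exists_coord {m : ℕ} {D : Fin t → Submodule F (ι → F)} (hD : IsMDecomposition m D) :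
    ∃ (e : ι ≃ Fin m × Fin t) (P : GL ι F), Coord D e P := by
  have h := DirectSum.isInternal_submodule_of_iSupIndep_of_iSup_eq_top hD.indep hD.iSup_eq_top
  let v := fun j => Module.finBasisOfFinrankEq F (D j) (hD.finrank_eq j)
  let b := (h.collectedBasis v).reindex ((Equiv.sigmaEquivProd _ _).trans (Equiv.prodComm _ _))
  obtain ⟨e, P, hP⟩ := exists_trv b.equivFun.symm
  have h1 : ∀ j x, trv e P (blk j x) = ((v j).equivFun.symm x).1 := fun j x => by
    simp [hP, b, Fintype.sum_prod_type, blk_apply]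
    rfl
  refine ⟨e, P, fun j w => ⟨fun hw => ⟨(v j).equivFun ⟨w, hw⟩, by rw [h1, LinearEquiv.symm_apply_apply]⟩, ?_⟩⟩
  rintro ⟨x, rfl⟩
  rw [h1]; exact Subtype.prop _

variable {D : Fin t → Submodule F (ι → F)} {e : ι ≃ κ × Fin t} {P : GL ι F}

theorem Coord.mem (h : Coord D e P) (j : Fin t) (x : κ → F) : trv e P (blk j x) ∈ D j := (h _ _).2 ⟨x, rfl⟩

theorem Coord.mul (h : Coord D e P) (b : Fin t → GL κ F) : Coord D e (P * glReindex e.symm (bdg b)) :=
  fun j v => (h j v).trans ⟨fun ⟨x, hx⟩ => ⟨(b j)⁻¹.val *ᵥ x, by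
    rw [trv_mul_trg, coe_bdg, blockDiagonal_blk, mulVec_inv_mulVec, hx]⟩,
    fun ⟨x, hx⟩ => ⟨(b j).val *ᵥ x, by rw [hx, trv_mul_trg, coe_bdg, blockDiagonal_blk]⟩⟩

theorem Coord.map_bm (h : Coord D e P) (π : Equiv.Perm (Fin t)) (a : Fin t → GL κ F) (j : Fin t) :
    (D j).map (Matrix.toLin' (trg e P (bm π a)).val) = D (π j) := by
  ext v
  rw [Submodule.mem_map, h]
  constructor
  · rintro ⟨w, hw, rfl⟩
    obtain ⟨x, rfl⟩ := (h _ _).1 hw
    exact ⟨_, by rw [toLin'_apply, trg_mulVec, bm_blk]⟩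
  · rintro ⟨x, rfl⟩
    exact ⟨_, h.mem j ((a j)⁻¹.val *ᵥ x), by rw [toLin'_apply, trg_mulVec, bm_blk, mulVec_inv_mulVec]⟩

theorem Coord.bm_mem (h : Coord D e P) (π : Equiv.Perm (Fin t)) (a : Fin t → GL κ F) :
    trg e P (bm π a) ∈ decompositionStabilizer D := ⟨π, h.map_bm π a⟩

theorem Coord.exists_bm (h : Coord D e P) {g : GL ι F} (hg : g ∈ decompositionStabilizer D) :
    ∃ π a, g = trg e P (bm π a) := by
  obtain ⟨g, rfl⟩ := (trg e P).surjective g
  obtain ⟨π, hπ⟩ := hg
  let a : Fin t → Matrix κ κ F := fun j => of fun k l => g.val (k, π j) (l, j)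
  have h1 : ∀ j x, g.val *ᵥ blk j x = blk (π j) (a j *ᵥ x) := fun j x => by
    obtain ⟨y, hy⟩ := (h _ _).1 (hπ j ▸ Submodule.mem_map_of_mem (h.mem j x))
    rw [toLin'_apply, trg_mulVec] at hy
    have hy := (trv e P).injective hy
    rw [hy]
    congr 1
    ext k
    have := congrFun hy (k, π j)
    simpa [blk_apply, mulVec, dotProduct, Fintype.sum_prod_type, a] using this.symm
  have h2 : ∀ j, (a j).det ≠ 0 := fun j h2 => by
    obtain ⟨x, hx, h3⟩ := exists_mulVec_eq_zero_iff.2 h2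
    have := h1 j x
    rw [h3, show blk (π j) (0 : κ → F) = 0 from (blkL (π j)).map_zero, gl_mulVec_eq_zero] at this
    exact hx (blk_injective j (this.trans (blkL j).map_zero.symm))
  exact ⟨π, fun j => GeneralLinearGroup.mkOfDetNeZero _ (h2 j), congrArg _ (Units.ext (ext_blk fun j v => by
    rw [h1, bm_blk]; rfl))⟩

theorem Coord.exists_pb (h : Coord D e P) {B : GL ι F}
    (ho : ∀ i j, i ≠ j → AreOrthogonalFor (gf σ B.val) (D i) (D j)) :
    ∃ C : Fin t → GL κ F, Pb σ B.val e P (bdg C).val := by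
  obtain ⟨C, hC⟩ := Asch.exists_pb σ B e P
  have h1 : C.val = blockDiagonal fun j => of fun k l => C.val (k, j) (l, j) := by
    ext ⟨k, i⟩ ⟨l, j⟩
    rw [blockDiagonal_apply']
    split_ifs with hij
    · subst hij; rfl
    · rw [← gf_single (σ := σ) C.val, ← hC, ← blk_single, ← blk_single]
      exact ho i j hij _ (h.mem _ _) _ (h.mem _ _)
  have h2 := C.det_ne_zero
  rw [h1, det_blockDiagonal, Finset.prod_ne_zero_iff] at h2
  exact ⟨fun j => GeneralLinearGroup.mkOfDetNeZero _ (h2 j (Finset.mem_univ _)), by rw [h1] at hC; exact hC⟩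

theorem Pb.mul_bdg {τ : Type} [Fintype τ] [DecidableEq τ] {e : ι ≃ κ × τ} {B : Matrix ι ι F}
    {C : τ → Matrix κ κ F} (h : Pb σ B e P (blockDiagonal C)) (b : τ → GL κ F) :
    Pb σ B e (P * glReindex e.symm (bdg b)) (blockDiagonal fun j => (b j).valᵀ * C j * (b j).val.map σ) := by
  have := h.mul (bdg b)
  rwa [← bm_one, bm_pb, bm_one] at this

theorem Coord.finrank (h : Coord D e P) (j : Fin t) : finrank F (D j) = Fintype.card κ := by
  have : D j = LinearMap.range ((trv e P).toLinearMap ∘ₗ blkL j) := by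
    ext v; rw [h]; exact exists_congr fun _ => eq_comm
  rw [this, LinearMap.finrank_range_of_inj (f := (trv e P).toLinearMap ∘ₗ blkL j)
    ((trv e P).injective.comp (blk_injective j)),
    finrank_fintype_fun_eq_card]

theorem exists_coord (e : ι ≃ κ × Fin t) (P : GL ι F) : ∃ D, Coord D e P :=
  ⟨fun j => LinearMap.range ((trv e P).toLinearMap ∘ₗ blkL j), fun _ _ => exists_congr fun _ => eq_comm⟩

theorem Coord.isMDecomposition (h : Coord D e P) (ht : 2 ≤ t) (hκ : 0 < Fintype.card κ) :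
    IsMDecomposition (Fintype.card κ) D := by
  refine ⟨ht, hκ, h.finrank, fun j => Submodule.disjoint_def.2 fun v hv hv' => ?_,
    eq_top_iff.2 fun v _ => ?_⟩
  · obtain ⟨x, rfl⟩ := (h _ _).1 hv
    have : ∀ k, ((trv e P).symm (trv e P (blk j x))) (k, j) = 0 := fun k => by
      refine Submodule.iSup_induction _ (motive := fun v => (trv e P).symm v (k, j) = 0) hv' (fun i v hv => ?_)
        (by simp) fun a b ha hb => by simp [ha, hb]
      by_cases hij : i = j
      · subst hij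
        simp only [ne_eq, not_true_eq_false, iSup_false, Submodule.mem_bot] at hv
        simp [hv]
      · simp only [ne_eq, hij, not_false_eq_true, iSup_pos] at hv
        obtain ⟨y, rfl⟩ := (h _ _).1 hv
        simp [blk_apply, Ne.symm hij]
    obtain rfl : x = 0 := funext fun k => by simpa [blk_apply] using this k
    exact (congrArg _ (blkL j).map_zero).trans (map_zero _)
  · obtain ⟨v, rfl⟩ := (trv e P).surjective v
    rw [← sum_blk v, map_sum]
    exact Submodule.sum_mem _ fun j _ => Submodule.mem_iSup_of_mem j (h.mem _ _)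

theorem Coord.nondeg (h : Coord D e P) (ht : 2 ≤ t) (hκ : 0 < Fintype.card κ) {B : Matrix ι ι F}
    {C : Fin t → GL κ F} (hB : Pb σ B e P (bdg C).val) :
    IsNondegenerateMDecomposition (gf σ B) (Fintype.card κ) D := by
  refine ⟨h.isMDecomposition ht hκ, fun j w hw h0 => ?_, fun i j hij u hu v hv => ?_⟩
  · obtain ⟨x, rfl⟩ := (h _ _).1 hw
    obtain ⟨⟨y, hy⟩, z, hz⟩ := isNondegenerateForm_gf (σ := σ) (C j) x fun e' => h0 (by
      rw [e']; exact (congrArg _ (blkL j).map_zero).trans (map_zero _))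
    exact ⟨⟨_, h.mem j y, by rwa [hB, coe_bdg, gf_blk, if_pos rfl]⟩,
      ⟨_, h.mem j z, by rwa [hB, coe_bdg, gf_blk, if_pos rfl]⟩⟩
  · obtain ⟨x, rfl⟩ := (h _ _).1 hu
    obtain ⟨y, rfl⟩ := (h _ _).1 hv
    rw [hB, coe_bdg, gf_blk, if_neg hij]

end Coord

end Cfsg.Agent.Classical.Asch
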