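import Cfsg.Agent.Lib.Classical.Asch14

/-!
Monomial matrices, groups of symplectic type with centre of order four, and semilinear descent.
-/

set_option autoImplicit false

namespace Cfsg.Agent.Classical.Asch
open Matrix Cfsg.Geo Module Cfsg.Agent.Comp
open scoped MatrixGroups Kronecker commutatorElement

variable {ι : Type} [Fintype ι] [DecidableEq ι] {F : Type*} [Field F] {σ : F →+* F}

local notation "Z" => scalars ι F
local notation "σ₀" => RingHom.id F

section Mono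
variable {τ : Type} [Fintype τ] [DecidableEq τ]

/-- monomial matrices -/
def mono (π : Equiv.Perm τ) (d : τ → Fˣ) : GL (Fin 1 × τ) F := bm π fun j => scal (Fin 1) (d j)

theorem mono_mul (π ρ : Equiv.Perm τ) (a b : τ → Fˣ) :
    mono π a * mono ρ b = mono (π * ρ) fun j => a (ρ j) * b j := by
  simp only [mono, bm_mul, map_mul]

theorem mono_inv (π : Equiv.Perm τ) (a : τ → Fˣ) : (mono π a)⁻¹ = mono π⁻¹ fun j => (a (π⁻¹ j))⁻¹ := by
  simp only [mono, bm_inv, map_inv]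

theorem det_mono (π : Equiv.Perm τ) (a : τ → Fˣ) :
    (mono π a).val.det = (Equiv.Perm.sign π : F) * ((∏ j, a j : Fˣ) : F) := by
  simp [mono, det_bm, coe_scal]

theorem mono_apply (π : Equiv.Perm τ) (a : τ → Fˣ) (p q : Fin 1 × τ) :
    (mono π a).val p q = if p.2 = π q.2 then (a q.2 : F) else 0 := by
  obtain ⟨k, j⟩ := q
  have := congrFun (bm_blk π (fun j => scal (Fin 1) (a j)) j (Pi.single k 1)) p
  rw [blk_single, mulVec_single_one, scal_mulVec, blk_apply, Subsingleton.elim p.1 k] at this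
  simpa [mono] using this

theorem mono_const (c : Fˣ) : mono (1 : Equiv.Perm τ) (fun _ => c) = scal _ c := Units.ext (by
  ext ⟨k, i⟩ ⟨l, j⟩; simp [mono_apply, coe_scal, one_apply, Subsingleton.elim k l]; congr)

theorem mono_one : mono (1 : Equiv.Perm τ) (1 : τ → Fˣ) = 1 := (mono_const 1).trans (map_one _)

theorem exists_scal_one (a : GL (Fin 1) F) : ∃ c, scal (Fin 1) c = a := mem_scalars.2 (isSc_fin_one a.val)

theorem Coord.exists_mono {t : ℕ} {D : Fin t → Submodule F (ι → F)} {e : ι ≃ Fin 1 × Fin t} {P : GL ι F}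
    (h : Coord D e P) {g : GL ι F} (hg : g ∈ decompositionStabilizer D) : ∃ π d, g = trg e P (mono π d) := by
  obtain ⟨π, a, rfl⟩ := h.exists_bm hg
  choose d hd using fun j => exists_scal_one (a j)
  exact ⟨π, d, by simp only [mono, hd]⟩

/-- diagonal matrices on the index set of monomial matrices -/
def dg (c : τ → F) : Matrix (Fin 1 × τ) (Fin 1 × τ) F := blockDiagonal fun j => c j • (1 : Matrix _ _ F)

theorem dg_one : dg (1 : τ → F) = 1 := by simp [dg, ← blockDiagonal_one]; rfl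

theorem mono_mul_iff {π : Equiv.Perm τ} {a : τ → Fˣ} {c : τ → F} {μ : F} :
    (mono π a).valᵀ * dg c * (mono π a).val.map σ = μ • dg c ↔
      ∀ j, a j * σ (a j) * c (π j) = μ * c j := by
  rw [mono, dg, bm_mul_iff]
  refine forall_congr' fun j => ?_
  rw [← Matrix.ext_iff]
  simp [coe_scal, mul_apply, mul_comm, mul_left_comm, mul_assoc]

theorem mono_mem_Iso {π : Equiv.Perm τ} {a : τ → Fˣ} :
    mono π a ∈ Iso σ (1 : Matrix _ _ F) ↔ ∀ j, a j * σ (a j) = 1 := by
  rw [mem_Iso, ← dg_one]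
  simpa using mono_mul_iff (σ := σ) (π := π) (a := a) (c := 1) (μ := 1)

end Mono

theorem alg_eq_top_of_single {N : Subgroup (GL ι F)} (h : ∀ i j, single i j (1 : F) ∈ alg N) : alg N = ⊤ :=
  eq_top_iff.2 fun x _ => by
    rw [matrix_eq_sum_single x]
    refine sum_mem fun i _ => sum_mem fun j _ => ?_
    simpa using (alg N).smul_mem (h i j) (x i j)

theorem alg_map_trg {κ : Type} [Fintype κ] [DecidableEq κ] (e : ι ≃ κ) (P : GL ι F)
    {N : Subgroup (GL κ F)} (hN : alg N = ⊤) : alg (N.map (trg e P).toMonoidHom) = ⊤ :=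
  eq_top_iff.2 fun x _ => by
    obtain ⟨x, rfl⟩ := (trm e P).surjective x
    refine alg_induction (p := fun x => trm e P x ∈ alg (N.map (trg e P).toMonoidHom))
      (fun g hg => coe_mem_alg (g := trg e P g) ⟨g, hg, rfl⟩) (by simp) (fun x y hx hy => ?_)
      (fun c x hx => ?_) (hN ▸ Algebra.mem_top : x ∈ alg N)
    · rw [map_add]; exact add_mem hx hy
    · rw [map_smul]; exact Subalgebra.smul_mem _ hx c

theorem scal_neg_one : scal ι (-1 : Fˣ) = -1 := Units.ext (by simp [coe_scal])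

theorem trg_scal {κ : Type} [Fintype κ] [DecidableEq κ] (e : ι ≃ κ) (P : GL ι F) (c : Fˣ) :
    trg e P (scal κ c) = scal ι c := Units.ext (by rw [coe_trg, coe_scal, coe_scal, map_smul, map_one])

/-- A spanning group whose squares are `± 1` and which contains a scalar of order four is of symplectic
type. -/
theorem xr_of_four [Finite F] {R : Subgroup (GL ι F)} (hι : 2 ≤ Fintype.card ι) (h2 : (2 : F) ≠ 0)
    (hR : alg R = ⊤) (hs : ∀ x ∈ R, x * x = 1 ∨ x * x = -1) {i : Fˣ} (hi : i * i = -1) (hiR : scal ι i ∈ R) :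
    XR (subgroupNormalizer R) R 2 ∧ Nat.card (Subgroup.center R) = 4 := by
  haveI : Nonempty ι := Fintype.card_pos_iff.1 (by omega)
  have hm : scal ι (-1 : Fˣ) = -1 := scal_neg_one
  have hii : scal ι i * scal ι i = -1 := by rw [← map_mul, hi, hm]
  have hinv : ∀ x ∈ R, x⁻¹ = x ∨ x⁻¹ = -x := fun x hx => (hs x hx).imp
    (fun h => inv_eq_of_mul_eq_one_right h) fun h => inv_eq_of_mul_eq_one_right (by rw [mul_neg, h, neg_neg])
  have hc : ∀ x ∈ R, ∀ y ∈ R, y * x = x * y ∨ y * x = -(x * y) := fun x hx y hy => by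
    have h3 := hinv _ (R.mul_mem hx hy)
    rw [_root_.mul_inv_rev] at h3
    rcases hinv x hx with h1 | h1 <;> rcases hinv y hy with h2 | h2 <;> rw [h1, h2] at h3
    · exact h3
    all_goals simp only [mul_neg, neg_mul, neg_neg, neg_eq_iff_eq_neg] at h3; tauto
  have hne : ∀ x : GL ι F, x ≠ -x := fun x h => h2 (by
    have h := congrArg (fun y : GL ι F => (x⁻¹ * y).val) h
    simp only [mul_neg, inv_mul_cancel, Units.val_neg, Units.val_one] at h
    have := congrFun (congrFun h (Classical.arbitrary ι)) (Classical.arbitrary ι)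
    rw [Matrix.neg_apply, one_apply_eq] at this
    linear_combination this)
  have hX : XR (subgroupNormalizer R) R 2 := by
    refine ⟨hι, Nat.prime_two, hR, le_rfl, fun x hx y hy => ?_, fun x hx => ?_, fun A hA hn hab a ha => ?_⟩
    · rcases hc y hy x hx with h | h
      · rw [commutatorElement_def, h]; simp
      · rw [commutatorElement_def, h, show -(y * x) * x⁻¹ * y⁻¹ = -1 by simp [mul_assoc], ← hm]
        exact scal_mem _
    · rw [show x ^ (2 * Nat.gcd 2 2) = x * x * (x * x) by simp [pow_succ, mul_assoc]]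
      rcases hs x hx with h | h <;> simp [h]
    refine mem_scalars.2 (isSc_of_alg_top hR fun y hy => ?_)
    refine ((hc y hy a (hA ha)).elim (congrArg Units.val) fun h => ?_)
    obtain ⟨u, hu, hu1, hu2⟩ : ∃ u ∈ R, u * u = -1 ∧ a * u = -(u * a) := by
      rcases hs y hy with h1 | h1
      · refine ⟨scal ι i * y, R.mul_mem hiR hy, ?_, ?_⟩
        · rw [mul_assoc, ← mul_assoc y, ← scalars_comm (scal_mem i), mul_assoc, h1, mul_one, hii]
        · rw [← mul_assoc, ← scalars_comm (scal_mem i), mul_assoc, h, mul_neg, mul_assoc]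
      · exact ⟨y, hy, h1, h⟩
    have hu1' : u.val * u.val = -1 := congrArg Units.val hu1
    let w : GL ι F := ⟨1 + u.val, (2 : F)⁻¹ • (1 - u.val), by
      rw [Matrix.mul_smul, show (1 + u.val) * (1 - u.val) = (2 : F) • 1 by
        rw [two_smul, add_mul, mul_sub, mul_sub, hu1']; simp only [one_mul, mul_one]; abel, smul_smul, inv_mul_cancel₀ h2, one_smul], by
      rw [Matrix.smul_mul, show (1 - u.val) * (1 + u.val) = (2 : F) • 1 by
        rw [two_smul, sub_mul, mul_add, mul_add, hu1']; simp only [one_mul, mul_one]; abel, smul_smul, inv_mul_cancel₀ h2, one_smul]⟩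
    have k1 : ∀ x : GL ι F, x * u = u * x → w * x * w⁻¹ = x := fun x h => by
      have h := congrArg Units.val h
      rw [mul_inv_eq_iff_eq_mul]
      refine Units.ext ?_
      simp only [Units.val_mul, w, add_mul, mul_add] at h ⊢
      rw [h, one_mul, mul_one]
    have k2 : ∀ x : GL ι F, x * u = -(u * x) → w * x * w⁻¹ = u * x := fun x h => by
      have h := congrArg Units.val h
      rw [mul_inv_eq_iff_eq_mul]
      refine Units.ext ?_
      simp only [Units.val_mul, Units.val_neg, w, add_mul, mul_add] at h ⊢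
      rw [one_mul, mul_one, mul_assoc u.val, h, mul_neg, ← mul_assoc, hu1', add_comm]; simp
    have hw : w ∈ subgroupNormalizer R := by
      refine Subgroup.mem_normalizer_fintype fun x hx => ?_
      rcases hc u hu x hx with h | h
      · rwa [k1 x h]
      · rw [k2 x h]; exact R.mul_mem hu hx
    have h3 := (Subgroup.mem_normalizer_iff.1 (hn hw) a).1 ha
    rw [k2 a hu2] at h3
    have h4 := hab _ h3 a ha
    rw [← mul_assoc, mul_left_inj, hu2] at h4
    exact (hne _ h4).elim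
  refine ⟨hX, hX.center_two.resolve_left fun h => hne 1 ?_⟩
  have := hX.pow_center hiR
  rw [h, sq] at this
  rw [← hii, ← map_mul, this, map_one]

section Four

/-- the Klein four-group -/
def InV4 (π : Equiv.Perm (Fin 4)) : Prop := π * π = 1 ∧ Equiv.Perm.sign π = 1

instance : DecidablePred InV4 := fun _ => inferInstanceAs (Decidable (_ ∧ _))

theorem inV4_cases : ∀ π, InV4 π → π = 1 ∨ π = Equiv.swap 0 1 * Equiv.swap 2 3 ∨
    π = Equiv.swap 0 2 * Equiv.swap 1 3 ∨ π = Equiv.swap 0 3 * Equiv.swap 1 2 := by decide +kernel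

theorem inV4_mul : ∀ π ρ, InV4 π → InV4 ρ → InV4 (π * ρ) := by decide +kernel

theorem inV4_trans : ∀ i j, ∃ π, InV4 π ∧ π j = i := by decide +kernel

theorem InV4.conj {π : Equiv.Perm (Fin 4)} (h : InV4 π) (ρ : Equiv.Perm (Fin 4)) : InV4 (ρ * π * ρ⁻¹) :=
  ⟨by rw [conj_mul, h.1]; simp, by simp [h.2]⟩

theorem InV4.key {M : Type*} [CommGroup M] {π : Equiv.Perm (Fin 4)} (h : InV4 π) {s : Fin 4 → M}
    (h1 : ∀ i j, s i ^ 2 = s j ^ 2) (h2 : ∀ i, s i ^ 4 = 1) (h3 : ∏ i, s i = 1) (i : Fin 4) :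
    s (π i) * s i = s (π 0) * s 0 ∧ (s (π i) * s i) ^ 2 = 1 := by
  have k : ∀ a b, (s a * s b) ^ 2 = 1 := fun a b => by rw [mul_pow, h1 a b, ← pow_add, h2]
  refine ⟨?_, k _ _⟩
  have k2 : ∀ a b c d, s a * s b * (s c * s d) = 1 → s a * s b = s c * s d := fun a b c d e =>
    mul_right_cancel (e.trans ((k c d).symm.trans (sq _)))
  rw [Fin.prod_univ_four] at h3
  have k3 : ∀ a b c d, s a * s b = s c * s d → s a * s b = s d * s c ∧ s b * s a = s d * s c :=
    fun a b c d e => ⟨e.trans (mul_comm _ _), (mul_comm _ _).trans (e.trans (mul_comm _ _))⟩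
  have k01 := k3 _ _ _ _ (k2 2 3 0 1 (by rw [← h3]; ac_rfl))
  have k02 := k3 _ _ _ _ (k2 1 3 0 2 (by rw [← h3]; ac_rfl))
  have k03 := k3 _ _ _ _ (k2 1 2 0 3 (by rw [← h3]; ac_rfl))
  rcases inV4_cases π h with rfl | rfl | rfl | rfl
  · simpa [sq] using h1 i 0
  · fin_cases i; exacts [rfl, mul_comm _ _, k01.2, k01.1]
  · fin_cases i; exacts [rfl, k02.2, mul_comm _ _, k02.1]
  · fin_cases i; exacts [rfl, k03.2, k03.1, mul_comm _ _]

/-- the monomial group `4 ∘ 2^(1+4)` -/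
def R4 (F : Type*) [Field F] : Subgroup (GL (Fin 1 × Fin 4) F) where
  carrier := {g | ∃ π d, InV4 π ∧ (∀ i j, d i ^ 2 = d j ^ 2) ∧ (∀ i, d i ^ 4 = 1) ∧ ∏ i, d i = 1 ∧ g = mono π d}
  one_mem' := ⟨1, 1, by decide, by simp, by simp, by simp, mono_one.symm⟩
  mul_mem' := by
    rintro _ _ ⟨π, a, h1, h2, h3, h4, rfl⟩ ⟨ρ, b, k1, k2, k3, k4, rfl⟩
    refine ⟨_, _, inV4_mul _ _ h1 k1, fun i j => ?_, fun i => ?_, ?_, mono_mul _ _ _ _⟩
    · rw [mul_pow, mul_pow, h2 _ (ρ j), k2 i j]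
    · rw [mul_pow, h3, k3, one_mul]
    · rw [Finset.prod_mul_distrib, Equiv.prod_comp ρ a, h4, k4, one_mul]
  inv_mem' := by
    rintro _ ⟨π, a, h1, h2, h3, h4, rfl⟩
    refine ⟨_, _, ?_, fun i j => ?_, fun i => ?_, ?_, mono_inv _ _⟩
    · rwa [inv_eq_of_mul_eq_one_right h1.1]
    · rw [inv_pow, inv_pow, h2]
    · rw [inv_pow, h3, inv_one]
    · rw [Finset.prod_inv_distrib, Equiv.prod_comp π⁻¹ a, h4, inv_one]

theorem R4_sq {x : GL (Fin 1 × Fin 4) F} (hx : x ∈ R4 F) : x * x = 1 ∨ x * x = -1 := by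
  obtain ⟨π, a, h1, h2, h3, h4, rfl⟩ := hx
  have k := h1.key h2 h3 h4
  rw [mono_mul, h1.1, funext fun i => (k i).1, mono_const]
  rcases (Units.inv_eq_self_iff _).1 (inv_eq_of_mul_eq_one_right ((sq _).symm.trans (k 0).2)) with h | h <;>
    rw [h]
  · exact Or.inl (map_one _)
  · exact Or.inr (Units.ext (by simp [coe_scal]))

theorem scal_mem_R4 {c : Fˣ} (h : c ^ 4 = 1) : scal _ c ∈ R4 F :=
  ⟨1, fun _ => c, by decide, fun _ _ => rfl, fun _ => h, by simpa using h, (mono_const c).symm⟩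

theorem mono_mem_normalizer_R4 [Finite F] (ρ : Equiv.Perm (Fin 4)) {c : Fin 4 → Fˣ} (h1 : ∀ i, c i ^ 4 = 1)
    (h2 : (∏ i, c i) ^ 2 = 1) : mono ρ c ∈ subgroupNormalizer (R4 F) := by
  refine Subgroup.mem_normalizer_fintype ?_
  rintro _ ⟨π, a, k1, k2, k3, k4, rfl⟩
  have k := k1.key (s := fun i => c i ^ 2) (fun i j => by rw [← pow_mul, ← pow_mul, h1, h1])
    (fun i => by rw [← pow_mul, mul_comm, pow_mul, h1, one_pow]) (by rw [Finset.prod_pow, h2])
  have k0 : ∀ i, (c i)⁻¹ ^ 2 = c i ^ 2 := fun i => by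
    rw [inv_pow, inv_eq_iff_mul_eq_one, ← pow_add, h1]
  refine ⟨_, _, k1.conj ρ, fun i j => ?_, fun i => ?_, ?_, by rw [mono_mul, mono_inv, mono_mul]⟩
  · simp only [mul_pow, k0]
    rw [mul_right_comm, (k _).1, mul_right_comm _ (a (ρ⁻¹ j) ^ 2), (k (ρ⁻¹ j)).1, k2]
  · simp [mul_pow, h1, k3]
  · rw [Equiv.prod_comp ρ⁻¹ fun j => c (π j) * a j * (c j)⁻¹, Finset.prod_mul_distrib, Finset.prod_mul_distrib,
      Equiv.prod_comp π c, k4, Finset.prod_inv_distrib, mul_one, mul_inv_cancel]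

/-- a Hadamard matrix -/
def had : Fin 4 → Fin 4 → ℤˣ := ![![1, 1, 1, 1], ![1, 1, -1, -1], ![1, -1, 1, -1], ![1, -1, -1, 1]]

theorem had_sum : ∀ j l, ∑ k, (had k j : ℤ) * had k l = if l = j then 4 else 0 := by decide

theorem alg_R4 (h2 : (2 : F) ≠ 0) : alg (R4 F) = ⊤ := alg_eq_top_of_single fun ⟨a, i⟩ ⟨b, j⟩ => by
  obtain ⟨π, hπ, rfl⟩ := inV4_trans i j
  let f : ℤˣ →* Fˣ := Units.map (Int.castRingHom F).toMonoidHom
  have h4 : (4 : F) ≠ 0 := by rw [show (4 : F) = 2 * 2 by norm_num]; exact mul_ne_zero h2 h2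
  have : single (a, π j) (b, j) (1 : F) =
      ∑ k, ((4 : F)⁻¹ * (had k j : ℤ)) • (mono π fun l => f (had k l)).val := by
    ext ⟨a', i⟩ ⟨b', l⟩
    have := congrArg (Int.cast (R := F)) (had_sum j l)
    push_cast at this
    rw [Subsingleton.elim a' a, Subsingleton.elim b' b]
    simp only [Matrix.sum_apply, Matrix.smul_apply, mono_apply, smul_eq_mul, single_apply, Prod.mk.injEq,
      true_and, mul_ite, mul_zero, mul_assoc]
    by_cases h : i = π l
    · subst h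
      simp only [if_true, ← Finset.mul_sum]
      erw [this]
      by_cases h : l = j
      · simp [h, h4]
      · simp [h, Ne.symm h]
    · rw [if_neg, Finset.sum_eq_zero fun _ _ => if_neg h]
      rintro ⟨rfl, rfl⟩; exact h rfl
  rw [this]
  refine sum_mem fun k _ => Subalgebra.smul_mem _ (coe_mem_alg (N := R4 F)
    ⟨π, _, hπ, fun i j => ?_, fun i => ?_, ?_, rfl⟩) _
  · rw [← map_pow, ← map_pow, Int.units_sq, Int.units_sq]
  · rw [← map_pow, show 4 = 2 * 2 from rfl, pow_mul, Int.units_sq, map_one]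
  · rw [← map_prod, show ∏ i, had k i = 1 by revert k; decide, map_one]

theorem R4_le_Iso (h : ∀ c : Fˣ, c ^ 4 = 1 → c * σ c = 1) : R4 F ≤ Iso σ (1 : Matrix _ _ F) := by
  rintro _ ⟨π, a, -, -, h3, -, rfl⟩
  exact mono_mem_Iso.2 fun j => h _ (h3 j)

/-- the transported group `4 ∘ 2^(1+4)` -/
theorem xr_R4 [Finite F] (h2 : (2 : F) ≠ 0) {i : Fˣ} (hi : i * i = -1) (e : ι ≃ Fin 1 × Fin 4) (P : GL ι F) :
    XR (subgroupNormalizer ((R4 F).map (trg e P).toMonoidHom)) ((R4 F).map (trg e P).toMonoidHom) 2 ∧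
      Nat.card (Subgroup.center ((R4 F).map (trg e P).toMonoidHom)) = 4 := by
  refine xr_of_four (by rw [Fintype.card_congr e]; simp) h2 (alg_map_trg e P (alg_R4 h2)) ?_ hi
    ⟨scal _ i, scal_mem_R4 (by rw [show 4 = 2 * 2 from rfl, pow_mul, sq i, hi]; simp), trg_scal e P i⟩
  rintro _ ⟨x, hx, rfl⟩
  refine (R4_sq hx).imp (fun h => ?_) fun h => ?_
  · rw [← map_mul, h, map_one]
  · rw [← map_mul, h, ← scal_neg_one, ← scal_neg_one]; exact trg_scal e P _

theorem trg_mem_normalizer {κ : Type} [Fintype κ] [DecidableEq κ] (e : ι ≃ κ) (P : GL ι F)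
    {R : Subgroup (GL κ F)} {g : GL κ F} (h : g ∈ subgroupNormalizer R) :
    trg e P g ∈ subgroupNormalizer (R.map (trg e P).toMonoidHom) :=
  Subgroup.le_normalizer_map _ ⟨g, h, rfl⟩

end Four

/-- descent along a semilinear involution -/
theorem semi_descent [Finite F] {Q : ℕ} (h : Nat.card F = Q ^ 2) (θ : (ι → F) → (ι → F))
    (hadd : ∀ u v, θ (u + v) = θ u + θ v) (hsmul : ∀ (c : F) v, θ (c • v) = c ^ Q • θ v) {μ : F} (hμ : μ ≠ 0)
    (hθ : ∀ v, θ (θ v) = μ • v) : ∃ P : GL ι F, ∀ (x : Matrix ι ι F) (l : F),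
      (∀ v, θ (x *ᵥ v) = l • x *ᵥ θ v) → (cjm P⁻¹ x).map (frob h) = l • cjm P⁻¹ x := by
  have ff : ∀ v : ι → F, frob h ∘ (frob h ∘ v) = v := fun v => funext fun i => frob_frob h _
  let L : (ι → F) →ₗ[F] (ι → F) :=
    { toFun := fun v => θ (frob h ∘ v)
      map_add' := fun u v => by rw [← hadd]; congr 1; ext i; exact map_add (frob h) _ _
      map_smul' := fun a v => by
        rw [show frob h ∘ (a • v) = frob h a • (frob h ∘ v) from funext fun i => map_mul (frob h) _ _, hsmul]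
        exact congrArg (· • _) (frob_frob h a) }
  have h1 : ∀ v, LinearMap.toMatrix' L *ᵥ (frob h ∘ v) = θ v := fun v => by
    rw [LinearMap.toMatrix'_mulVec]; exact congrArg θ (ff v)
  have h0 : θ 0 = 0 := by simpa using hadd 0 0
  have h2 : (LinearMap.toMatrix' L).det ≠ 0 := fun e => by
    obtain ⟨v, hv, e⟩ := exists_mulVec_eq_zero_iff.2 e
    rw [← ff v, h1] at e
    have := hθ (frob h ∘ v)
    rw [e, h0, eq_comm, smul_eq_zero_iff_right hμ] at this
    exact hv (by rw [← ff v, this]; ext i; exact map_zero (frob h))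
  obtain ⟨P, c, hc, hP⟩ := hilbert90 h (GeneralLinearGroup.mkOfDetNeZero _ h2) μ fun v => by
    change LinearMap.toMatrix' L *ᵥ (frob h ∘ (LinearMap.toMatrix' L *ᵥ (frob h ∘ v))) = _
    rw [h1, h1, hθ]
  refine ⟨P, fun x l hx => map_eq_of_comm hc hP (matrix_ext_mulVec fun v => ?_)⟩
  change (LinearMap.toMatrix' L * _) *ᵥ v = (l • (x * LinearMap.toMatrix' L)) *ᵥ v
  rw [← ff v, ← mulVec_mulVec, ← map_mulVec', h1, hx, smul_mulVec, ← mulVec_mulVec, h1]

theorem det_cjm (g : GL ι F) (x : Matrix ι ι F) : (cjm g x).det = x.det := det_units_conj g x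

/-- The normaliser in `SL₃(4)` of a field of order `64` is a subgroup of a subfield group. -/
theorem fld_le_subfield [Fintype F] (hF : Nat.card F = 2 ^ 2) (hι : Fintype.card ι = 3)
    {K : Subalgebra F (Matrix ι ι F)} (hK : IsFieldSubalgebra 3 K) :
    ∃ P, subalgebraNormalizer K ⊓ specialLinear ι F ≤ subfieldSubgroup (fixSub hF) P := by
  haveI : Nonempty ι := Fintype.card_pos_iff.1 (by omega)
  have hF' : Fintype.card F = 2 ^ 2 := by rw [← hF, Nat.card_eq_fintype_card]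
  haveI : Fact (Nat.Prime 2) := ⟨Nat.prime_two⟩
  haveI : CharP F 2 := charP_of_card_eq_prime_pow hF'
  have hp : ∀ x ∈ K, x ^ 64 = x := fun x hx => by simpa [hF'] using IsFieldSubalgebra.pow_card hK hx
  have hu : ∀ x ∈ K, x ≠ 0 → x ^ 63 = 1 := fun x hx h0 => by
    obtain ⟨y, -, hy⟩ := hK.inv x hx h0
    rw [← mul_one (x ^ 63), ← hy, ← mul_assoc, ← pow_succ, hp x hx]
  have h3 : ∀ c : F, c ≠ 0 → c ^ 3 = 1 := fun c hc => by
    simpa [hF'] using FiniteField.pow_card_sub_one_eq_one c hc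
  have hdet : ∀ x ∈ K, x ≠ 0 → x.det ≠ 0 := fun x hx h0 e => by
    obtain ⟨v, hv, e⟩ := exists_mulVec_eq_zero_iff.2 e
    exact (IsFieldSubalgebra.mulVec_eq_zero hK hx e).elim h0 hv
  have h21 : ∀ x ∈ K, x.det = 1 → x ^ 21 = 1 := by
    obtain ⟨γ, hγ, h0, hg⟩ := IsFieldSubalgebra.exists_gen hK
    have h1 : γ.det ≠ 1 := fun e => by
      obtain ⟨x, hx, hx'⟩ := IsFieldSubalgebra.exists_not_isSc hK (by norm_num)
      have hd : (x.charpoly - 1).natDegree = 3 := by
        rw [← Polynomial.C_1, Polynomial.natDegree_sub_C, charpoly_natDegree_eq_dim, hι]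
      have := Polynomial.eq_zero_of_natDegree_lt_card_of_eval_eq_zero (x.charpoly - 1) Function.injective_id
        (fun t => by
          obtain ⟨j, hj⟩ := hg (scalar ι t - x) (sub_mem (K.algebraMap_mem t) hx) fun e =>
            hx' ⟨t, by rw [← sub_eq_zero.1 e, smul_one_eq_diagonal, scalar_apply]⟩
          rw [Polynomial.eval_sub, eval_charpoly, id, hj, det_pow, e]; simp) (by rw [hd, hF']; norm_num)
      rw [this] at hd; simp at hd
    intro x hx h2
    obtain ⟨j, rfl⟩ := hg x hx fun e => by simp [e] at h2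
    rw [det_pow] at h2
    obtain ⟨j, rfl⟩ := (orderOf_eq_prime (h3 _ (hdet γ hγ h0)) h1 ▸ orderOf_dvd_of_pow_eq_one h2 : 3 ∣ j)
    rw [← pow_mul, mul_right_comm, pow_mul, show γ ^ (3 * 21) = 1 from hu γ hγ h0, one_pow]
  let v₀ : ι → F := Pi.single (Classical.arbitrary ι) 1
  have hv : v₀ ≠ 0 := by simp [v₀]
  choose k hk hk' using IsFieldSubalgebra.exists_mulVec (hι ▸ hK) hv
  have hk2 : ∀ x ∈ K, k (x *ᵥ v₀) = x := fun x hx => sub_eq_zero.1
    ((IsFieldSubalgebra.mulVec_eq_zero hK (sub_mem (hk _) hx) (by rw [sub_mulVec, hk', sub_self])).resolve_right hv)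
  let θ : (ι → F) → ι → F := fun v => k v ^ 8 *ᵥ v₀
  have hθ : ∀ x ∈ K, θ (x *ᵥ v₀) = x ^ 8 *ᵥ v₀ := fun x hx => by simp only [θ, hk2 x hx]
  obtain ⟨P, hP⟩ := semi_descent hF θ (μ := 1) (fun u v => by
      rw [← hk' u, ← hk' v, ← add_mulVec, hθ _ (add_mem (hk u) (hk v)), hθ _ (hk u), hθ _ (hk v), ← add_mulVec]
      exact congrArg (· *ᵥ v₀) (add_pow_char_pow_of_commute (p := 2) (n := 3) (hK.comm _ (hk u) _ (hk v))))
    (fun c v => by
      rw [← hk' v, ← smul_mulVec, hθ _ (K.smul_mem (hk v) c), hθ _ (hk v), smul_pow, smul_mulVec]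
      by_cases hc : c = 0
      · simp [hc]
      · rw [show c ^ 8 = (c ^ 3) ^ 2 * c ^ 2 by ring, h3 c hc, one_pow, one_mul])
    one_ne_zero fun v => by
      rw [one_smul, hθ _ (pow_mem (hk v) _), ← pow_mul, hp _ (hk v), hk']
  refine ⟨P, fun g ⟨hg, hg'⟩ => ?_⟩
  have hn : ∀ x ∈ K, cjm g x ∈ K := fun x hx => (hg x).1 hx
  obtain ⟨a, ha, hav⟩ : ∃ a ∈ K, a *ᵥ v₀ = g.val *ᵥ v₀ := ⟨_, hk _, hk' _⟩
  have ha0 : a ≠ 0 := fun e => hv (gl_mulVec_eq_zero.1 (by rw [← hav, e, zero_mulVec]))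
  have hgx : ∀ x, g.val *ᵥ (x *ᵥ v₀) = (cjm g x * a) *ᵥ v₀ := fun x => by
    rw [← mulVec_mulVec, hav, cjm_mulVec]
  obtain ⟨b, hb, hab⟩ := hK.inv a ha ha0
  have hbx : ∀ x ∈ K, (b * g.val) *ᵥ (x *ᵥ v₀) = cjm g x *ᵥ v₀ := fun x hx => by
    rw [← mulVec_mulVec, hgx, mulVec_mulVec, hK.comm b hb _ (mul_mem (hn x hx) ha), mul_assoc, hab, mul_one]
  have h1 := congrArg det (hP (b * g.val) 1 fun v => by
    rw [one_smul, ← hk' v, hbx _ (hk v), hθ _ (hk v), hθ _ (hn _ (hk v)), hbx _ (pow_mem (hk v) _), map_pow])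
  have hab' : a.det * b.det = 1 := by rw [← det_mul, hab, det_one]
  rw [one_smul, ← RingHom.mapMatrix_apply, ← RingHom.map_det, det_cjm, det_mul, mem_specialLinear.1 hg', mul_one,
    frob_apply, sq, mul_right_eq_self₀, or_iff_left (right_ne_zero_of_mul_eq_one hab')] at h1
  rw [h1, mul_one] at hab'
  have h7 : (a ^ 7) ^ Nat.card F ^ 1 = a ^ 7 := by
    rw [hF, ← pow_mul, show 7 * (2 ^ 2) ^ 1 = 21 + 7 from rfl, pow_add, h21 a ha hab', one_mul]
  obtain ⟨K₁, hK₁, hK₂⟩ := exists_subfield_alg hK (one_dvd 3)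
  obtain ⟨l, hl⟩ : IsSc (a ^ 7) := isSc_iff_mem_bot.2
    (Subalgebra.eq_bot_of_finrank_one hK₁.finrank_eq ▸ (hK₂ _).2 ⟨pow_mem ha _, h7⟩)
  refine mem_subfieldSubgroup_of_map (σ := frob hF) (fun _ h => h) (hP g.val l fun v => ?_)
  rw [← hk' v, hgx, hθ _ (mul_mem (hn _ (hk v)) ha), hθ _ (hk v), hgx, map_pow,
    Commute.mul_pow (hK.comm _ (hn _ (hk v)) a ha), pow_succ a, hl, ← smul_mulVec]
  simp

end Cfsg.Agent.Classical.Asch
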