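import Cfsg.Agent.Lib.Classical.Asch15

/-!
Maximal subgroups of the special linear groups.
-/

set_option autoImplicit false

namespace Cfsg.Agent.Classical.Asch
open Matrix Cfsg.Geo Module Cfsg.Agent.Comp
open scoped MatrixGroups Kronecker commutatorElement

variable {ι : Type} [Fintype ι] [DecidableEq ι] {F : Type*} [Field F] {σ : F →+* F}

local notation "Z" => scalars ι F
local notation "σ₀" => RingHom.id F
local notation "SLι" => specialLinear ι F

/-- The possibilities for a maximal subgroup of the special linear group. -/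
inductive LinM [Fintype F] (H : Subgroup (GL ι F)) : Prop
  | red (W : Submodule F (ι → F)) (h1 : W ≠ ⊥) (h2 : W ≠ ⊤) (h : H = subspaceStabilizer W ⊓ SLι)
  | dec {t : ℕ} (m : ℕ) (D : Fin t → Submodule F (ι → F)) (hD : IsMDecomposition m D)
      (h1 : m = 1 → 5 ≤ Fintype.card F) (h2 : m = 2 → 3 ≤ Fintype.card F)
      (h3 : m = 1 → t = 4 → 7 ≤ Fintype.card F) (h4 : m = 2 → t = 2 → 4 ≤ Fintype.card F)
      (h : H = decompositionStabilizer D ⊓ SLι)
  | fld (r : ℕ) (K : Subalgebra F (Matrix ι ι F)) (hr : r.Prime) (hK : IsFieldSubalgebra r K)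
      (h1 : Fintype.card ι = 3 → Fintype.card F ≠ 4) (h : H = subalgebraNormalizer K ⊓ SLι)
  | ten (n₁ n₂ : ℕ) (e : ι ≃ Fin n₁ × Fin n₂) (P : GL ι F) (h1 : 2 ≤ n₁) (h2 : n₁ < n₂)
      (h3 : n₁ = 2 → 3 ≤ Fintype.card F) (h : H = tensorProductSubgroup n₁ n₂ e P ⊓ SLι)
  | sub (F₀ : Subfield F) (r : ℕ) (P : GL ι F) (hr : r.Prime) (hF : Fintype.card F = Nat.card F₀ ^ r)
      (h : H = subfieldSubgroup F₀ P ⊓ SLι)
  | ext (r m : ℕ) (R : Subgroup (GL ι F)) (hR : IsLinearSymplecticTypeData r R) (hm : Fintype.card ι = r ^ m)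
      (h : H = subgroupNormalizer R ⊓ SLι)
  | wre (m t : ℕ) (e : ι ≃ (Fin t → Fin m)) (P : GL ι F) (hm : 3 ≤ m) (ht : 2 ≤ t)
      (h : H = tensorWreathSubgroup m t e P ⊓ SLι)
  | symp (f : (ι → F) → (ι → F) → F) (hf : IsSymplecticForm f) (he : Even (Fintype.card ι))
      (h : H = similarityGroup f ⊓ SLι)
  | unit (τ : F ≃+* F) (f : (ι → F) → (ι → F) → F) (hf : IsUnitaryForm τ f) (h : H = similarityGroup f ⊓ SLι)
  | quad (Q : (ι → F) → F) (hQ : IsNondegenerateQuadraticForm Q) (ho : Odd (Fintype.card F))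
      (h : H = quadSimilarityGroup Q ⊓ SLι)
  | res (h : InLinearResidualClass H)

theorem card_ne_six [Fintype F] : Fintype.card F ≠ 6 := fun h => by
  obtain ⟨p, _, n, hp, hn⟩ := FiniteField.card' F
  rw [h] at hn
  have h2 := (Nat.prime_dvd_prime_iff_eq Nat.prime_two hp).1 (Nat.prime_two.dvd_of_dvd_pow (hn ▸ (by norm_num : 2 ∣ 6)))
  have h3 := (Nat.prime_dvd_prime_iff_eq Nat.prime_three hp).1
    (Nat.prime_three.dvd_of_dvd_pow (hn ▸ (by norm_num : 3 ∣ 6)))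
  omega

theorem units_pow_card [Fintype F] {k : ℕ} (h : Fintype.card F = k + 1) (c : Fˣ) : c ^ k = 1 :=
  Units.ext (by simpa [h] using FiniteField.pow_card_sub_one_eq_one (c : F) c.ne_zero)

theorem not_alt_one [Nonempty ι] : ¬ Alt (1 : Matrix ι ι F) := fun h => by
  simpa using h.diag (Classical.arbitrary ι)

theorem exists_Iso_of_frame {t : ℕ} {D : Fin t → Submodule F (ι → F)} (hD : IsMDecomposition 1 D)
    (hσ : ∀ a, σ (σ a) = a) (h : ∀ c : Fˣ, c * σ c = 1) :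
    ∃ B : GL ι F, RF σ 1 B ∧ decompositionStabilizer D ≤ Iso σ B.val ∧ (σ = σ₀ → ¬ Alt B.val) := by
  obtain ⟨e, P, hc⟩ := IsMDecomposition.exists_coord hD
  obtain ⟨B, hB⟩ := exists_pb' σ 1 e P
  refine ⟨B, hB.rf' (rf_one hσ), fun g hg => ?_, ?_⟩
  · obtain ⟨π, d, rfl⟩ := hc.exists_mono hg
    exact hB.mem_Iso.2 (mono_mem_Iso.2 fun j => h _)
  · rintro rfl
    haveI : Nonempty (Fin t) := ⟨⟨0, by have := hD.two_le; omega⟩⟩
    exact fun h => not_alt_one (hB.alt_iff.1 h)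

theorem bm_pb_J2 {τ : Type} [Fintype τ] [DecidableEq τ] (π : Equiv.Perm τ) {a : τ → GL (Fin 2) F} {c : F}
    (h : ∀ j, (a j).val.det = c) : (bm π a).valᵀ * blockDiagonal (fun _ => (J2 F).val) * (bm π a).val.map σ₀ =
      c • blockDiagonal fun _ => (J2 F).val := by
  rw [bm_mul_iff]
  intro j
  rw [map_σ₀, pb_J2, h]

theorem bm_mem_Sim_J2 {τ : Type} [Fintype τ] [DecidableEq τ] (π : Equiv.Perm τ) {a : τ → GL (Fin 2) F} {c : F}
    (h : ∀ j, (a j).val.det = c) : bm π a ∈ Sim σ₀ (blockDiagonal fun _ => (J2 F).val) := by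
  have := bm_pb_J2 π h
  rw [← coe_bdg] at this ⊢
  exact mem_Sim_of this

theorem sign_cast_sq {τ : Type} [Fintype τ] [DecidableEq τ] (π : Equiv.Perm τ) :
    ((Equiv.Perm.sign π : ℤ) : F) ^ 2 = 1 := by
  rw [← Int.cast_pow, ← Units.val_pow_eq_pow_val, Int.units_sq]; simp

theorem det_trg {κ : Type} [Fintype κ] [DecidableEq κ] (e : ι ≃ κ) (P : GL ι F) (g : GL κ F) :
    (trg e P g).val.det = g.val.det := by rw [coe_trg, trm_apply, det_cjm, det_submatrix_equiv_self]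

section
variable [Fintype F] {H : Subgroup (GL ι F)} (hι : 3 ≤ Fintype.card ι) (hH : IsMaximalIn (specialLinear ι F) H)
include hι hH

theorem LinM.of_not_irr (h : ¬ Irr H) : LinM H := by
  obtain ⟨W, h1, h2, h⟩ := not_irr h
  exact .red W h1 h2 (IsMaximalIn.eq_inf hH h ((amb_SL hι).not_le_stab h1 h2))

theorem LinM.of_alt {B : GL ι F} (hB : Alt B.val) (h : H ≤ Sim σ₀ B.val) : LinM H :=
  .symp _ hB.isSymplecticForm hB.even (IsMaximalIn.eq_inf hH h (not_SL_le_Sim hι B))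

theorem LinM.of_unit {B : GL ι F} (hB : RF σ 1 B) (hσ : σ ≠ σ₀) (h : H ≤ Sim σ B.val) : LinM H := by
  obtain ⟨τ, hτ⟩ := hB.isUnitaryForm hσ
  exact .unit τ _ hτ (IsMaximalIn.eq_inf hH h (not_SL_le_Sim hι B))

theorem LinM.of_quad {Q : (ι → F) → F} {B : GL ι F} (hQ : QF Q B.val) (ho : Odd (Fintype.card F))
    (h : H ≤ quadSimilarityGroup Q) : LinM H :=
  .quad Q hQ.isNondegenerate ho
    (IsMaximalIn.eq_inf hH h fun e => not_SL_le_Sim hι B (e.trans hQ.quadSim_le))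

theorem LinM.of_sub {F₀ : Subfield F} {r : ℕ} {P : GL ι F} (hr : r.Prime)
    (hF : Fintype.card F = Nat.card F₀ ^ r) (h : H ≤ subfieldSubgroup F₀ P) : LinM H :=
  .sub F₀ r P hr hF (IsMaximalIn.eq_inf hH h (not_SL_le_subfield hι (ne_top_of_card hr hF) P))

theorem LinM.of_ext {r m : ℕ} {R : Subgroup (GL ι F)} (hR : IsLinearSymplecticTypeData r R)
    (hm : Fintype.card ι = r ^ m) (h : H ≤ subgroupNormalizer R) : LinM H :=
  .ext r m R hR hm (IsMaximalIn.eq_inf hH h ((amb_SL hι).not_le_ext le_top hR.symplecticType hR.absIrred))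

theorem LinM.of_dec {t m : ℕ} {D : Fin t → Submodule F (ι → F)} (hD : IsMDecomposition m D)
    (h : H ≤ decompositionStabilizer D) : LinM H := by
  by_cases hI : Irr H
  swap; · exact .of_not_irr hι hH hI
  have hq := Fintype.one_lt_card (α := F)
  have h6 := card_ne_six (F := F)
  by_cases h1 : m = 1 → 5 ≤ Fintype.card F
  swap
  · push Not at h1
    obtain ⟨rfl, h1⟩ := h1
    by_cases h4 : Fintype.card F = 4
    · have hF : Nat.card F = 2 ^ 2 := by rw [Nat.card_eq_fintype_card, h4]; rfl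
      obtain ⟨B, hB, h2, -⟩ := exists_Iso_of_frame hD (frob_frob hF) fun c => by
        rw [frob_apply, ← pow_succ', ← Units.val_pow_eq_pow_val, units_pow_card h4, Units.val_one]
      exact .of_unit hι hH hB (frob_ne_id hF) ((h.trans h2).trans Iso_le_Sim)
    obtain ⟨B, hB, h2, h3⟩ := exists_Iso_of_frame (σ := σ₀) hD (fun _ => rfl) fun c => by
      rw [RingHom.id_apply, ← Units.val_mul, Units.val_eq_one]
      by_cases h : Fintype.card F = 2
      · rw [← pow_one c, units_pow_card h, one_mul]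
      · rw [← sq, units_pow_card (by omega)]
    have hs := (h.trans h2).trans Iso_le_Sim
    by_cases h5 : (2 : F) = 0
    · exact absurd (hI.alt (by omega) h5 (by simpa using hB.symm) hs) (h3 rfl)
    · obtain ⟨Q, hQ⟩ := exists_qf_of_symm h5 (B := B.val) (by simpa using hB.symm)
      exact .of_quad hι hH hQ (two_ne_zero_iff_odd.1 h5) (hQ.quadSim_eq h5 ▸ hs)
  by_cases h2 : (m = 2 → 3 ≤ Fintype.card F) ∧ (m = 2 → t = 2 → 4 ≤ Fintype.card F)
  swap
  · obtain rfl : m = 2 := by by_contra e; exact h2 ⟨fun h => absurd h e, fun h => absurd h e⟩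
    obtain ⟨e, P, hc⟩ := IsMDecomposition.exists_coord hD
    obtain ⟨B, hB⟩ := exists_pb' σ₀ (bdg fun _ => J2 F) e P
    rw [coe_bdg] at hB
    have hA : Alt B.val := hB.alt_iff.2 (alt_blockDiagonal.2 fun _ => alt_J2)
    refine .of_alt hι hH hA fun g hg => ?_
    have hg' := mem_specialLinear.1 (hH.1.le hg)
    obtain ⟨π, a, rfl⟩ := hc.exists_bm (h hg)
    have key : ∀ c, (∀ j, (a j).val.det = c) → trg e P (bm π a) ∈ Sim σ₀ B.val := fun c hc =>
      hB.mem_Sim.2 (bm_mem_Sim_J2 π hc)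
    by_cases h3 : Fintype.card F = 2
    · exact key 1 fun j => (eq_zero_or_one h3 _).resolve_left (a j).det_ne_zero
    obtain ⟨rfl, h3⟩ : t = 2 ∧ Fintype.card F = 3 := by omega
    rw [det_trg, det_bm, Fintype.card_fin, sign_cast_sq, one_mul, Fin.prod_univ_two] at hg'
    refine key (a 0).val.det (Fin.forall_fin_two.2 ⟨rfl, mul_left_cancel₀ (a 0).det_ne_zero ?_⟩)
    rw [hg', ← sq]
    simpa [h3] using (FiniteField.pow_card_sub_one_eq_one _ (a 0).det_ne_zero).symm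
  by_cases h3 : m = 1 → t = 4 → 7 ≤ Fintype.card F
  swap
  · push Not at h3
    obtain ⟨rfl, rfl, h3⟩ := h3
    have h5 : Fintype.card F = 5 := by omega
    obtain ⟨e, P, hc⟩ := IsMDecomposition.exists_coord hD
    have hc4 : Fintype.card ι = 2 ^ 2 := by rw [Fintype.card_congr e]; simp
    haveI : Fact (Nat.Prime 5) := ⟨Nat.prime_five⟩
    have hp := charP_of_card_eq_prime h5
    have h50 : (5 : F) = 0 := CharP.cast_eq_zero F 5
    have h20 : (2 : F) ≠ 0 := two_ne_zero_iff_odd.2 (by rw [h5]; decide)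
    obtain ⟨hX, hz⟩ := xr_R4 h20 (i := Units.mk0 2 h20) (Units.ext (by simp; linear_combination h50)) e P
    obtain ⟨k, -, -, hk⟩ := hX.exists_card
    refine .of_ext hι hH ⟨hX.isSymplecticTypeGroup, hX.absIrr, 5, 1, by norm_num, ⟨Nat.prime_five, hp, h5, by
      rw [hz]; norm_num, fun _ _ _ => by omega⟩, .inr (.inl ⟨rfl, rfl, hz, by omega, k, by rw [hk, hz]; ring⟩)⟩
      hc4 fun g hg => ?_
    have hg' := mem_specialLinear.1 (hH.1.le hg)
    obtain ⟨π, a, rfl⟩ := hc.exists_mono (h hg)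
    refine trg_mem_normalizer e P (mono_mem_normalizer_R4 π (fun _ => units_pow_card h5 _) (Units.ext ?_))
    have := congrArg (· ^ 2) hg'
    simp only [det_trg, det_mono, mul_pow, sign_cast_sq, one_mul, one_pow] at this
    exact this
  refine .dec m D hD h1 h2.1 h3 h2.2 (IsMaximalIn.eq_inf hH h (not_SL_le_dec hι hD ?_))
  have := hD.pos
  omega

theorem linM : LinM H := by
  haveI : Nonempty ι := Fintype.card_pos_iff.1 (by omega)
  cases linOut hι H with
  | red W h1 h2 h => exact .red W h1 h2 (IsMaximalIn.eq_inf hH h ((amb_SL hι).not_le_stab h1 h2))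
  | dec m D hD h => exact .of_dec hι hH hD h
  | fld r K hr hK h =>
    by_cases h1 : Fintype.card ι = 3 → Fintype.card F ≠ 4
    · exact .fld r K hr hK h1 (IsMaximalIn.eq_inf hH h ((amb_SL hι).not_le_fld hr hK))
    push Not at h1
    obtain rfl : r = 3 := (Nat.prime_dvd_prime_iff_eq hr Nat.prime_three).1 (h1.1 ▸ IsFieldSubalgebra.dvd_card hK)
    have hF : Nat.card F = 2 ^ 2 := by rw [Nat.card_eq_fintype_card, h1.2]; rfl
    obtain ⟨P, hP⟩ := fld_le_subfield hF h1.1 hK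
    exact .of_sub hι hH Nat.prime_two (card_eq_fixSub hF) ((le_inf h hH.1.le).trans hP)
  | ten n₁ n₂ e P h1 h2 h3 h =>
    obtain ⟨a, ha⟩ := exists_not_isSc (ι := Fin n₁) (F := F) (by simpa using h1)
    exact .ten n₁ n₂ e P h1 h2 h3 (IsMaximalIn.eq_inf hH h ((amb_SL hι).not_le_tens (by omega) trivial ha))
  | sub F₀ r P hr hF h => exact .of_sub hι hH hr hF h
  | ext r m R hR hm h => exact .of_ext hι hH hR hm h
  | wre m t e P hm ht h =>
    obtain ⟨a, ha⟩ := exists_not_isSc (ι := Fin m) (F := F) (by simp; omega)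
    exact .wre m t e P hm ht (IsMaximalIn.eq_inf hH h
      ((amb_SL hι).not_le_wre (by omega) ht (i := ⟨0, by omega⟩) trivial ha))
  | symp B hB h => exact .of_alt hι hH hB h
  | unit τ B hτ hB h => exact .of_unit hι hH hB hτ h
  | quad Q B hQ ho h => exact .of_quad hι hH hQ ho h
  | res h => exact .res h

end

/-! number theory for class 6 -/

theorem IsMinimalFieldFor.dvd [Fintype F] {r p e : ℕ} (hr : r.Prime) (hp : r ≠ p) (he : 0 < e)
    (h : IsMinimalFieldFor r p e F) : e ∣ r - 1 := by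
  haveI := Fact.mk hr
  obtain ⟨h1, -, -, h2, h3⟩ := h
  have key : ∀ d, r ∣ p ^ d - 1 ↔ (p : ZMod r) ^ d = 1 := fun d => by
    rw [← ZMod.natCast_eq_zero_iff, Nat.cast_sub (Nat.one_le_pow _ _ h1.pos), sub_eq_zero]; simp
  have : orderOf (p : ZMod r) = e := (orderOf_eq_iff he).2 ⟨(key e).1 h2, fun d hd hd' e => h3 d hd' hd ((key d).2 e)⟩
  rw [← this]
  exact ZMod.orderOf_dvd_card_sub_one fun e =>
    hp ((Nat.prime_dvd_prime_iff_eq hr h1).1 ((ZMod.natCast_eq_zero_iff _ _).1 e))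

theorem pow_mod_eq_one {r p d : ℕ} (hp : 0 < p) (hr : 1 < r) : r ∣ p ^ d - 1 ↔ (p % r) ^ d % r = 1 := by
  rw [← Nat.pow_mod, ← (Nat.modEq_iff_dvd' (Nat.one_le_pow _ _ hp)), Nat.ModEq, Nat.mod_eq_of_lt hr, eq_comm]

theorem IsLinearSymplecticTypeData.odd [Fintype F] {r : ℕ} {R : Subgroup (GL ι F)}
    (h : IsLinearSymplecticTypeData r R) (hr : r ≠ 2) : ∃ p e, p.Prime ∧ CharP F p ∧ Fintype.card F = p ^ e ∧
      Odd e ∧ e ∣ r - 1 ∧ (p % r) ^ e % r = 1 ∧ ∀ d, 0 < d → d < e → (p % r) ^ d % r ≠ 1 := by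
  obtain ⟨p, e, h1, h2, ⟨-, h3, h4, -⟩ | ⟨h3, -⟩ | ⟨h3, -⟩⟩ := h.field
  · rw [h4] at h2
    have hr := h.symplecticType.prime
    exact ⟨p, e, h2.1, h2.2.1, h2.2.2.1, h3, IsMinimalFieldFor.dvd hr h1 h3.pos h2,
      (pow_mod_eq_one h2.1.pos hr.one_lt).1 h2.2.2.2.1,
      fun d h5 h6 h7 => h2.2.2.2.2 d h5 h6 ((pow_mod_eq_one h2.1.pos hr.one_lt).2 h7)⟩
  all_goals exact absurd h3 hr

theorem IsLinearSymplecticTypeData.two [Fintype F] {R : Subgroup (GL ι F)}
    (h : IsLinearSymplecticTypeData 2 R) (hι : Fintype.card ι ≠ 2) :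
    ∃ p, p.Prime ∧ Fintype.card F = p ∧ p % 4 = 1 := by
  obtain ⟨p, e, h1, h2, ⟨h3, -⟩ | ⟨-, rfl, h3, -⟩ | ⟨-, -, h3, -⟩⟩ := h.field
  · exact absurd h3 (by decide)
  · rw [h3] at h2
    exact ⟨p, h2.1, by simpa using h2.2.2.1, by simpa using (pow_mod_eq_one h2.1.pos (by norm_num)).1 h2.2.2.2.1⟩
  · exact absurd h3 hι

theorem IsLinearSymplecticTypeData.one [Fintype F] {r : ℕ} {R : Subgroup (GL ι F)}
    (h : IsLinearSymplecticTypeData r R) (hr : r = 3 ∨ r = 5) :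
    ∃ p, p.Prime ∧ Fintype.card F = p ∧ p % r = 1 := by
  obtain ⟨p, e, h1, -, h2, h3, h4, h5, -⟩ := IsLinearSymplecticTypeData.odd h (by omega)
  obtain rfl : e = 1 := by
    obtain ⟨k, rfl⟩ := h3
    rcases hr with rfl | rfl <;> have := Nat.le_of_dvd (by norm_num) h4
    · omega
    · obtain rfl | rfl : k = 0 ∨ k = 1 := by omega
      · rfl
      · norm_num at h4
  exact ⟨p, h1, by simpa using h2, by simpa using h5⟩

/-- `r` is the prime with `n = r ^ m` -/
theorem prime_eq_of_pow {r m p k : ℕ} (hr : r.Prime) (hp : p.Prime) (hk : 0 < k) (h : p ^ k = r ^ m) : r = p :=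
  ((Nat.prime_dvd_prime_iff_eq hp hr).1 (hp.dvd_of_dvd_pow (h ▸ dvd_pow_self p hk.ne'))).symm

theorem not_pow_of_two_primes {r m p q n : ℕ} (hr : r.Prime) (hp : p.Prime) (hq : q.Prime) (hpq : p ≠ q)
    (h1 : p ∣ n) (h2 : q ∣ n) : n ≠ r ^ m := by
  rintro rfl
  exact hpq (((Nat.prime_dvd_prime_iff_eq hp hr).1 (hp.dvd_of_dvd_pow h1)).trans
    ((Nat.prime_dvd_prime_iff_eq hq hr).1 (hq.dvd_of_dvd_pow h2)).symm)

theorem card_of_ten {n n₁ n₂ : ℕ} (e : Fin n ≃ Fin n₁ × Fin n₂) : n = n₁ * n₂ := by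
  simpa using Fintype.card_congr e

theorem card_of_wre {n m t : ℕ} (e : Fin n ≃ (Fin t → Fin m)) : n = m ^ t := by
  simpa using Fintype.card_congr e

/-- possible tensor-wreath parameters in small dimension -/
theorem wre_cases {n m t : ℕ} (h : n = m ^ t) (hn : n ≤ 12) (hm : 2 ≤ m) (ht : 2 ≤ t) :
    (m = 2 ∧ t = 2 ∧ n = 4) ∨ (m = 2 ∧ t = 3 ∧ n = 8) ∨ (m = 3 ∧ t = 2 ∧ n = 9) := by
  have h1 : m ^ 2 ≤ n := h ▸ Nat.pow_le_pow_right (by omega) ht
  have h2 : 2 ^ t ≤ n := h ▸ Nat.pow_le_pow_left hm t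
  have h3 : m < 4 := by nlinarith
  have h4 : t < 4 := (Nat.pow_lt_pow_iff_right (by norm_num : 1 < 2)).1 (by omega)
  interval_cases m <;> interval_cases t <;> omega

end Cfsg.Agent.Classical.Asch
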