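import Cfsg.Agent.Lib.Classical.Asch16

/-!
Tools for the small exceptions: coordinates, the four-dimensional form of plus type, extraspecial groups over
the field with three elements.
-/

set_option autoImplicit false

namespace Cfsg.Agent.Classical.Asch
open Matrix Cfsg.Geo Module Cfsg.Agent.Comp
open scoped MatrixGroups Kronecker commutatorElement

variable {ι : Type} [Fintype ι] [DecidableEq ι] {F : Type*} [Field F] {σ : F →+* F}

local notation "Z" => scalars ι F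
local notation "σ₀" => RingHom.id F

section Congr
variable {κ : Type} [Fintype κ] [DecidableEq κ]

theorem exists_trv' (e : ι ≃ κ) (T : (κ → F) ≃ₗ[F] (ι → F)) : ∃ P : GL ι F, trv e P = T :=
  ⟨glEquiv.symm ((LinearEquiv.funCongrLeft F F e).symm.trans T), by
    ext x : 1
    simp only [trv, MulEquiv.apply_symm_apply, LinearEquiv.trans_apply, LinearEquiv.symm_apply_apply]⟩

theorem exists_trv_iso {K : Kind F} {Φ : Form K (κ → F)} {Ψ : Form K (ι → F)} (h : Φ.Iso Ψ) (e : ι ≃ κ) :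
    ∃ P : GL ι F, (∀ x y, Ψ.B (trv e P x) (trv e P y) = Φ.B x y) ∧ ∀ x, Ψ.N (trv e P x) = Φ.N x := by
  obtain ⟨T, h1, h2⟩ := h
  obtain ⟨P, rfl⟩ := exists_trv' e T
  exact ⟨P, h1, h2⟩

theorem Pb.refl_iff {B C : Matrix ι ι F} {P : GL ι F} :
    Pb σ B (Equiv.refl ι) P C ↔ P.valᵀ * B * P.val.map σ = C :=
  ⟨fun h => gf_ext fun u v => by rw [← gf_mulVec]; exact h u v, fun h u v => by
    rw [← h, ← gf_mulVec]; rfl⟩

theorem Alt.exists_pb {B : GL ι F} {C : GL κ F} (hB : Alt B.val) (hC : Alt C.val) (e : ι ≃ κ) :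
    ∃ P, Pb σ₀ B.val e P C.val := by
  obtain ⟨P, h, -⟩ := exists_trv_iso (symp_iso _ hC.form hB.form hC.nondeg hB.nondeg rfl
    (by simp [Fintype.card_congr e])) e
  exact ⟨P, h⟩

theorem RF.exists_pb [Finite F] (hne : σ ≠ σ₀) {B : GL ι F} {C : GL κ F} (hB : RF σ 1 B) (hC : RF σ 1 C)
    (e : ι ≃ κ) : ∃ P, Pb σ B.val e P C.val := by
  obtain ⟨P, h, -⟩ := exists_trv_iso (unit_iso hne _ (hC.form hne) (hB.form hne) (hC.nondeg hne) (hB.nondeg hne)
    rfl (by simp [Fintype.card_congr e])) e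
  exact ⟨P, h⟩

theorem QF.exists_pb [Finite F] {Q : (ι → F) → F} {Q' : (κ → F) → F} {B : GL ι F} {C : GL κ F} (hB : QF Q B.val)
    (hC : QF Q' C.val) {m : ℕ} {η : ℤ} (h1 : hB.form.IsType m η) (h2 : hC.form.IsType m η) (e : ι ≃ κ) :
    ∃ P, Pb σ₀ B.val e P C.val ∧ ∀ x, Q (Asch.trv e P x) = Q' x :=
  exists_trv_iso (orth_iso_even η m hC.form hB.form hC.nondeg hB.nondeg h2 h1) e

theorem QF.isType_of_plus [Finite F] {Q : (ι → F) → F} {B : GL ι F} (hB : QF Q B.val) {m : ℕ}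
    (hι : Fintype.card ι = 2 * m) : IsPlusTypeOn Q ⊤ ↔ hB.form.IsType m 1 := by
  rw [isType_one_iff hB.nondeg (by simpa using hι)]
  simp only [IsPlusTypeOn, le_top, true_and, finrank_top, finrank_fintype_fun_eq_card, hι]
  exact exists_congr fun W => ⟨fun h => ⟨by omega, Form.TS_orth h.1⟩, fun h => ⟨h.2.1, by omega⟩⟩

end Congr

section Pair
variable {κ τ : Type} [Fintype κ] [DecidableEq κ] [Fintype τ] [DecidableEq τ]

omit [DecidableEq κ] in
theorem gf_blk_blk (C : Matrix (κ × τ) (κ × τ) F) (i j : τ) (x y : κ → F) :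
    gf σ C (blk i x) (blk j y) = gf σ (of fun k l => C (k, i) (l, j)) x y := by
  simp [gf_eq_sum, Fintype.sum_prod_type, blk_apply, apply_ite σ]

theorem gf_ext_blk {C C' : Matrix (κ × τ) (κ × τ) F}
    (h : ∀ i j x y, gf σ C (blk i x) (blk j y) = gf σ C' (blk i x) (blk j y)) : C = C' := by
  ext ⟨k, i⟩ ⟨l, j⟩
  rw [← gf_single (σ := σ) C, ← gf_single (σ := σ) C', ← blk_single, ← blk_single, h]

theorem gf_kron_blk (B : Matrix κ κ F) (H : Matrix τ τ F) (i j : τ) (x y : κ → F) :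
    gf σ (B ⊗ₖ H) (blk i x) (blk j y) = gf σ B x y * H i j := by rw [blk, blk, gf_kron, gf_single]

theorem bm_kron_iff {B : Matrix κ κ F} {H : Matrix τ τ F} {π : Equiv.Perm τ} {a : τ → GL κ F} {c : F} :
    (bm π a).valᵀ * B ⊗ₖ H * (bm π a).val.map σ = c • B ⊗ₖ H ↔
      ∀ i j, H (π i) (π j) • ((a i).valᵀ * B * (a j).val.map σ) = (c * H i j) • B := by
  have key : ∀ i j x y, gf σ ((bm π a).valᵀ * B ⊗ₖ H * (bm π a).val.map σ) (blk i x) (blk j y) =
      gf σ (H (π i) (π j) • ((a i).valᵀ * B * (a j).val.map σ)) x y := fun i j x y => by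
    rw [← gf_mulVec, bm_blk, bm_blk, gf_kron_blk, gf_smul, gf_mulVec, mul_comm]
  have key2 : ∀ i j x y, gf σ (c • B ⊗ₖ H) (blk i x) (blk j y) = gf σ ((c * H i j) • B) x y := fun i j x y => by
    rw [gf_smul, gf_kron_blk, gf_smul]; ring
  exact ⟨fun h i j => gf_ext fun x y => by rw [← key, ← key2, h],
    fun h => gf_ext_blk fun i j x y => by rw [key, key2, h]⟩

/-- the hyperbolic plane -/
def hyp (ε : F) : Matrix (Fin 2) (Fin 2) F := !![0, 1; ε, 0]

theorem Coord.exists_pair {D : Fin 2 → Submodule F (ι → F)} {e : ι ≃ κ × Fin 2} {P : GL ι F} (h : Coord D e P)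
    {ε : F} {B : GL ι F} (hB : RF σ ε B) (hT : ∀ i, IsTotallySingularFor (gf σ B.val) (D i)) :
    ∃ P', Coord D e P' ∧ Pb σ B.val e P' ((1 : Matrix κ κ F) ⊗ₖ hyp ε) := by
  obtain ⟨C, hC⟩ := Asch.exists_pb σ B e P
  let X : Matrix κ κ F := of fun k l => C.val (k, 0) (l, 1)
  have h0 : ∀ P', Coord D e P' → ∀ i x y, gf σ B.val (trv e P' (blk i x)) (trv e P' (blk i y)) = 0 :=
    fun P' h i x y => hT i _ (h.mem _ _) _ (h.mem _ _)
  have hX : X.det ≠ 0 := fun e' => by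
    obtain ⟨x, hx, e'⟩ := exists_vecMul_eq_zero_iff.2 e'
    refine hx (blk_injective (0 : Fin 2) ((gf_eq_zero_left (σ := σ) C fun u => ?_).trans (blkL 0).map_zero.symm))
    rw [← sum_blk u, Fin.sum_univ_two, gf_add_right, ← hC, h0 P h, gf_blk_blk, gf, dotProduct_mulVec, e']
    simp
  let a : GL κ F := GeneralLinearGroup.mkOfDetNeZero Xᵀ (by rwa [det_transpose])
  have h1 := h.mul ![a⁻¹, 1]
  refine ⟨_, h1, ?_⟩
  obtain ⟨C', hC'⟩ := Asch.exists_pb σ B e (P * glReindex e.symm (bdg ![a⁻¹, 1]))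
  have h2 : ∀ x y, gf σ C'.val (blk 0 x) (blk 1 y) = gf σ 1 x y := fun x y => by
    rw [← hC', trv_mul_trg, trv_mul_trg, hC, coe_bdg, blockDiagonal_blk, blockDiagonal_blk, gf_blk_blk]
    change gf σ X (a⁻¹.val *ᵥ x) ((1 : Matrix κ κ F) *ᵥ y) = _
    rw [one_mulVec, gf_mulVec_left, show X = a.valᵀ from rfl, ← transpose_mul, Units.mul_inv, transpose_one]
  convert hC' using 1
  refine gf_ext_blk (σ := σ) fun i j x y => ?_
  rw [gf_kron_blk]
  fin_cases i <;> fin_cases j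
  · simpa [hyp] using ((hC' _ _).symm.trans (h0 _ h1 0 x y)).symm
  · simpa [hyp] using (h2 x y).symm
  · have h3 : gf σ (1 : Matrix κ κ F) x y = 1 * σ (gf σ 1 y x) := (rf_one hB.σσ).gf_symm y x
    simpa [hyp, h2, mul_comm, h3] using ((hC'.rf hB).gf_symm (blk 0 y) (blk 1 x)).symm
  · simpa [hyp] using ((hC' _ _).symm.trans (h0 _ h1 1 x y)).symm

theorem perm_two (π : Equiv.Perm (Fin 2)) : π = 1 ∨ π = Equiv.swap 0 1 := by revert π; decide

theorem bm_hyp {ε c : F} (hε : ε * ε = 1) {π : Equiv.Perm (Fin 2)} {a : Fin 2 → GL κ F}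
    (h : (bm π a).valᵀ * (1 : Matrix κ κ F) ⊗ₖ hyp ε * (bm π a).val.map σ = c • (1 : Matrix κ κ F) ⊗ₖ hyp ε) :
    (π = 1 ∧ (a 0).valᵀ * (a 1).val.map σ = c • 1) ∨
      (π = Equiv.swap 0 1 ∧ (a 0).valᵀ * (a 1).val.map σ = (ε * c) • 1) := by
  have := bm_kron_iff.1 h 0 1
  refine (perm_two π).imp ?_ ?_ <;> rintro rfl <;> refine ⟨rfl, ?_⟩
  · simpa [hyp] using this
  · simp only [hyp, Equiv.swap_apply_left, Equiv.swap_apply_right, of_apply, cons_val', cons_val_zero,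
      cons_val_one, cons_val_fin_one, Matrix.mul_one, mul_one] at this
    rw [mul_smul, ← this, smul_smul, hε, one_smul]

end Pair

theorem mem_adjoin_iff {s : Matrix ι ι F} {a b : F} (hs : s * s = a • s + b • 1) {x : Matrix ι ι F} :
    x ∈ Algebra.adjoin F {s} ↔ ∃ α β : F, x = α • 1 + β • s := by
  refine ⟨fun hx => ?_, fun ⟨α, β, h⟩ => h ▸ add_smul_mem_adjoin s α β⟩
  induction hx using Algebra.adjoin_induction with
  | mem x hx => exact ⟨0, 1, by simpa using hx⟩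
  | algebraMap r => exact ⟨r, 0, by simp [Algebra.algebraMap_eq_smul_one]⟩
  | add x y _ _ hx hy =>
    obtain ⟨α, β, rfl⟩ := hx; obtain ⟨γ, δ, rfl⟩ := hy
    exact ⟨α + γ, β + δ, by module⟩
  | mul x y _ _ hx hy =>
    obtain ⟨α, β, rfl⟩ := hx; obtain ⟨γ, δ, rfl⟩ := hy
    exact ⟨α * γ + β * δ * b, α * δ + β * γ + β * δ * a, by
      simp only [add_mul, mul_add, smul_mul_assoc, mul_smul_comm, one_mul, mul_one, hs]; module⟩

theorem isFieldSubalgebra_adjoin [Nonempty ι] {s : Matrix ι ι F} {a b : F} (hs : s * s = a • s + b • 1)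
    (h : ∀ x : F, x * x ≠ a * x + b) : IsFieldSubalgebra 2 (Algebra.adjoin F {s}) := by
  have hne : ∀ α β : F, α • (1 : Matrix ι ι F) + β • s ≠ 0 → α * α + α * β * a - β * β * b ≠ 0 := fun α β h0 e => by
    by_cases hβ : β = 0
    · subst hβ
      simp only [mul_zero, zero_mul, add_zero, sub_zero, mul_self_eq_zero] at e
      simp [e] at h0
    · exact h (-α / β) (by field_simp; linear_combination e)
  refine ⟨isComm_adjoin s, fun x hx h0 => ?_, ?_⟩
  · obtain ⟨α, β, rfl⟩ := (mem_adjoin_iff hs).1 hx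
    refine ⟨(α * α + α * β * a - β * β * b)⁻¹ • ((α + β * a) • 1 + (-β) • s),
      Subalgebra.smul_mem _ (add_smul_mem_adjoin _ _ _) _, ?_⟩
    rw [mul_smul_comm, show (α • (1 : Matrix ι ι F) + β • s) * ((α + β * a) • 1 + (-β) • s) =
      (α * α + α * β * a - β * β * b) • 1 by
        simp only [add_mul, mul_add, smul_mul_assoc, mul_smul_comm, one_mul, mul_one, hs]; module,
      smul_smul, inv_mul_cancel₀ (hne _ _ h0), one_smul]
  · have h1 : LinearIndependent F ![(1 : Matrix ι ι F), s] := LinearIndependent.pair_iff.2 fun α β e => by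
      by_cases hβ : β = 0
      · exact ⟨by simpa [hβ] using e, hβ⟩
      have h2 : s = (-α / β) • 1 := by
        rw [div_eq_inv_mul, mul_smul, eq_inv_smul_iff₀ hβ, neg_smul, eq_neg_iff_add_eq_zero, add_comm, e]
      rw [h2, smul_mul_smul_comm, one_mul, smul_smul, ← add_smul] at hs
      exact absurd (smul_left_injective F one_ne_zero hs) (h _)
    have h2 : Subalgebra.toSubmodule (Algebra.adjoin F {s}) = Submodule.span F (Set.range ![1, s]) := by
      ext x
      rw [Subalgebra.mem_toSubmodule, mem_adjoin_iff hs, Matrix.range_cons_cons_empty, Submodule.mem_span_pair]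
      exact exists₂_congr fun _ _ => eq_comm
    rw [← Subalgebra.finrank_toSubmodule, h2, finrank_span_eq_card h1, Fintype.card_fin]

/-- a self-adjoint-closed quadratic field that is not self-adjoint has a skew generator (odd characteristic) -/
theorem IsFieldSubalgebra.exists_skew [Nonempty ι] (h2 : (2 : F) ≠ 0) {K : Subalgebra F (Matrix ι ι F)}
    (hK : IsFieldSubalgebra 2 K) {ε : F} {B : GL ι F} (hB : RF σ₀ ε B) (hs : StCl σ₀ B K)
    (h : ¬ ∀ k ∈ K, adj σ₀ B k = k) : ∃ s ∈ K, ∃ c : F, adj σ₀ B s = -s ∧ s * s = c • 1 ∧ ¬ IsSquare c ∧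
      ∀ g ∈ Sim σ₀ B.val, (∀ k ∈ K, cjm g k ∈ K) → cjm g s = s ∨ cjm g s = -s := by
  push Not at h
  obtain ⟨x, hx, hx'⟩ := h
  have hs1 : adj σ₀ B (x - adj σ₀ B x) = -(x - adj σ₀ B x) := by rw [adj_sub, hB.adj_adj, neg_sub]
  have hs2 := sub_mem hx (hs x hx)
  have hs3 : x - adj σ₀ B x ≠ 0 := sub_ne_zero.2 hx'.symm
  generalize x - adj σ₀ B x = s at hs1 hs2 hs3
  have sm : ∀ (c : F) x, adj σ₀ B (c • x) = c • adj σ₀ B x := adj_smul B
  have k2 : ∀ {y : Matrix ι ι F}, y = -y → y = 0 := fun h => by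
    rw [eq_neg_iff_add_eq_zero, ← two_smul F] at h; exact (smul_eq_zero.1 h).resolve_left h2
  have h1 : LinearIndependent F ![(1 : K), ⟨s, hs2⟩] := LinearIndependent.pair_iff.2 fun α β e => by
    have e : α • (1 : Matrix ι ι F) + β • s = 0 := congrArg Subtype.val e
    have e' := congrArg (adj σ₀ B) e
    rw [adj_add, sm, sm, adj_one, hs1, adj_zero, ← e, add_right_inj, smul_neg, eq_comm] at e'
    have hβ := (smul_eq_zero.1 (k2 e')).resolve_right hs3
    exact ⟨by simpa [hβ] using e, hβ⟩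
  have h3 : ∀ y ∈ K, ∃ α β : F, y = α • 1 + β • s := fun y hy => by
    have := (h1.span_eq_top_of_card_eq_finrank' (by rw [hK.finrank_eq]; rfl)).ge (Submodule.mem_top (x := ⟨y, hy⟩))
    rw [Matrix.range_cons_cons_empty, Submodule.mem_span_pair] at this
    obtain ⟨α, β, e⟩ := this
    exact ⟨α, β, (congrArg Subtype.val e).symm⟩
  obtain ⟨c, β, hc⟩ := h3 _ (mul_mem hs2 hs2)
  have h4 := congrArg (adj σ₀ B) hc
  rw [adj_mul, hs1, neg_mul_neg, adj_add, sm, sm, adj_one, hs1, hc, add_right_inj, smul_neg] at h4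
  rw [k2 h4, add_zero] at hc
  refine ⟨s, hs2, c, hs1, hc, fun ⟨d, hd⟩ => ?_, fun g hg hn => ?_⟩
  · have : (s - d • 1) * (s + d • 1) = 0 := by
      simp only [sub_mul, mul_add, smul_mul_assoc, mul_smul_comm, one_mul, mul_one, hc, hd]; module
    have h5 : IsSc s := (IsFieldSubalgebra.eq_zero_or hK (sub_mem hs2 (K.smul_mem K.one_mem _)) this).elim
      (fun h => ⟨d, sub_eq_zero.1 h⟩) fun h => ⟨-d, by rw [neg_smul, eq_neg_iff_add_eq_zero, h]⟩
    obtain ⟨l, rfl⟩ := h5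
    rw [sm, adj_one] at hs1
    exact hs3 (k2 hs1)
  · obtain ⟨α, β, e⟩ := h3 _ (hn s hs2)
    have h5 := adj_cjm (fun _ => rfl) hg s
    rw [hs1, map_neg, e, adj_add, sm, sm, adj_one, hs1, smul_neg, neg_add, add_left_inj] at h5
    rw [k2 h5, zero_add] at e
    have h6 := congrArg (cjm g) hc
    rw [map_mul, e, map_smul, map_one, smul_mul_smul_comm, ← hc, ← sub_eq_zero, ← one_smul F (s * s), smul_smul,
      ← sub_smul, smul_eq_zero, mul_one, sub_eq_zero, mul_self_eq_one_iff] at h6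
    rcases h6 with (rfl | rfl) | h6
    · exact .inl (by rw [e, one_smul])
    · exact .inr (by rw [e, neg_one_smul])
    · exact absurd ((IsFieldSubalgebra.eq_zero_or hK hs2 h6).elim id id) hs3

section O4

/-- the tensor square of the standard alternating form in dimension two -/
def JJ (F : Type*) [Field F] : GL (Fin 2 × Fin 2) F := kgl (J2 F) (J2 F)

theorem skew_JJ (h2 : (2 : F) ≠ 0) {s : Matrix (Fin 2 × Fin 2) (Fin 2 × Fin 2) F} (h : adj σ₀ (JJ F) s = -s) :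
    ∃ a b : Matrix (Fin 2) (Fin 2) F, a.trace = 0 ∧ b.trace = 0 ∧ s = kl (Fin 2) a + kr (Fin 2) b := by
  have k : ∀ p q, gf σ₀ (JJ F).val (s *ᵥ Pi.single p 1) (Pi.single q 1) =
      -gf σ₀ (JJ F).val (Pi.single p 1) (s *ᵥ Pi.single q 1) := fun p q => by
    rw [gf_adj (fun _ => rfl), h, neg_mulVec, gf_neg_right]
  simp [gf_eq_sum, Fintype.sum_prod_type, JJ, coe_kgl, J2, Pi.single_apply] at k
  obtain ⟨⟨⟨⟨k1, k2⟩, k3, k4⟩, ⟨k5, k6⟩, k7, k8⟩, ⟨⟨k9, k10⟩, k11, k12⟩, ⟨k13, k14⟩, k15, k16⟩ := k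
  refine ⟨!![(s (0,0) (0,0) + s (0,1) (0,1)) / 2, s (0,0) (1,0); s (1,0) (0,0), -((s (0,0) (0,0) + s (0,1) (0,1)) / 2)],
    !![(s (0,0) (0,0) - s (0,1) (0,1)) / 2, s (0,0) (0,1); s (0,1) (0,0), -((s (0,0) (0,0) - s (0,1) (0,1)) / 2)],
    by simp [trace_fin_two], by simp [trace_fin_two], ?_⟩
  ext ⟨i, k⟩ ⟨j, l⟩
  fin_cases i <;> fin_cases j <;> fin_cases k <;> fin_cases l <;> simp [kl_apply, kr_apply] <;> grind

theorem sq_of_trace_zero {a : Matrix (Fin 2) (Fin 2) F} (h : a.trace = 0) : a * a = (-a.det) • 1 := by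
  rw [trace_fin_two] at h
  ext i j
  fin_cases i <;> fin_cases j <;> simp [mul_apply, det_fin_two] <;> grind

theorem skew_JJ_cases (h2 : (2 : F) ≠ 0) {s : Matrix (Fin 2 × Fin 2) (Fin 2 × Fin 2) F} (h : adj σ₀ (JJ F) s = -s)
    (hs : IsSc (s * s)) : ∃ a, s = kl (Fin 2) a ∨ s = kr (Fin 2) a := by
  obtain ⟨a, b, ha, hb, rfl⟩ := skew_JJ h2 h
  by_cases ha0 : a = 0
  · exact ⟨b, .inr (by simp [ha0])⟩
  by_cases hb0 : b = 0
  · exact ⟨a, .inl (by simp [hb0])⟩
  obtain ⟨c, hc⟩ := hs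
  rw [add_mul, mul_add, mul_add, ← map_mul, ← map_mul, sq_of_trace_zero ha, sq_of_trace_zero hb, kl_mul_kr,
    kr_mul_kl, map_smul, map_smul, map_one, map_one] at hc
  have : a ⊗ₖ b = ((c + a.det + b.det) / 2) • (1 : Matrix (Fin 2) (Fin 2) F) ⊗ₖ (1 : Matrix (Fin 2) (Fin 2) F) := by
    rw [one_kronecker_one, div_eq_inv_mul, mul_smul, eq_inv_smul_iff₀ h2, add_smul, add_smul, ← hc]; module
  obtain ⟨α, β, rfl, -⟩ := kron_eq ha0 hb0 this
  simp [h2] at ha
  simp [ha] at ha0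

theorem adj_J2 {a : Matrix (Fin 2) (Fin 2) F} (h : a.trace = 0) : adj σ₀ (J2 F) a = -a :=
  eq_adj (fun _ => rfl) fun u v => by
    rw [trace_fin_two] at h
    simp [gf_eq_sum, J2, mulVec, dotProduct]
    grind

/-- interchange of the two tensor factors -/
def sw (κ : Type) [Fintype κ] [DecidableEq κ] (F : Type*) [Field F] : GL (κ × κ) F := pmg F (Equiv.prodComm κ κ)

theorem sw_mul_sw {κ : Type} [Fintype κ] [DecidableEq κ] : sw κ F * sw κ F = 1 := by
  rw [sw, ← map_mul]; exact map_one _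

theorem cjm_sw {κ : Type} [Fintype κ] [DecidableEq κ] (a b : Matrix κ κ F) :
    cjm (sw κ F) (a ⊗ₖ b) = b ⊗ₖ a := cjm_eq_iff.2 (by
  ext ⟨i, j⟩ ⟨k, l⟩
  simp [mul_apply, sw, pmg_apply, Fintype.sum_prod_type, ite_and, mul_comm])

theorem sw_mul_kgl {κ : Type} [Fintype κ] [DecidableEq κ] (a b : GL κ F) :
    sw κ F * kgl a b = kgl b a * sw κ F := Units.ext (cjm_eq_iff.1 (cjm_sw _ _))

theorem exists_kgl_of_Sim_JJ (h2 : (2 : F) ≠ 0) {g : GL (Fin 2 × Fin 2) F} (hg : g ∈ Sim σ₀ (JJ F).val) :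
    ∃ x y, g = kgl x y ∨ g = sw _ F * kgl x y := by
  have k1 : ∀ a, cjm g (kl (Fin 2) a) ∈ (kl (F := F) (κ₁ := Fin 2) (Fin 2)).range ∨
      cjm g (kl (Fin 2) a) ∈ (kr (F := F) (κ₂ := Fin 2) (Fin 2)).range := fun a => by
    have h0 : (a - (a.trace / 2) • 1).trace = 0 := by simp [h2]
    obtain ⟨b, hb⟩ := skew_JJ_cases h2 (s := cjm g (kl (Fin 2) (a - (a.trace / 2) • 1)))
      (by rw [adj_cjm (fun _ => rfl) hg, JJ, adj_kgl_kl, adj_J2 h0, map_neg, map_neg])
      ⟨_, by rw [← map_mul, ← map_mul, sq_of_trace_zero h0, map_smul, map_smul, map_one, map_one]⟩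
    rw [map_sub, map_sub, map_smul, map_smul, map_one, map_one, sub_eq_iff_eq_add, sub_eq_iff_eq_add] at hb
    refine hb.imp (fun h => ?_) fun h => ?_ <;> rw [h] <;>
      exact add_mem ⟨b, rfl⟩ (Subalgebra.smul_mem _ (one_mem _) _)
  by_cases h : ∀ a, cjm g (kl (Fin 2) a) ∈ (kl (F := F) (κ₁ := Fin 2) (Fin 2)).range
  · obtain ⟨x, y, h⟩ := exists_kgl h
    exact ⟨x, y, .inl h⟩
  push Not at h
  obtain ⟨a, ha⟩ := h
  obtain ⟨x, y, h⟩ := exists_kgl (g := sw _ F * g) fun b => by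
    have : cjm g (kl (Fin 2) b) ∈ (kr (F := F) (κ₂ := Fin 2) (Fin 2)).range := by
      refine (k1 b).elim (fun h => ?_) id
      have h1 := k1 (a + b)
      rw [map_add, map_add] at h1
      exact h1.elim (fun h1 => absurd (by simpa using sub_mem h1 h) ha)
        fun h1 => by simpa using sub_mem h1 ((k1 a).resolve_left ha)
    obtain ⟨c, hc⟩ := this
    exact ⟨c, by rw [cjm_mul, ← hc]; exact (cjm_sw _ _).symm⟩
  exact ⟨x, y, .inr (by rw [← h, ← mul_assoc, sw_mul_sw, one_mul])⟩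

theorem rf_JJ : RF σ₀ 1 (JJ F) := by simpa [JJ] using alt_J2.rf.kgl_of (alt_J2 (F := F)).rf

theorem QF.exists_pb_JJ [Finite F] (h2 : (2 : F) ≠ 0) {Q : (ι → F) → F} {B : GL ι F} (hB : QF Q B.val)
    (h : IsPlusTypeOn Q ⊤) (e : ι ≃ Fin 2 × Fin 2) : ∃ P, Pb σ₀ B.val e P (JJ F).val := by
  obtain ⟨Q', hQ', h0⟩ := exists_qf_kron (alt_J2 (F := F)) (alt_J2 (F := F))
  have h1 : QF Q' (JJ F).val := hQ'
  obtain ⟨P, hP, -⟩ := hB.exists_pb h1 ((hB.isType_of_plus (m := 2) (by simp [Fintype.card_congr e])).1 h)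
    ((h1.isType_of_plus (by simp)).1 ⟨LinearMap.range (blkL 0), le_top, by rintro _ ⟨x, rfl⟩; exact h0 _ _, by
      rw [LinearMap.finrank_range_of_inj (f := blkL 0) (blk_injective 0)]; simp⟩) e
  exact ⟨P, hP⟩

end O4

theorem eq_zero_of_eq_neg (h2 : (2 : F) ≠ 0) {M : Type*} [AddCommGroup M] [Module F M] {y : M} (h : y = -y) :
    y = 0 := by
  rw [eq_neg_iff_add_eq_zero, ← two_smul F] at h; exact (smul_eq_zero.1 h).resolve_left h2

theorem gl_ne_neg [Nonempty ι] (h2 : (2 : F) ≠ 0) (x : GL ι F) : x ≠ -x := fun h =>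
  gl_ne_zero x (eq_zero_of_eq_neg h2 (congrArg Units.val h))

theorem alg_eq_top_of_anti (hι : Fintype.card ι = 2) (h2 : (2 : F) ≠ 0) {N : Subgroup (GL ι F)} {a y : GL ι F}
    (ha : a ∈ N) (hy : y ∈ N) (h : y * a = -(a * y)) : alg N = ⊤ := by
  haveI : Nonempty ι := Fintype.card_pos_iff.1 (by omega)
  have k : ∀ α β : F, α • (1 : Matrix ι ι F) + β • a.val = 0 → α = 0 ∧ β = 0 := fun α β e => by
    have e' := congrArg (cjm y) e
    rw [map_add, map_smul, map_smul, map_one, cjm_coe, h, neg_mul, mul_inv_cancel_right, map_zero, ← e,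
      add_right_inj, Units.val_neg, smul_neg, eq_comm] at e'
    have hβ := (smul_eq_zero.1 (eq_zero_of_eq_neg h2 e')).resolve_right (gl_ne_zero a)
    exact ⟨by simpa [hβ] using e, hβ⟩
  have h1 : LinearIndependent F ![(1 : Matrix ι ι F), a.val, y.val, (a * y).val] :=
    Fintype.linearIndependent_iff.2 fun c e => by
      have h3 : a * y * a⁻¹ = -y := by rw [mul_inv_eq_iff_eq_mul, neg_mul, h, neg_neg]
      simp only [Fin.sum_univ_four, cons_val_zero, cons_val_one, cons_val] at e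
      have e' := congrArg (cjm a) e
      rw [map_add, map_add, map_add, map_smul, map_smul, map_smul, map_smul, map_one, cjm_coe, cjm_coe, cjm_coe,
        mul_inv_cancel_right, h3, mul_assoc, h3, map_zero, mul_neg, Units.val_neg, Units.val_neg] at e'
      have e1 := k (c 0) (c 1) (eq_zero_of_eq_neg h2 (by linear_combination (norm := module) e + e'))
      have e2 : (c 2 • (1 : Matrix ι ι F) + c 3 • a.val) * y.val = 0 := by
        rw [add_mul, smul_mul_assoc, smul_mul_assoc, one_mul, ← Units.val_mul]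
        exact eq_zero_of_eq_neg h2 (by linear_combination (norm := module) e - e')
      have e2 := k _ _ ((Units.mul_left_eq_zero y).1 e2)
      intro i; fin_cases i; exacts [e1.1, e1.2, e2.1, e2.2]
  have h3 := h1.span_eq_top_of_card_eq_finrank' (by simp [finrank_matrix, hι])
  refine eq_top_iff.2 fun x _ => Submodule.span_le.2 ?_ (h3.ge (Submodule.mem_top (x := x)))
  rintro _ ⟨i, rfl⟩
  fin_cases i
  exacts [(alg N).one_mem, coe_mem_alg ha, coe_mem_alg hy, coe_mem_alg (N.mul_mem ha hy)]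

theorem comm_or_anti {R : Subgroup (GL ι F)} (hs : ∀ x ∈ R, x * x = 1 ∨ x * x = -1) :
    ∀ x ∈ R, ∀ y ∈ R, y * x = x * y ∨ y * x = -(x * y) := fun x hx y hy => by
  have hinv : ∀ x ∈ R, x⁻¹ = x ∨ x⁻¹ = -x := fun x hx => (hs x hx).imp
    (fun h => inv_eq_of_mul_eq_one_right h) fun h => inv_eq_of_mul_eq_one_right (by rw [mul_neg, h, neg_neg])
  have h3 := hinv _ (R.mul_mem hx hy)
  rw [_root_.mul_inv_rev] at h3
  rcases hinv x hx with h1 | h1 <;> rcases hinv y hy with h2 | h2 <;> rw [h1, h2] at h3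
  · exact h3
  all_goals simp only [mul_neg, neg_mul, neg_neg, neg_eq_iff_eq_neg] at h3; tauto

/-- A spanning group whose squares are `± 1` and which contains a quaternion group is of symplectic type. -/
theorem xr_of_quat [Finite F] {R : Subgroup (GL ι F)} (h2 : (2 : F) ≠ 0)
    (hR : alg R = ⊤) (hs : ∀ x ∈ R, x * x = 1 ∨ x * x = -1) {i j : GL ι F} (hi : i ∈ R) (hj : j ∈ R)
    (hii : i * i = -1) (hjj : j * j = -1) (hij : j * i = -(i * j)) (hι : 2 ≤ Fintype.card ι) :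
    XR (subgroupNormalizer R) R 2 := by
  haveI : Nonempty ι := Fintype.card_pos_iff.1 (by omega)
  have hc := comm_or_anti hs
  refine ⟨hι, Nat.prime_two, hR, le_rfl, fun x hx y hy => ?_, fun x hx => ?_, fun A hA hn hab a ha => ?_⟩
  · rcases hc y hy x hx with h | h
    · rw [commutatorElement_def, h]; simp
    · rw [commutatorElement_def, h, show -(y * x) * x⁻¹ * y⁻¹ = -1 by simp [mul_assoc], ← scal_neg_one]
      exact scal_mem _
  · rw [show x ^ (2 * Nat.gcd 2 2) = x * x * (x * x) by simp [pow_succ, mul_assoc]]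
    rcases hs x hx with h | h <;> simp [h]
  refine mem_scalars.2 (isSc_of_alg_top hR fun y hy => ?_)
  refine ((hc y hy a (hA ha)).elim (congrArg Units.val) fun h => ?_)
  obtain ⟨u, hu, hu1, hu2⟩ : ∃ u ∈ R, u * u = -1 ∧ a * u = -(u * a) := by
    rcases hc i hi a (hA ha) with h1 | h1
    swap; · exact ⟨i, hi, hii, h1⟩
    rcases hc j hj a (hA ha) with h3 | h3
    swap; · exact ⟨j, hj, hjj, h3⟩
    rcases hs y hy with h4 | h4
    swap; · exact ⟨y, hy, h4, h⟩
    have key : ∀ w ∈ R, w * w = -1 → a * w = w * a → w * y = y * w → ∃ u ∈ R, u * u = -1 ∧ a * u = -(u * a) :=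
      fun w hw k1 k2 k3 => ⟨y * w, R.mul_mem hy hw, by
        rw [mul_assoc, ← mul_assoc w, k3, mul_assoc, k1, ← mul_assoc, h4, one_mul], by
        rw [← mul_assoc, h, neg_mul, mul_assoc, k2, mul_assoc]⟩
    rcases hc y hy i hi with h5 | h5
    · exact key i hi hii h1 h5
    rcases hc y hy j hj with h6 | h6
    · exact key j hj hjj h3 h6
    exact key (i * j) (R.mul_mem hi hj)
      (by rw [mul_assoc, ← mul_assoc j, hij, neg_mul, mul_assoc, hjj, mul_neg_one, neg_neg, hii])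
      (by rw [← mul_assoc, h1, mul_assoc, h3, mul_assoc])
      (by rw [mul_assoc, h6, mul_neg, ← mul_assoc, h5, neg_mul, neg_neg, mul_assoc])
  have hu1' : u.val * u.val = -1 := congrArg Units.val hu1
  let w : GL ι F := ⟨1 + u.val, (2 : F)⁻¹ • (1 - u.val), by
    rw [Matrix.mul_smul, show (1 + u.val) * (1 - u.val) = (2 : F) • 1 by
      rw [two_smul, add_mul, mul_sub, mul_sub, hu1']; simp only [one_mul, mul_one]; abel, smul_smul,
      inv_mul_cancel₀ h2, one_smul], by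
    rw [Matrix.smul_mul, show (1 - u.val) * (1 + u.val) = (2 : F) • 1 by
      rw [two_smul, sub_mul, mul_add, mul_add, hu1']; simp only [one_mul, mul_one]; abel, smul_smul,
      inv_mul_cancel₀ h2, one_smul]⟩
  have k1 : ∀ x : GL ι F, x * u = u * x → w * x * w⁻¹ = x := fun x h => by
    have h := congrArg Units.val h
    rw [mul_inv_eq_iff_eq_mul]
    refine Units.ext ?_
    simp only [Units.val_mul, w, add_mul, mul_add] at h ⊢
    rw [h, one_mul, mul_one]
  have k2 : ∀ x : GL ι F, x * u = -(u * x) → w * x * w⁻¹ = u * x := fun x h => by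
    have h := congrArg Units.val h
    rw [mul_inv_eq_iff_eq_mul]
    refine Units.ext ?_
    simp only [Units.val_mul, Units.val_neg, w, add_mul, mul_add] at h ⊢
    rw [one_mul, mul_one, mul_assoc u.val, h, mul_neg, ← mul_assoc, hu1', add_comm]; simp
  have hw : w ∈ subgroupNormalizer R := by
    refine Subgroup.mem_normalizer_fintype fun x hx => ?_
    rcases hc u hu x hx with h | h
    · rwa [k1 x h]
    · rw [k2 x h]; exact R.mul_mem hu hx
  have h3 := (Subgroup.mem_normalizer_iff.1 (hn hw) a).1 ha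
  rw [k2 a hu2] at h3
  have h4 := hab _ h3 a ha
  rw [← mul_assoc, mul_left_inj, hu2] at h4
  exact (gl_ne_neg h2 _ h4).elim

theorem XR.center_eq_two [Finite F] {G R : Subgroup (GL ι F)} (h : XR G R 2) {B : GL ι F}
    (hB : R ≤ Iso σ₀ B.val) : Nat.card (Subgroup.center R) = 2 := h.center_two.resolve_right fun e => by
  haveI := h.nonempty
  haveI := h.isCyclic_center
  have : Monoid.exponent (Subgroup.center R) ∣ 2 :=
    Monoid.exponent_dvd_of_forall_pow_eq_one fun x => by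
      obtain ⟨c, hc⟩ := exists_scal ((center_eq_of_top h.top).le x.2)
      refine Subtype.ext (Subtype.ext ?_)
      change x.1.1 ^ 2 = 1
      have : scal ι c = x.1.1 := hc
      rw [← this, ← map_pow, sq, show c * c = 1 from Units.ext (scal_mem_Iso.1 (this ▸ hB x.1.2)), map_one]
  rw [IsCyclic.exponent_eq_card, e] at this
  omega

section Pgrp
variable {κ : Type} [Fintype κ] [DecidableEq κ] {t : ℕ}

/-- tensor product of matrix groups -/
def pgrp (R : Fin t → Subgroup (GL κ F)) : Subgroup (GL (Fin t → κ) F) where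
  carrier := {g | ∃ b, (∀ i, b i ∈ R i) ∧ g = pgl b}
  one_mem' := ⟨1, fun _ => one_mem _, pgl_one.symm⟩
  mul_mem' := by
    rintro _ _ ⟨a, ha, rfl⟩ ⟨b, hb, rfl⟩
    exact ⟨_, fun i => mul_mem (ha i) (hb i), pgl_mul _ _⟩
  inv_mem' := by
    rintro _ ⟨a, ha, rfl⟩
    exact ⟨_, fun i => inv_mem (ha i), pgl_inv _⟩

theorem pt_mem {A : Subalgebra F (Matrix (Fin t → κ) (Fin t → κ) F)} {a : Fin t → Matrix κ κ F}
    (h : ∀ i, emb i (a i) ∈ A) : pt a ∈ A := by
  have key : ∀ s : Finset (Fin t), pt (s.piecewise a 1) ∈ A := by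
    intro s
    induction s using Finset.induction_on with
    | empty => simp [pt_one]
    | insert i s hi ih =>
      have : pt ((insert i s).piecewise a 1) = emb i (a i) * pt (s.piecewise a 1) := by
        rw [emb_apply, pt_mul]
        congr 1
        ext j : 1
        by_cases hj : j = i
        · subst hj; simp [Finset.piecewise_eq_of_notMem _ _ _ hi]
        · simp [Finset.piecewise_insert_of_ne _ _ _ hj, Function.update_of_ne hj]
      exact this ▸ mul_mem (h i) ih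
  simpa using key Finset.univ

theorem coe_pgl_update (i : Fin t) (a : GL κ F) : (pgl (Function.update 1 i a)).val = emb i a.val := by
  rw [coe_pgl, emb_apply]
  congr 1; ext j : 1
  by_cases h : j = i
  · subst h; simp
  · simp [h]

theorem update_mem_pgrp {R : Fin t → Subgroup (GL κ F)} {i : Fin t} {a : GL κ F} (h : a ∈ R i) :
    pgl (Function.update 1 i a) ∈ pgrp R := ⟨_, fun j => by
  by_cases e : j = i
  · subst e; simpa using h
  · simp [e], rfl⟩

theorem alg_pgrp {R : Fin t → Subgroup (GL κ F)} (h : ∀ i, alg (R i) = ⊤) : alg (pgrp R) = ⊤ :=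
  alg_eq_top_of_single fun x y => by
    rw [← pt_single]
    refine pt_mem fun i => alg_induction (N := R i) (p := fun a => emb i a ∈ alg (pgrp R))
      (fun g hg => coe_pgl_update i g ▸ coe_mem_alg (update_mem_pgrp hg)) (by simp) (fun x y hx hy => ?_)
      (fun c x hx => ?_) (h i ▸ Algebra.mem_top)
    · rw [map_add]; exact add_mem hx hy
    · rw [map_smul]; exact Subalgebra.smul_mem _ hx c

theorem pgrp_sq {R : Fin t → Subgroup (GL κ F)} (h : ∀ i, ∀ x ∈ R i, x * x = 1 ∨ x * x = -1) :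
    ∀ x ∈ pgrp R, x * x = 1 ∨ x * x = -1 := by
  rintro _ ⟨b, hb, rfl⟩
  have : ∀ i, ∃ c : F, c * c = 1 ∧ (b i * b i).val = c • 1 := fun i => (h i _ (hb i)).elim
    (fun e => ⟨1, by simp, by simp [e]⟩) fun e => ⟨-1, by simp, by simp [e]⟩
  choose c h1 h2 using this
  have h3 : (pgl b * pgl b).val = (∏ i, c i) • 1 := by
    rw [pgl_mul, coe_pgl, ← pt_one, ← pt_smul]; exact congrArg _ (funext h2)
  have h4 : (∏ i, c i) * ∏ i, c i = 1 := by simp [← Finset.prod_mul_distrib, h1]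
  exact (mul_self_eq_one_iff.1 h4).imp (fun e => Units.ext (by simp [h3, e])) fun e => Units.ext (by simp [h3, e])

theorem pgl_mem_Iso {B : Fin t → Matrix κ κ F} {b : Fin t → GL κ F} (h : ∀ i, b i ∈ Iso σ (B i)) :
    pgl b ∈ Iso σ (pt B) := mem_Iso.2 (by
  rw [coe_pgl, pt_pb]; exact congrArg _ (funext fun i => mem_Iso.1 (h i)))

theorem pgl_mem_normalizer [Finite F] {R : Fin t → Subgroup (GL κ F)} {b : Fin t → GL κ F}
    (h : ∀ i, b i ∈ subgroupNormalizer (R i)) : pgl b ∈ subgroupNormalizer (pgrp R) :=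
  Subgroup.mem_normalizer_fintype (by
    rintro _ ⟨a, ha, rfl⟩
    exact ⟨_, fun i => (Subgroup.mem_normalizer_iff.1 (h i) _).1 (ha i), by rw [pgl_inv, pgl_mul, pgl_mul]; rfl⟩)

theorem fgl_mem_normalizer [Finite F] (R : Subgroup (GL κ F)) (π : Equiv.Perm (Fin t)) :
    fgl κ F π ∈ subgroupNormalizer (pgrp fun _ => R) :=
  Subgroup.mem_normalizer_fintype (by
    rintro _ ⟨a, ha, rfl⟩
    exact ⟨a ∘ π.symm, fun i => ha _, by rw [fgl_mul_pgl, mul_inv_cancel_right]⟩)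

end Pgrp

section Three
variable [Fintype F]

theorem exists_map_three (h : Fintype.card F = 3) :
    ∃ Φ : Matrix (Fin 2) (Fin 2) (ZMod 3) ≃+* Matrix (Fin 2) (Fin 2) F, (∀ x, (Φ x).det = 1 ↔ x.det = 1) ∧
      (∀ x, (Φ x)ᵀ = Φ xᵀ) ∧ Φ !![0, 1; -1, 0] = (J2 F).val := by
  let φ := ZMod.ringEquivOfPrime F Nat.prime_three h
  refine ⟨φ.mapMatrix, fun x => ?_, fun _ => rfl, ?_⟩
  · exact (congrArg (· = 1) (φ.map_det x)).to_iff.symm.trans (map_eq_one_iff φ φ.injective)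
  · ext i j; fin_cases i <;> fin_cases j <;> simp [J2]

theorem q8_aux : ∀ x y : Matrix (Fin 2) (Fin 2) (ZMod 3), x.det = 1 → (x * x = 1 ∨ x * x = -1) → y.det = 1 →
    (y * y = 1 ∨ y * y = -1) → x * y * (x * y) = 1 ∨ x * y * (x * y) = -1 := by decide +kernel

theorem d8_aux : ∀ a : Matrix (Fin 2) (Fin 2) (ZMod 3), a * a = -1 →
    (aᵀ * (aᵀ * !![0, 1; -1, 0]) * a = aᵀ * !![0, 1; -1, 0]) ∧
    (∀ y, yᵀ * (aᵀ * !![0, 1; -1, 0]) * y = aᵀ * !![0, 1; -1, 0] → y * y = 1 ∨ y * y = -1) ∧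
    ∃ y, yᵀ * (aᵀ * !![0, 1; -1, 0]) * y = aᵀ * !![0, 1; -1, 0] ∧ y * a = -(a * y) ∧ y * y = 1 := by
  decide +kernel

/-- the quaternion group in `GL₂(3)` -/
def Q8 (h : Fintype.card F = 3) : Subgroup (GL (Fin 2) F) where
  carrier := {x | x.val.det = 1 ∧ (x * x = 1 ∨ x * x = -1)}
  one_mem' := by simp
  mul_mem' := fun {x y} hx hy => ⟨by simp [hx.1, hy.1], by
    obtain ⟨Φ, h1, -⟩ := exists_map_three h
    obtain ⟨a, ha⟩ := Φ.surjective x.val
    obtain ⟨b, hb⟩ := Φ.surjective y.val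
    have key : ∀ {z : GL (Fin 2) F} {c}, Φ c = z.val → ((z * z = 1 ∨ z * z = -1) ↔ (c * c = 1 ∨ c * c = -1)) :=
      fun hc => by simp only [Units.ext_iff, Units.val_mul, ← hc, Units.val_neg, Units.val_one, ← map_mul,
        ← map_one Φ, ← map_neg, Φ.injective.eq_iff]
    exact (key (by rw [map_mul, ha, hb]; rfl)).2 (q8_aux a b ((h1 _).1 (ha ▸ hx.1)) ((key ha).1 hx.2)
      ((h1 _).1 (hb ▸ hy.1)) ((key hb).1 hy.2))⟩
  inv_mem' := fun {x} hx => ⟨by simp [hx.1], by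
    rw [← _root_.mul_inv_rev]; exact hx.2.imp (fun h => by simp [h]) fun h => by simp [h]⟩

theorem Q8_le_Iso (h : Fintype.card F = 3) : Q8 h ≤ Iso σ₀ (J2 F).val := fun x hx =>
  mem_Iso.2 (by rw [map_σ₀, pb_J2, hx.1, one_smul])

theorem mem_normalizer_Q8 (h : Fintype.card F = 3) (g : GL (Fin 2) F) : g ∈ subgroupNormalizer (Q8 h) :=
  Subgroup.mem_normalizer_fintype fun x hx => ⟨(det_units_conj g x.val).trans hx.1, by
    rw [conj_mul]; exact hx.2.imp (fun h => by simp [h]) fun h => by simp [h]⟩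

theorem two_ne_of_three (h : Fintype.card F = 3) : (2 : F) ≠ 0 := two_ne_zero_iff_odd.2 (by rw [h]; decide)

theorem exists_Q8 (h : Fintype.card F = 3) : ∃ i ∈ Q8 h, ∃ j ∈ Q8 h, i * i = -1 ∧ j * j = -1 ∧ j * i = -(i * j) := by
  have h3 : (3 : F) = 0 := three_ne_of_card h
  have hd : (!![1, 1; 1, -1] : Matrix (Fin 2) (Fin 2) F).det = 1 := by simp; linear_combination -h3
  have h1 : J2 F * J2 F = -1 := Units.ext (by ext i j; fin_cases i <;> fin_cases j <;> simp [J2])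
  let j := GeneralLinearGroup.mkOfDetNeZero _ (hd.trans_ne one_ne_zero)
  have h2 : j * j = -1 := Units.ext (by
    ext a b; fin_cases a <;> fin_cases b <;> simp [j] <;> linear_combination h3)
  exact ⟨J2 F, ⟨by simp [J2], .inr h1⟩, j, ⟨hd, .inr h2⟩, h1, h2,
    Units.ext (by ext a b; fin_cases a <;> fin_cases b <;> simp [j, J2])⟩

theorem alg_Q8 (h : Fintype.card F = 3) : alg (Q8 h) = ⊤ := by
  obtain ⟨i, hi, j, hj, -, -, h1⟩ := exists_Q8 h
  exact alg_eq_top_of_anti (by simp) (two_ne_of_three h) hi hj h1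

theorem exists_D8 (h : Fintype.card F = 3) {a : GL (Fin 2) F} (ha : a * a = -1) :
    alg (Iso σ₀ (a.valᵀ * (J2 F).val)) = ⊤ ∧ ∀ y ∈ Iso σ₀ (a.valᵀ * (J2 F).val), y * y = 1 ∨ y * y = -1 := by
  obtain ⟨Φ, -, h1, h2⟩ := exists_map_three h
  obtain ⟨b, hb⟩ := Φ.surjective a.val
  have key : ∀ {z : GL (Fin 2) F} {c}, Φ c = z.val → (z ∈ Iso σ₀ (a.valᵀ * (J2 F).val) ↔
      cᵀ * (bᵀ * !![0, 1; -1, 0]) * c = bᵀ * !![0, 1; -1, 0]) := fun hc => by
    simp only [mem_Iso, map_σ₀, ← hc, ← hb, ← h2, h1, ← map_mul, Φ.injective.eq_iff]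
  obtain ⟨k1, k2, y, k3, k4, k5⟩ := d8_aux b (Φ.injective (by
    rw [map_mul, hb, map_neg, map_one]; exact congrArg Units.val ha))
  have k6 : Φ y * Φ y = 1 := by rw [← map_mul, k5, map_one]
  refine ⟨alg_eq_top_of_anti (by simp) (two_ne_of_three h) ((key hb).2 k1) (y := ⟨Φ y, Φ y, k6, k6⟩)
    ((key rfl).2 k3) (Units.ext ?_), fun z hz => ?_⟩
  · change Φ y * a.val = -(a.val * Φ y)
    rw [← hb, ← map_mul, k4, map_neg, map_mul]
  · obtain ⟨c, hc⟩ := Φ.surjective z.val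
    simpa only [Units.ext_iff, Units.val_mul, ← hc, Units.val_neg, Units.val_one, ← map_mul,
      ← map_one Φ, ← map_neg, Φ.injective.eq_iff] using k2 c ((key hc).1 hz)

/-- tensor products with a quaternion factor -/
theorem xr_pgrp (h : Fintype.card F = 3) {t : ℕ} {R : Fin t → Subgroup (GL (Fin 2) F)} (h1 : ∀ i, alg (R i) = ⊤)
    (h2 : ∀ i, ∀ x ∈ R i, x * x = 1 ∨ x * x = -1) {i₀ : Fin t} (h3 : R i₀ = Q8 h) (e : ι ≃ (Fin t → Fin 2))
    (P : GL ι F) : XR (subgroupNormalizer ((pgrp R).map (trg e P).toMonoidHom))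
      ((pgrp R).map (trg e P).toMonoidHom) 2 := by
  obtain ⟨i, hi, j, hj, k1, k2, k3⟩ := exists_Q8 h
  let φ : Matrix (Fin 2) (Fin 2) F →ₐ[F] Matrix ι ι F := (trm e P).toAlgHom.comp (emb i₀)
  have key : ∀ a, (trg e P (pgl (Function.update 1 i₀ a))).val = φ a.val := fun a => by
    rw [coe_trg, coe_pgl_update]; rfl
  refine xr_of_quat (two_ne_of_three h) (alg_map_trg e P (alg_pgrp h1)) ?_
    ⟨_, update_mem_pgrp (h3 ▸ hi), rfl⟩ ⟨_, update_mem_pgrp (h3 ▸ hj), rfl⟩ (Units.ext ?_) (Units.ext ?_)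
    (Units.ext ?_) ?_
  · rintro _ ⟨x, hx, rfl⟩
    refine (pgrp_sq h2 x hx).imp (fun h => ?_) fun h => ?_
    · rw [← map_mul, h, map_one]
    · rw [← map_mul, h, ← scal_neg_one, ← scal_neg_one]; exact trg_scal e P _
  · simp only [MulEquiv.coe_toMonoidHom, Units.val_mul, key]
    rw [← map_mul, ← Units.val_mul, k1]; simp
  · simp only [MulEquiv.coe_toMonoidHom, Units.val_mul, key]
    rw [← map_mul, ← Units.val_mul, k2]; simp
  · simp only [MulEquiv.coe_toMonoidHom, Units.val_mul, Units.val_neg, key]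
    rw [← map_mul, ← Units.val_mul, k3]; simp
  · rw [Fintype.card_congr e, Fintype.card_fun, Fintype.card_fin, Fintype.card_fin]
    exact Nat.le_self_pow (Fin.pos i₀).ne' 2

end Three

end Cfsg.Agent.Classical.Asch
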