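import Cfsg.Agent.Lib.Classical.Asch17

/-!
Maximal subgroups of the symplectic groups.
-/

set_option autoImplicit false

namespace Cfsg.Agent.Classical.Asch
open Matrix Cfsg.Geo Module Cfsg.Agent.Comp
open scoped MatrixGroups Kronecker commutatorElement

variable {ι : Type} [Fintype ι] [DecidableEq ι] {F : Type*} [Field F] {σ : F →+* F}

local notation "Z" => scalars ι F
local notation "σ₀" => RingHom.id F

section Coords
variable {κ : Type} [Fintype κ] [DecidableEq κ]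

theorem mul_iff_gf {B g : Matrix ι ι F} {c : F} :
    gᵀ * B * g.map σ = c • B ↔ ∀ u v, gf σ B (g *ᵥ u) (g *ᵥ v) = c * gf σ B u v :=
  ⟨fun h u v => by rw [gf_mulVec, h, gf_smul], fun h => gf_ext fun u v => by rw [← gf_mulVec, h, gf_smul]⟩

theorem Pb.mul_iff' {e : ι ≃ κ} {P : GL ι F} {B : Matrix ι ι F} {C : Matrix κ κ F} (h : Pb σ B e P C)
    {g : GL κ F} {c : F} : (trg e P g).valᵀ * B * (trg e P g).val.map σ = c • B ↔
      g.valᵀ * C * g.val.map σ = c • C := by rw [mul_iff_gf, mul_iff_gf]; exact h.mul_iff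

theorem trg_mem_isom {e : ι ≃ κ} {P : GL ι F} {Q : (ι → F) → F} {Q' : (κ → F) → F}
    (h : ∀ x, Q (trv e P x) = Q' x) {g : GL κ F} :
    trg e P g ∈ Cfsg.isometryGroup F Q ↔ g ∈ Cfsg.isometryGroup F Q' := by
  rw [mem_isometryGroup, mem_isometryGroup, (trv e P).surjective.forall]
  simp only [trg_mulVec, h]

theorem trg_neg (e : ι ≃ κ) (P : GL ι F) (g : GL κ F) : trg e P (-g) = -trg e P g :=
  Units.ext (map_neg (trm e P) g.val)

variable {κ₁ κ₂ κ₁' κ₂' : Type} [Fintype κ₁] [DecidableEq κ₁] [Fintype κ₂] [DecidableEq κ₂]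
  [Fintype κ₁'] [DecidableEq κ₁'] [Fintype κ₂'] [DecidableEq κ₂']

theorem ext_ktv {x y : Matrix ι (κ₁ × κ₂) F} (h : ∀ u v, x *ᵥ ktv u v = y *ᵥ ktv u v) : x = y := by
  ext i p
  have := congrFun (h (Pi.single p.1 1) (Pi.single p.2 1)) i
  rwa [← single_eq_ktv, mulVec_single_one, mulVec_single_one] at this

theorem exists_kron_coord (e : ι ≃ κ₁ × κ₂) (P : GL ι F) (e₁ : κ₁ ≃ κ₁') (P₁ : GL κ₁ F) (e₂ : κ₂ ≃ κ₂')
    (P₂ : GL κ₂ F) : ∃ (e' : ι ≃ κ₁' × κ₂') (P' : GL ι F),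
      (∀ x y, trv e' P' (ktv x y) = trv e P (ktv (trv e₁ P₁ x) (trv e₂ P₂ y))) ∧
      (∀ a b, trg e' P' (kgl a b) = trg e P (kgl (trg e₁ P₁ a) (trg e₂ P₂ b))) ∧
      ∀ {σ : F →+* F} {B B₁ B₂ C₁ C₂}, Pb σ B e P (B₁ ⊗ₖ B₂) → Pb σ B₁ e₁ P₁ C₁ → Pb σ B₂ e₂ P₂ C₂ →
        Pb σ B e' P' (C₁ ⊗ₖ C₂) := by
  have h1 : ∀ x y, trv (e.trans (e₁.prodCongr e₂)) (P * glReindex e.symm (kgl P₁ P₂)) (ktv x y) =
      trv e P (ktv (trv e₁ P₁ x) (trv e₂ P₂ y)) := fun x y => by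
    rw [trv_trans, trv_mul_trg, trv_apply e₁, trv_apply e₂, ← kron_mulVec]; rfl
  refine ⟨_, _, h1, fun a b => Units.ext (Eq.symm (eq_trm fun v => ?_)), fun {σ B B₁ B₂ C₁ C₂} h h₁ h₂ u v => ?_⟩
  · let T := trv (e.trans (e₁.prodCongr e₂)) (P * glReindex e.symm (kgl P₁ P₂))
    have := ext_ktv (x := (trg e P (kgl (trg e₁ P₁ a) (trg e₂ P₂ b))).val * LinearMap.toMatrix' T.toLinearMap)
      (y := LinearMap.toMatrix' T.toLinearMap * (kgl a b).val) fun u v => by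
        simp only [← mulVec_mulVec, LinearMap.toMatrix'_mulVec, coe_kgl, kron_mulVec, LinearEquiv.coe_coe, T, h1,
          trg_mulVec]
    simpa only [← mulVec_mulVec, LinearMap.toMatrix'_mulVec, LinearEquiv.coe_coe] using congrArg (· *ᵥ v) this
  · let T := LinearMap.toMatrix' (trv (e.trans (e₁.prodCongr e₂)) (P * glReindex e.symm (kgl P₁ P₂))).toLinearMap
    have : Tᵀ * B * T.map σ = C₁ ⊗ₖ C₂ := by
      ext p q
      rw [← gf_single (σ := σ) (Tᵀ * B * T.map σ), ← gf_single (σ := σ) (C₁ ⊗ₖ C₂), ← gf_mulVec, single_eq_ktv,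
        single_eq_ktv q]
      simp only [T, LinearMap.toMatrix'_mulVec, LinearEquiv.coe_coe, h1]
      rw [h, gf_kron, gf_kron, h₁, h₂]
    rw [← this, ← gf_mulVec]
    simp only [T, LinearMap.toMatrix'_mulVec, LinearEquiv.coe_coe]

/-- triple products as functions -/
def E3 (κ : Type) : κ × (κ × κ) ≃ (Fin 3 → κ) where
  toFun p := ![p.1, p.2.1, p.2.2]
  invFun f := (f 0, f 1, f 2)
  left_inv _ := rfl
  right_inv f := by ext i; fin_cases i <;> rfl

theorem E3_apply {κ : Type} (p : κ × (κ × κ)) : E3 κ p = ![p.1, p.2.1, p.2.2] := rfl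

theorem E3_symm_apply {κ : Type} (f : Fin 3 → κ) : (E3 κ).symm f = (f 0, f 1, f 2) := rfl

theorem trg_E3 (e : ι ≃ κ × (κ × κ)) (P : GL ι F) (a b c : GL κ F) :
    trg e P (kgl a (kgl b c)) = trg (e.trans (E3 κ)) P (pgl ![a, b, c]) := Units.ext (by
  rw [coe_trg, coe_trg, trm_trans]
  congr 1
  ext p q
  simp [coe_kgl, coe_pgl, pt_apply, Fin.prod_univ_three, E3_apply, mul_assoc])

theorem trg_E3_sw (e : ι ≃ κ × (κ × κ)) (P : GL ι F) :
    trg e P (kgl 1 (sw κ F)) = trg (e.trans (E3 κ)) P (fgl κ F (Equiv.swap 1 2)) := Units.ext (by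
  rw [coe_trg, coe_trg, trm_trans]
  congr 1
  ext ⟨i, j, k⟩ ⟨i', j', k'⟩
  simp [coe_kgl, coe_fgl, fpm, E3_apply, sw, pmg_apply, one_apply, funext_iff, Fin.forall_fin_succ,
    Equiv.swap_apply_def, ← ite_and]
  grind)

theorem Pb.to_pt3 {e : ι ≃ κ × (κ × κ)} {P : GL ι F} {B : Matrix ι ι F} {C : Matrix κ κ F}
    (h : Pb σ B e P (C ⊗ₖ (C ⊗ₖ C))) : Pb σ B (e.trans (E3 κ)) P (pt fun _ : Fin 3 => C) := by
  convert h.trans (E3 κ) using 1
  ext p q; simp [pt_apply, Fin.prod_univ_three, E3_symm_apply, mul_assoc]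

theorem kgl_mem_Iso {B₁ : Matrix κ₁ κ₁ F} {B₂ : Matrix κ₂ κ₂ F} {a : GL κ₁ F} {b : GL κ₂ F}
    (ha : a ∈ Iso σ B₁) (hb : b ∈ Iso σ B₂) : kgl a b ∈ Iso σ (B₁ ⊗ₖ B₂) :=
  mem_Iso.2 (by rw [coe_kgl, kron_pb, mem_Iso.1 ha, mem_Iso.1 hb])

theorem update_mem_Iso {t : ℕ} {B : Matrix κ κ F} {a : GL κ F} (ha : a ∈ Iso σ B) (i : Fin t) :
    pgl (Function.update 1 i a) ∈ Iso σ (pt fun _ => B) := pgl_mem_Iso fun j => by
  by_cases e : j = i
  · subst e; simpa using ha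
  · simp [e]

theorem mem_normalizer_Iso [Finite F] {B : Matrix ι ι F} {g : GL ι F} (h : g ∈ Sim σ B) :
    g ∈ subgroupNormalizer (Iso σ B) := Subgroup.mem_normalizer_fintype fun x hx => by
  obtain ⟨c, hc⟩ := h
  refine mem_Iso'.2 fun u v => ?_
  simp only [Units.val_mul, ← mulVec_mulVec]
  rw [hc, mem_Iso'.1 hx, ← hc, mulVec_inv_mulVec, mulVec_inv_mulVec]

end Coords

theorem Alt.isoF {B : Matrix ι ι F} (h : Alt B) : IsoF h.form = Iso σ₀ B := by ext; exact h.mem_Iso.symm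

theorem amb_Sp [Fintype F] {B : GL ι F} (hB : Alt B.val)
    (h : 5 ≤ Fintype.card ι ∨ (4 ≤ Fintype.card ι ∧ 3 ≤ Fintype.card F)) :
    Amb (Iso σ₀ B.val) (IsoF hB.form) := by
  obtain ⟨e, f, hef⟩ := symp_exists_hyp hB.nondeg (by simp only [finrank_fintype_fun_eq_card]; omega)
  have := amb_form hB.form.symp_rich hB.nondeg hef (by
    rw [Form.symp_E_eq hB.nondeg]
    exact symp_perfect_fin hB.nondeg (by simp only [finrank_fintype_fun_eq_card]; tauto)) (by omega)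
  rwa [show EF hB.form = Iso σ₀ B.val by rw [EF, Form.symp_E_eq hB.nondeg]; exact hB.isoF] at this

theorem Alt.exists_transv {B : GL ι F} (hB : Alt B.val) (d : ι → F) (c : F) :
    ∃ g ∈ Iso σ₀ B.val, IsRk g d (c • hB.form.B.flip d) :=
  hB.isoF ▸ exists_qrefl hB.form (by simp [Form.symp_N])

theorem not_Sp_le_subfield [Finite F] {B : GL ι F} (hB : Alt B.val) (hι : 3 ≤ Fintype.card ι) {F₀ : Subfield F}
    (h0 : F₀ ≠ ⊤) (P : GL ι F) : ¬ Iso σ₀ B.val ≤ subfieldSubgroup F₀ P := fun h => by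
  obtain ⟨e, f, hef⟩ := symp_exists_hyp hB.nondeg (by simp only [finrank_fintype_fun_eq_card]; omega)
  refine h0 (eq_top_iff.2 fun a _ => ?_)
  obtain ⟨g, hg, k⟩ := hB.exists_transv e (-a)
  obtain ⟨g', hg', k'⟩ := hB.exists_transv f 1
  simpa [hef.hef, hef.Bfe] using k.mul_mem k' hι (h hg) (h hg')

theorem not_Sp_le_quad [Finite F] {B : GL ι F} (hB : Alt B.val) (hι : 3 ≤ Fintype.card ι) {Q : (ι → F) → F}
    (hQ : QF Q B.val) : ¬ Iso σ₀ B.val ≤ quadSimilarityGroup Q := fun h => by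
  haveI : Nonempty ι := Fintype.card_pos_iff.1 (by omega)
  obtain ⟨e, f, hef⟩ := orth_exists_hyp hQ.nondeg (by simpa using hι)
  obtain ⟨g, hg, k⟩ := hB.exists_transv e 1
  have := mem_isometryGroup.1 (hQ.quadSim_inf.le ⟨h hg, hg⟩) f
  have h1 : gf σ₀ B.val f e = 1 := hef.Bfe
  have h2 : Q e = 0 := hef.he
  rw [k, hQ.add, hQ.smul, gf_smul_right] at this
  simp [hB.form_B, h1, h2] at this

/-- The possibilities for a maximal subgroup of the symplectic group. -/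
inductive SpM [Fintype F] (B : GL ι F) (H : Subgroup (GL ι F)) : Prop
  | ts (W : Submodule F (ι → F)) (h1 : W ≠ ⊥) (h2 : IsTotallySingularFor (gf σ₀ B.val) W)
      (h : H = subspaceStabilizer W ⊓ Iso σ₀ B.val)
  | nd (W : Submodule F (ι → F)) (h1 : W ≠ ⊥) (h2 : IsNondegenerateOn (gf σ₀ B.val) W)
      (h3 : 2 * finrank F W < Fintype.card ι) (h4 : Even (finrank F W))
      (h : H = subspaceStabilizer W ⊓ Iso σ₀ B.val)
  | dec {t : ℕ} (m : ℕ) (D : Fin t → Submodule F (ι → F))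
      (hD : IsNondegenerateMDecomposition (gf σ₀ B.val) m D) (h1 : Even m) (h2 : m = 2 → 3 ≤ Fintype.card F)
      (h : H = decompositionStabilizer D ⊓ Iso σ₀ B.val)
  | pair (m : ℕ) (D : Fin 2 → Submodule F (ι → F)) (ho : Odd (Fintype.card F)) (hD : IsMDecomposition m D)
      (h2 : ∀ i, IsTotallySingularFor (gf σ₀ B.val) (D i)) (h3 : m = 2 → 5 ≤ Fintype.card F)
      (h : H = decompositionStabilizer D ⊓ Iso σ₀ B.val)
  | fld (r : ℕ) (K : Subalgebra F (Matrix ι ι F)) (hr : r.Prime) (hK : IsFieldSubalgebra r K)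
      (h1 : IsSelfAdjointFor (gf σ₀ B.val) K) (h2 : ∀ k ∈ K, ∀ v, gf σ₀ B.val (k *ᵥ v) v = 0)
      (h3 : 2 * r ∣ Fintype.card ι) (h : H = subalgebraNormalizer K ⊓ Iso σ₀ B.val)
  | ufld (K : Subalgebra F (Matrix ι ι F)) (ho : Odd (Fintype.card F)) (hK : IsFieldSubalgebra 2 K)
      (h1 : IsAdjointClosedFor (gf σ₀ B.val) K) (h2 : ¬ IsSelfAdjointFor (gf σ₀ B.val) K)
      (h3 : Fintype.card ι = 4 → 5 ≤ Fintype.card F) (h : H = subalgebraNormalizer K ⊓ Iso σ₀ B.val)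
  | ten (n₁ n₂ : ℕ) (e : ι ≃ Fin n₁ × Fin n₂) (P : GL ι F) (f₁ : (Fin n₁ → F) → (Fin n₁ → F) → F)
      (f₂ : (Fin n₂ → F) → (Fin n₂ → F) → F) (ho : Odd (Fintype.card F)) (h0 : Even n₁) (h1 : 3 ≤ n₂)
      (h2 : n₂ = 3 → 5 ≤ Fintype.card F) (h3 : n₁ = 2 → n₂ = 4 → ¬ IsPlusTypeOn (fun v => f₂ v v) ⊤)
      (hf₁ : IsSymplecticForm f₁) (hf₂ : IsSymmetricForm f₂)
      (hB : IsTensorFormStructure id (gf σ₀ B.val) f₁ f₂ e P)
      (h : H = tensorProductSubgroup n₁ n₂ e P ⊓ Iso σ₀ B.val)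
  | sub (F₀ : Subfield F) (r : ℕ) (P : GL ι F) (ζ : F) (hr : r.Prime)
      (hF : Fintype.card F = Nat.card F₀ ^ r) (h1 : ζ ≠ 0)
      (h2 : IsFormRationalStructure (gf σ₀ B.val) F₀ ζ P) (h : H = subfieldSubgroup F₀ P ⊓ Iso σ₀ B.val)
  | ext (R : Subgroup (GL ι F)) (k : ℕ) (hR : IsSymplecticTypeGroup 2 R)
      (hR' : ActsAbsolutelyIrreducibly (matrixSet R)) (h1 : R ≤ Sim σ₀ B.val)
      (hp : (Fintype.card F).Prime) (ho : Odd (Fintype.card F)) (hk : Fintype.card ι = 2 ^ k)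
      (h2 : Nat.card R = 2 ^ (1 + 2 * k)) (h3 : Nat.card (Subgroup.center R) = 2) (h4 : IsOfMinusType k R)
      (h : H = subgroupNormalizer R ⊓ Iso σ₀ B.val)
  | wre (k t : ℕ) (e : ι ≃ (Fin t → Fin k)) (P : GL ι F) (f : (Fin k → F) → (Fin k → F) → F)
      (ho : Odd (Fintype.card F)) (h2 : 3 ≤ t) (h3 : k = 2 → 5 ≤ Fintype.card F) (h4 : 2 ≤ k)
      (hf : IsSymplecticForm f) (hB : IsTensorPowerFormStructure id (gf σ₀ B.val) f e P)
      (h : H = tensorWreathSubgroup k t e P ⊓ Iso σ₀ B.val)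
  | quad (Q : (ι → F) → F) (he : ¬ Odd (Fintype.card F)) (hQ : IsNondegenerateQuadraticForm Q)
      (hQ' : ∀ u v, QuadraticMap.polar Q u v = gf σ₀ B.val u v) (h : H = quadSimilarityGroup Q ⊓ Iso σ₀ B.val)
  | res (h : InSymplecticResidualClass H)

theorem five_le_of_odd [Fintype F] (ho : Odd (Fintype.card F)) (h : Fintype.card F ≠ 3) : 5 ≤ Fintype.card F := by
  have := Fintype.one_lt_card (α := F)
  obtain ⟨k, hk⟩ := ho
  omega

theorem sq_eq_one_of_three [Fintype F] (h : Fintype.card F = 3) {x : F} (hx : x ≠ 0) : x * x = 1 := by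
  simpa [h, sq] using FiniteField.pow_card_sub_one_eq_one x hx

theorem not_sq_neg_one [Fintype F] (h : Fintype.card F = 3) (x : F) : x * x ≠ -1 := fun e => by
  by_cases hx : x = 0
  · simp [hx] at e
  · exact two_ne_of_three h (by linear_combination e - sq_eq_one_of_three h hx)

theorem J2_mul_J2 : J2 F * J2 F = -1 := Units.ext (by ext i j; fin_cases i <;> fin_cases j <;> simp [J2])

theorem J2_transpose_mul : (J2 F).valᵀ * (J2 F).val = 1 := by
  ext i j; fin_cases i <;> fin_cases j <;> simp [J2, mul_apply]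

theorem mul_J2_of {a b : Matrix (Fin 2) (Fin 2) F} {c : F} (h : aᵀ * b = c • 1) (hc : c ≠ 0) :
    a.det • (b * (J2 F).val) = c • ((J2 F).val * a) := by
  have h1 : b * aᵀ = c • 1 := by
    have : aᵀ * (c⁻¹ • b) = 1 := by rw [Matrix.mul_smul, h, smul_smul, inv_mul_cancel₀ hc, one_smul]
    rw [mul_eq_one_comm, smul_mul_assoc, inv_smul_eq_iff₀ hc] at this
    exact this
  rw [← Matrix.mul_smul, ← pb_J2, ← Matrix.mul_assoc, ← Matrix.mul_assoc, h1, smul_mul_assoc, smul_mul_assoc, one_mul]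

section
variable [Fintype F] {B : GL ι F} (hB : Alt B.val)
  (hι : 5 ≤ Fintype.card ι ∨ (4 ≤ Fintype.card ι ∧ 3 ≤ Fintype.card F)) {H : Subgroup (GL ι F)}
  (hH : IsMaximalIn (Iso (RingHom.id F) B.val) H)
include hB hι hH

theorem SpM.of_quad {Q : (ι → F) → F} (he : ¬ Odd (Fintype.card F)) (hQ : QF Q B.val)
    (h : H ≤ Cfsg.isometryGroup F Q) : SpM B H :=
  .quad Q he hQ.isNondegenerate (fun _ _ => by rw [hQ.polar])
    (IsMaximalIn.eq_inf hH (h.trans isom_le_quadSim) (not_Sp_le_quad hB (by omega) hQ))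

theorem SpM.of_fld {r : ℕ} {K : Subalgebra F (Matrix ι ι F)} (hr : r.Prime) (hK : IsFieldSubalgebra r K)
    (h1 : ∀ k ∈ K, adj σ₀ B k = k) (h : H ≤ subalgebraNormalizer K) : SpM B H := by
  haveI : Nonempty ι := Fintype.card_pos_iff.1 (by omega)
  have h2 := fun k hk => hB.gf_self_adj hK hk (h1 k hk)
  exact .fld r K hr hK ((isSelfAdjointFor_iff fun _ => rfl).2 h1) h2
    (IsFieldSubalgebra.two_mul_dvd hK hB.rf (fun k hk => (h1 k hk).symm ▸ hk) h2)
    (IsMaximalIn.eq_inf hH h ((amb_Sp hB hι).not_le_fld hr hK))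

theorem SpM.of_ext {G R : Subgroup (GL ι F)} (hR : XR G R 2) (h1 : R ≤ Iso σ₀ B.val)
    (hp : (Fintype.card F).Prime) (ho : Odd (Fintype.card F)) (h : H ≤ subgroupNormalizer R) : SpM B H := by
  obtain ⟨k, -, h2, h3⟩ := hR.exists_card
  have hz := hR.center_eq_two h1
  exact .ext R k hR.isSymplecticTypeGroup hR.absIrr (h1.trans Iso_le_Sim) hp ho h2 (by rw [h3, hz]; ring) hz
    (hR.isOfMinusType hB h1 h2 hz) (IsMaximalIn.eq_inf hH h
      ((amb_Sp hB hι).not_le_ext (hB.isoF ▸ h1) hR.isSymplecticTypeGroup hR.absIrr))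

theorem SpM.of_dec {t m : ℕ} {D : Fin t → Submodule F (ι → F)}
    (hD : IsNondegenerateMDecomposition (gf σ₀ B.val) m D) (h : H ≤ decompositionStabilizer D) : SpM B H := by
  by_cases h2 : m = 2 → 3 ≤ Fintype.card F
  · exact .dec m D hD (hD.1.finrank_eq ⟨0, by have := hD.1.two_le; omega⟩ ▸ hB.even_of_nondeg (hD.2 _)) h2
      (IsMaximalIn.eq_inf hH h ((amb_Sp hB hι).not_le_nd hB.nondeg (hasRf_symp _) hD))
  push Not at h2
  obtain ⟨rfl, h2⟩ := h2
  have hq : Fintype.card F = 2 := by have := Fintype.one_lt_card (α := F); omega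
  have h0 : (2 : F) = 0 := two_eq_zero_of_card (by rw [hq]; decide)
  obtain ⟨e, P, hc⟩ := IsMDecomposition.exists_coord hD.1
  obtain ⟨C, hC⟩ := hc.exists_pb hD.3
  let U : Matrix (Fin 2) (Fin 2) F := !![1, 1; 0, 1]
  have h1 : (bdg C).val = (blockDiagonal fun _ => U) + (blockDiagonal fun _ => U)ᵀ := by
    rw [blockDiagonal_transpose, ← blockDiagonal_add, coe_bdg]
    congr 1; ext j : 1
    have h3 : Alt (C j).val := by
      have := hC.alt_iff.1 hB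
      rw [coe_bdg, alt_blockDiagonal] at this
      exact this j
    have h4 := (C j).det_ne_zero
    rw [det_fin_two, h3.diag, zero_mul, zero_sub, neg_ne_zero, mul_ne_zero_iff] at h4
    ext a b; fin_cases a <;> fin_cases b
    · simpa [U, h3.diag] using (one_add_one_eq_two.trans h0).symm
    · simpa [U] using (eq_zero_or_one hq _).resolve_left h4.1
    · simpa [U] using (eq_zero_or_one hq _).resolve_left h4.2
    · simpa [U, h3.diag] using (one_add_one_eq_two.trans h0).symm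
  have h3 := qf_qf (blockDiagonal fun _ : Fin t => U)
  rw [← h1] at h3
  have h4 : ∀ j (x : Fin 2 → F), x ≠ 0 → gf σ₀ (blockDiagonal fun _ : Fin t => U) (blk j x) (blk j x) = 1 :=
    fun j x hx => by
      rw [gf_blk, if_pos rfl, gf_eq_sum]
      rcases eq_zero_or_one hq (x 0) with h5 | h5 <;> rcases eq_zero_or_one hq (x 1) with h6 | h6
      · exact absurd (by ext i; fin_cases i <;> assumption) hx
      all_goals simp [U, h5, h6]
      linear_combination h0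
  refine .of_quad hB hι hH (by rw [hq]; decide) (h3.trv_symm hC) fun g hg => ?_
  have hg' := hH.1.le hg
  obtain ⟨π, a, rfl⟩ := hc.exists_bm (h hg)
  refine (trg_mem_isom fun x => by rw [LinearEquiv.symm_apply_apply]).2 (mem_isometryGroup.2 fun v => ?_)
  refine (h3.mul_of_basis (c := 1) ((mem_Iso.1 (hC.mem_Iso.1 hg')).trans (one_smul _ _).symm)
    (fun ⟨k, j⟩ => ?_) v).trans (one_mul _)
  rw [← blk_single, bm_blk, h4 _ _ (mt gl_mulVec_eq_zero.1 (by simp)), h4 _ _ (by simp), one_mul]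

theorem SpM.of_pair {m : ℕ} {D : Fin 2 → Submodule F (ι → F)} (ho : Odd (Fintype.card F))
    (hD : IsMDecomposition m D) (hT : ∀ i, IsTotallySingularFor (gf σ₀ B.val) (D i))
    (h : H ≤ decompositionStabilizer D) : SpM B H := by
  haveI : Nonempty ι := Fintype.card_pos_iff.1 (by omega)
  by_cases h2 : m = 2 → 5 ≤ Fintype.card F
  · exact .pair m D ho hD hT h2 (IsMaximalIn.eq_inf hH h ((amb_Sp hB hι).not_le_pair hB.nondeg
      (by have := IsMDecomposition.card_eq hD; omega) hD fun i => ⟨fun _ _ => rfl, hT i⟩))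
  obtain rfl : m = 2 := by by_contra e; exact h2 fun h => absurd h e
  have hq : Fintype.card F = 3 := by by_contra e; exact h2 fun _ => five_le_of_odd ho e
  obtain ⟨e, P, hc⟩ := IsMDecomposition.exists_coord hD
  obtain ⟨P, hc, hC⟩ := hc.exists_pair hB.rf hT
  let s : GL (Fin 2 × Fin 2) F := bm (Equiv.swap 0 1) fun _ => J2 F
  have h3 : s * s = -1 := Units.ext (ext_blk fun j v => by
    rw [bm_mul, bm_blk, J2_mul_J2, Equiv.swap_mul_self]
    simp only [Units.val_neg, Units.val_one, neg_mulVec, one_mulVec]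
    exact (blkL j).map_neg v)
  have h3 : trg e P s * trg e P s = -1 := by rw [← map_mul, h3, trg_neg, map_one]
  have h4 : (trg e P s).val * (trg e P s).val = (0 : F) • (trg e P s).val + (-1 : F) • 1 := by
    simpa using congrArg Units.val h3
  have h5 : adj σ₀ B (trg e P s).val = (trg e P s).val := by
    rw [adj_of_mul (c := -1) (fun _ => rfl) (hC.mul_iff'.2 (bm_kron_iff.2 fun i j => by
      rw [Matrix.mul_one, map_σ₀, J2_transpose_mul]
      fin_cases i <;> fin_cases j <;> simp [hyp])),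
      inv_eq_of_mul_eq_one_right (show trg e P s * -trg e P s = 1 by rw [mul_neg, h3, neg_neg])]
    simp
  refine .of_fld hB hι hH Nat.prime_two (isFieldSubalgebra_adjoin h4 fun x => by simpa using not_sq_neg_one hq x)
    (fun k hk => ?_) (nrm_iff.1 (nrm_adjoin fun g hg => ?_))
  · obtain ⟨α, β, rfl⟩ := (mem_adjoin_iff h4).1 hk
    rw [adj_add, adj_smul, adj_smul, adj_one, h5]; rfl
  have hg' := hH.1.le hg
  obtain ⟨π, a, rfl⟩ := hc.exists_bm (h hg)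
  obtain ⟨c, hc, h6⟩ : ∃ c : F, c * c = 1 ∧ (a 0).valᵀ * (a 1).val = c • 1 :=
    (bm_hyp (σ := σ₀) (c := 1) (by simp) ((mem_Iso.1 (hC.mem_Iso.1 hg')).trans (one_smul _ _).symm)).elim
      (fun h => ⟨_, by simp, h.2⟩) fun h => ⟨_, by simp, h.2⟩
  have hc0 := left_ne_zero_of_mul_eq_one hc
  have h7 : (a 1).val.det = (a 0).val.det := by
    have := congrArg det h6
    rw [det_mul, det_transpose, det_smul, det_one, Fintype.card_fin, sq, hc, mul_one,
      ← sq_eq_one_of_three hq (a 0).det_ne_zero] at this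
    exact mul_left_cancel₀ (a 0).det_ne_zero this
  have h8 : ∀ j, (a (Equiv.swap 0 1 j)).val * (J2 F).val = ((a 0).val.det⁻¹ * c) • ((J2 F).val * (a j).val) := by
    simp only [mul_smul, eq_inv_smul_iff₀ (a 0).det_ne_zero, Fin.forall_fin_two]
    refine ⟨mul_J2_of h6 hc0, h7 ▸ mul_J2_of ?_ hc0⟩
    simpa using congrArg transpose h6
  rw [coe_trg e P s, cjm_trg, show cjm (bm π a) s.val = ((a 0).val.det⁻¹ * c) • s.val from
    cjm_eq_iff.2 (ext_blk fun j v => ?_), map_smul]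
  · exact smul_mem_adjoin _ _
  rw [smul_mul_assoc, smul_mulVec, ← mulVec_mulVec, ← mulVec_mulVec, bm_blk, bm_blk, bm_blk, bm_blk, mulVec_mulVec,
    h8, smul_mulVec, mulVec_mulVec, (by decide : ∀ (π : Equiv.Perm (Fin 2)) j, π (Equiv.swap 0 1 j) = Equiv.swap 0 1 (π j))]
  exact (blkL _).map_smul _ _

theorem SpM.of_ufld {K : Subalgebra F (Matrix ι ι F)} (ho : Odd (Fintype.card F)) (hK : IsFieldSubalgebra 2 K)
    (h1 : IsAdjointClosedFor (gf σ₀ B.val) K) (h2 : ¬ IsSelfAdjointFor (gf σ₀ B.val) K)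
    (h : H ≤ subalgebraNormalizer K) : SpM B H := by
  haveI : Nonempty ι := Fintype.card_pos_iff.1 (by omega)
  by_cases h3 : Fintype.card ι = 4 → 5 ≤ Fintype.card F
  · exact .ufld K ho hK h1 h2 h3 (IsMaximalIn.eq_inf hH h ((amb_Sp hB hι).not_le_fld Nat.prime_two hK))
  have h4 : Fintype.card ι = 4 := by by_contra e; exact h3 fun h => absurd h e
  have hq : Fintype.card F = 3 := by by_contra e; exact h3 fun _ => five_le_of_odd ho e
  have h20 := two_ne_of_three hq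
  obtain ⟨s, hs, c, k1, k2, k3, k4⟩ := IsFieldSubalgebra.exists_skew h20 hK hB.rf (fun x hx => by
    obtain ⟨y, hy, h⟩ := h1 x hx
    rwa [eq_adj (fun _ => rfl) h]) (mt (isSelfAdjointFor_iff fun _ => rfl).2 h2)
  obtain rfl : c = -1 := (mul_self_eq_one_iff.1 (sq_eq_one_of_three hq fun e => k3 (by simp [e]))).resolve_left
    fun e => k3 (by simp [e])
  rw [neg_one_smul] at k2
  have k5 : ∀ u v, gf σ₀ B.val (s *ᵥ u) v = -gf σ₀ B.val u (s *ᵥ v) := fun u v => by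
    rw [hB.rf.gf_adj, k1, neg_mulVec, gf_neg_right]
  have k6 : ∀ u, s *ᵥ s *ᵥ u = -u := fun u => by rw [mulVec_mulVec, k2, neg_mulVec, one_mulVec]
  let s' : GL ι F := ⟨s, -s, by rw [mul_neg, k2, neg_neg], by rw [neg_mul, k2, neg_neg]⟩
  let S : GL ι F := ⟨sᵀ * B.val, B⁻¹.val * (-s)ᵀ, by
    rw [mul_assoc, Units.mul_inv_cancel_left, ← transpose_mul, neg_mul, k2, neg_neg, transpose_one], by
    rw [mul_assoc, ← mul_assoc _ sᵀ, ← transpose_mul, mul_neg, k2, neg_neg, transpose_one, one_mul, Units.inv_mul]⟩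
  have hS : ∀ u v, gf σ₀ S.val u v = gf σ₀ B.val (s *ᵥ u) v := fun u v => (gf_mulVec_left _ _ _ _).symm
  have hS' : RF σ₀ 1 S := RF.of_gf (fun _ => rfl) (by simp) fun u v => by rw [hS, hS, k5, hB.skew]; simp
  obtain ⟨Q, hQ⟩ := exists_qf_of_symm h20 (B := S.val) (by simpa using hS'.symm)
  obtain ⟨u, hu, hu'⟩ := orth_exists_singular hQ.form (by simp [h4])
  have hu' : Q u = 0 := hu'
  have hu1 : Q (s *ᵥ u) = 0 := mul_left_cancel₀ h20 (by
    rw [← hQ.self, hS, k6, gf_neg_left, ← k5, ← hS, hQ.self, hu'])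
  have hu2 : s *ᵥ u ∉ F ∙ u := fun e => by
    obtain ⟨l, e⟩ := Submodule.mem_span_singleton.1 e
    have := k6 u
    rw [← e, mulVec_smul, ← e, smul_smul, ← neg_one_smul F u] at this
    exact not_sq_neg_one hq l (smul_left_injective F hu this)
  obtain ⟨P, hP⟩ := hQ.exists_pb_JJ h20 ⟨_, le_top, (Form.TS_pair (Φ := hQ.form) hu' hu1 (by
    rw [hQ.form_B, hQ.comm, hS, hB])).1, by rw [Form.finrank_span_pair hu hu2]; simp [h4]⟩
    (Fintype.equivOfCardEq (by simp [h4]))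
  generalize (Fintype.equivOfCardEq _ : ι ≃ Fin 2 × Fin 2) = e at hP
  obtain ⟨e, a, hP, ha⟩ : ∃ (e : ι ≃ Fin 2 × Fin 2) (a : Matrix (Fin 2) (Fin 2) F),
      Pb σ₀ S.val e P (JJ F).val ∧ s = trm e P (kr (Fin 2) a) := by
    obtain ⟨s, rfl⟩ := (trm e P).surjective s
    obtain ⟨a, ha | ha⟩ := skew_JJ_cases h20 (s := s) ((trm e P).injective (by
      rw [← hP.adj fun _ => rfl, map_neg]
      exact eq_adj (fun _ => rfl) fun u v => by rw [hS, hS, k5, neg_mulVec, gf_neg_right]))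
      ((isSc_trm (e := e) (P := P)).1 ⟨-1, by rw [map_mul, k2, neg_one_smul]⟩)
    · refine ⟨_, a, Pb.swap' hP, ?_⟩
      rw [ha, trm_trans]
      congr 1; ext; simp [kl_apply, kr_apply, mul_comm]; exact .inl rfl
    · exact ⟨_, a, hP, by rw [ha]⟩
  have ha1 : a * a = -1 := (kr (Fin 2)).toRingHom.injective ((trm e P).injective (by
    simpa [← ha] using k2))
  let a' : GL (Fin 2) F := ⟨a, -a, by rw [mul_neg, ha1, neg_neg], by rw [neg_mul, ha1, neg_neg]⟩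
  obtain ⟨k7, k8⟩ := exists_D8 hq (a := a') (Units.ext ha1)
  have hP' : Pb σ₀ B.val e P (-((J2 F).val ⊗ₖ (aᵀ * (J2 F).val))) := fun x y => by
    rw [← neg_neg (trv e P x), gf_neg_left, ← k6, ← hS, ha, trm_mulVec, hP, gf_mulVec_left, ← neg_one_smul F (_ ⊗ₖ _),
      gf_smul, neg_one_mul, kr_apply, kron_transpose, JJ, coe_kgl, ← mul_kronecker_mul, transpose_one, one_mul]
  let R : Fin 2 → Subgroup (GL (Fin 2) F) := ![Q8 hq, Iso σ₀ (aᵀ * (J2 F).val)]
  refine .of_ext hB hι hH (xr_pgrp hq (R := R) (Fin.forall_fin_two.2 ⟨alg_Q8 hq, k7⟩)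
    (Fin.forall_fin_two.2 ⟨fun _ h => h.2, k8⟩) (i₀ := 0) rfl (e.trans (finTwoArrowEquiv _).symm) P) ?_
    (hq ▸ Nat.prime_three) ho fun g hg => ?_
  · rintro _ ⟨_, ⟨b, hb, rfl⟩, rfl⟩
    rw [show b = ![b 0, b 1] by ext i : 1; fin_cases i <;> rfl]
    change trg _ _ _ ∈ _
    rw [← trg_kgl_eq_pgl, hP'.mem_Iso, ← neg_one_smul F, Iso_smul (by simp)]
    exact kgl_mem_Iso (Q8_le_Iso hq (hb 0)) (hb 1)
  have hg' := hH.1.le hg
  have k9 := k4 g (Iso_le_Sim hg') fun k hk => (h hg k).1 hk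
  have k10 : g ∈ Sim σ₀ S.val := by
    rcases k9 with k9 | k9
    · exact ⟨1, fun u v => by rw [hS, hS, ← k9, cjm_mulVec, mem_Iso'.1 hg', k9]; simp⟩
    · exact ⟨-1, fun u v => by
        rw [hS, hS, ← neg_neg s, neg_mulVec, ← k9, cjm_mulVec, gf_neg_left, mem_Iso'.1 hg', k9]; simp⟩
  obtain ⟨g, rfl⟩ := (trg e P).surjective g
  obtain ⟨x, y, rfl | rfl⟩ := exists_kgl_of_Sim_JJ h20 (hP.mem_Sim.1 k10)
  · rw [trg_kgl_eq_pgl]
    refine trg_mem_normalizer _ _ (pgl_mem_normalizer (Fin.forall_fin_two.2 ⟨mem_normalizer_Q8 hq _, ?_⟩))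
    have := Iso_le_Sim (hP'.mem_Iso.1 hg')
    rw [← neg_one_smul F, Sim_smul (by simp)] at this
    obtain ⟨C, hC⟩ : ∃ C : GL (Fin 2) F, C.val = aᵀ * (J2 F).val :=
      ⟨⟨aᵀ, -aᵀ, by simp [← transpose_mul, ha1], by simp [← transpose_mul, ha1]⟩ * J2 F, rfl⟩
    rw [← hC] at this
    exact mem_normalizer_Iso (hC ▸ (kgl_mem_Sim.1 this).2)
  · exfalso
    rw [ha, cjm_trg, cjm_mul, cjm_kgl_kr, kr_apply, cjm_sw, ← map_neg, (trm e P).injective.eq_iff,
      (trm e P).injective.eq_iff] at k9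
    obtain ⟨l, k9⟩ : ∃ l : F, 1 ⊗ₖ a = l • cjm y a ⊗ₖ 1 :=
      k9.elim (fun h => ⟨1, by rw [h, one_smul]; rfl⟩) fun h => ⟨-1, by rw [h]; simp [kr_apply]⟩
    obtain ⟨-, β, -, rfl, -⟩ := kron_eq one_ne_zero (gl_ne_zero a') k9
    exact not_sq_neg_one hq β (by simpa using congrFun (congrFun ha1 0) 0)

theorem SpM.of_wre {k t : ℕ} {e : ι ≃ (Fin t → Fin k)} {P : GL ι F} {B₀ : GL (Fin k) F} {c : F}
    (ho : Odd (Fintype.card F)) (h2 : 3 ≤ t) (h3 : ¬ (Fintype.card F = 3 ∧ k = 2)) (hB₀ : Alt B₀.val) (hc : c ≠ 0)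
    (hP : Pb σ₀ B.val e P (c • pt fun _ => B₀.val)) (h : H ≤ tensorWreathSubgroup k t e P) : SpM B H := by
  have hk : 2 ≤ k := by
    have := Fintype.card_congr e
    rw [Fintype.card_fun, Fintype.card_fin, Fintype.card_fin] at this
    by_contra hk
    interval_cases k
    · rw [zero_pow (by omega)] at this; omega
    · rw [one_pow] at this; omega
  obtain ⟨a, ha, ha'⟩ := (hasRf_symp hB₀.form).exists_not_isSc hB₀.nondeg (by simpa using hk)
  have h5 : IsTensorPowerFormStructure id (gf σ₀ B.val) (gf σ₀ B₀.val) e P :=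
    hP.isTensorPowerFormStructure (σ := σ₀) hc
  refine .wre k t e P _ ho h2 (fun e => five_le_of_odd ho fun e' => h3 ⟨e', e⟩) hk hB₀.isSymplecticForm h5
    (IsMaximalIn.eq_inf hH h ((amb_Sp hB hι).not_le_wre hk (by omega) (i := ⟨0, by omega⟩) ?_ ha'))
  rw [hB.isoF, hP.mem_Iso, Iso_smul hc]
  exact update_mem_Iso (hB₀.isoF ▸ ha) _

theorem SpM.of_ten {n₁ n₂ : ℕ} {e : ι ≃ Fin n₁ × Fin n₂} {P : GL ι F} {B₁ : GL (Fin n₁) F} {B₂ : GL (Fin n₂) F}
    (ho : Odd (Fintype.card F)) (h1 : 3 ≤ n₂) (h2 : n₂ = 3 → Fintype.card F ≠ 3) (hB₁ : Alt B₁.val)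
    (hB₂ : RF σ₀ 1 B₂) (hP : Pb σ₀ B.val e P (kgl B₁ B₂).val) (h : H ≤ tensorProductSubgroup n₁ n₂ e P) :
    SpM B H := by
  haveI : Nonempty ι := Fintype.card_pos_iff.1 (by omega)
  haveI : Nonempty (Fin n₁) := ⟨(e (Classical.arbitrary ι)).1⟩
  have h0 : Even n₁ := by simpa using hB₁.even
  by_cases h3 : n₁ = 2 → n₂ = 4 → ¬ IsPlusTypeOn (fun v => gf σ₀ B₂.val v v) ⊤
  · obtain ⟨a, ha, ha'⟩ := (hasRf_symp hB₁.form).exists_not_isSc hB₁.nondeg (by
      have := Fintype.card_pos (α := Fin n₁)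
      obtain ⟨k, hk⟩ := h0
      simp only [Fintype.card_fin] at this ⊢; omega)
    have h5 : IsTensorFormStructure id (gf σ₀ B.val) (gf σ₀ B₁.val) (gf σ₀ B₂.val) e P :=
      Pb.isTensorFormStructure (σ := σ₀) (B := B.val) (B₁ := B₁.val) (B₂ := B₂.val) (c := 1)
        one_ne_zero (by rw [one_smul]; exact hP)
    refine .ten n₁ n₂ e P _ _ ho h0 h1 (fun e => five_le_of_odd ho (h2 e)) h3 hB₁.isSymplecticForm
      hB₂.isSymmetricForm h5 (IsMaximalIn.eq_inf hH h ((amb_Sp hB hι).not_le_tens (by omega) ?_ ha'))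
    rw [hB.isoF, hP.mem_Iso]
    exact kgl_mem_Iso (hB₁.isoF ▸ ha) (one_mem _)
  push Not at h3
  obtain ⟨rfl, rfl, W, -, h3, h4⟩ := h3
  have h20 := two_ne_zero_iff_odd.2 ho
  obtain ⟨Q, hQ⟩ := exists_qf_of_symm h20 (B := B₂.val) (by simpa using hB₂.symm)
  obtain ⟨P₂, hP₂⟩ := hQ.exists_pb_JJ h20 ⟨W, le_top, fun w hw => mul_left_cancel₀ h20 (by
    rw [← hQ.self, mul_zero]; exact h3 w hw), h4⟩ (finProdFinEquiv (m := 2) (n := 2)).symm
  obtain ⟨P₁, hP₁⟩ := hB₁.exists_pb alt_J2 (Equiv.refl _)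
  obtain ⟨e', P', -, k1, k2⟩ := exists_kron_coord e P (Equiv.refl _) P₁ (finProdFinEquiv (m := 2) (n := 2)).symm P₂
  have k3 := (k2 hP hP₁ hP₂).to_pt3
  have k4 : H ≤ tensorWreathSubgroup 2 3 (e'.trans (E3 _)) P' := fun g hg => by
    obtain ⟨a, b, rfl⟩ := mem_tensorProductSubgroup.1 (h hg)
    have := ((kgl_mem_Sim (B := B₁) (C := B₂)).1 (hP.mem_Sim.1 (Iso_le_Sim (hH.1.le hg)))).2
    obtain ⟨a, rfl⟩ := (trg (Equiv.refl _) P₁).surjective a
    obtain ⟨b, rfl⟩ := (trg (finProdFinEquiv (m := 2) (n := 2)).symm P₂).surjective b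
    rw [← k1]
    obtain ⟨x, y, rfl | rfl⟩ := exists_kgl_of_Sim_JJ h20 (hP₂.mem_Sim.1 this)
    · exact mem_tensorWreathSubgroup.2 ⟨_, 1, by rw [trg_E3, map_one, mul_one]⟩
    · exact mem_tensorWreathSubgroup.2 ⟨_, _, by
        rw [sw_mul_kgl, ← mul_one a, kgl_mul, map_mul, trg_E3, trg_E3_sw, map_mul]⟩
  by_cases hq : Fintype.card F = 3
  swap
  · exact .of_wre hB hι hH ho le_rfl (fun h => hq h.1) alt_J2 one_ne_zero (by rw [one_smul]; exact k3) k4
  refine .of_ext hB hι hH (xr_pgrp hq (R := fun _ => Q8 hq) (fun _ => alg_Q8 hq) (fun _ _ h => h.2) (i₀ := 0) rfl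
    (e'.trans (E3 _)) P') ?_ (hq ▸ Nat.prime_three) ho fun g hg => ?_
  · rintro _ ⟨_, ⟨b, hb, rfl⟩, rfl⟩
    exact k3.mem_Iso.2 (pgl_mem_Iso fun i => Q8_le_Iso hq (hb i))
  · obtain ⟨b, π, rfl⟩ := mem_tensorWreathSubgroup.1 (k4 hg)
    exact trg_mem_normalizer _ _ (mul_mem (pgl_mem_normalizer fun _ => mem_normalizer_Q8 hq _)
      (fgl_mem_normalizer _ _))

theorem spM : SpM B H := by
  have hA := amb_Sp hB hι
  cases spOut (by omega) hB hH.1.le with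
  | ts W h1 h2 h =>
    refine .ts W h1 h2 (IsMaximalIn.eq_inf hH h (hA.not_le_stab h1 ?_))
    rintro rfl
    haveI : Nonempty ι := Fintype.card_pos_iff.1 (by omega)
    exact gl_ne_zero B (gf_ext (σ := σ₀) fun u v => (h2 u trivial v trivial).trans (by simp [gf]))
  | nd W h1 h2 h3 h =>
    refine .nd W h1 h2 h3 (hB.even_of_nondeg h2) (IsMaximalIn.eq_inf hH h (hA.not_le_stab h1 ?_))
    rintro rfl
    simp at h3; omega
  | dec m D hD h => exact .of_dec hB hι hH hD h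
  | pair m D ho hD h2 h => exact .of_pair hB hι hH ho hD h2 h
  | fld r K hr hK h1 h2 h3 h => exact .fld r K hr hK h1 h2 h3 (IsMaximalIn.eq_inf hH h (hA.not_le_fld hr hK))
  | ufld K ho hK h1 h2 h => exact .of_ufld hB hι hH ho hK h1 h2 h
  | ten n₁ n₂ e P B₁ B₂ ho h1 h2 hB₁ hB₂ hP _ h => exact .of_ten hB hι hH ho h1 h2 hB₁ hB₂ hP h
  | sub F₀ r P ζ hr hF h1 h2 h =>
    exact .sub F₀ r P ζ hr hF h1 h2
      (IsMaximalIn.eq_inf hH h (not_Sp_le_subfield hB (by omega) (ne_top_of_card hr hF) P))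
  | ext R k hR h1 hp ho _ _ _ _ => exact .of_ext hB hι hH hR h1 hp ho hR.nrm
  | wre k t e P B₀ c ho _ h2 h3 hB₀ hc hP h => exact .of_wre hB hι hH ho h2 h3 hB₀ hc hP h
  | quad Q he hQ h => exact .of_quad hB hι hH he hQ h
  | res h => exact .res h

end

end Cfsg.Agent.Classical.Asch
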