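import Cfsg.Agent.Lib.Classical.Asch18

/-!
Aschbacher's theorem for the unitary groups.
-/

set_option autoImplicit false

namespace Cfsg.Agent.Classical.Asch
open Matrix Cfsg.Geo Module Cfsg.Agent.Comp
open scoped MatrixGroups Kronecker commutatorElement

variable {ι : Type} [Fintype ι] [DecidableEq ι] {F : Type*} [Field F] {σ : F →+* F}

local notation "Z" => scalars ι F
local notation "σ₀" => RingHom.id F

/-- `σ` is the involution `x ↦ x ^ q` of the field with `q ^ 2` elements -/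
structure US [Fintype F] (σ : F →+* F) (q : ℕ) : Prop where
  card : Fintype.card F = q ^ 2
  eq : ∀ x, σ x = x ^ q

theorem finrank_fixSub [Finite F] {Q s : ℕ} (hF : Nat.card F = Q ^ s) : finrank (fixSub hF) F = s :=
  Nat.pow_right_injective (two_le_of_card_pow hF).1 (by
    have := card_eq_pow_subfield (fixSub hF)
    rw [card_fixSub] at this
    exact this.symm.trans hF)

theorem mul_pow_of_mul {B g : Matrix ι ι F} {c : F} (h : gᵀ * B * g.map σ = c • B) (k : ℕ) :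
    (g ^ k)ᵀ * B * (g ^ k).map σ = c ^ k • B := by
  rw [mul_iff_gf] at h ⊢
  induction k with
  | zero => simp
  | succ k ih => intro u v; rw [pow_succ, ← mulVec_mulVec, ← mulVec_mulVec, ih, h, pow_succ, mul_assoc]

theorem mult_pow_eq_one [Nonempty ι] {B g : GL ι F} {c : F} (h : g.valᵀ * B.val * g.val.map σ = c • B.val) {k : ℕ}
    (hk : g ^ k = 1) : c ^ k = 1 := by
  have := mul_pow_of_mul h k
  rw [← Units.val_pow_eq_pow_val, hk] at this
  exact smul_left_injective F (gl_ne_zero B) (by simpa using this.symm)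

theorem RF.σ_mult [Nonempty ι] {ε : F} {B : GL ι F} (hB : RF σ ε B) {g : Matrix ι ι F} {c : F}
    (h : gᵀ * B.val * g.map σ = c • B.val) : σ c = c := by
  rw [mul_iff_gf] at h
  obtain ⟨u, v, huv⟩ : ∃ u v, gf σ B.val u v ≠ 0 := by
    by_contra! e
    exact gl_ne_zero B (gf_ext (σ := σ) fun u v => (e u v).trans (by simp [gf]))
  have := h u v
  rw [hB.gf_symm, h, map_mul, mul_left_comm, ← hB.gf_symm] at this
  exact mul_right_cancel₀ huv this

theorem XR.center_eq_four [Finite F] {G R : Subgroup (GL ι F)} (h : XR G R 2) {c : Fˣ} (hc : orderOf c = 4)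
    (hR : scal ι c ∈ R) : Nat.card (Subgroup.center R) = 4 := h.center_two.resolve_left fun e => by
  haveI := h.nonempty
  have := orderOf_dvd_natCard (⟨⟨_, hR⟩, (center_eq_of_top h.top).ge (scal_mem c)⟩ : Subgroup.center R)
  rw [← Subgroup.orderOf_coe, ← Subgroup.orderOf_coe, orderOf_injective _ scal_injective, hc, e] at this
  omega

/-- tensor products of groups of symplectic type -/
theorem xr_pgrp' [Finite F] {κ : Type} [Fintype κ] [DecidableEq κ] {t r : ℕ} (hr : r.Prime)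
    {G' R : Fin t → Subgroup (GL κ F)} (h : ∀ i, XR (G' i) (R i) r) (e : ι ≃ (Fin t → κ)) (P : GL ι F)
    (hι : 2 ≤ Fintype.card ι) {G : Subgroup (GL ι F)} (hG : ∀ g ∈ G, ∃ b, (∀ i, b i ∈ G' i) ∧ g = trg e P (pgl b))
    (hab : ∀ A ≤ (pgrp R).map (trg e P).toMonoidHom, G ≤ Subgroup.normalizer (A : Set (GL ι F)) →
      (∀ x ∈ A, ∀ y ∈ A, x * y = y * x) → A ≤ Z) : XR G ((pgrp R).map (trg e P).toMonoidHom) r := by
  let φ : (Fin t → GL κ F) →* GL ι F := (trg e P).toMonoidHom.comp (MonoidHom.mk' pgl fun a b => (pgl_mul a b).symm)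
  refine ⟨hι, hr, alg_map_trg e P (alg_pgrp fun i => (h i).top), fun g hg => ?_, ?_, ?_, hab⟩
  · obtain ⟨b, hb, rfl⟩ := hG g hg
    exact trg_mem_normalizer e P (pgl_mem_normalizer fun i => (h i).nrm (hb i))
  · rintro _ ⟨_, ⟨x, hx, rfl⟩, rfl⟩ _ ⟨_, ⟨y, hy, rfl⟩, rfl⟩
    change ⁅φ x, φ y⁆ ∈ Z
    choose c hc using fun i => mem_scalars.1 ((h i).comm _ (hx i) _ (hy i))
    rw [← map_commutatorElement, mem_scalars]
    refine isSc_trm.2 ⟨∏ i, c i, ?_⟩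
    rw [← pt_one, ← pt_smul]
    exact congrArg pt (funext hc)
  · rintro _ ⟨_, ⟨x, hx, rfl⟩, rfl⟩
    change φ x ^ _ = 1
    rw [← map_pow, show x ^ _ = 1 from funext fun i => (h i).pow _ (hx i), map_one]

section
variable [Fintype F] {q : ℕ}

theorem us_frobq (hF : Fintype.card F = q ^ 2) : US (frobq hF) q := ⟨hF, fun _ => rfl⟩

theorem US.natCard (h : US σ q) : Nat.card F = q ^ 2 := Nat.card_eq_fintype_card.trans h.card

theorem US.eq_frob (h : US σ q) : σ = frob h.natCard := RingHom.ext h.eq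

theorem US.σσ (h : US σ q) (a : F) : σ (σ a) = a := by rw [h.eq_frob]; exact frob_frob _ a

theorem US.ne (h : US σ q) : σ ≠ σ₀ := h.eq_frob ▸ frob_ne_id _

theorem US.two_le (h : US σ q) : 2 ≤ q := (two_le_of_card_pow h.natCard).1

theorem US.mem_fix (h : US σ q) {x : F} : x ∈ fixSub h.natCard ↔ σ x = x := by rw [mem_fixSub, h.eq]

theorem US.odd_iff (h : US σ q) : (2 : F) ≠ 0 ↔ Odd q := by
  rw [two_ne_zero_iff_odd, h.card, Nat.odd_pow_iff two_ne_zero]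

theorem US.exists_ne (h : US σ q) {Q r : ℕ} (hF : Nat.card F = Q ^ r) (ho : Odd r) : ∃ θ ∈ fixSub hF, σ θ ≠ θ := by
  by_contra! e
  have := Subfield.relfinrank_mul_finrank_top (show fixSub hF ≤ fixSub h.natCard from fun x hx => h.mem_fix.2 (e x hx))
  rw [finrank_fixSub, finrank_fixSub] at this
  exact Nat.not_even_iff_odd.2 ho ⟨_, this.symm.trans (mul_two _)⟩

theorem US.isSolvable (h : US σ 2) {B : GL ι F} (hB : RF σ 1 B) (hι : Fintype.card ι = 2 ∨ Fintype.card ι = 3) :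
    Group.IsSolvable (Iso σ B.val) := by
  obtain ⟨hF, h⟩ := h
  obtain rfl : σ = frobq hF := RingHom.ext h
  exact hB.isSolvable_unit hF hι

/-- the subfield subgroups of the unitary group -/
def USub (σ : F →+* F) (q : ℕ) (B : GL ι F) (M : Subgroup (GL ι F)) : Prop :=
  ∃ (F₀ : Subfield F) (r : ℕ) (P : GL ι F), r.Prime ∧ Fintype.card F = Nat.card F₀ ^ r ∧
    M = subfieldSubgroup F₀ P ∧ ((Odd r ∧ IsFormRationalStructure (gf σ B.val) F₀ 1 P) ∨
      (r = 2 ∧ Odd q ∧ IsFormRationalStructure (gf σ B.val) F₀ 1 P) ∨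
      (r = 2 ∧ Even (Fintype.card ι) ∧ ∃ ζ, ζ ≠ 0 ∧ ζ + ζ ^ q = 0 ∧ IsFormRationalStructure (gf σ B.val) F₀ ζ P ∧
        ∀ u : ι → F, (∀ i, u i ∈ F₀) → gf σ B.val (P.val *ᵥ u) (P.val *ᵥ u) = 0))

theorem USub.two (h : US σ q) {B C P : GL ι F} (hB : RF σ 1 B) (hC : Pb σ B.val (Equiv.refl ι) P C.val)
    (hA : Alt C.val ∨ (C.valᵀ = C.val ∧ (2 : F) ≠ 0)) : USub σ q B (subfieldSubgroup (fixSub h.natCard) P) := by
  have h1 : ∀ i j, C.val j i = σ (C.val i j) := fun i j => by simpa using congrFun (congrFun (hC.rf hB).symm i) j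
  refine ⟨_, 2, P, Nat.prime_two, card_eq_fixSub _, rfl, .inr ?_⟩
  rcases hA with hA | ⟨h2, h3⟩
  · obtain ⟨ζ, h2, h3⟩ := exists_skew σ h.ne h.σσ
    refine .inr ⟨rfl, hA.even, ζ, h2, by rw [← h.eq, h3, add_neg_cancel],
      hC.isFormRationalStructure (fun _ => σ_mem_fixSub _) fun i j => h.mem_fix.2 ?_, fun u hu => ?_⟩
    · rw [map_mul, h3, ← h1, show C.val j i = -C.val i j from congrFun (congrFun hA.transpose i) j, neg_mul_neg]
    · refine (hC u u).trans (Eq.trans ?_ (hA u))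
      rw [gf, show σ ∘ u = u from funext fun i => h.mem_fix.1 (hu i)]; rfl
  · refine .inl ⟨rfl, h.odd_iff.1 h3, hC.isFormRationalStructure (fun _ => σ_mem_fixSub _) fun i j =>
      h.mem_fix.2 ?_⟩
    rw [one_mul, ← h1]; exact congrFun (congrFun h2 i) j

theorem USub.of_two_forms (h : US σ q) {B H : GL ι F} (hH : RF σ 1 H)
    (hA : Alt B.val ∨ (B.valᵀ = B.val ∧ (2 : F) ≠ 0)) (hT : IsSc ((B⁻¹ * H).val * (B⁻¹ * H).val.map σ)) :
    ∃ M, USub σ q H M ∧ Sim σ₀ B.val ⊓ Iso σ H.val ≤ M := by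
  obtain ⟨μ, hT⟩ := hT
  have hF := h.natCard
  obtain rfl : σ = frob hF := RingHom.ext h.eq
  obtain ⟨P, c, hc, hP⟩ := hilbert90 hF (B⁻¹ * H) μ fun v => by
    change _ *ᵥ (frob hF ∘ (_ *ᵥ (frob hF ∘ v))) = _
    rw [map_mulVec', mulVec_mulVec, hT, show frob hF ∘ frob hF ∘ v = v from funext fun _ => frob_frob _ _,
      smul_mulVec, one_mulVec]
  obtain ⟨C, hC⟩ := exists_pb (frob hF) H (Equiv.refl ι) P
  have h1 : C.val = c • (P.valᵀ * B.val * P.val) := by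
    rw [← Pb.refl_iff.1 hC, ← mul_smul_comm, ← hP, ← mul_assoc, mul_assoc _ B.val, ← Units.val_mul,
      mul_inv_cancel_left]
  refine ⟨_, .two h hH hC (hA.imp (fun hA => h1 ▸ (hA.pb _).smul c) fun hA => ⟨?_, hA.2⟩), fun g hg => ?_⟩
  · rw [h1, transpose_smul, transpose_mul, transpose_mul, hA.1, transpose_transpose, mul_assoc]
  · obtain ⟨d, hd⟩ := mem_Sim.1 hg.1
    have := comm_of_two_forms hd ((mem_Iso.1 hg.2).trans (one_smul _ _).symm)
    exact mem_subfieldSubgroup_of_map (fun _ => h.mem_fix.2) (map_eq_of_comm (l := (d : F)⁻¹) hc hP (by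
      rw [eq_inv_smul_iff₀ d.ne_zero, this, one_smul]))

theorem USub.of_descent [Nonempty ι] (h : US σ q) (hι : 2 ≤ Fintype.card ι) {B : GL ι F} (hB : RF σ 1 B)
    {N : Subgroup (GL ι F)} (hN : alg N = ⊤) {Q r : ℕ} (hr : r.Prime) (hF : Nat.card F = Q ^ r) {P : GL ι F}
    (hP : ∀ x ∈ N, ∀ i j, cjm P⁻¹ x.val i j ∈ fixSub hF)
    (hs : ∀ x ∈ N, ∃ c ∈ fixSub hF, x.valᵀ * B.val * x.val.map σ = c • B.val) :
    USub σ q B (subfieldSubgroup (fixSub hF) P) := by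
  obtain ⟨C, hC⟩ := exists_pb σ B (Equiv.refl ι) P
  obtain ⟨ζ, h1, h2⟩ := exists_rational hF hN hP hC hs
  have h3 : ∀ i j, C.val j i = σ (C.val i j) := fun i j => by simpa using congrFun (congrFun (hC.rf hB).symm i) j
  have h1' := (map_ne_zero σ).2 h1
  rcases hr.eq_two_or_odd' with rfl | ho
  · obtain rfl : q = Q := Nat.pow_left_injective two_ne_zero (h.natCard.symm.trans hF)
    have h4 : RF σ₀ (ζ / σ ζ) C := RF.of_id (by
      ext i j
      have := h.mem_fix.1 (h2 i j)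
      rw [map_mul, ← h3] at this
      simp only [transpose_apply, map_σ₀, Matrix.smul_apply, smul_eq_mul]
      field_simp
      linear_combination this)
    refine .two h hB hC ?_
    by_cases he : (2 : F) = 0
    · refine .inl ((irr_of_alg_top (alg_comap_trg (Equiv.refl ι) P hN)).alt hι he
        (by simpa using (h4.one_of_two he).symm) fun x hx => ?_)
      obtain ⟨c, -, hc⟩ := hs _ hx
      have h5 : x.val.map σ = x.val := by
        ext i j
        have := hP _ hx i j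
        rw [MulEquiv.coe_toMonoidHom, coe_trg, trm_refl, cjm_inv_cjm] at this
        exact h.mem_fix.1 this
      exact mem_Sim_of (c := c) (by simpa only [h5, map_σ₀] using hC.mul_iff'.1 hc)
    · exact (eq_one_or_of_mul_self h4.εε).symm.imp (fun e => (e ▸ h4).alt he)
        fun e => ⟨by simpa using (e ▸ h4 : RF σ₀ 1 C).symm, he⟩
  obtain ⟨i, j, hij⟩ : ∃ i j, C.val i j ≠ 0 := by
    by_contra! e
    exact gl_ne_zero C (Matrix.ext e)
  have h4 : ζ / σ ζ ∈ fixSub hF := by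
    have := div_mem (h2 j i) (σ_mem_fixSub (σ := σ) hF (h2 i j))
    rwa [map_mul, ← h3, mul_div_mul_right _ _ (by rw [h3]; exact (map_ne_zero σ).2 hij)] at this
  obtain ⟨θ, h5, h6⟩ : ∃ θ ∈ fixSub hF, θ + ζ / σ ζ * σ θ ≠ 0 := by
    by_cases e : ζ / σ ζ = -1
    · obtain ⟨θ, h5, h6⟩ := h.exists_ne hF ho
      exact ⟨θ, h5, fun e' => h6 (by rw [e] at e'; linear_combination -e')⟩
    · exact ⟨1, one_mem _, fun e' => e (by rw [map_one] at e'; linear_combination e')⟩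
  obtain ⟨c, hc⟩ := norm_surj_fixed σ h.ne h.σσ (ζ / (θ + ζ / σ ζ * σ θ)) (by
    have h7 := (map_ne_zero σ).2 h6
    rw [map_div₀, div_eq_div_iff h7 h6]
    simp only [map_add, map_mul, map_div₀, h.σσ]
    field_simp
    ring)
  have hc0 : c ≠ 0 := by rintro rfl; exact div_ne_zero h1 h6 (by simpa using hc.symm)
  refine ⟨_, r, scal ι (Units.mk0 c hc0) * P, hr, card_eq_fixSub hF, (subfieldSubgroup_scal_mul _ _ _).symm,
    .inl ⟨ho, (hC.scal_mul _).isFormRationalStructure (fun _ => σ_mem_fixSub _) fun i j => ?_⟩⟩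
  rw [one_mul, Units.val_mk0, hc, Matrix.smul_apply, smul_eq_mul, div_mul_eq_mul_div]
  exact div_mem (h2 i j) (add_mem h5 (mul_mem h4 (σ_mem_fixSub hF h5)))

/-- the extraspecial normalisers of the unitary group -/
structure UExt (σ : F →+* F) (B : GL ι F) (R : Subgroup (GL ι F)) (r k : ℕ) : Prop where
  st : IsSymplecticTypeGroup r R
  abs : ActsAbsolutelyIrreducibly (matrixSet R)
  sim : R ≤ Sim σ B.val
  iso : Odd r → R ≤ Iso σ B.val
  card : Fintype.card ι = r ^ k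
  field : ∃ p e, r ≠ p ∧ 0 < e ∧ IsMinimalFieldFor (Nat.card (Subgroup.center R)) p e F ∧
    ((Odd r ∧ Nat.card (Subgroup.center R) = r ∧ 1 ≤ k ∧ Nat.card R = r ^ (1 + 2 * k)) ∨
      (r = 2 ∧ e = 2 ∧ Nat.card (Subgroup.center R) = 4 ∧ Nat.card R = 2 ^ (2 + 2 * k)))

theorem US.exists_half (h : US σ q) {p e : ℕ} (hp : p.Prime) (he : Fintype.card F = p ^ e) :
    ∃ d, e = 2 * d ∧ q = p ^ d := by
  obtain ⟨d, -, rfl⟩ := (Nat.dvd_prime_pow hp).1 (show q ∣ p ^ e from ⟨q, by rw [← he, h.card, sq]⟩)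
  exact ⟨d, Nat.pow_right_injective hp.two_le (by simp only [← he, h.card, ← pow_mul, mul_comm]), rfl⟩

theorem XR.uExt (h : US σ q) {B : GL ι F} (hB : RF σ 1 B) {G R : Subgroup (GL ι F)} {r : ℕ} (hX : XR G R r)
    (hR : R ≤ Sim σ B.val) (hz : r = 2 → Nat.card (Subgroup.center R) = 4) :
    (∃ k, UExt σ B R r k) ∨ ∃ M, USub σ q B M ∧ subgroupNormalizer R ≤ M := by
  haveI := hX.nonempty
  obtain ⟨m, hm, hm1, hm2⟩ := hX.exists_card
  have hz' : Nat.card (Subgroup.center R) = r * Nat.gcd 2 r := by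
    rcases hX.prime.eq_two_or_odd' with rfl | ho
    · exact hz rfl
    · rw [hX.center_odd ho, (Nat.coprime_two_left.2 ho : _), mul_one]
  rcases hX.field_cases with ⟨p, e, hp, he, hmin⟩ | ⟨Q, s, hs, hF, hQ⟩
  · obtain ⟨d, rfl, rfl⟩ := h.exists_half hmin.1 hmin.2.2.1
    refine .inl ⟨m, hX.isSymplecticTypeGroup, hX.absIrr, hR, fun ho x hx => ?_, hm1, p, _, hp, he, hmin, ?_⟩
    · obtain ⟨c, hc⟩ := mem_Sim.1 (hR hx)
      have h1 := mult_pow_eq_one hc (hX.pow x hx)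
      rw [← hz', hX.center_odd ho, ← Units.val_pow_eq_pow_val, Units.val_eq_one] at h1
      have h2 : c ^ (p ^ d - 1) = 1 := by
        rw [pow_sub _ (one_le_two.trans h.two_le), pow_one, mul_inv_eq_one]
        exact Units.ext ((h.eq _).symm.trans (hB.σ_mult hc))
      have h3 := pow_gcd_eq_one.2 ⟨h1, h2⟩
      rw [((Nat.Prime.coprime_iff_not_dvd hX.prime).2 (hX.center_odd ho ▸ hmin.2.2.2.2 d (by omega) (by omega)) : _),
        pow_one] at h3
      exact mem_Iso.2 (by rw [hc, h3, Units.val_one, one_smul])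
    · rcases hX.prime.eq_two_or_odd' with rfl | ho
      · have := IsMinimalFieldFor.le_two (hz rfl ▸ hmin) he
        exact .inr ⟨rfl, by omega, hz rfl, by rw [hm2, hz rfl]; ring⟩
      · exact .inl ⟨ho, hX.center_odd ho, hm, by rw [hm2, hX.center_odd ho]; ring⟩
  · obtain ⟨P, hP⟩ := hX.exists_descent hF hQ
    refine .inr ⟨_, .of_descent h hX.two_le hB hX.top hs hF hP fun x hx => ?_,
      le_subfieldSubgroup_fix hF hX.top hP le_rfl⟩
    obtain ⟨c, hc⟩ := mem_Sim.1 (hR hx)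
    obtain ⟨k, hk⟩ := hQ
    refine ⟨c, (mem_fixSub _).2 ?_, hc⟩
    rw [← Nat.sub_add_cancel (one_le_two.trans (two_le_of_card_pow hF).1), hk, pow_succ, pow_mul, hz',
      mult_pow_eq_one hc (hX.pow x hx), one_pow, one_mul]

/-- the outcomes in the unitary case -/
inductive UOut (σ : F →+* F) (q : ℕ) (B : GL ι F) (G : Subgroup (GL ι F)) : Prop
  | ts (W : Submodule F (ι → F)) (h1 : W ≠ ⊥) (h2 : IsTotallySingularFor (gf σ B.val) W)
      (h : G ≤ subspaceStabilizer W)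
  | nd (W : Submodule F (ι → F)) (h1 : W ≠ ⊥) (h2 : IsNondegenerateOn (gf σ B.val) W)
      (h3 : 2 * finrank F W < Fintype.card ι) (h : G ≤ subspaceStabilizer W)
  | dec {t : ℕ} (m : ℕ) (D : Fin t → Submodule F (ι → F))
      (hD : IsNondegenerateMDecomposition (gf σ B.val) m D) (h : G ≤ decompositionStabilizer D)
  | pair (m : ℕ) (D : Fin 2 → Submodule F (ι → F)) (hD : IsMDecomposition m D)
      (h2 : ∀ i, IsTotallySingularFor (gf σ B.val) (D i)) (h : G ≤ decompositionStabilizer D)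
  | fld (r : ℕ) (K : Subalgebra F (Matrix ι ι F)) (hr : r.Prime) (ho : Odd r) (hK : IsFieldSubalgebra r K)
      (h1 : StCl σ B K) (h : G ≤ subalgebraNormalizer K)
  | ten (n₁ n₂ : ℕ) (e : ι ≃ Fin n₁ × Fin n₂) (P : GL ι F) (h1 : 2 ≤ n₁) (h2 : n₁ < n₂) (h3 : n₁ = 2 → 3 ≤ q)
      (hB : Pb σ B.val e P 1) (h : G ≤ tensorProductSubgroup n₁ n₂ e P)
  | sub (M : Subgroup (GL ι F)) (hM : USub σ q B M) (h : G ≤ M)
  | ext (R : Subgroup (GL ι F)) (r k : ℕ) (hR : UExt σ B R r k) (h : G ≤ subgroupNormalizer R)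
  | wre (k t : ℕ) (e : ι ≃ (Fin t → Fin k)) (P : GL ι F) (B₀ : GL (Fin k) F) (c : F)
      (h1 : 3 ≤ k) (h2 : 2 ≤ t) (h3 : ¬ (q = 2 ∧ k = 3)) (hB₀ : RF σ 1 B₀) (hc : c ≠ 0)
      (hB : Pb σ B.val e P (c • pt fun _ => B₀.val)) (h : G ≤ tensorWreathSubgroup k t e P)
  | res (h : InUnitaryResidualClass G)

theorem XR.uOut (h : US σ q) {B : GL ι F} (hB : RF σ 1 B) {G R : Subgroup (GL ι F)} {r : ℕ} (hX : XR G R r)
    (hR : R ≤ Sim σ B.val) (hz : r = 2 → Nat.card (Subgroup.center R) = 4) : UOut σ q B G :=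
  (hX.uExt h hB hR hz).elim (fun ⟨k, hk⟩ => .ext R r k hk hX.nrm) fun ⟨M, h1, h2⟩ => .sub M h1 (hX.nrm.trans h2)

theorem UOut.of_realisable (h : US σ q) (hι : 2 ≤ Fintype.card ι) {B : GL ι F} (hB : RF σ 1 B)
    {G N : Subgroup (GL ι F)} (hN : alg N = ⊤) (hn : G ≤ Subgroup.normalizer (N : Set (GL ι F)))
    (hNB : N ≤ Iso σ B.val) (h1 : ∃ F₀ : Subfield F, F₀ ≠ ⊤ ∧ RealisableOver F₀ (matrixSet N)) : UOut σ q B G := by
  haveI : Nonempty ι := Fintype.card_pos_iff.1 (by omega)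
  obtain ⟨F₀, h0, h1⟩ := h1
  obtain ⟨Q, r, hF, P, hr, hP⟩ := exists_of_realisableOver h0 h1
  exact .sub _ (.of_descent h hι hB hN hr hF hP fun x hx =>
    ⟨1, one_mem _, (mem_Iso.1 (hNB hx)).trans (one_smul _ _).symm⟩) (le_subfieldSubgroup_fix hF hN hP hn)

omit [Fintype F] in
theorem isSc_two_forms {κ : Type} [Fintype κ] [DecidableEq κ] {e : ι ≃ κ} {P B H : GL ι F} {B' H' : GL κ F}
    (hσ : ∀ a, σ (σ a) = a) (hB : Pb σ₀ B.val e P B'.val) (hH : Pb σ H.val e P H'.val)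
    (h : IsSc ((B'⁻¹ * H').val * (B'⁻¹ * H').val.map σ)) : IsSc ((B⁻¹ * H).val * (B⁻¹ * H).val.map σ) := by
  have key : ∀ y, (B⁻¹ * H).val *ᵥ (σ ∘ trv e P y) = trv e P ((B'⁻¹ * H').val *ᵥ (σ ∘ y)) := fun y =>
    sub_eq_zero.1 (gf_eq_zero_right (σ := σ₀) B fun u => by
      obtain ⟨x, rfl⟩ := (trv e P).surjective u
      rw [gf_sub_right, hB, gf_id, gf_id, mulVec_mulVec, mulVec_mulVec, ← Units.val_mul, ← Units.val_mul,
        mul_inv_cancel_left, mul_inv_cancel_left]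
      exact sub_eq_zero.2 (hH x y))
  obtain ⟨c, hc⟩ := h
  refine ⟨c, ext_of_mulVec_single fun i => ?_⟩
  obtain ⟨y, hy⟩ := (trv e P).surjective (Pi.single i 1)
  have h1 : ∀ {κ : Type} (v : κ → F), σ ∘ σ ∘ v = v := fun v => funext fun _ => hσ _
  have := key ((B'⁻¹ * H').val *ᵥ (σ ∘ y))
  rwa [← key y, map_mulVec_rect, map_mulVec_rect, h1, h1, mulVec_mulVec, mulVec_mulVec, hc, smul_mulVec, one_mulVec,
    map_smul, hy, ← one_mulVec (Pi.single i 1), ← smul_mulVec, mulVec_mulVec, Matrix.mul_one] at this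

theorem UOut.of_tens (h : US σ q) {B : GL ι F} (hB : RF σ 1 B) {G : Subgroup (GL ι F)} (hGB : G ≤ Iso σ B.val)
    (hG : Irr G) (hP : SPrimF σ B G) {d k : ℕ} (hd : 2 ≤ d) (hk : d ≤ k) {e : ι ≃ Fin d × Fin k} {P : GL ι F}
    (h1 : Pb σ B.val e P 1) (hT : G ≤ tensorProductSubgroup d k e P) : UOut σ q B G := by
  have hι : 2 ≤ Fintype.card ι := by rw [Fintype.card_congr e]; simp; nlinarith
  haveI : Nonempty ι := Fintype.card_pos_iff.1 (by omega)
  haveI : Nonempty (Fin d) := ⟨⟨0, by omega⟩⟩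
  haveI : Nonempty (Fin k) := ⟨⟨0, by omega⟩⟩
  have hS := hGB.trans Iso_le_Sim
  have hg := fun g hg => mem_tensorProductSubgroup.1 (hT (x := g) hg)
  have h2 : Pb σ B.val e P (kgl 1 1).val := by rwa [kgl_one]
  have hq := h.two_le
  have h3 : d = 2 → 3 ≤ q := by
    rintro rfl
    by_contra e
    obtain rfl : q = 2 := by omega
    exact (hG.fac hg).not_sprimF (by simpa using Nat.prime_two) (rf_one h.σσ) (fac_le_Sim h2 hS)
      (h.isSolvable (rf_one h.σσ) (by simp)) (by simpa using two_eq_zero_of_card (by rw [h.card]; decide))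
      (hP.fac hg h.σσ h2)
  rcases hk.lt_or_eq with hk | rfl
  · exact .ten d k e P hd hk h3 h1 hT
  rcases hd.lt_or_eq with hd | rfl
  swap
  · obtain ⟨B', hB'⟩ := exists_pb' σ₀ (JJ F) e P
    obtain ⟨M, h4, h5⟩ := USub.of_two_forms h (B := B') hB (by
      by_cases he : (2 : F) = 0
      · exact .inl (hB'.alt_iff.2 (alt_kron alt_J2 (by simpa using (alt_J2.rf.one_of_two he).symm)))
      · exact .inr ⟨by simpa using (hB'.rf' rf_JJ).symm, he⟩) (isSc_two_forms (H' := 1) h.σσ hB' h1 ⟨1, by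
        ext ⟨a, b⟩ ⟨c, d⟩
        fin_cases a <;> fin_cases b <;> fin_cases c <;> fin_cases d <;>
          simp [JJ, kgl, J2, mul_apply, Fintype.sum_prod_type]⟩)
    refine .sub M h4 ((le_inf (fun g k => ?_) hGB).trans h5)
    obtain ⟨a, b, rfl⟩ := hg g k
    exact hB'.mem_Sim.2 (kgl_mem_Sim.2 ⟨mem_Sim_J2 a, mem_Sim_J2 b⟩)
  by_cases h4 : q = 2 ∧ d = 3
  swap
  · exact .wre d 2 _ P 1 1 hd le_rfl h4 (rf_one h.σσ) one_ne_zero (Pb.to_pt (by rwa [one_smul]))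
      (hT.trans (tensorProductSubgroup_le_wreath e P))
  obtain ⟨rfl, rfl⟩ := h4
  have key : ∀ {e : ι ≃ Fin 3 × Fin 3}, (∀ g ∈ G, ∃ a b, g = trg e P (kgl a b)) → Pb σ B.val e P (kgl 1 1).val →
      ∃ R, XR (fac G e P) R 3 ∧ R ≤ Sim σ (1 : GL (Fin 3) F).val := fun hg h2 => by
    obtain ⟨N, hN⟩ := (hG.fac hg).raw_prime (by simpa using Nat.prime_three) (rf_one h.σσ) (fac_le_Sim h2 hS)
      (hP.fac hg h.σσ h2) (h.isSolvable (rf_one h.σσ) (by simp))
    obtain ⟨R, h5, h6, -⟩ := hN.exists_xr (by simp)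
    exact ⟨R, by simpa using h5, h6.trans (hN.le.trans (sup_le (fac_le_Sim h2 hS) scalars_le_Sim))⟩
  obtain ⟨R₁, k1, k2⟩ := key hg h2
  obtain ⟨R₂, k3, k4⟩ := key (kgl_swap hg) (Pb.swap' h2)
  have h5 : (pgrp ![R₁, R₂]).map (trg (e.trans (finTwoArrowEquiv _).symm) P).toMonoidHom ≤ Sim σ B.val := by
    rintro _ ⟨_, ⟨b, hb, rfl⟩, rfl⟩
    rw [show b = ![b 0, b 1] by ext i : 1; fin_cases i <;> rfl]
    change trg _ _ _ ∈ _
    rw [← trg_kgl_eq_pgl, h2.mem_Sim]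
    exact kgl_mem_Sim.2 ⟨k2 (hb 0), k4 (hb 1)⟩
  refine (xr_pgrp' Nat.prime_three (G' := ![_, _]) (R := ![R₁, R₂]) (Fin.forall_fin_two.2 ⟨k1, k3⟩) _ P hι (fun g k => ?_)
    fun A hA => hP.ab h.σσ (hA.trans h5)).uOut h hB h5 (by simp)
  obtain ⟨a, b, rfl⟩ := hg g k
  exact ⟨![a, b], Fin.forall_fin_two.2 ⟨⟨b, k⟩, a, by rwa [trg_kgl_swap]⟩, trg_kgl_eq_pgl _ _ _ _⟩

theorem uOut (h : US σ q) (hι : 2 ≤ Fintype.card ι) {B : GL ι F} (hB : RF σ 1 B) {G : Subgroup (GL ι F)}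
    (hGB : G ≤ Iso σ B.val) : UOut σ q B G := by
  haveI : Nonempty ι := Fintype.card_pos_iff.1 (by omega)
  have hS := hGB.trans Iso_le_Sim
  by_cases hG : Irr G
  swap
  · rcases red_cases hB hS hG with ⟨W, h1, h2, h3⟩ | ⟨W, h1, h2, h3, h4⟩
    · exact .ts W h1 h2 h3
    · rcases h3.lt_or_eq with h3 | h3
      · exact .nd W h1 h2 h3 h4
      · obtain ⟨h5, h6⟩ := half_dec hB h1 h2 h3
        exact .dec _ _ h5 ((le_inf h4 hS).trans h6)
  by_cases hP : SPrimF σ B G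
  swap
  · rcases hG.tri hB hS hP with ⟨t, E, hE, k⟩ | ⟨E, hE, k⟩ | ⟨r, K, hr, hK, hn, hs⟩
    · obtain ⟨m, hm⟩ := hE.nondeg hB k
      exact .dec m _ hm hE.le
    · obtain ⟨m, hm⟩ := hE.isMDecomposition
      exact .pair m _ hm (hE.ts hB k) hE.le
    · exact .fld r K hr (IsFieldSubalgebra.odd_of_stCl hK hB h.ne hs) hK hs (nrm_iff.1 hn)
  rcases hG.raw hι (hP.prim hB (sup_le hS scalars_le_Sim)) with
    ⟨N, d, k, e, P, hN, hT⟩ | ⟨N, r, hE⟩ | ⟨t, m, K, e, P, hW⟩ | ⟨K, hK⟩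
  · haveI : Nonempty (Fin d) := ⟨(e (Classical.arbitrary ι)).1⟩
    haveI : Nonempty (Fin k) := ⟨(e (Classical.arbitrary ι)).2⟩
    obtain ⟨B₁, B₂, α, β, h1, h2, h3, h4⟩ := hT.form hB (hN.trans (sup_le hS scalars_le_Sim))
    obtain ⟨c, hc⟩ := exists_herm h.σσ h.ne h2
    have h5 : Pb σ B.val e P (kgl (scal _ c * B₁) (scal _ c⁻¹ * B₂)).val := by
      rwa [coe_kgl, coe_scal_mul, coe_scal_mul, smul_kronecker, kronecker_smul, smul_smul, Units.mul_inv, one_smul]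
    obtain ⟨α', β', k1, k2, k3⟩ := (h5.rf hB).kgl
    have k4 : α' = 1 := smul_left_injective F (transpose_ne_zero (gl_ne_zero (scal _ c * B₁)) ∘ fun e => by
      rw [k1, e, smul_zero]) (k1.symm.trans hc.symm)
    rw [k4, one_mul] at k3
    obtain ⟨P₁, h6⟩ := hc.exists_pb h.ne (rf_one h.σσ) (Equiv.refl _)
    obtain ⟨P₂, h7⟩ := RF.exists_pb h.ne ⟨h.σσ, one_mul 1, k3 ▸ k2⟩ (rf_one h.σσ) (Equiv.refl _)
    obtain ⟨e', P', -, h8, h9⟩ := exists_kron_coord e P (Equiv.refl _) P₁ (Equiv.refl _) P₂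
    have h10 : Pb σ B.val e' P' (kgl 1 1).val := h9 h5 h6 h7
    have h11 : ∀ g ∈ G, ∃ a b, g = trg e' P' (kgl a b) := fun g hg => by
      obtain ⟨a, b, rfl⟩ := mem_tensorProductSubgroup.1 (hT.le hg)
      exact ⟨(trg (Equiv.refl _) P₁).symm a, (trg (Equiv.refl _) P₂).symm b, by simp [h8]⟩
    rcases le_total d k with hk | hk
    · exact .of_tens h hB hGB hG hP hT.hd hk (by rwa [kgl_one] at h10)
        fun g hg => mem_tensorProductSubgroup.2 (h11 g hg)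
    · exact .of_tens h hB hGB hG hP hT.hk hk (by have := Pb.swap' h10; rwa [kgl_one] at this)
        fun g hg => mem_tensorProductSubgroup.2 (kgl_swap h11 g hg)
  · obtain ⟨R, hR, h1, h2⟩ := hE.exists_xr hι
    refine hR.uOut h hB (h1.trans (hE.le.trans (sup_le hS scalars_le_Sim))) ?_
    rintro rfl
    obtain ⟨j, hj⟩ := h.odd_iff.1 (by simpa using hR.cast_ne_zero)
    obtain ⟨c, hc⟩ := exists_pow_four (F := F) ⟨j * j + j, by
      rw [h.natCard, hj, Nat.sub_eq_iff_eq_add (Nat.one_le_pow _ _ (by omega))]; ring⟩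
    exact hR.center_eq_four hc (h2 c (by rw [← pow_orderOf_eq_one c, hc]; rfl))
  · haveI : Nonempty (Fin m) := ⟨⟨0, by have := hW.hm; omega⟩⟩
    rcases hW.hm.lt_or_eq with hm | rfl
    swap
    · obtain ⟨B', -, -, -, h1⟩ := exists_form_two (by omega) e P
      have h2 : ⨆ i, K i ≤ G := iSup_le hW.le
      exact .of_realisable h hι hB hW.top hW.nrm (h2.trans hGB) (realisable_of_two_forms h.σσ h.ne hW.top
        (iSup_le fun i => le_Iso_of_perfect (hW.qs i).perfect ((hW.le i).trans (hW.le_wreath.trans h1)))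
        (h2.trans hGB))
    obtain ⟨B₀, c, α, hc, h1, h2, -⟩ := hW.form hB hS
    obtain ⟨d, hd⟩ := exists_herm h.σσ h.ne h2
    have h3 : (c / d ^ (t + 2)) ≠ 0 := by simp [hc]
    have h4 : Pb σ B.val e P ((c / d ^ (t + 2)) • pt fun _ => (scal _ d * B₀).val) := by
      rwa [coe_scal_mul, pt_smul fun _ => (d : F), smul_smul, Finset.prod_const, Finset.card_fin,
        div_mul_cancel₀ _ (by simp)]
    refine .wre m _ e P _ _ hm (by omega) ?_ hd h3 h4 hW.le_wreath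
    rintro ⟨rfl, rfl⟩
    obtain ⟨K₀, -, h5, h6⟩ := hW.exists_fac h.σσ hS h3 h4
    exact h5.not_le_of_isSolvable (h.isSolvable hd (by simp)) h6
  by_cases h1 : ∃ F₀ : Subfield F, F₀ ≠ ⊤ ∧ RealisableOver F₀ (matrixSet K)
  · exact .of_realisable h hι hB hK.top hK.nrm (hK.le.trans hGB) h1
  refine .res ⟨K, hK.isResidualCore (by push Not at h1; exact h1), ?_, ?_⟩
  · rintro ⟨Q, hQ, h2⟩
    obtain ⟨C, hC⟩ := IsNondegenerateQuadraticForm.exists hQ
    exact h1 (realisable_of_two_forms h.σσ h.ne hK.top ((fixesQuadForm_iff.1 h2).trans hC.isom_le) (hK.le.trans hGB))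
  · rintro ⟨f, hf, h2⟩
    obtain ⟨C, -, rfl⟩ := IsSymplecticForm.exists hf
    exact h1 (realisable_of_two_forms h.σσ h.ne hK.top (fixesForm_iff.1 h2) (hK.le.trans hGB))

theorem Pb.tens_one (h : US σ q) {n₁ n₂ : ℕ} {e : ι ≃ Fin n₁ × Fin n₂} {P : GL ι F} {B : Matrix ι ι F}
    (hB : Pb σ B e P 1) : ∃ f₁ f₂, IsUnitaryFormPow q f₁ ∧ IsUnitaryFormPow q f₂ ∧
      IsTensorFormStructure (fun x : F => x ^ q) (gf σ B) f₁ f₂ e P :=
  ⟨_, _, (rf_one h.σσ).isUnitaryFormPow h.eq, (rf_one h.σσ).isUnitaryFormPow h.eq, (funext h.eq : ⇑σ = _) ▸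
    Pb.isTensorFormStructure one_ne_zero (by simpa using hB)⟩

theorem Pb.pow_unit (h : US σ q) {k t : ℕ} {e : ι ≃ (Fin t → Fin k)} {P : GL ι F} {B : Matrix ι ι F}
    {B₀ : GL (Fin k) F} {c : F} (hB₀ : RF σ 1 B₀) (hc : c ≠ 0) (hB : Pb σ B e P (c • pt fun _ => B₀.val)) :
    ∃ f, IsUnitaryFormPow q f ∧ IsTensorPowerFormStructure (fun x : F => x ^ q) (gf σ B) f e P :=
  ⟨_, hB₀.isUnitaryFormPow h.eq, (funext h.eq : ⇑σ = _) ▸ hB.isTensorPowerFormStructure hc⟩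

theorem UOut.inUnitaryClass (hF : Fintype.card F = q ^ 2) {n : ℕ} {G : Subgroup (GL (Fin n) F)}
    (hG : G ≤ Cfsg.GU n F q) (h : UOut (frobq hF) q 1 G) :
    (∃ M, InUnitaryClass n F q M ∧ G ≤ M) ∨ InUnitaryResidualClass G := by
  unfold InUnitaryClass InUnitaryPartialClass
  rw [hermForm_eq_gf hF]
  cases h with
  | ts W h1 h2 h => exact .inl ⟨_, .inl (.inl ⟨W, h1, h2, rfl⟩), le_inf h hG⟩
  | nd W h1 h2 h3 h => exact .inl ⟨_, .inl (.inr (.inl ⟨W, h1, h2, by simpa using h3, rfl⟩)), le_inf h hG⟩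
  | dec k D hD h => exact .inl ⟨_, .inl (.inr (.inr (.inl ⟨_, k, D, hD, rfl⟩))), le_inf h hG⟩
  | pair k D hD h2 h =>
    exact .inl ⟨_, .inl (.inr (.inr (.inr (.inl ⟨k, D, by simpa using (IsMDecomposition.card_eq hD).symm, hD, h2,
      rfl⟩)))), le_inf h hG⟩
  | fld r K hr ho hK h1 h =>
    exact .inl ⟨_, .inr (.inl ⟨r, K, hr, ho, hK, h1.isAdjointClosedFor (frobq_frobq hF), rfl⟩), le_inf h hG⟩
  | ten n₁ n₂ e P h1 h2 _ hB h =>
    obtain ⟨f₁, f₂, h3, h4, h5⟩ := hB.tens_one (us_frobq hF)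
    exact .inl ⟨_, .inr (.inr (.inl ⟨n₁, n₂, e, P, f₁, f₂, h1, h2, h3, h4, h5, rfl⟩)), le_inf h hG⟩
  | sub M hM h =>
    obtain ⟨F₀, r, P, hr, h1, rfl, ⟨h2, h3⟩ | ⟨rfl, h2, h3⟩ | ⟨rfl, h2, ζ, h3, h4, h5, h6⟩⟩ := hM
    · exact .inl ⟨_, .inl (.inr (.inr (.inr (.inr (.inl ⟨F₀, r, P, hr, h2, h1, h3, rfl⟩))))), le_inf h hG⟩
    · exact .inl ⟨_, .inl (.inr (.inr (.inr (.inr (.inr (.inl ⟨F₀, P, h2, h1, h3, rfl⟩)))))), le_inf h hG⟩
    · exact .inl ⟨_, .inl (.inr (.inr (.inr (.inr (.inr (.inr (.inl ⟨F₀, P, ζ, by simpa using h2, h1, h3, h4, h5, h6,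
        rfl⟩))))))), le_inf h hG⟩
  | ext R r k hR h =>
    obtain ⟨p, e, h1, -, h2, h3⟩ := hR.field
    exact .inl ⟨_, .inl (.inr (.inr (.inr (.inr (.inr (.inr (.inr ⟨r, R, p, e, k, hR.st, hR.abs, hR.sim, h1, h2, h3,
      rfl⟩))))))), le_inf h hG⟩
  | wre k t e P B₀ c h1 h2 h3 hB₀ hc hB h =>
    obtain ⟨f, h4, h5⟩ := hB.pow_unit (us_frobq hF) hB₀ hc
    exact .inl ⟨_, .inr (.inr (.inr ⟨k, t, e, P, f, h1, h2, h3, h4, h5, rfl⟩)), le_inf h hG⟩
  | res h => exact .inr h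

end

end Cfsg.Agent.Classical.Asch
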