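import Cfsg.Agent.Lib.Classical.Asch1

/-!
Tensor decompositions of matrix algebras.
-/

set_option autoImplicit false

namespace Cfsg.Agent.Classical.Asch
open Matrix Cfsg.Geo Module
open scoped MatrixGroups Kronecker

variable {ι : Type} [Fintype ι] [DecidableEq ι] {F : Type*} [Field F]

section Kron
variable {κ₁ κ₂ : Type} [Fintype κ₁] [DecidableEq κ₁] [Fintype κ₂] [DecidableEq κ₂]

/-- `a ↦ a ⊗ 1` -/
def kl (κ₂ : Type) [Fintype κ₂] [DecidableEq κ₂] :
    Matrix κ₁ κ₁ F →ₐ[F] Matrix (κ₁ × κ₂) (κ₁ × κ₂) F where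
  toFun a := a ⊗ₖ (1 : Matrix κ₂ κ₂ F)
  map_one' := one_kronecker_one
  map_mul' a b := by rw [← mul_kronecker_mul, Matrix.mul_one]
  map_zero' := zero_kronecker _
  map_add' a b := add_kronecker _ _ _
  commutes' c := by
    simp only [Algebra.algebraMap_eq_smul_one, smul_kronecker, one_kronecker_one]

/-- `b ↦ 1 ⊗ b` -/
def kr (κ₁ : Type) [Fintype κ₁] [DecidableEq κ₁] :
    Matrix κ₂ κ₂ F →ₐ[F] Matrix (κ₁ × κ₂) (κ₁ × κ₂) F where
  toFun b := (1 : Matrix κ₁ κ₁ F) ⊗ₖ b
  map_one' := one_kronecker_one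
  map_mul' a b := by rw [← mul_kronecker_mul, Matrix.mul_one]
  map_zero' := kronecker_zero _
  map_add' a b := kronecker_add _ _ _
  commutes' c := by
    simp only [Algebra.algebraMap_eq_smul_one, kronecker_smul, one_kronecker_one]

theorem kl_apply (a : Matrix κ₁ κ₁ F) : kl κ₂ a = a ⊗ₖ (1 : Matrix κ₂ κ₂ F) := rfl
theorem kr_apply (b : Matrix κ₂ κ₂ F) : kr κ₁ b = (1 : Matrix κ₁ κ₁ F) ⊗ₖ b := rfl

theorem kl_mul_kr (a : Matrix κ₁ κ₁ F) (b : Matrix κ₂ κ₂ F) : kl κ₂ a * kr κ₁ b = a ⊗ₖ b := by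
  rw [kl_apply, kr_apply, ← mul_kronecker_mul, Matrix.mul_one, Matrix.one_mul]

theorem kr_mul_kl (a : Matrix κ₁ κ₁ F) (b : Matrix κ₂ κ₂ F) : kr κ₁ b * kl κ₂ a = a ⊗ₖ b := by
  rw [kl_apply, kr_apply, ← mul_kronecker_mul, Matrix.mul_one, Matrix.one_mul]

/-- Kronecker product of invertible matrices -/
def kgl (a : GL κ₁ F) (b : GL κ₂ F) : GL (κ₁ × κ₂) F :=
  ⟨(a : Matrix κ₁ κ₁ F) ⊗ₖ (b : Matrix κ₂ κ₂ F),
   ((a⁻¹ : GL κ₁ F) : Matrix κ₁ κ₁ F) ⊗ₖ ((b⁻¹ : GL κ₂ F) : Matrix κ₂ κ₂ F),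
   by rw [← mul_kronecker_mul, Units.mul_inv, Units.mul_inv, one_kronecker_one],
   by rw [← mul_kronecker_mul, Units.inv_mul, Units.inv_mul, one_kronecker_one]⟩

theorem coe_kgl (a : GL κ₁ F) (b : GL κ₂ F) :
    (kgl a b).val = (a : Matrix κ₁ κ₁ F) ⊗ₖ (b : Matrix κ₂ κ₂ F) := rfl

theorem kgl_mul (a a' : GL κ₁ F) (b b' : GL κ₂ F) : kgl (a * a') (b * b') = kgl a b * kgl a' b' :=
  Units.ext (by simp only [coe_kgl, Units.val_mul, mul_kronecker_mul])

theorem kgl_inv (a : GL κ₁ F) (b : GL κ₂ F) : (kgl a b)⁻¹ = kgl a⁻¹ b⁻¹ := Units.ext rfl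

theorem kgl_one : kgl (1 : GL κ₁ F) (1 : GL κ₂ F) = 1 := Units.ext one_kronecker_one

theorem cjm_kgl (a : GL κ₁ F) (b : GL κ₂ F) (x : Matrix κ₁ κ₁ F) (y : Matrix κ₂ κ₂ F) :
    cjm (kgl a b) (x ⊗ₖ y) = cjm a x ⊗ₖ cjm b y := by
  rw [cjm_apply, kgl_inv, coe_kgl, coe_kgl, ← mul_kronecker_mul, ← mul_kronecker_mul]; rfl

theorem cjm_kgl_kl (a : GL κ₁ F) (b : GL κ₂ F) (x : Matrix κ₁ κ₁ F) :
    cjm (kgl a b) (kl κ₂ x) = kl κ₂ (cjm a x) := by
  rw [kl_apply, cjm_kgl, map_one, kl_apply]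

theorem cjm_kgl_kr (a : GL κ₁ F) (b : GL κ₂ F) (y : Matrix κ₂ κ₂ F) :
    cjm (kgl a b) (kr κ₁ y) = kr κ₁ (cjm b y) := by
  rw [kr_apply, cjm_kgl, map_one, kr_apply]

theorem exists_kr_of_comm [Nonempty κ₁] {x : Matrix (κ₁ × κ₂) (κ₁ × κ₂) F}
    (h : ∀ a, x * kl κ₂ a = kl κ₂ a * x) : ∃ b, x = kr κ₁ b := by
  obtain ⟨i₀⟩ := ‹Nonempty κ₁›
  refine ⟨Matrix.of fun c d => x (i₀, c) (i₀, d), ?_⟩
  have key : ∀ (i j k l : κ₁) (c d : κ₂), (if j = l then x (k, c) (i, d) else 0) =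
      if i = k then x (j, c) (l, d) else 0 := by
    intro i j k l c d
    have := congrFun (congrFun (h (single i j 1)) (k, c)) (l, d)
    simp only [kl_apply, mul_apply, Fintype.sum_prod_type, kroneckerMap_apply, one_apply,
      single_apply] at this
    rw [Finset.sum_eq_single i (fun a _ ha => by simp [Ne.symm ha]) (by simp),
      Finset.sum_eq_single d (fun a _ ha => by simp [ha]) (by simp),
      Finset.sum_eq_single j (fun a _ ha => by simp [Ne.symm ha]) (by simp),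
      Finset.sum_eq_single c (fun a _ ha => by simp [Ne.symm ha]) (by simp)] at this
    simpa using this
  ext ⟨k, c⟩ ⟨l, d⟩
  simp only [kr_apply, kroneckerMap_apply, one_apply, of_apply]
  split_ifs with hkl
  · subst hkl
    have := key k i₀ k i₀ c d
    simpa using this
  · have := key l l k l c d
    simpa [Ne.symm hkl] using this

theorem exists_kl_of_comm [Nonempty κ₂] {x : Matrix (κ₁ × κ₂) (κ₁ × κ₂) F}
    (h : ∀ b, x * kr κ₁ b = kr κ₁ b * x) : ∃ a, x = kl κ₂ a := by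
  obtain ⟨a, ha⟩ := exists_kr_of_comm (κ₁ := κ₂) (κ₂ := κ₁)
    (x := x.submatrix (Equiv.prodComm κ₂ κ₁) (Equiv.prodComm κ₂ κ₁)) (fun b => by
      have e : kl κ₁ b = (kr κ₁ b).submatrix (Equiv.prodComm κ₂ κ₁) (Equiv.prodComm κ₂ κ₁) := by
        ext ⟨i, j⟩ ⟨k, l⟩; simp [kl_apply, kr_apply, mul_comm]
      rw [e, submatrix_mul_equiv, submatrix_mul_equiv, h])
  refine ⟨a, ?_⟩
  ext ⟨i, j⟩ ⟨k, l⟩
  have := congrFun (congrFun ha (j, i)) (l, k)
  simpa [kl_apply, kr_apply, mul_comm] using this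

theorem exists_gl_of_alghom {κ : Type} [Fintype κ] [DecidableEq κ] [Nonempty ι]
    (φ : Matrix κ κ F →ₐ[F] Matrix ι ι F) {b : Matrix κ κ F} {g : GL ι F} (h : φ b = g) :
    ∃ b' : GL κ F, (b' : Matrix κ κ F) = b := by
  have : IsUnit b := by
    rw [Matrix.isUnit_iff_isUnit_det, isUnit_iff_ne_zero]
    intro h0
    obtain ⟨v, hv, hbv⟩ := Matrix.exists_mulVec_eq_zero_iff.2 h0
    obtain ⟨i, hi⟩ := Function.ne_iff.1 hv
    haveI : Nonempty κ := ⟨i⟩
    have h1 : b * vecMulVec v (Pi.single i 1) = 0 := by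
      rw [mul_vecMulVec, hbv]; simp
    have h2 : φ (vecMulVec v (Pi.single i 1)) = 0 := by
      have := congrArg φ h1
      rw [map_mul, map_zero, h] at this
      rw [← Matrix.one_mul (φ _), ← Units.inv_mul g, Matrix.mul_assoc, this, Matrix.mul_zero]
    have h3 := φ.toRingHom.injective (h2.trans (map_zero φ).symm)
    have := congrFun (congrFun h3 i) i
    simp [vecMulVec_apply] at this
    exact hi this
  exact ⟨this.unit, rfl⟩

theorem exists_kgl [Nonempty κ₁] [Nonempty κ₂] {g : GL (κ₁ × κ₂) F}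
    (h : ∀ a, cjm g (kl κ₂ a) ∈ (kl (F := F) (κ₁ := κ₁) κ₂).range) : ∃ a b, g = kgl a b := by
  obtain ⟨a, ha⟩ := exists_cjm_of_range (kl κ₂) (kl κ₂) g h
  obtain ⟨b, hb⟩ := exists_kr_of_comm (x := Units.val ((kgl a (1 : GL κ₂ F))⁻¹ * g))
    (fun x => by
      rw [← cjm_eq_iff, cjm_mul, ha, kgl_inv, cjm_kgl_kl, cjm_inv_cjm])
  obtain ⟨b', rfl⟩ := exists_gl_of_alghom (kr κ₁) hb.symm
  refine ⟨a, b', ?_⟩
  have : (kgl a (1 : GL κ₂ F))⁻¹ * g = kgl 1 b' := Units.ext hb
  rw [inv_mul_eq_iff_eq_mul, ← kgl_mul, mul_one, one_mul] at this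
  exact this

end Kron

theorem mem_kroneckerSubgroup {n₁ n₂ : ℕ} {g : GL (Fin n₁ × Fin n₂) F} :
    g ∈ kroneckerSubgroup n₁ n₂ F ↔ ∃ a b, g = kgl a b :=
  ⟨fun ⟨a, b, h⟩ => ⟨a, b, Units.ext h⟩, fun ⟨a, b, h⟩ => ⟨a, b, by rw [h]; rfl⟩⟩

theorem mem_tensorProductSubgroup {n₁ n₂ : ℕ} {e : ι ≃ Fin n₁ × Fin n₂} {P g : GL ι F} :
    g ∈ tensorProductSubgroup n₁ n₂ e P ↔ ∃ a b, g = trg e P (kgl a b) := by
  rw [tensorProductSubgroup, map_trg, mem_map_trg, mem_kroneckerSubgroup]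
  refine exists_congr fun a => exists_congr fun b => ?_
  rw [MulEquiv.symm_apply_eq]

theorem mem_tensorProductSubgroup_of_nrm {n₁ n₂ : ℕ} [NeZero n₁] [NeZero n₂]
    {e : ι ≃ Fin n₁ × Fin n₂} {P g : GL ι F}
    (h : ∀ a, ∃ a', cjm g (trm e P (kl (Fin n₂) a)) = trm e P (kl (Fin n₂) a')) :
    g ∈ tensorProductSubgroup n₁ n₂ e P := by
  obtain ⟨g, rfl⟩ := (trg e P).surjective g
  obtain ⟨a, b, rfl⟩ := exists_kgl (g := g) (fun a => by
    obtain ⟨a', ha'⟩ := h a
    rw [cjm_trg] at ha'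
    exact ⟨a', ((trm e P).injective ha').symm⟩)
  exact mem_tensorProductSubgroup.2 ⟨a, b, rfl⟩

theorem trg_kgl_swap {κ₁ κ₂ : Type} [Fintype κ₁] [DecidableEq κ₁] [Fintype κ₂] [DecidableEq κ₂]
    (e : ι ≃ κ₁ × κ₂) (P : GL ι F) (a : GL κ₁ F) (b : GL κ₂ F) :
    trg (e.trans (Equiv.prodComm _ _)) P (kgl b a) = trg e P (kgl a b) := by
  apply Units.ext
  rw [coe_trg, coe_trg, trm_trans]
  congr 1
  ext ⟨i, j⟩ ⟨k, l⟩
  simp [coe_kgl, mul_comm]

theorem tensorProductSubgroup_swap {n₁ n₂ : ℕ} (e : ι ≃ Fin n₁ × Fin n₂) (P : GL ι F) :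
    tensorProductSubgroup n₂ n₁ (e.trans (Equiv.prodComm _ _)) P = tensorProductSubgroup n₁ n₂ e P := by
  ext g
  simp only [mem_tensorProductSubgroup, trg_kgl_swap]
  exact exists_comm

/-! ### Tensor powers -/

section Pow
variable {κ : Type} [Fintype κ] [DecidableEq κ] {t : ℕ}

/-- pure tensors -/
def pt (a : Fin t → Matrix κ κ F) : Matrix (Fin t → κ) (Fin t → κ) F :=
  Matrix.of fun x y => ∏ i, a i (x i) (y i)

omit [Fintype κ] [DecidableEq κ] in
theorem pt_apply (a : Fin t → Matrix κ κ F) (x y : Fin t → κ) : pt a x y = ∏ i, a i (x i) (y i) := rfl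

omit [DecidableEq κ] in
theorem pt_mul (a b : Fin t → Matrix κ κ F) : pt a * pt b = pt (a * b) := by
  classical
  ext x y
  simp only [mul_apply, pt_apply, Pi.mul_apply]
  rw [Finset.prod_univ_sum, Fintype.piFinset_univ]
  exact Finset.sum_congr rfl fun z _ => Finset.prod_mul_distrib.symm

theorem pt_single (x y : Fin t → κ) : pt (fun i => single (x i) (y i) (1 : F)) = single x y 1 := by
  ext z w
  simp only [pt_apply, single_apply]
  rw [Finset.prod_ite_zero]
  simp only [Finset.mem_univ, forall_true_left, Finset.prod_const_one, forall_and, funext_iff]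

theorem pt_one : pt (1 : Fin t → Matrix κ κ F) = 1 := by
  ext z w
  simp only [pt_apply, Pi.one_apply, one_apply]
  rw [Finset.prod_ite_zero]
  simp only [Finset.mem_univ, forall_true_left, Finset.prod_const_one, funext_iff]

omit [Fintype κ] [DecidableEq κ] in
theorem pt_update (a : Fin t → Matrix κ κ F) (i : Fin t) (b : Matrix κ κ F) (x y : Fin t → κ) :
    pt (Function.update a i b) x y = b (x i) (y i) * ∏ j ∈ Finset.univ.erase i, a j (x j) (y j) := by
  rw [pt_apply, ← Finset.mul_prod_erase _ _ (Finset.mem_univ i), Function.update_self]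
  congr 1
  exact Finset.prod_congr rfl fun j hj => by rw [Function.update_of_ne (Finset.ne_of_mem_erase hj)]

omit [Fintype κ] [DecidableEq κ] in
theorem pt_smul (c : Fin t → F) (a : Fin t → Matrix κ κ F) :
    pt (fun i => c i • a i) = (∏ i, c i) • pt a := by
  ext x y
  simp [pt_apply, Finset.prod_mul_distrib]

omit [Fintype κ] [DecidableEq κ] in
theorem pt_transpose (a : Fin t → Matrix κ κ F) : (pt a)ᵀ = pt (fun i => (a i)ᵀ) := rfl

omit [Fintype κ] [DecidableEq κ] in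
theorem pt_map (σ : F →+* F) (a : Fin t → Matrix κ κ F) : (pt a).map σ = pt (fun i => (a i).map σ) := by
  ext x y
  simp [pt_apply]

/-- the `i`-th tensor factor -/
def emb (i : Fin t) : Matrix κ κ F →ₐ[F] Matrix (Fin t → κ) (Fin t → κ) F where
  toFun a := pt (Function.update 1 i a)
  map_one' := by rw [show Function.update (1 : Fin t → Matrix κ κ F) i 1 = 1 from
    Function.update_eq_self i _, pt_one]
  map_mul' a b := by rw [pt_mul, ← Function.update_mul, mul_one]
  map_zero' := by ext x y; simp [pt_update]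
  map_add' a b := by ext x y; simp [pt_update, add_mul]
  commutes' c := by
    ext x y
    rw [Algebra.algebraMap_eq_smul_one, Algebra.algebraMap_eq_smul_one, ← pt_one, Matrix.smul_apply,
      pt_update, pt_apply, ← Finset.mul_prod_erase _ _ (Finset.mem_univ i)]
    simp [mul_assoc]

theorem emb_apply (i : Fin t) (a : Matrix κ κ F) : emb i a = pt (Function.update 1 i a) := rfl

theorem comm_pt {x : Matrix (Fin t → κ) (Fin t → κ) F} (h : ∀ i a, x * emb i a = emb i a * x)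
    (a : Fin t → Matrix κ κ F) : x * pt a = pt a * x := by
  have key : ∀ s : Finset (Fin t), x * pt (s.piecewise a 1) = pt (s.piecewise a 1) * x := by
    intro s
    induction s using Finset.induction_on with
    | empty => simp [pt_one]
    | insert i s hi ih =>
      have : pt ((insert i s).piecewise a 1) = emb i (a i) * pt (s.piecewise a 1) := by
        rw [emb_apply, pt_mul]
        congr 1
        ext j : 1
        by_cases hj : j = i
        · subst hj; simp [Finset.piecewise_eq_of_notMem _ _ _ hi]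
        · simp [Finset.piecewise_insert_of_ne _ _ _ hj, Function.update_of_ne hj]
      rw [this, ← Matrix.mul_assoc, h, Matrix.mul_assoc, ih, Matrix.mul_assoc]
  simpa using key Finset.univ

theorem isSc_of_comm_emb {x : Matrix (Fin t → κ) (Fin t → κ) F}
    (h : ∀ i a, x * emb i a = emb i a * x) : IsSc x :=
  isSc_of_comm_single fun i j => by rw [← pt_single]; exact comm_pt h _

/-- pure tensors of invertible matrices -/
def pgl (b : Fin t → GL κ F) : GL (Fin t → κ) F :=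
  ⟨pt fun i => b i, pt fun i => ((b i)⁻¹ : GL κ F),
    by rw [pt_mul, ← pt_one]; congr 1; ext i : 1; exact Units.mul_inv _,
    by rw [pt_mul, ← pt_one]; congr 1; ext i : 1; exact Units.inv_mul _⟩

theorem coe_pgl (b : Fin t → GL κ F) : (pgl b).val = pt fun i => (b i).val := rfl

theorem pgl_inv (b : Fin t → GL κ F) : (pgl b)⁻¹ = pgl b⁻¹ := Units.ext rfl

theorem pgl_mul (b c : Fin t → GL κ F) : pgl b * pgl c = pgl (b * c) :=
  Units.ext (by rw [Units.val_mul, coe_pgl, coe_pgl, pt_mul]; rfl)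

theorem pgl_one : pgl (1 : Fin t → GL κ F) = 1 := Units.ext pt_one

theorem cjm_pgl (b : Fin t → GL κ F) (a : Fin t → Matrix κ κ F) :
    cjm (pgl b) (pt a) = pt fun i => cjm (b i) (a i) := by
  rw [cjm_apply, pgl_inv, coe_pgl, coe_pgl, pt_mul, pt_mul]; rfl

theorem cjm_pgl_emb (b : Fin t → GL κ F) (i : Fin t) (a : Matrix κ κ F) :
    cjm (pgl b) (emb i a) = emb i (cjm (b i) a) := by
  rw [emb_apply, cjm_pgl, emb_apply]
  congr 1
  ext j : 1
  by_cases hj : j = i
  · subst hj; simp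
  · simp [Function.update_of_ne hj]

/-- permutation of the tensor factors -/
def fpm (κ : Type) [Fintype κ] [DecidableEq κ] (F : Type*) [Field F] (σ : Equiv.Perm (Fin t)) :
    Matrix (Fin t → κ) (Fin t → κ) F :=
  Matrix.of fun x y => if y = x ∘ σ then 1 else 0

theorem fpm_mul_apply (σ : Equiv.Perm (Fin t)) (a : Matrix (Fin t → κ) (Fin t → κ) F) (x y : Fin t → κ) :
    (fpm κ F σ * a) x y = a (x ∘ σ) y := by
  simp [fpm, mul_apply]

theorem mul_fpm_apply (σ : Equiv.Perm (Fin t)) (a : Matrix (Fin t → κ) (Fin t → κ) F) (x y : Fin t → κ) :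
    (a * fpm κ F σ) x y = a x (y ∘ σ.symm) := by
  simp only [fpm, mul_apply, of_apply, mul_ite, mul_one, mul_zero]
  rw [Finset.sum_eq_single (y ∘ σ.symm)]
  · rw [if_pos]; ext i; simp
  · intro z _ hz
    rw [if_neg]
    rintro rfl
    apply hz; ext i; simp
  · simp

theorem fpm_mul (σ τ : Equiv.Perm (Fin t)) : fpm κ F σ * fpm κ F τ = fpm κ F (σ * τ) := by
  ext x y
  rw [fpm_mul_apply]; rfl

theorem fpm_one : fpm κ F (1 : Equiv.Perm (Fin t)) = 1 := by
  ext x y
  simp [fpm, one_apply, eq_comm]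

/-- permutation of the tensor factors, as an invertible matrix -/
def fgl (κ : Type) [Fintype κ] [DecidableEq κ] (F : Type*) [Field F] :
    Equiv.Perm (Fin t) →* GL (Fin t → κ) F where
  toFun σ := ⟨fpm κ F σ, fpm κ F σ⁻¹, by rw [fpm_mul, mul_inv_cancel, fpm_one],
    by rw [fpm_mul, inv_mul_cancel, fpm_one]⟩
  map_one' := Units.ext fpm_one
  map_mul' σ τ := Units.ext (fpm_mul σ τ).symm

theorem coe_fgl (σ : Equiv.Perm (Fin t)) : (fgl κ F σ).val = fpm κ F σ := rfl

theorem cjm_fgl (σ : Equiv.Perm (Fin t)) (a : Fin t → Matrix κ κ F) :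
    cjm (fgl κ F σ) (pt a) = pt (a ∘ σ.symm) := by
  rw [cjm_eq_iff, coe_fgl]
  ext x y
  rw [fpm_mul_apply, mul_fpm_apply, pt_apply, pt_apply]
  conv_rhs => rw [← Equiv.prod_comp σ]
  simp

theorem cjm_fgl_emb (σ : Equiv.Perm (Fin t)) (i : Fin t) (a : Matrix κ κ F) :
    cjm (fgl κ F σ) (emb i a) = emb (σ i) a := by
  rw [emb_apply, cjm_fgl, emb_apply, Function.update_comp_equiv]
  rfl

theorem fgl_mul_pgl (σ : Equiv.Perm (Fin t)) (b : Fin t → GL κ F) :
    fgl κ F σ * pgl b = pgl (b ∘ σ.symm) * fgl κ F σ := by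
  apply Units.ext
  rw [Units.val_mul, Units.val_mul, ← cjm_eq_iff, coe_pgl, cjm_fgl]
  rfl

theorem fpm_transpose (σ : Equiv.Perm (Fin t)) : (fpm κ F σ)ᵀ = fpm κ F σ⁻¹ := by
  ext x y
  simp only [fpm, transpose_apply, of_apply]
  congr 1
  apply propext
  constructor
  · rintro rfl; ext i; simp
  · rintro rfl; ext i; simp

theorem fpm_map (τ : F →+* F) (σ : Equiv.Perm (Fin t)) : (fpm κ F σ).map τ = fpm κ F σ := by
  ext x y
  simp only [fpm, map_apply, of_apply]
  split_ifs <;> simp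

theorem exists_pgl_fgl [Nonempty κ] (ht : 0 < t) {g : GL (Fin t → κ) F} (σ : Equiv.Perm (Fin t))
    (h : ∀ i a, cjm g (emb i a) ∈ (emb (F := F) (κ := κ) (σ i)).range) :
    ∃ b, g = pgl b * fgl κ F σ := by
  choose b hb using fun i => exists_cjm_of_range (emb i) (emb (σ i)) g (h i)
  obtain ⟨c, hc⟩ := mem_scalars.2 <| isSc_of_comm_emb
    (x := Units.val ((fgl κ F σ * pgl b)⁻¹ * g)) (fun i a => by
      rw [← cjm_eq_iff, cjm_mul, hb, _root_.mul_inv_rev, cjm_mul, ← map_inv, cjm_fgl_emb, pgl_inv,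
        cjm_pgl_emb]
      simp [cjm_inv_cjm])
  have h1 : g = fgl κ F σ * (pgl b * scal _ c) := by
    rw [← mul_assoc]; exact inv_mul_eq_iff_eq_mul.1 hc.symm
  have h2 : (scal _ c : GL (Fin t → κ) F) = pgl (Function.update 1 ⟨0, ht⟩ (scal κ c)) := by
    apply Units.ext
    have := (emb (F := F) (κ := κ) (⟨0, ht⟩ : Fin t)).commutes c
    rw [Algebra.algebraMap_eq_smul_one, Algebra.algebraMap_eq_smul_one] at this
    rw [coe_scal, coe_pgl, ← this, emb_apply]
    congr 1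
    ext j : 1
    by_cases hj : j = ⟨0, ht⟩
    · subst hj; simp [coe_scal]
    · simp [Function.update_of_ne hj]
  rw [h1, h2, pgl_mul, fgl_mul_pgl]
  exact ⟨_, rfl⟩

theorem list_prod_sum {A : Type*} [Ring A] [Algebra F A] {β : Type} [Fintype β] [DecidableEq β] {t : ℕ}
    (c : Fin t → β → F) (v : Fin t → β → A) :
    (List.ofFn fun i => ∑ b, c i b • v i b).prod =
      ∑ z : Fin t → β, (∏ i, c i (z i)) • (List.ofFn fun i => v i (z i)).prod := by
  induction t with
  | zero => simp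
  | succ t ih =>
    rw [List.ofFn_succ, List.prod_cons, ih, ← (Fin.consEquiv fun _ => β).sum_comp,
      Fintype.sum_prod_type, Finset.sum_mul]
    refine Finset.sum_congr rfl fun b _ => ?_
    rw [Finset.mul_sum]
    refine Finset.sum_congr rfl fun z _ => ?_
    simp [Fin.prod_univ_succ, List.ofFn_succ, Fin.consEquiv, smul_smul, mul_comm]

theorem list_prod_mul {A : Type*} [Monoid A] {t : ℕ} (u v : Fin t → A)
    (h : ∀ i j, i ≠ j → Commute (u i) (v j)) :
    (List.ofFn u).prod * (List.ofFn v).prod = (List.ofFn fun i => u i * v i).prod := by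
  induction t with
  | zero => simp
  | succ t ih =>
    simp only [List.ofFn_succ, List.prod_cons]
    rw [← ih _ _ (fun i j hij => h _ _ (fun e => hij (Fin.succ_injective _ e)))]
    have : Commute (List.ofFn fun i => u (Fin.succ i)).prod (v 0) := by
      apply Commute.list_prod_left
      intro x hx
      obtain ⟨i, rfl⟩ := List.mem_ofFn.1 hx
      exact h _ _ (Fin.succ_ne_zero i)
    rw [mul_assoc, ← mul_assoc _ (v 0), this.eq, mul_assoc, mul_assoc]

theorem list_prod_single {A : Type*} [Monoid A] {t : ℕ} (u : Fin t → A) (i : Fin t)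
    (h : ∀ j, j ≠ i → u j = 1) : (List.ofFn u).prod = u i := by
  induction t with
  | zero => exact i.elim0
  | succ t ih =>
    rw [List.ofFn_succ, List.prod_cons]
    induction i using Fin.cases with
    | zero =>
      rw [List.prod_eq_one, mul_one]
      intro x hx
      obtain ⟨j, rfl⟩ := List.mem_ofFn.1 hx
      exact h _ (Fin.succ_ne_zero j)
    | succ i =>
      rw [h 0 (Fin.succ_ne_zero i).symm, one_mul,
        ih _ i (fun j hj => h _ (fun e => hj (Fin.succ_injective _ e)))]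

/-- Commuting matrix algebras generating everything come from a tensor decomposition. -/
theorem exists_tensor_pow [Nonempty κ] [Nonempty ι] (φ : Fin t → (Matrix κ κ F →ₐ[F] Matrix ι ι F))
    (hc : ∀ i j, i ≠ j → ∀ a b, Commute (φ i a) (φ j b))
    (htop : ∀ A : Subalgebra F (Matrix ι ι F), (∀ i, (φ i).range ≤ A) → A = ⊤) :
    ∃ (e : ι ≃ (Fin t → κ)) (P : GL ι F), ∀ i a, φ i a = trm e P (emb i a) := by
  let L : (Fin t → Matrix κ κ F) → Matrix ι ι F := fun a => (List.ofFn fun i => φ i (a i)).prod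
  let Φ : Matrix (Fin t → κ) (Fin t → κ) F →ₗ[F] Matrix ι ι F :=
    { toFun := fun X => ∑ x, ∑ y, X x y • L fun i => single (x i) (y i) 1
      map_add' := fun X Y => by simp [add_smul, Finset.sum_add_distrib]
      map_smul' := fun c X => by simp [Finset.smul_sum, smul_smul] }
  have hΦ : ∀ a, Φ (pt a) = L a := by
    intro a
    have h1 : ∀ i, φ i (a i) = ∑ p : κ × κ, a i p.1 p.2 • φ i (single p.1 p.2 1) := by
      intro i
      conv_lhs => rw [matrix_eq_sum_single (a i)]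
      rw [Fintype.sum_prod_type, map_sum]
      refine Finset.sum_congr rfl fun x _ => ?_
      rw [map_sum]
      refine Finset.sum_congr rfl fun y _ => ?_
      rw [← map_smul, smul_single, smul_eq_mul, mul_one]
    simp only [L]
    conv_rhs => simp only [h1]
    rw [list_prod_sum, ← (Equiv.arrowProdEquivProdArrow _ (fun _ => κ) (fun _ => κ)).symm.sum_comp,
      Fintype.sum_prod_type]
    rfl
  have hL : ∀ a b, L a * L b = L (a * b) := by
    intro a b
    simp only [L]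
    rw [list_prod_mul _ _ (fun i j hij => hc i j hij _ _)]
    simp
  have hmul : ∀ X Y, Φ (X * Y) = Φ X * Φ Y := by
    intro X Y
    induction X using Matrix.induction_on' with
    | h_zero => simp
    | h_add p q hp hq => rw [Matrix.add_mul, map_add, map_add, hp, hq, add_mul]
    | h_std_basis x y c =>
      induction Y using Matrix.induction_on' with
      | h_zero => simp
      | h_add p q hp hq => rw [Matrix.mul_add, map_add, map_add, hp, hq, mul_add]
      | h_std_basis z w d =>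
        have e1 : single x y c = c • single x y (1 : F) := by simp
        have e2 : single z w d = d • single z w (1 : F) := by simp
        rw [e1, e2, Matrix.smul_mul, Matrix.mul_smul, map_smul, map_smul, map_smul, map_smul,
          smul_mul_assoc, mul_smul_comm, ← pt_single, ← pt_single, pt_mul, hΦ, hΦ, hΦ, hL]
  have hone : Φ 1 = 1 := by
    rw [← pt_one, hΦ]; simp [L]
  let Ψ := AlgHom.ofLinearMap Φ hone hmul
  have hΨ : ∀ i a, Ψ (emb i a) = φ i a := by
    intro i a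
    change Φ (pt _) = _
    rw [hΦ]
    simp only [L]
    rw [list_prod_single _ i (fun j hj => by simp [Function.update_of_ne hj])]
    simp
  have hs : Function.Surjective Ψ := by
    rw [← AlgHom.range_eq_top]
    apply htop
    rintro i _ ⟨a, rfl⟩
    exact ⟨emb i a, hΨ i a⟩
  obtain ⟨e, P, hP⟩ := exists_trm_of_surjective Ψ hs
  exact ⟨e, P, fun i a => by rw [← hΨ, hP]⟩

end Pow

theorem mem_tensorWreathStandard {m t : ℕ} {g : GL (Fin t → Fin m) F} :
    g ∈ tensorWreathStandard m t F ↔ ∃ b σ, g = pgl b * fgl (Fin m) F σ := by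
  constructor
  · intro h
    induction h using Subgroup.closure_induction with
    | mem g hg =>
      rcases hg with ⟨b, hb⟩ | ⟨σ, hσ⟩
      · exact ⟨b, 1, by rw [map_one, mul_one]; exact Units.ext (Matrix.ext hb)⟩
      · exact ⟨1, σ, by rw [pgl_one, one_mul]; exact Units.ext (Matrix.ext hσ)⟩
    | one => exact ⟨1, 1, by rw [pgl_one, map_one, mul_one]⟩
    | mul g h _ _ hg hh =>
      obtain ⟨b, σ, rfl⟩ := hg
      obtain ⟨c, τ, rfl⟩ := hh
      refine ⟨b * (c ∘ σ.symm), σ * τ, ?_⟩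
      rw [mul_assoc, ← mul_assoc (fgl _ F σ), fgl_mul_pgl, ← pgl_mul, map_mul]
      simp only [mul_assoc]
    | inv g _ hg =>
      obtain ⟨b, σ, rfl⟩ := hg
      rw [_root_.mul_inv_rev, ← map_inv, pgl_inv, fgl_mul_pgl]
      exact ⟨_, _, rfl⟩
  · rintro ⟨b, σ, rfl⟩
    exact mul_mem (Subgroup.subset_closure (Or.inl ⟨b, fun _ _ => rfl⟩))
      (Subgroup.subset_closure (Or.inr ⟨σ, fun _ _ => rfl⟩))

theorem mem_tensorWreathSubgroup {m t : ℕ} {e : ι ≃ (Fin t → Fin m)} {P g : GL ι F} :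
    g ∈ tensorWreathSubgroup m t e P ↔ ∃ b σ, g = trg e P (pgl b * fgl (Fin m) F σ) := by
  rw [tensorWreathSubgroup, map_trg, mem_map_trg, mem_tensorWreathStandard]
  refine exists_congr fun a => exists_congr fun b => ?_
  rw [MulEquiv.symm_apply_eq]

theorem mem_tensorWreathSubgroup_of_nrm {m t : ℕ} [NeZero m] (ht : 0 < t)
    {e : ι ≃ (Fin t → Fin m)} {P g : GL ι F} (σ : Equiv.Perm (Fin t))
    (h : ∀ i a, ∃ a', cjm g (trm e P (emb i a)) = trm e P (emb (σ i) a')) :
    g ∈ tensorWreathSubgroup m t e P := by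
  obtain ⟨g, rfl⟩ := (trg e P).surjective g
  obtain ⟨b, rfl⟩ := exists_pgl_fgl ht (g := g) σ (fun i a => by
    obtain ⟨a', ha'⟩ := h i a
    rw [cjm_trg] at ha'
    exact ⟨a', ((trm e P).injective ha').symm⟩)
  exact mem_tensorWreathSubgroup.2 ⟨b, σ, rfl⟩

theorem kron_eq_pt {κ : Type} [Fintype κ] [DecidableEq κ] (a b : Matrix κ κ F) :
    a ⊗ₖ b = (pt ![a, b]).submatrix (finTwoArrowEquiv κ).symm (finTwoArrowEquiv κ).symm := by
  ext ⟨i, j⟩ ⟨k, l⟩
  simp [pt_apply, Fin.prod_univ_two]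

theorem trg_kgl_eq_pgl {κ : Type} [Fintype κ] [DecidableEq κ] (e : ι ≃ κ × κ) (P : GL ι F)
    (a b : GL κ F) : trg e P (kgl a b) = trg (e.trans (finTwoArrowEquiv κ).symm) P (pgl ![a, b]) := by
  apply Units.ext
  rw [coe_trg, coe_trg, trm_trans, coe_kgl, kron_eq_pt, coe_pgl]
  have : (fun i => ((![a, b] : Fin 2 → GL κ F) i).val) = ![a.val, b.val] := by
    ext i : 1
    fin_cases i <;> rfl
  rw [this]

theorem tensorProductSubgroup_le_wreath {k : ℕ} (e : ι ≃ Fin k × Fin k) (P : GL ι F) :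
    tensorProductSubgroup k k e P ≤
      tensorWreathSubgroup k 2 (e.trans (finTwoArrowEquiv (Fin k)).symm) P := by
  intro g hg
  obtain ⟨a, b, rfl⟩ := mem_tensorProductSubgroup.1 hg
  exact mem_tensorWreathSubgroup.2 ⟨![a, b], 1, by rw [map_one, mul_one, trg_kgl_eq_pgl]⟩

end Cfsg.Agent.Classical.Asch
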