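import Cfsg.Agent.Lib.Classical.Asch19

/-!
Maximal subgroups of the special unitary groups.
-/

set_option autoImplicit false

namespace Cfsg.Agent.Classical.Asch
open Matrix Cfsg.Geo Module Cfsg.Agent.Comp
open scoped MatrixGroups Kronecker commutatorElement

variable {ι : Type} [Fintype ι] [DecidableEq ι] {F : Type*} [Field F] {σ : F →+* F}

local notation "Z" => scalars ι F
local notation "σ₀" => RingHom.id F

theorem IsMDecomposition.eq_of_mem {t m : ℕ} {D : Fin t → Submodule F (ι → F)} (hD : IsMDecomposition m D)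
    {i j : Fin t} {v : ι → F} (h0 : v ≠ 0) (hi : v ∈ D i) (hj : v ∈ D j) : i = j := by
  by_contra e
  exact h0 (Submodule.disjoint_def.1 (hD.indep.pairwiseDisjoint e) v hi hj)

theorem IsMDecomposition.mem_stab {t m : ℕ} {D : Fin t → Submodule F (ι → F)} (hD : IsMDecomposition m D)
    {g : GL ι F} (h : ∀ i, ∃ j, ∀ v ∈ D i, g.val *ᵥ v ∈ D j) : g ∈ decompositionStabilizer D := by
  choose f hf using h
  have h1 : ∀ i, (D i).map (Matrix.toLin' g.val) = D (f i) := fun i =>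
    Submodule.eq_of_le_of_finrank_eq (by rintro _ ⟨v, hv, rfl⟩; exact hf i v hv)
      (by rw [finrank_map_gl, hD.finrank_eq, hD.finrank_eq])
  refine ⟨Equiv.ofBijective f (Finite.injective_iff_bijective.1 fun i j e => ?_), h1⟩
  obtain ⟨u, hu, h0⟩ := IsMDecomposition.exists_ne_zero hD i
  obtain ⟨v, hv, h2⟩ := (h1 j).ge (e ▸ hf i u hu)
  refine IsMDecomposition.eq_of_mem hD h0 hu ?_
  rwa [← inv_mulVec_mulVec g u, ← h2, toLin'_apply, inv_mulVec_mulVec]

theorem exists_frame {τ : Type} [Fintype τ] [DecidableEq τ] (e : ι ≃ τ) (P : GL ι F) (hτ : 2 ≤ Fintype.card τ) :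
    ∃ D : Fin (Fintype.card τ) → Submodule F (ι → F), IsMDecomposition 1 D ∧
      (∀ j, ∃ i, D j = F ∙ trv e P (Pi.single i 1)) ∧
      (∀ {σ : F →+* F} {B : Matrix ι ι F} {c : τ → F}, (∀ i, c i ≠ 0) → Pb σ B e P (diagonal c) →
        IsNondegenerateMDecomposition (gf σ B) 1 D) ∧
      ∀ g : GL τ F, (∀ i, ∃ j a, g.val *ᵥ Pi.single i 1 = Pi.single j a) → trg e P g ∈ decompositionStabilizer D := by
  let ε := Fintype.equivFin τ
  obtain ⟨D, hD⟩ := exists_coord (e.trans (ε.trans (Equiv.uniqueProd _ (Fin 1)).symm)) P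
  have h1 : ∀ j v, v ∈ D j ↔ ∃ a : F, v = a • trv e P (Pi.single (ε.symm j) 1) := fun j v => by
    have : ∀ x : Fin 1 → F, trv (e.trans (ε.trans (Equiv.uniqueProd _ (Fin 1)).symm)) P (blk j x) =
        x 0 • trv e P (Pi.single (ε.symm j) 1) := fun x => by
      rw [trv_trans, ← map_smul]
      congr 1; ext i
      simp [blk_apply, Pi.single_apply, Equiv.eq_symm_apply]
    simp only [hD j, this]
    exact ⟨fun ⟨x, h⟩ => ⟨_, h⟩, fun ⟨a, h⟩ => ⟨fun _ => a, h⟩⟩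
  have h2 : IsMDecomposition 1 D := by simpa using hD.isMDecomposition hτ (by simp)
  refine ⟨D, h2, fun j => ⟨ε.symm j, Submodule.ext fun v => by
    rw [h1, Submodule.mem_span_singleton]; exact exists_congr fun _ => eq_comm⟩,
    fun hc hB => ⟨h2, fun j w hw h0 => ?_, fun i j hij u hu v hv => ?_⟩,
    fun g hg => IsMDecomposition.mem_stab h2 fun i => ?_⟩
  · obtain ⟨a, rfl⟩ := (h1 _ _).1 hw
    have ha := left_ne_zero_of_smul h0
    exact ⟨⟨_, hw, by simp [gf_smul_left, gf_smul_right, hB _ _, gf_single, ha, hc]⟩,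
      ⟨_, hw, by simp [gf_smul_left, gf_smul_right, hB _ _, gf_single, ha, hc]⟩⟩
  · obtain ⟨a, rfl⟩ := (h1 _ _).1 hu
    obtain ⟨b, rfl⟩ := (h1 _ _).1 hv
    simp [gf_smul_left, gf_smul_right, hB _ _, gf_single, hij]
  · obtain ⟨j, b, hj⟩ := hg (ε.symm i)
    refine ⟨ε j, fun v hv => ?_⟩
    obtain ⟨a, rfl⟩ := (h1 _ _).1 hv
    refine (h1 _ _).2 ⟨a * b, ?_⟩
    rw [mulVec_smul, trg_mulVec, hj, ε.symm_apply_apply, mul_smul, ← map_smul _ b, ← Pi.single_smul', smul_eq_mul,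
      mul_one]

theorem blk_single' {κ τ : Type} [DecidableEq κ] [DecidableEq τ] (j : τ) (k : κ) (a : F) :
    blk j (Pi.single k a) = Pi.single (k, j) a := by
  ext ⟨x, y⟩; simp [blk_apply, Pi.single_apply, ite_and]; split_ifs <;> rfl

theorem exists_sq_neg_one [Finite F] (h : 4 ∣ Nat.card F - 1) : ∃ i : Fˣ, i * i = -1 := by
  obtain ⟨i, hi⟩ := exists_pow_four h
  have h1 : (i : F) * i * (i * i) = 1 := by
    have := congrArg Units.val (pow_orderOf_eq_one i)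
    rw [hi, Units.val_pow_eq_pow_val, Units.val_one] at this
    linear_combination this
  refine ⟨i, Units.ext ((mul_self_eq_one_iff.1 h1).resolve_left fun e => ?_)⟩
  have := orderOf_dvd_of_pow_eq_one ((sq i).trans (Units.ext e))
  rw [hi] at this
  omega

theorem Amb.mono {X Γ Γ' : Subgroup (GL ι F)} (h : Amb X Γ) (h1 : X ≤ Γ')
    (h2 : Γ' ≤ Subgroup.normalizer (X : Set (GL ι F))) : Amb X Γ' := ⟨h.qs, h.top, h1, h2⟩

theorem RF.isoF {B : GL ι F} (h : RF σ 1 B) (hne : σ ≠ σ₀) : IsoF (h.form hne) = Iso σ B.val := by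
  ext; exact (h.mem_Iso hne).symm

/-- normal form for a non-degenerate decomposition of a unitary space -/
theorem RF.exists_coord_one [Finite F] (hne : σ ≠ σ₀) {B : GL ι F} (hB : RF σ 1 B) {t m : ℕ}
    {D : Fin t → Submodule F (ι → F)} (hD : IsNondegenerateMDecomposition (gf σ B.val) m D) :
    ∃ (e : ι ≃ Fin m × Fin t) (P : GL ι F), Coord D e P ∧ Pb σ B.val e P 1 := by
  obtain ⟨e, P, hc⟩ := IsMDecomposition.exists_coord hD.1
  obtain ⟨C, hC⟩ := hc.exists_pb hD.3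
  choose b hb using fun j => (rf_bdg (hC.rf hB) j).exists_pb hne (rf_one hB.σσ) (Equiv.refl _)
  have := Pb.mul_bdg (coe_bdg C ▸ hC) b
  simp only [Pb.refl_iff.1 (hb _), Units.val_one] at this
  exact ⟨e, _, hc.mul b, by rwa [← blockDiagonal_one]⟩

section
variable [Fintype F] {q : ℕ}

theorem amb_SU (h : US σ q) {B : GL ι F} (hB : RF σ 1 B) (hι : 3 ≤ Fintype.card ι)
    (h3 : ¬ (Fintype.card ι = 3 ∧ q = 2)) : Amb (Iso σ B.val ⊓ specialLinear ι F) (Sim σ B.val) := by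
  obtain ⟨hF, h⟩ := h
  obtain rfl : σ = frobq hF := RingHom.ext h
  have hn := hB.nondeg (frobq_ne_id hF)
  obtain ⟨e, f, hef⟩ := unit_exists_hyp (frobq_ne_id hF) hn (by simp only [finrank_fintype_fun_eq_card]; omega)
  have := amb_form (Form.unit_rich (frobq_ne_id hF) _) hn hef (by
    rw [unit_E_eq hF hn]
    exact unit_perfect hF hn (by simpa using hι) (by simpa using h3)) hι
  rw [show EF (hB.form _) = Iso (frobq hF) B.val ⊓ specialLinear ι F by
    rw [EF, unit_E_eq hF hn]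
    ext g
    rw [Subgroup.mem_comap, Form.mem_SIsom, Subgroup.mem_inf, hB.mem_Iso (frobq_ne_id hF), mem_specialLinear,
      MulEquiv.coe_toMonoidHom, det_glEquiv, Units.ext_iff]; rfl] at this
  refine this.mono (inf_le_left.trans Iso_le_Sim) fun g hg => Subgroup.mem_normalizer_fintype fun x hx =>
    ⟨(mem_normalizer_Iso hg x).1 hx.1, Subgroup.Normal.conj_mem inferInstance _ hx.2 g⟩

theorem not_Iso_le_subfield (h : US σ q) {B : GL ι F} (hB : RF σ 1 B) (hι : 3 ≤ Fintype.card ι) {F₀ : Subfield F}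
    {r : ℕ} (hr : r.Prime) (hF : Fintype.card F = Nat.card F₀ ^ r) (P : GL ι F) :
    ¬ Iso σ B.val ≤ subfieldSubgroup F₀ P := fun k => by
  have hq := h.two_le
  obtain ⟨γ, hγ⟩ := IsCyclic.exists_ofOrder_eq_natCard (α := Fˣ)
  rw [Nat.card_units, h.natCard] at hγ
  have h1 := orderOf_pow_orderOf_div (orderOf_pos γ).ne' (hγ ▸ add_one_dvd_sq_sub q)
  generalize γ ^ _ = l at h1
  have h2 : (l : F) * σ l = 1 := by rw [h.eq, ← pow_succ', ← h1, ← Units.val_pow_eq_pow_val, pow_orderOf_eq_one]; rfl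
  obtain ⟨d, hd⟩ := unit_exists_norm h.ne (hB.nondeg h.ne) (by simp only [finrank_fintype_fun_eq_card]; omega)
    (map_one σ)
  obtain ⟨g, hg, h3⟩ := exists_qrefl (hB.form h.ne) (d := d) (c := l - 1) (by
    rw [hd, Kind.unit_T]; simp only [Kind.unit, map_sub, map_one, h.σσ]; linear_combination h2)
  have h4 := add_mem (h3.apply_mem hι (k (hB.isoF h.ne ▸ hg))) F₀.one_mem
  rw [show ((l - 1 : F) • (hB.form h.ne).B.flip d) d = (l - 1) * (hB.form h.ne).N d from rfl, hd, mul_one,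
    sub_add_cancel] at h4
  have h5 := Finite.one_lt_card (α := F₀)
  have h6 : q + 1 ∣ Nat.card F₀ - 1 := h1 ▸ orderOf_dvd_of_pow_eq_one (by
    rw [pow_sub _ h5.le, pow_one, mul_inv_eq_one]; exact Units.ext (pow_card_of_mem h4))
  have h7 := Nat.le_of_dvd (by omega) h6
  have h8 : q ^ 2 < Nat.card F₀ ^ r := (Nat.pow_lt_pow_left (by omega) two_ne_zero).trans_le
    (Nat.pow_le_pow_right (by omega) hr.two_le)
  rw [← hF, h.card] at h8
  exact h8.false

/-- The possibilities for a maximal subgroup of the special unitary group. -/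
inductive UM (σ : F →+* F) (q : ℕ) (B : GL ι F) (H : Subgroup (GL ι F)) : Prop
  | ts (W : Submodule F (ι → F)) (h1 : W ≠ ⊥) (h2 : IsTotallySingularFor (gf σ B.val) W)
      (h : H = subspaceStabilizer W ⊓ (Iso σ B.val ⊓ specialLinear ι F))
  | nd (W : Submodule F (ι → F)) (h1 : W ≠ ⊥) (h2 : IsNondegenerateOn (gf σ B.val) W)
      (h3 : 2 * finrank F W < Fintype.card ι) (h : H = subspaceStabilizer W ⊓ (Iso σ B.val ⊓ specialLinear ι F))
  | dec {t : ℕ} (m : ℕ) (D : Fin t → Submodule F (ι → F))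
      (hD : IsNondegenerateMDecomposition (gf σ B.val) m D) (h1 : m = 2 → 3 ≤ q) (h2 : m = 1 → t = 4 → q ≠ 3)
      (h : H = decompositionStabilizer D ⊓ (Iso σ B.val ⊓ specialLinear ι F))
  | pair (m : ℕ) (D : Fin 2 → Submodule F (ι → F)) (hD : IsMDecomposition m D)
      (h2 : ∀ i, IsTotallySingularFor (gf σ B.val) (D i)) (h3 : m = 2 → 4 ≤ q)
      (h : H = decompositionStabilizer D ⊓ (Iso σ B.val ⊓ specialLinear ι F))
  | fld (r : ℕ) (K : Subalgebra F (Matrix ι ι F)) (hr : r.Prime) (ho : Odd r) (hK : IsFieldSubalgebra r K)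
      (h1 : IsAdjointClosedFor (gf σ B.val) K) (h : H = subalgebraNormalizer K ⊓ (Iso σ B.val ⊓ specialLinear ι F))
  | ten (n₁ n₂ : ℕ) (e : ι ≃ Fin n₁ × Fin n₂) (P : GL ι F) (f₁ : (Fin n₁ → F) → (Fin n₁ → F) → F)
      (f₂ : (Fin n₂ → F) → (Fin n₂ → F) → F) (h1 : 2 ≤ n₁) (h2 : n₁ < n₂) (h3 : n₁ = 2 → 3 ≤ q)
      (hf₁ : IsUnitaryFormPow q f₁) (hf₂ : IsUnitaryFormPow q f₂)
      (hB : IsTensorFormStructure (fun x : F => x ^ q) (gf σ B.val) f₁ f₂ e P)
      (h : H = tensorProductSubgroup n₁ n₂ e P ⊓ (Iso σ B.val ⊓ specialLinear ι F))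
  | sub (M : Subgroup (GL ι F)) (hM : USub σ q B M) (h : H = M ⊓ (Iso σ B.val ⊓ specialLinear ι F))
  | ext (R : Subgroup (GL ι F)) (r k : ℕ) (hR : UExt σ B R r k)
      (h : H = subgroupNormalizer R ⊓ (Iso σ B.val ⊓ specialLinear ι F))
  | wre (k t : ℕ) (e : ι ≃ (Fin t → Fin k)) (P : GL ι F) (f : (Fin k → F) → (Fin k → F) → F)
      (h1 : 3 ≤ k) (h2 : 2 ≤ t) (h3 : ¬ (q = 2 ∧ k = 3)) (hf : IsUnitaryFormPow q f)
      (hB : IsTensorPowerFormStructure (fun x : F => x ^ q) (gf σ B.val) f e P)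
      (h : H = tensorWreathSubgroup k t e P ⊓ (Iso σ B.val ⊓ specialLinear ι F))
  | res (h : InUnitaryResidualClass H)

theorem US.norm_eq_one (h : US σ 2) {x : F} (hx : x ≠ 0) : x * σ x = 1 := by
  have := FiniteField.pow_card_sub_one_eq_one x hx
  rwa [h.card, h.eq, ← pow_succ'] at *

theorem US.two_eq_zero (h : US σ 2) : (2 : F) = 0 := two_eq_zero_of_card (by rw [h.card]; decide)

section
variable (h : US σ q) {B : GL ι F} (hB : RF σ 1 B) (hι : 3 ≤ Fintype.card ι) (h3 : ¬ (Fintype.card ι = 3 ∧ q = 2))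
  {H : Subgroup (GL ι F)} (hH : IsMaximalIn (Iso σ B.val ⊓ specialLinear ι F) H)
include h hB hι h3

theorem amb_SU' : Amb (Iso σ B.val ⊓ specialLinear ι F) (IsoF (hB.form h.ne)) := by
  rw [hB.isoF]
  exact (amb_SU h hB hι h3).mono inf_le_left (Iso_le_Sim.trans (amb_SU h hB hι h3).nrm)

include hH

theorem UM.of_sub {M : Subgroup (GL ι F)} (hM : USub σ q B M) (k : H ≤ M) : UM σ q B H := by
  refine .sub M hM (IsMaximalIn.eq_inf hH k ?_)
  obtain ⟨F₀, r, P, h1, h2, rfl, -⟩ := hM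
  exact fun e => not_Iso_le_subfield h hB hι h1 h2 P (Iso_le_Sim.trans ((amb_SU h hB hι h3).le_subfield e))

theorem UM.of_ext {R : Subgroup (GL ι F)} {r k : ℕ} (hR : UExt σ B R r k) (k' : H ≤ subgroupNormalizer R) :
    UM σ q B H :=
  .ext R r k hR (IsMaximalIn.eq_inf hH k' ((amb_SU h hB hι h3).not_le_ext hR.sim hR.st hR.abs))

theorem UM.of_frame {t : ℕ} {D : Fin t → Submodule F (ι → F)}
    (hD : IsNondegenerateMDecomposition (gf σ B.val) 1 D) (k : H ≤ decompositionStabilizer D) : UM σ q B H := by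
  by_cases h1 : t = 4 → q ≠ 3
  · exact .dec 1 D hD (by simp) (fun _ => h1) (IsMaximalIn.eq_inf hH k
      ((amb_SU' h hB hι h3).not_le_nd (hB.nondeg _) (hasRf_unit h.ne _) hD))
  push Not at h1
  obtain ⟨rfl, rfl⟩ := h1
  obtain ⟨e, P, hc, hC⟩ := hB.exists_coord_one h.ne hD
  have h20 := h.odd_iff.2 (by decide)
  obtain ⟨i, hi⟩ := exists_sq_neg_one (F := F) (by rw [h.natCard]; decide)
  have h4 : ∀ c : Fˣ, c ^ 4 = 1 ↔ (c : F) * σ c = 1 := fun c => by
    rw [h.eq, ← pow_succ', ← Units.val_pow_eq_pow_val, Units.val_eq_one]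
  obtain ⟨hX, hz⟩ := xr_R4 h20 hi e P
  have h5 : H ≤ subgroupNormalizer ((R4 F).map (trg e P).toMonoidHom) := fun g hg => by
    obtain ⟨h6, h7⟩ := hH.1.le hg
    obtain ⟨π, a, rfl⟩ := hc.exists_mono (k hg)
    refine trg_mem_normalizer e P (mono_mem_normalizer_R4 π
      (fun j => (h4 _).2 (mono_mem_Iso.1 (hC.mem_Iso.1 h6) j)) (Units.ext ?_))
    have := congrArg (· ^ 2) (mem_specialLinear.1 h7)
    simp only [det_trg, det_mono, mul_pow, sign_cast_sq, one_mul, one_pow] at this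
    exact this
  refine (hX.uExt h hB ?_ fun _ => hz).elim (fun ⟨_, hk⟩ => .of_ext h hB hι h3 hH hk h5)
    fun ⟨M, h1, h2⟩ => .of_sub h hB hι h3 hH h1 (h5.trans h2)
  rintro _ ⟨x, hx, rfl⟩
  exact hC.mem_Sim.2 (Iso_le_Sim (R4_le_Iso (fun c => (h4 c).1) hx))

theorem UM.of_dec {t m : ℕ} {D : Fin t → Submodule F (ι → F)}
    (hD : IsNondegenerateMDecomposition (gf σ B.val) m D) (k : H ≤ decompositionStabilizer D) : UM σ q B H := by
  by_cases hm : m = 1
  · subst hm; exact .of_frame h hB hι h3 hH hD k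
  by_cases h1 : m = 2 → 3 ≤ q
  · exact .dec m D hD h1 (fun e => absurd e hm) (IsMaximalIn.eq_inf hH k
      ((amb_SU' h hB hι h3).not_le_nd (hB.nondeg _) (hasRf_unit h.ne _) hD))
  push Not at h1
  obtain ⟨rfl, h1⟩ := h1
  obtain rfl : q = 2 := by have := h.two_le; omega
  obtain ⟨e, P, hc, hC⟩ := hB.exists_coord_one h.ne hD
  obtain ⟨D', -, -, h2, h4⟩ := exists_frame e P (by rw [← Fintype.card_congr e]; omega)
  refine .of_frame h hB hι h3 hH (h2 (c := fun _ => 1) (fun _ => one_ne_zero) hC) fun g hg => ?_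
  have h5 := (hH.1.le hg).1
  obtain ⟨π, a, rfl⟩ := hc.exists_bm (k hg)
  refine h4 _ fun ⟨l, j⟩ => ?_
  have h6 := mem_Iso'.1 (hC.mem_Iso.1 h5) (Pi.single (l, j) 1) (Pi.single (l, j) 1)
  rw [gf_single, one_apply_eq, ← blk_single, bm_blk, ← blockDiagonal_one, gf_blk, if_pos rfl, gf_eq_sum] at h6
  rw [← blk_single, bm_blk]
  generalize (a j).val *ᵥ Pi.single l 1 = x at h6
  simp only [Fin.sum_univ_two, Pi.one_apply, one_apply_eq, mul_one, ne_eq, zero_ne_one, not_false_eq_true,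
    one_apply_ne, mul_zero, zero_mul, add_zero, one_ne_zero, zero_add] at h6
  by_cases h7 : x 0 = 0
  · exact ⟨(1, π j), x 1, by rw [← blk_single']; congr 1; ext i; fin_cases i <;> simp [h7]⟩
  by_cases h8 : x 1 = 0
  · exact ⟨(0, π j), x 0, by rw [← blk_single']; congr 1; ext i; fin_cases i <;> simp [h8]⟩
  rw [h.norm_eq_one h7, h.norm_eq_one h8] at h6
  exact absurd (by linear_combination h6) (one_ne_zero (α := F))

theorem UM.of_pair {m : ℕ} {D : Fin 2 → Submodule F (ι → F)} (hD : IsMDecomposition m D)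
    (hT : ∀ i, IsTotallySingularFor (gf σ B.val) (D i)) (k : H ≤ decompositionStabilizer D) : UM σ q B H := by
  by_cases h1 : m = 2 → 4 ≤ q
  · exact .pair m D hD hT h1 (IsMaximalIn.eq_inf hH k ((amb_SU' h hB hι h3).not_le_pair (hB.nondeg _)
      (by have := IsMDecomposition.card_eq hD; omega) hD fun i => ⟨fun w hw => hT i w hw w hw, hT i⟩))
  push Not at h1
  obtain ⟨rfl, h1⟩ := h1
  obtain ⟨e, P, hc⟩ := IsMDecomposition.exists_coord hD
  obtain ⟨P, hc, hC⟩ := hc.exists_pair hB hT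
  obtain ⟨B', hB'⟩ := exists_pb' σ₀ (bdg fun _ => J2 F) e P
  let S : GL (Fin 2) F := ⟨hyp 1, hyp 1, by simp [hyp, one_fin_two], by simp [hyp, one_fin_two]⟩
  have hC' : Pb σ B.val e P (kgl 1 S).val := hC
  have h2 := isSc_two_forms h.σσ hB' hC' ⟨-1, by
    rw [bdg_const, kgl_inv, ← kgl_mul, coe_kgl, kron_map, ← mul_kronecker_mul]
    ext ⟨a, b⟩ ⟨c, d⟩
    fin_cases a <;> fin_cases b <;> fin_cases c <;> fin_cases d <;>
      simp [S, J2, hyp, vecMul, dotProduct]⟩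
  rw [coe_bdg] at hB'
  obtain ⟨M, h4, h5⟩ := USub.of_two_forms h hB (.inl (hB'.alt_iff.2 (alt_blockDiagonal.2 fun _ => alt_J2))) h2
  refine .of_sub h hB hι h3 hH h4 ((le_inf (fun g hg => ?_) (hH.1.le.trans inf_le_left)).trans h5)
  obtain ⟨h6, h7⟩ := hH.1.le hg
  obtain ⟨π, a, rfl⟩ := hc.exists_bm (k hg)
  have h8 : (a 0).valᵀ * (a 1).val.map σ = 1 :=
    (bm_hyp (c := 1) (one_mul 1) ((mem_Iso.1 (hC.mem_Iso.1 h6)).trans (one_smul _ _).symm)).elim
      (fun h => by simpa using h.2) fun h => by simpa using h.2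
  have h9 := congrArg det h8
  rw [det_mul, det_transpose, det_one, ← RingHom.mapMatrix_apply, ← RingHom.map_det] at h9
  replace h7 := mem_specialLinear.1 h7
  rw [det_trg, det_bm, Fintype.card_fin, sign_cast_sq, one_mul, Fin.prod_univ_two] at h7
  have h10 := mul_left_cancel₀ (a 0).det_ne_zero (h9.trans h7.symm)
  have h11 := (a 1).det_ne_zero
  refine hB'.mem_Sim.2 (bm_mem_Sim_J2 π (c := (a 1).val.det) (Fin.forall_fin_two.2
    ⟨mul_right_cancel₀ h11 (h7.trans ?_), rfl⟩))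
  rw [h.eq] at h10
  obtain rfl | rfl : q = 2 ∨ q = 3 := by have := h.two_le; omega
  · rw [← sq, h10]
    exact mul_left_cancel₀ h11 (by rw [← sq, h10, mul_one])
  · exact mul_left_cancel₀ h11 (by linear_combination -h10)

theorem uM : UM σ q B H := by
  have hA := amb_SU h hB hι h3
  haveI : Nonempty ι := Fintype.card_pos_iff.1 (by omega)
  cases uOut h (by omega) hB (hH.1.le.trans inf_le_left) with
  | ts W h1 h2 k =>
    refine .ts W h1 h2 (IsMaximalIn.eq_inf hH k (hA.not_le_stab h1 ?_))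
    rintro rfl
    exact gl_ne_zero B (gf_ext (σ := σ) fun u v => (h2 u trivial v trivial).trans (by simp [gf]))
  | nd W h1 h2 h4 k =>
    refine .nd W h1 h2 h4 (IsMaximalIn.eq_inf hH k (hA.not_le_stab h1 ?_))
    rintro rfl
    simp at h4; omega
  | dec m D hD k => exact .of_dec h hB hι h3 hH hD k
  | pair m D hD h2 k => exact .of_pair h hB hι h3 hH hD h2 k
  | fld r K hr ho hK h1 k =>
    exact .fld r K hr ho hK (h1.isAdjointClosedFor h.σσ) (IsMaximalIn.eq_inf hH k (hA.not_le_fld hr hK))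
  | ten n₁ n₂ e P h1 h2 h4 hP k =>
    obtain ⟨f₁, f₂, h5, h6, h7⟩ := hP.tens_one h
    have h8 : RF σ 1 (1 : GL (Fin n₁) F) := rf_one h.σσ
    obtain ⟨a, ha, ha'⟩ := (hasRf_unit h.ne (h8.form h.ne)).exists_not_isSc (h8.nondeg _) (by simpa using h1)
    refine .ten n₁ n₂ e P f₁ f₂ h1 h2 h4 h5 h6 h7 (IsMaximalIn.eq_inf hH k (hA.not_le_tens (by omega) ?_ ha'))
    rw [hP.mem_Sim, ← one_kronecker_one]
    exact Iso_le_Sim (kgl_mem_Iso (h8.isoF _ ▸ ha) (one_mem _))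
  | sub M hM k => exact .of_sub h hB hι h3 hH hM k
  | ext R r k hR k' => exact .of_ext h hB hι h3 hH hR k'
  | wre k t e P B₀ c h1 h2 h4 hB₀ hc hP k' =>
    obtain ⟨f, h5, h6⟩ := hP.pow_unit h hB₀ hc
    obtain ⟨a, ha, ha'⟩ := (hasRf_unit h.ne (hB₀.form h.ne)).exists_not_isSc (hB₀.nondeg _) (by simp; omega)
    refine .wre k t e P f h1 h2 h4 h5 h6 (IsMaximalIn.eq_inf hH k'
      (hA.not_le_wre (by omega) h2 (i := ⟨0, by omega⟩) ?_ ha'))
    rw [hP.mem_Sim, Sim_smul hc]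
    exact Iso_le_Sim (update_mem_Iso (hB₀.isoF _ ▸ ha) _)
  | res k => exact .res k

end

theorem uM_std (hF : Fintype.card F = q ^ 2) {n : ℕ} (hn : 4 ≤ n) {H : Subgroup (GL (Fin n) F)}
    (hH : IsMaximalIn (Cfsg.GU n F q ⊓ specialLinear (Fin n) F) H) : UM (frobq hF) q 1 H :=
  uM (us_frobq hF) (rf_one (frobq_frobq hF)) (by simp; omega) (by simp; omega) (GU_eq hF n ▸ hH)

theorem UExt.two (h : US σ q) {B : GL ι F} {R : Subgroup (GL ι F)} {k : ℕ} (hR : UExt σ B R 2 k) :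
    q.Prime ∧ q % 4 = 3 ∧ Nat.card R = 2 ^ (2 + 2 * k) ∧ Nat.card (Subgroup.center R) = 4 := by
  obtain ⟨p, e, h1, -, h2, ⟨h3, -⟩ | ⟨-, rfl, h3, h4⟩⟩ := hR.field
  · exact absurd h3 (by decide)
  obtain ⟨d, h5, rfl⟩ := h.exists_half h2.1 h2.2.2.1
  obtain rfl : d = 1 := by omega
  have h6 := h2.2.2.2.2 1 (by omega) (by omega)
  have h7 := h2.1.eq_two_or_odd
  have := h2.1.two_le
  rw [h3] at h6
  rw [pow_one] at *
  exact ⟨h2.1, by omega, h4, h3⟩

theorem UExt.odd (h : US σ q) {B : GL ι F} {R : Subgroup (GL ι F)} {r k : ℕ} (hR : UExt σ B R r k) (hr : r ≠ 2) :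
    Nat.card R = r ^ (1 + 2 * k) ∧ Nat.card (Subgroup.center R) = r ∧ ∃ p d, p.Prime ∧ CharP F p ∧ q = p ^ d ∧
      2 * d ∣ r - 1 ∧ (p % r) ^ (2 * d) % r = 1 ∧ ∀ j, 0 < j → j < 2 * d → (p % r) ^ j % r ≠ 1 := by
  obtain ⟨p, e, h1, h0, h2, ⟨-, h3, -, h4⟩ | ⟨h3, -⟩⟩ := hR.field
  · obtain ⟨d, rfl, h5⟩ := h.exists_half h2.1 h2.2.2.1
    rw [h3] at h2
    have hr := hR.st.prime
    exact ⟨h4, h3, p, d, h2.1, h2.2.1, h5, IsMinimalFieldFor.dvd hr h1 h0 h2,
      (pow_mod_eq_one h2.1.pos hr.one_lt).1 h2.2.2.2.1,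
      fun d h5 h6 h7 => h2.2.2.2.2 d h5 h6 ((pow_mod_eq_one h2.1.pos hr.one_lt).2 h7)⟩
  · exact absurd h3 hr

end

end Cfsg.Agent.Classical.Asch
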