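import Cfsg.Agent.Lib.Classical.Asch20
import Cfsg.Agent.Lib.Classical.Family

/-!
Orthogonal groups in matrix form: the group Ω, and the type of a quadratic form.
-/

set_option autoImplicit false

namespace Cfsg.Agent.Classical.Asch
open Matrix Cfsg.Geo Module Cfsg.Agent.Comp
open scoped MatrixGroups Kronecker commutatorElement

variable {ι : Type} [Fintype ι] [DecidableEq ι] {F : Type*} [Field F]
  {Q : (ι → F) → F}

local notation "Z" => scalars ι F
local notation "σ₀" => RingHom.id F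

theorem omegaGL_eq (Q : (ι → F) → F) : omegaGL Q = ⁅Cfsg.isometryGroup F Q, Cfsg.isometryGroup F Q⁆ :=
  Subgroup.map_subtype_commutator _

theorem omegaGL_le (Q : (ι → F) → F) : omegaGL Q ≤ Cfsg.isometryGroup F Q := Subgroup.map_subtype_le _

theorem det_of_mem_omega {g : GL ι F} (h : g ∈ omegaGL Q) : g.val.det = 1 := by
  rw [omegaGL_eq] at h
  exact congrArg Units.val (commutator_le_ker' (GeneralLinearGroup.det (n := ι) (R := F))
    (Subgroup.commutator_mono le_top le_top h))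

theorem QF.isoF {B : Matrix ι ι F} (h : QF Q B) : IsoF h.form = Cfsg.isometryGroup F Q := by
  ext; exact (mem_isometryGroup_iff h.form).symm

theorem QF.mem_omega {B : Matrix ι ι F} (h : QF Q B) {g : GL ι F} (hg : g ∈ omegaGL Q) :
    ∃ g' ∈ commutator h.form.Isom, g'.1 = glEquiv g := by
  obtain ⟨g, hg, rfl⟩ := hg
  exact ⟨orthEquiv h.form g, (commutator_eq_comap (orthEquiv h.form)).le hg, rfl⟩

theorem amb_O [Finite F] {B : GL ι F} (h : QF Q B.val) (hι : 5 ≤ Fintype.card ι) :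
    Amb (omegaGL Q) (IsoF h.form) := by
  have hn : 5 ≤ finrank F (ι → F) := by simpa using hι
  obtain ⟨e, f, hef⟩ := orth_exists_hyp h.nondeg (by omega)
  have := amb_form (Form.orth_rich h.nondeg hn) h.nondeg hef (Form.orth_E_perfect h.nondeg hn) (by omega)
  rwa [show EF h.form = omegaGL Q by
    rw [EF, (Form.good_of_finrank h.nondeg (by omega)).E_eq h.nondeg (by omega), omegaGL_eq, ← h.isoF, IsoF,
      Subgroup.comap_equiv_eq_map_symm', Subgroup.comap_equiv_eq_map_symm', Subgroup.map_commutator]] at this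

theorem QF.exists_refl {B : GL ι F} (h : QF Q B.val) {d : ι → F} (hd : Q d ≠ 0) :
    ∃ g ∈ Cfsg.isometryGroup F Q, IsRk g d (-(Q d)⁻¹ • h.form.B.flip d) :=
  h.isoF ▸ exists_qrefl h.form (by simp only [Kind.orth_σ, Kind.orth_T, h.form_N]; field_simp; ring)

theorem not_O_le_subfield [Finite F] {B : GL ι F} (h : QF Q B.val) (hι : 5 ≤ Fintype.card ι) {F₀ : Subfield F}
    (h0 : F₀ ≠ ⊤) (P : GL ι F) : ¬ Cfsg.isometryGroup F Q ≤ subfieldSubgroup F₀ P := fun k => by
  obtain ⟨e, f, hef⟩ := orth_exists_hyp h.nondeg (by simp only [finrank_fintype_fun_eq_card]; omega)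
  have h1 := hef.finrank_hperp
  refine h0 (eq_top_iff.2 fun a _ => ?_)
  by_cases ha : a = 0
  · exact ha ▸ F₀.zero_mem
  obtain ⟨y, hy⟩ := orth_represents (hef.nondeg_hperp h.nondeg) (by simp at h1; omega) a⁻¹
  have h2 : Q (e + (1 : F) • f) = 1 := hef.N_add_smul 1
  have h3 : Q ((1 : F) • e + (0 : F) • f + y.1) = a⁻¹ := by
    exact (hef.N_decomp 1 0 y.2).trans (by simpa using hy)
  obtain ⟨g, hg, k1⟩ := h.exists_refl (h2.trans_ne one_ne_zero)
  obtain ⟨g', hg', k2⟩ := h.exists_refl (h3.trans_ne (inv_ne_zero ha))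
  have h4 : h.form.B ((1 : F) • e + (0 : F) • f + y.1) (e + (1 : F) • f) = 1 := by
    rw [map_add, hef.B_e 1 0 y.2, Form.orth_B_smul, hef.B_f 1 0 y.2]; simp
  have := k1.mul_mem k2 (by omega) (k hg) (k hg')
  simp only [LinearMap.smul_apply, LinearMap.flip_apply, h2, h3, h4, h.form.orth_symm (e + _)] at this
  simpa using this

section Types
variable {κ : Type} [Fintype κ] [DecidableEq κ] {B : Matrix ι ι F}

omit [Fintype ι] [DecidableEq ι] [DecidableEq κ] in
theorem isPlus_range {f : (κ → F) →ₗ[F] (ι → F)} (hf : Function.Injective f) :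
    IsPlusTypeOn Q (LinearMap.range f) ↔ IsPlusTypeOn (fun x => Q (f x)) ⊤ := by
  constructor
  · rintro ⟨U, h1, h2, h3⟩
    refine ⟨U.comap f, le_top, fun w hw => h2 _ hw, ?_⟩
    rw [← LinearEquiv.finrank_eq (Submodule.equivMapOfInjective f hf _).symm, Submodule.map_comap_eq_self h1, h3,
      LinearMap.finrank_range_of_inj hf, finrank_top]
  · rintro ⟨U, -, h2, h3⟩
    refine ⟨U.map f, LinearMap.map_le_range, by rintro _ ⟨w, hw, rfl⟩; exact h2 w hw, ?_⟩
    rw [LinearEquiv.finrank_eq (Submodule.equivMapOfInjective f hf _).symm, h3,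
      LinearMap.finrank_range_of_inj hf, finrank_top]

theorem isPlus_trv (e : ι ≃ κ) (P : GL ι F) : IsPlusTypeOn (fun x => Q (trv e P x)) ⊤ ↔ IsPlusTypeOn Q ⊤ := by
  rw [← (trv e P).range]; exact (isPlus_range (f := (trv e P).toLinearMap) (trv e P).injective).symm

omit [DecidableEq ι] in
theorem isPlus_mul {c : F} (hc : c ≠ 0) {W : Submodule F (ι → F)} :
    IsPlusTypeOn (fun x => c * Q x) W ↔ IsPlusTypeOn Q W := by
  simp [IsPlusTypeOn, IsTotallySingularQuad, hc]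

theorem QF.ts (h : QF Q B) {W : Submodule F (ι → F)} : h.form.TS W ↔ IsTotallySingularQuad Q W :=
  ⟨fun k => k.1, fun k => Form.TS_orth k⟩

theorem QF.isPlus_iff (h : QF Q B) : IsPlusTypeOn Q ⊤ ↔ ∃ W, h.form.MTS W :=
  exists_congr fun _ => ⟨fun k => ⟨h.ts.2 k.2.1, k.2.2.trans (finrank_top _ _)⟩,
    fun k => ⟨le_top, k.ts.1, k.dim.trans (finrank_top _ _).symm⟩⟩

theorem QF.isPlus_of_sup {B : GL ι F} (h : QF Q B.val) {U W : Submodule F (ι → F)} (hU : IsTotallySingularQuad Q U)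
    (hW : IsTotallySingularQuad Q W) (k : U ⊔ W = ⊤) : IsPlusTypeOn Q ⊤ := by
  have h1 := (h.ts.2 hU).two_finrank_le h.nondeg
  have h2 := (h.ts.2 hW).two_finrank_le h.nondeg
  have h3 := Submodule.finrank_sup_add_finrank_inf_eq U W
  rw [k, finrank_top] at h3
  exact ⟨U, le_top, hU, by rw [finrank_top]; omega⟩

theorem QF.isPlus_sup (h : QF Q B) {U W : Submodule F (ι → F)} (hU : IsPlusTypeOn Q U) (hW : IsPlusTypeOn Q W)
    (ho : AreOrthogonalFor (gf σ₀ B) U W) (hd : U ⊓ W = ⊥) : IsPlusTypeOn Q (U ⊔ W) := by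
  obtain ⟨T, h1, h2, h3⟩ := hU
  obtain ⟨T', h4, h5, h6⟩ := hW
  refine ⟨T ⊔ T', sup_le_sup h1 h4, fun w hw => ?_, ?_⟩
  · obtain ⟨x, hx, y, hy, rfl⟩ := Submodule.mem_sup.1 hw
    rw [h.add, h2 x hx, h5 y hy, ho x (h1 hx) y (h4 hy)]; simp
  · have k1 := Submodule.finrank_sup_add_finrank_inf_eq U W
    have k2 := Submodule.finrank_sup_add_finrank_inf_eq T T'
    rw [eq_bot_iff.2 ((inf_le_inf h1 h4).trans hd.le)] at k2
    rw [hd] at k1
    simp only [finrank_bot] at k1 k2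
    omega

theorem QF.isPlus_anti (h : QF Q B) {U W : Submodule F (ι → F)} (φ : U ≃ₗ[F] W) (hφ : ∀ u, Q (φ u) = -Q u)
    (ho : AreOrthogonalFor (gf σ₀ B) U W) (hd : U ⊓ W = ⊥) : IsPlusTypeOn Q (U ⊔ W) := by
  refine ⟨LinearMap.range (U.subtype + W.subtype ∘ₗ φ.toLinearMap), ?_, ?_, ?_⟩
  · rintro _ ⟨u, rfl⟩
    exact Submodule.add_mem_sup u.2 (φ u).2
  · rintro _ ⟨u, rfl⟩
    change Q (u + φ u) = 0
    rw [h.add, hφ, ho _ u.2 _ (φ u).2]; simp
  · have k1 := Submodule.finrank_sup_add_finrank_inf_eq U W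
    rw [hd, finrank_bot, ← φ.finrank_eq] at k1
    rw [LinearMap.finrank_range_of_inj ((injective_iff_map_eq_zero _).2 fun u hu => ?_)]
    · omega
    have hu : u.1 = -(φ u).1 := eq_neg_of_add_eq_zero_left hu
    exact Subtype.ext (hd.le ⟨u.2, hu ▸ W.neg_mem (φ u).2⟩)

theorem QF.isPlus_iso [Finite F] (h : QF Q B) {U W : Submodule F (ι → F)} (hi : AreIsometricFor Q U W)
    (hW : IsNondegenerateOn (gf σ₀ B) W) (he : Even (finrank F W))
    (ho : AreOrthogonalFor (gf σ₀ B) U W) (hd : U ⊓ W = ⊥) : IsPlusTypeOn Q (U ⊔ W) := by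
  obtain ⟨φ, hφ⟩ := hi
  obtain ⟨m, hm⟩ := he
  have h1 := restrict_nondeg_of (Φ := h.form) hW
  obtain ⟨η, h2⟩ : ∃ η, (h.form.restrict W).IsType m η :=
    (exists_isType m _ h1 (by omega)).elim (fun h => ⟨_, h⟩) fun h => ⟨_, h⟩
  obtain ⟨ψ, -, hψ⟩ := orth_iso_even η m _ _ (h1.scale (c := -1) (by simp)) h1
    ⟨h2.1, by rw [Form.cnt_scale _ (by simp)]; exact h2.2⟩ h2
  exact h.isPlus_anti (φ.trans ψ) (fun u => (hψ (φ u)).trans (by simpa [h.form_N] using hφ u)) ho hd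

theorem QF.isPlus_cancel {B : GL ι F} (h : QF Q B.val) {U W : Submodule F (ι → F)} (hV : IsPlusTypeOn Q ⊤)
    (hU : IsPlusTypeOn Q U) (ho : AreOrthogonalFor (gf σ₀ B.val) U W) (k : U ⊔ W = ⊤) : IsPlusTypeOn Q W := by
  obtain ⟨T, h1, h2, h3⟩ := hU
  obtain ⟨M, hM⟩ := h.isPlus_iff.1 hV
  obtain ⟨M, hM, h4⟩ := hM.exists_ge h.nondeg (h.ts.2 h2)
  have h5 : U ≤ h.form.perp W := ho
  have h6 := h.nondeg.finrank_perp W
  have h7 := h.nondeg.finrank_perp T
  have h8 := Submodule.finrank_sup_add_finrank_inf_eq U W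
  have h9 := Submodule.finrank_mono h5
  rw [k, finrank_top] at h8
  have k1 : T ⊓ W = ⊥ := eq_bot_iff.2 ((inf_le_inf_right _ h1).trans (Submodule.finrank_eq_zero.1 (by omega)).le)
  have k2 := Submodule.finrank_sup_add_finrank_inf_eq T W
  rw [k1, finrank_bot] at k2
  have k3 : T ⊔ W = h.form.perp T := Submodule.eq_of_le_of_finrank_eq
    (sup_le (h.ts.2 h2).le_perp (h.form.le_perp_comm.1 (h1.trans h5))) (by omega)
  have k4 : T ⊔ W ⊓ M = M := by
    rw [← sup_inf_assoc_of_le _ h4, k3, inf_eq_right]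
    exact hM.ts.le_perp.trans (h.form.perp_anti h4)
  have k5 := Submodule.finrank_sup_add_finrank_inf_eq T (W ⊓ M)
  rw [k4, ← inf_assoc, k1, bot_inf_eq, finrank_bot] at k5
  exact ⟨W ⊓ M, inf_le_left, fun w hw => hM.ts.1 w hw.2, by have := hM.dim; omega⟩

theorem isSquare_iff_of_mul_sq {a b x y : F} (hx : x ≠ 0) (hy : y ≠ 0) (h : a * x ^ 2 = b * y ^ 2) :
    IsSquare a ↔ IsSquare b :=
  ⟨fun ⟨r, hr⟩ => ⟨r * x / y, by field_simp; rw [← h, hr]; ring⟩,
    fun ⟨r, hr⟩ => ⟨r * y / x, by field_simp; rw [h, hr]; ring⟩⟩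

theorem QF.isPlus_iff_disc [Finite F] (h2 : (2 : F) ≠ 0) {B : GL ι F} (h : QF Q B.val) {m : ℕ}
    (hι : Fintype.card ι = 2 * m) : IsPlusTypeOn Q ⊤ ↔ IsSquare ((-1) ^ m * B.val.det) := by
  obtain ⟨b, h3, h4⟩ := exists_orth_basis h2 h.form h.nondeg
  let e : Fin (finrank F (ι → F)) ≃ ι := Fintype.equivOfCardEq (by simp)
  have k3 : ∀ i j, i ≠ j → h.form.B (b.reindex e i) (b.reindex e j) = 0 := fun i j hij => by
    simpa using h3 _ _ (e.symm.injective.ne hij)
  have k4 : ∀ i, h.form.N (b.reindex e i) ≠ 0 := fun i => by simpa using h4 _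
  generalize b.reindex e = b at k3 k4
  let P : Matrix ι ι F := of fun i j => b j i
  have h5 : Pᵀ * B.val * P.map σ₀ = diagonal fun i => 2 * Q (b i) := by
    ext i j
    rw [← gf_single (σ := σ₀) (_ * _), ← gf_mulVec, mulVec_single_one, mulVec_single_one, diagonal_apply]
    split_ifs with hij
    · subst hij; exact h.self _
    · exact k3 i j hij
  have h6 := congrArg det h5
  rw [det_mul, det_mul, det_transpose, map_σ₀, det_diagonal, Finset.prod_mul_distrib, Finset.prod_const,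
    Finset.card_univ, hι, mul_comm 2 m, pow_mul] at h6
  have h7 : P.det ≠ 0 := fun e => by
    rw [e, mul_zero, eq_comm, mul_eq_zero, Finset.prod_eq_zero_iff] at h6
    exact h6.elim (by simp [h2]) fun ⟨i, _, hi⟩ => k4 i hi
  rw [h.isType_of_plus hι, Form.isType_one_iff_disc h.nondeg h2 (by simpa using hι) b k3 k4, ← map_pow, ← map_mul,
    sqSign_eq_one_iff]
  refine isSquare_iff_of_mul_sq (pow_ne_zero m h2) h7 ?_
  simp only [Units.val_mul, Units.val_pow_eq_pow_val, Units.val_neg, Units.val_one, Units.coe_prod, Units.val_mk0,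
    h.form_N]
  linear_combination (-1) ^ m * h6.symm

theorem QF.isPlus_iff_pb [Finite F] (h2 : (2 : F) ≠ 0) (h : QF Q B) {e : ι ≃ κ} {P : GL ι F} {C : GL κ F}
    (hP : Pb σ₀ B e P C.val) {m : ℕ} (hι : Fintype.card ι = 2 * m) :
    IsPlusTypeOn Q ⊤ ↔ IsSquare ((-1) ^ m * C.val.det) := by
  rw [← isPlus_trv e P, (h.trv hP).isPlus_iff_disc h2 (Fintype.card_congr e ▸ hι)]

theorem isSquare_neg_one_pow [Fintype F] {m : ℕ} : IsSquare ((-1 : F) ^ m) ↔ Even m ∨ Fintype.card F % 4 ≠ 3 := by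
  rcases m.even_or_odd with h | h
  · simp [h]
  · simp [h.neg_one_pow, FiniteField.isSquare_neg_one_iff, Nat.not_even_iff_odd.2 h]

theorem QF.isPlus_of_index (h : QF Q B) {s : Finset ι} (hs : 2 * s.card = Fintype.card ι)
    (h1 : ∀ i ∈ s, Q (Pi.single i 1) = 0) (h2 : ∀ i ∈ s, ∀ j ∈ s, B i j = 0) : IsPlusTypeOn Q ⊤ := by
  let f : s → ι → F := fun i => Pi.single i.1 1
  have h3 : LinearIndependent F f := (Pi.linearIndependent_single_one ι F).comp _ Subtype.val_injective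
  refine ⟨Submodule.span F (Set.range f), le_top, ?_, by rw [finrank_span_eq_card h3]; simpa using hs⟩
  have h4 : ∀ u ∈ Submodule.span F (Set.range f), ∀ w ∈ Submodule.span F (Set.range f), gf σ₀ B u w = 0 :=
    fun u hu w hw => h.form.mem_perp'.1 ((h.form.mem_perp_span).2 (by
      rintro _ ⟨i, rfl⟩
      refine h.form.B_symm_zero (h.form.mem_perp.1 (h.form.mem_perp_span.2 ?_) w hw)
      rintro _ ⟨j, rfl⟩
      exact (gf_single _ _ _).trans (h2 _ i.2 _ j.2))) u hu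
  intro w hw
  induction hw using Submodule.span_induction with
  | mem x hx => obtain ⟨i, rfl⟩ := hx; exact h1 _ i.2
  | zero => exact h.zero
  | add x y hx hy k1 k2 => rw [h.add, k1, k2, h4 x hx y hy]; simp
  | smul c x _ k => rw [h.smul, k, mul_zero]

theorem IsFieldSubalgebra.dvd_ncard [Finite F] [Nonempty ι] {d : ℕ} {K : Subalgebra F (Matrix ι ι F)}
    (hK : IsFieldSubalgebra d K) {p : (ι → F) → Prop} (h : ∀ k ∈ K, ∀ v, p v → p (k *ᵥ v)) :
    Nat.card F ^ d - 1 ∣ Nat.card {v // v ≠ 0 ∧ p v} := by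
  letI := (IsFieldSubalgebra.isField hK).toField
  letI : MulAction Kˣ {v // v ≠ 0 ∧ p v} :=
    { smul := fun k v => ⟨k.1.1 *ᵥ v.1, fun e => (IsFieldSubalgebra.mulVec_eq_zero hK k.1.2 e).elim
        (fun e => k.ne_zero (Subtype.ext e)) v.2.1, h _ k.1.2 _ v.2.2⟩
      one_smul := fun v => Subtype.ext (one_mulVec _)
      mul_smul := fun a b v => Subtype.ext (mulVec_mulVec _ _ _).symm }
  rw [Nat.card_congr (MulAction.selfEquivOrbitsQuotientProd (G := Kˣ) (X := {v // v ≠ 0 ∧ p v})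
    fun v => eq_bot_iff.2 fun k hk => ?_), Nat.card_prod, Nat.card_units, Module.natCard_eq_pow_finrank (K := F) (V := K), hK.finrank_eq]
  · exact dvd_mul_left _ _
  have hk : k.1.1 *ᵥ v.1 = v.1 := congrArg Subtype.val hk
  have := IsFieldSubalgebra.mulVec_eq_zero hK (K.sub_mem k.1.2 K.one_mem) (v := v.1)
    (by rw [sub_mulVec, hk, one_mulVec, sub_self])
  exact Units.ext (Subtype.ext (sub_eq_zero.1 (this.resolve_right v.2.1)))

theorem QF.isPlus_iff_even [Finite F] {B : GL ι F} (h : QF Q B.val) {K : Subalgebra F (Matrix ι ι F)}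
    (hK : IsFieldSubalgebra 2 K) (h1 : ∀ k ∈ K, ∀ v, Q v = 0 → Q (k *ᵥ v) = 0) {m : ℕ}
    (hι : Fintype.card ι = 2 * (m + 1)) : IsPlusTypeOn Q ⊤ ↔ Odd m := by
  haveI : Nonempty ι := Fintype.card_pos_iff.1 (by omega)
  have h2 := IsFieldSubalgebra.dvd_ncard hK h1
  have h3 := h.form.card_singular_ne
  rw [h.form_N] at h3
  have hq : 1 < Nat.card F := Finite.one_lt_card
  rw [h3, ← Int.natCast_dvd_natCast, Nat.cast_sub h.form.one_le_cnt, Nat.cast_sub (Nat.one_le_pow _ _ (by omega))] at h2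
  push_cast at h2
  have key : ∀ {η : ℤ}, h.form.IsType (m + 1) η → η = 1 ∨ η = -1 → ¬ (η = 1 ∧ Even m ∨ η = -1 ∧ Odd m) := by
    intro η k1 k2 k3
    rw [k1.cnt_sub_one k2] at h2
    have hq : (1 : ℤ) < Nat.card F := by exact_mod_cast hq
    generalize (Nat.card F : ℤ) = q at *
    have k4 : ∀ j, q ^ 2 - 1 ∣ (q ^ 2) ^ j - 1 := fun j => by simpa using sub_dvd_pow_sub_pow (q ^ 2) 1 j
    have k5 : q ^ 2 - 1 ∣ 2 * (q - 1) := by
      rcases k3 with ⟨rfl, j, rfl⟩ | ⟨rfl, j, rfl⟩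
      · obtain ⟨c, hc⟩ := k4 j
        refine (dvd_add_left (Dvd.intro (c * (q * (q ^ 2) ^ j + 2 * q - 1)) rfl)).1 (h2.trans (dvd_of_eq ?_))
        rw [← mul_assoc, ← hc]; ring
      · obtain ⟨c, hc⟩ := k4 j
        refine (dvd_add_left (Dvd.intro (c * (q ^ 3 * ((q ^ 2) ^ j + 1) + q - q ^ 2) + (q - 1)) rfl)).1
          (h2.trans (dvd_of_eq ?_))
        rw [mul_add (q ^ 2 - 1), ← mul_assoc, ← hc]; ring
    have := Int.le_of_dvd (by omega) k5
    nlinarith
  rw [h.isType_of_plus hι]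
  rcases exists_isType (m + 1) _ h.nondeg (by simpa using hι) with k | k
  · simpa [k] using key k (.inl rfl)
  · exact iff_of_false (fun k' => by simpa using k.unique k') (by simpa using key k (.inr rfl))

theorem QF.isPlus_of_skew [Finite F] (h2 : (2 : F) ≠ 0) {B : GL ι F} (h : QF Q B.val) {s : GL ι F}
    (hs : s ∈ Cfsg.isometryGroup F Q) (h1 : s * s = -1) {m : ℕ} (hι : Fintype.card ι = 4 * (m + 1)) :
    IsPlusTypeOn Q ⊤ := by
  haveI : Nonempty ι := Fintype.card_pos_iff.1 (by omega)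
  have h3 : ∀ v, s.val *ᵥ s.val *ᵥ v = -v := fun v => by
    rw [mulVec_mulVec, ← Units.val_mul, h1]; simp [neg_mulVec]
  have h4 := mem_isometryGroup.1 hs
  by_cases hi : ∃ i : F, i * i = -1
  · obtain ⟨i, hi⟩ := hi
    have k1 : ∀ j : F, j * j = -1 → IsTotallySingularQuad Q (LinearMap.ker (toLin' s.val - j • LinearMap.id)) :=
      fun j hj w hw => by
        have hw : s.val *ᵥ w = j • w := sub_eq_zero.1 hw
        have := h4 w
        rw [hw, h.smul] at this
        exact mul_left_cancel₀ h2 (by linear_combination -this + Q w * hj)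
    have k2 : ∀ j : F, j * j = -1 → ∀ v, v - j • s.val *ᵥ v ∈ LinearMap.ker (toLin' s.val - j • LinearMap.id) :=
      fun j hj v => by
        simp only [LinearMap.mem_ker, LinearMap.sub_apply, toLin'_apply, LinearMap.smul_apply, LinearMap.id_apply,
          mulVec_sub, mulVec_smul, h3, smul_sub, smul_smul, hj]
        module
    refine h.isPlus_of_sup (k1 i hi) (k1 (-i) (by simpa using hi)) (eq_top_iff.2 fun v _ => ?_)
    rw [← Submodule.smul_mem_iff _ h2]
    convert Submodule.add_mem_sup (k2 i hi v) (k2 (-i) (by simpa using hi) v) using 1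
    module
  · have k1 : s.val * s.val = (0 : F) • s.val + (-1 : F) • 1 := by simpa using congrArg Units.val h1
    refine (h.isPlus_iff_even (isFieldSubalgebra_adjoin k1 fun x => by simpa using not_exists.1 hi x) (m := 2 * m + 1)
      (fun k hk v hv => ?_) (by omega)).2 ⟨m, rfl⟩
    obtain ⟨α, β, rfl⟩ := (mem_adjoin_iff k1).1 hk
    have k2 : gf σ₀ B.val v (s.val *ᵥ v) = 0 := by
      have := mem_Iso'.1 (h.isom_le hs) v (s.val *ᵥ v)
      rw [h3, gf_neg_right, h.comm] at this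
      exact mul_left_cancel₀ h2 (by linear_combination -this)
    rw [add_mulVec, smul_mulVec, smul_mulVec, one_mulVec, h.add, h.smul, h.smul, gf_smul_left, gf_smul_right, h4, hv, k2]
    simp

end Types

end Cfsg.Agent.Classical.Asch
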