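import Cfsg.Agent.Lib.Classical.Asch21

/-!
Aschbacher's theorem for the orthogonal groups.
-/

set_option autoImplicit false

namespace Cfsg.Agent.Classical.Asch
open Matrix Cfsg.Geo Module Cfsg.Agent.Comp
open scoped MatrixGroups Kronecker commutatorElement

variable {ι : Type} [Fintype ι] [DecidableEq ι] {F : Type*} [Field F] {σ : F →+* F}
  {Q : (ι → F) → F}

local notation "Z" => scalars ι F
local notation "σ₀" => RingHom.id F

theorem IsFieldSubalgebra.isSc_of_adj [Nonempty ι] {K : Subalgebra F (Matrix ι ι F)} (hK : IsFieldSubalgebra 2 K)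
    {B : GL ι F} (h : ¬ ∀ k ∈ K, adj σ₀ B k = k) {y : Matrix ι ι F} (hy : y ∈ K) (ha : adj σ₀ B y = y) :
    IsSc y := by
  by_contra hs
  have h1 : LinearIndependent F ![(1 : K), ⟨y, hy⟩] := LinearIndependent.pair_iff' one_ne_zero |>.2 fun a e =>
    hs ⟨a, (congrArg Subtype.val e).symm⟩
  refine h fun k hk => ?_
  have := (h1.span_eq_top_of_card_eq_finrank' (by rw [hK.finrank_eq]; rfl)).ge (Submodule.mem_top (x := ⟨k, hk⟩))
  rw [Matrix.range_cons_cons_empty, Submodule.mem_span_pair] at this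
  obtain ⟨α, β, e⟩ := this
  obtain rfl : α • (1 : Matrix ι ι F) + β • y = k := congrArg Subtype.val e
  rw [adj_add, adj_smul, adj_smul, adj_one, ha]; rfl

theorem IsFieldSubalgebra.exists_repr [Finite F] [Nonempty ι] {d : ℕ} {K : Subalgebra F (Matrix ι ι F)}
    (hK : IsFieldSubalgebra d K) : ∃ T : K →ₗ[F] F, (∀ (φ : K ≃ₐ[F] K) k, T (φ k) = T k) ∧
      (∀ a, (∀ k, T (a * k) = 0) → a = 0) ∧ ∀ l : K →ₗ[F] F, ∃ β, ∀ k, l k = T (β * k) := by
  letI := (IsFieldSubalgebra.isField hK).toField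
  exact ⟨Algebra.trace F K, Algebra.trace_eq_of_algEquiv, (traceForm_nondegenerate F K).1, fun l =>
    ⟨((Algebra.traceForm F K).toDual (traceForm_nondegenerate F K)).symm l, fun k => by
      rw [← Algebra.traceForm_apply, ← LinearMap.BilinForm.toDual_def (traceForm_nondegenerate F K),
        LinearEquiv.apply_symm_apply]⟩⟩

theorem IsFieldSubalgebra.exists_isSc_mul_sq [Finite F] [Nonempty ι] {d : ℕ} {K : Subalgebra F (Matrix ι ι F)}
    (hK : IsFieldSubalgebra d K) (hd : Odd d) (hq : Odd (Nat.card F)) {β : K} (h0 : β ≠ 0) :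
    ∃ (w : K) (c : F), w ≠ 0 ∧ w * w * β = algebraMap F K c := by
  letI := (IsFieldSubalgebra.isField hK).toField
  obtain ⟨j, hj⟩ : Odd (∑ i ∈ Finset.range (finrank F K), Nat.card F ^ i) := by
    rw [Finset.odd_sum_iff_odd_card_odd, Finset.filter_true_of_mem fun _ _ => hq.pow, Finset.card_range,
      hK.finrank_eq]
    exact hd
  exact ⟨β ^ j, _, pow_ne_zero _ h0, by rw [FiniteField.algebraMap_norm_eq_pow_sum, hj]; ring⟩

theorem IsFieldSubalgebra.not_irr [Finite F] {B : GL ι F} (hB : RF σ₀ 1 B) {K : Subalgebra F (Matrix ι ι F)}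
    (hK : IsFieldSubalgebra (Fintype.card ι) K) (ha : ∀ k ∈ K, adj σ₀ B k = k) (ho : Odd (Fintype.card ι))
    (hq : Odd (Nat.card F)) (hι : 2 ≤ Fintype.card ι) {G : Subgroup (GL ι F)} (hG : G ≤ Iso σ₀ B.val)
    (hn : Nrm G K) : ¬ Irr G := fun hI => by
  haveI : Nonempty ι := Fintype.card_pos_iff.1 (by omega)
  obtain ⟨v, hv⟩ := exists_ne (0 : ι → F)
  obtain ⟨T, h1, h2, h3⟩ := IsFieldSubalgebra.exists_repr hK
  obtain ⟨β, hβ⟩ := h3 ⟨⟨fun k => gf σ₀ B.val (k.1 *ᵥ v) v, fun a b => by simp [add_mulVec, gf_add_left]⟩,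
    fun c a => by simp [smul_mulVec, gf_smul_left]⟩
  have hβ : ∀ k : K, gf σ₀ B.val (k.1 *ᵥ v) v = T (β * k) := hβ
  have hβ0 : β ≠ 0 := by
    rintro rfl
    refine hv (gf_eq_zero_right B (σ := σ₀) fun u => ?_)
    obtain ⟨k, hk, rfl⟩ := IsFieldSubalgebra.exists_mulVec hK hv u
    simpa using hβ ⟨k, hk⟩
  obtain ⟨w, c, hw, hc⟩ := IsFieldSubalgebra.exists_isSc_mul_sq hK ho hq hβ0
  have h4 : w.1 *ᵥ v ≠ 0 := fun e => (IsFieldSubalgebra.mulVec_eq_zero hK w.2 e).elim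
    (fun e => hw (Subtype.ext e)) hv
  refine (hI (F ∙ (w.1 *ᵥ v)) fun g hg x hx => ?_).elim (fun h => h4 (Submodule.span_singleton_eq_bot.1 h)) fun h => by
    have := finrank_span_singleton (K := F) h4
    rw [h, finrank_top, finrank_fintype_fun_eq_card] at this
    omega
  obtain ⟨l, rfl⟩ := Submodule.mem_span_singleton.1 hx
  rw [mulVec_smul]
  refine Submodule.smul_mem _ _ ?_
  obtain ⟨a, ha', h5⟩ := IsFieldSubalgebra.exists_mulVec hK hv (g.val *ᵥ v)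
  lift a to K using ha'
  letI := (IsFieldSubalgebra.isField hK).toField
  have h6 : β * (a * a) = hn.aut hg β := sub_eq_zero.1 (h2 _ fun k => by
    obtain ⟨k, rfl⟩ := (hn.aut hg).surjective k
    rw [sub_mul, map_sub, ← map_mul, h1, mul_assoc, ← hβ, ← hβ, ← mem_Iso'.1 (hG hg) (k.1 *ᵥ v), ← cjm_mulVec, ← h5,
      hB.gf_adj', ha _ a.2, mulVec_mulVec, mulVec_mulVec, sub_eq_zero, mul_assoc, mul_comm a (hn.aut hg k), ← mul_assoc]
    rfl)
  have h7 := congrArg (hn.aut hg) hc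
  rw [AlgEquiv.commutes, ← hc, map_mul, map_mul, ← h6] at h7
  have h8 : (hn.aut hg w * a) * (hn.aut hg w * a) = w * w := mul_right_cancel₀ hβ0 (by linear_combination h7)
  have h9 : g.val *ᵥ w.1 *ᵥ v = (hn.aut hg w * a).1 *ᵥ v := by
    rw [← cjm_mulVec, ← h5, mulVec_mulVec]; rfl
  rw [h9]
  rcases mul_self_eq_mul_self_iff.1 h8 with e | e <;> rw [e]
  · exact Submodule.mem_span_singleton_self _
  · rw [Subalgebra.coe_neg, neg_mulVec]; exact Submodule.neg_mem _ (Submodule.mem_span_singleton_self _)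

theorem QF.two_ne_of_odd {B : GL ι F} (h : QF Q B.val) (ho : Odd (Fintype.card ι)) : (2 : F) ≠ 0 :=
  Classical.two_ne_of_odd h.nondeg (by simpa using ho)

theorem QF.exists_rational [Finite F] (hι : 2 ≤ Fintype.card ι) {B : GL ι F} (hQ : QF Q B.val) {q s : ℕ}
    (hF : Nat.card F = q ^ s) {N : Subgroup (GL ι F)} (hN : alg N = ⊤) {P : GL ι F}
    (hP : ∀ x ∈ N, ∀ i j, cjm P⁻¹ x.val i j ∈ fixSub hF) (h : N ≤ Cfsg.isometryGroup F Q) :
    ∃ ζ : F, ζ ≠ 0 ∧ IsQuadFormRationalStructure (fun v => ζ * Q v) (fixSub hF) P := by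
  haveI : Nonempty ι := Fintype.card_pos_iff.1 (by omega)
  obtain ⟨C, hC⟩ := Asch.exists_pb σ₀ B (Equiv.refl ι) P
  obtain ⟨ζ, h1, h2⟩ := Asch.exists_rational hF hN hP hC fun x hx =>
    ⟨1, one_mem _, (mem_Iso.1 (hQ.isom_le (h hx))).trans (one_smul _ _).symm⟩
  have h3 := (hQ.trv hC).mul ζ
  have h4 : (ζ • C.val).map (frob hF) = ζ • C.val := (map_frob_eq hF).2 h2
  let φ := RingEquiv.ofBijective (frob hF) (Finite.injective_iff_bijective.1 (frob hF).injective)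
  have hφ : ∀ x, φ.symm (frob hF x) = x := φ.symm_apply_apply
  refine ⟨ζ, h1, fun u hu => ?_⟩
  have h5 := (irr_of_alg_top (alg_comap_trg (Equiv.refl ι) P hN)).eq_zero_of_additive hι
    (D := fun x => ζ * Q (Asch.trv (Equiv.refl ι) P x) - φ.symm (ζ * Q (Asch.trv (Equiv.refl ι) P (frob hF ∘ x))))
    (fun x y => by
      rw [h3.add, show frob hF ∘ (x + y) = frob hF ∘ x + frob hF ∘ y by ext; simp only [Function.comp, Pi.add_apply, map_add],
        h3.add, ← h4, ← map_gf (σ := σ₀) (frob hF) (fun _ => rfl), h4, map_add, map_add, hφ]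
      ring)
    (fun c x => by
      rw [h3.smul, show frob hF ∘ (c • x) = frob hF c • frob hF ∘ x by ext; simp only [Function.comp, Pi.smul_apply, smul_eq_mul, map_mul],
        h3.smul, ← map_pow, map_mul φ.symm (frob hF _), hφ]
      ring)
    (fun g hg v hv => by
      have k1 : g.val.map (frob hF) = g.val := (map_frob_eq hF).2 (by
        have := hP _ hg
        rwa [MulEquiv.coe_toMonoidHom, coe_trg, trm_refl, cjm_inv_cjm] at this)
      have k2 := mem_isometryGroup.1 ((trg_mem_isom (Q' := fun x => Q (Asch.trv (Equiv.refl ι) P x))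
        fun _ => rfl).1 (h hg))
      rwa [map_mulVec', k1, k2, k2]) u
  rw [show frob hF ∘ u = u from funext hu, sub_eq_zero, eq_comm, RingEquiv.symm_apply_eq] at h5
  exact h5.symm

/-- the outcomes in the orthogonal case -/
inductive OOut [Fintype F] (Q : (ι → F) → F) (B : GL ι F) (G : Subgroup (GL ι F)) : Prop
  | ts (W : Submodule F (ι → F)) (h1 : W ≠ ⊥) (h2 : IsTotallySingularQuad Q W) (h : G ≤ subspaceStabilizer W)
  | nsv (v : ι → F) (he : ¬ Odd (Fintype.card F)) (h1 : Q v ≠ 0) (h : G ≤ subspaceStabilizer (F ∙ v))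
  | nd (W : Submodule F (ι → F)) (h1 : W ≠ ⊥) (h2 : IsNondegenerateOn (gf σ₀ B.val) W)
      (h3 : 2 * finrank F W ≤ Fintype.card ι) (h : G ≤ subspaceStabilizer W)
  | dec {t : ℕ} (m : ℕ) (D : Fin t → Submodule F (ι → F))
      (hD : IsOrthogonalMDecomposition Q m D) (h : G ≤ decompositionStabilizer D)
  | pair (m : ℕ) (D : Fin 2 → Submodule F (ι → F)) (hD : IsMDecomposition m D)
      (h2 : ∀ i, IsTotallySingularQuad Q (D i)) (h : G ≤ decompositionStabilizer D)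
  | fld (r : ℕ) (K : Subalgebra F (Matrix ι ι F)) (hr : r.Prime) (hK : IsFieldSubalgebra r K)
      (h1 : ∀ k ∈ K, adj σ₀ B k = k) (h2 : Fintype.card ι ≠ r)
      (h3 : ¬ Odd (Fintype.card F) → 2 * r ∣ Fintype.card ι) (hG : Irr G) (h : G ≤ subalgebraNormalizer K)
  | ufld (K : Subalgebra F (Matrix ι ι F)) (hK : IsFieldSubalgebra 2 K) (h1 : StCl σ₀ B K)
      (h2 : ¬ ∀ k ∈ K, adj σ₀ B k = k) (h3 : ∀ k ∈ K, ∃ c, ∀ v, Q (k *ᵥ v) = c * Q v)
      (h : G ≤ subalgebraNormalizer K)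
  | tenS (n₁ n₂ : ℕ) (e : ι ≃ Fin n₁ × Fin n₂) (P : GL ι F) (B₁ : GL (Fin n₁) F) (B₂ : GL (Fin n₂) F)
      (h1 : n₁ ≤ n₂) (h2 : n₁ = 2 → 3 ≤ Fintype.card F) (hB₁ : Alt B₁.val) (hB₂ : Alt B₂.val)
      (hB : Pb σ₀ B.val e P (kgl B₁ B₂).val) (hQ : ∀ x y, Q (trv e P (ktv x y)) = 0)
      (h : G ≤ tensorProductSubgroup n₁ n₂ e P)
  | tenO (n₁ n₂ : ℕ) (e : ι ≃ Fin n₁ × Fin n₂) (P : GL ι F) (B₁ : GL (Fin n₁) F) (B₂ : GL (Fin n₂) F)
      (ho : Odd (Fintype.card F)) (h1 : 3 ≤ n₁) (h2 : n₁ ≤ n₂) (h3 : n₁ = n₂ → Even n₁)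
      (h4 : n₁ = 3 → Fintype.card F ≠ 3) (hB₁ : RF σ₀ 1 B₁) (hB₂ : RF σ₀ 1 B₂)
      (hB : Pb σ₀ B.val e P (kgl B₁ B₂).val) (h : G ≤ tensorProductSubgroup n₁ n₂ e P)
  | sub (F₀ : Subfield F) (r : ℕ) (P : GL ι F) (ζ : F) (hr : r.Prime)
      (hF : Fintype.card F = Nat.card F₀ ^ r) (h1 : ζ ≠ 0)
      (h2 : IsQuadFormRationalStructure (fun v => ζ * Q v) F₀ P) (h : G ≤ subfieldSubgroup F₀ P)
  | evp (k t : ℕ) (h1 : Fintype.card ι = k ^ t) (h2 : 2 ≤ t) (h3 : Even k) (h4 : k = 2 → IsPlusTypeOn Q ⊤)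
  | wre (k t : ℕ) (e : ι ≃ (Fin t → Fin k)) (P : GL ι F) (B₀ : GL (Fin k) F) (c : F)
      (ho : Odd (Fintype.card F)) (h1 : 3 ≤ k) (h2 : 2 ≤ t) (h3 : k = 3 → Fintype.card F ≠ 3)
      (hB₀ : RF σ₀ 1 B₀) (hc : c ≠ 0) (hB : Pb σ₀ B.val e P (c • pt fun _ => B₀.val))
      (h : G ≤ tensorWreathSubgroup k t e P)
  | res (h : InOrthogonalResidualClass G)

section
variable [Fintype F] {B : GL ι F} (hQ : QF Q B.val) {G : Subgroup (GL ι F)} (hGQ : G ≤ Cfsg.isometryGroup F Q)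
include hQ hGQ

theorem OOut.of_not_irr (hG : ¬ Irr G) : OOut Q B G := by
  rcases red_cases hQ.rf ((hGQ.trans hQ.isom_le).trans Iso_le_Sim) hG with ⟨W, h1, h2, h3⟩ | ⟨W, h1, h2, h3, h4⟩
  swap
  · exact .nd W h1 h2 h3 h4
  by_cases he : (2 : F) = 0
  swap
  · exact .ts W h1 (fun w hw => mul_left_cancel₀ he (by rw [← hQ.self, h2 w hw w hw, mul_zero])) h3
  let U : Submodule F (ι → F) :=
    { carrier := {w | w ∈ W ∧ Q w = 0}
      zero_mem' := ⟨W.zero_mem, hQ.zero⟩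
      add_mem' := fun {a b} ha hb => ⟨W.add_mem ha.1 hb.1, by rw [hQ.add, ha.2, hb.2, h2 a ha.1 b hb.1]; simp⟩
      smul_mem' := fun c a ha => ⟨W.smul_mem c ha.1, by rw [hQ.smul, ha.2, mul_zero]⟩ }
  by_cases hU : U = ⊥
  swap
  · exact .ts U hU (fun _ h => h.2) (le_subspaceStabilizer.2 fun g hg w hw =>
      ⟨le_subspaceStabilizer.1 h3 g hg w hw.1, (mem_isometryGroup.1 (hGQ hg) w).trans hw.2⟩)
  have h4 : ∀ w ∈ W, Q w = 0 → w = 0 := fun w hw h => (Submodule.eq_bot_iff _).1 hU w ⟨hw, h⟩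
  obtain ⟨v, hv, hv'⟩ := Submodule.exists_mem_ne_zero_of_ne_bot h1
  have h5 := mt (h4 v hv) hv'
  refine .nsv v (fun ho => two_ne_zero_iff_odd.2 ho he) h5 (le_of_le_of_eq h3 (congrArg _ (le_antisymm
    (fun w hw => ?_) (by simpa using hv))))
  obtain ⟨c, hc⟩ := exists_sq_of_two he (Q w / Q v)
  refine Submodule.mem_span_singleton.2 ⟨-c, (add_eq_zero_iff_eq_neg.1 (h4 _ (W.add_mem hw (W.smul_mem c hv)) ?_)).symm ▸
    neg_smul c v⟩
  rw [hQ.add, hQ.smul, h2 _ hw _ (W.smul_mem c hv), hc, div_mul_cancel₀ _ h5, ← two_mul, he]; simp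

theorem OOut.of_idem (hι : 2 ≤ Fintype.card ι) (hG : Irr G) {E : Fin 2 → Matrix ι ι F} (hE : IdemDec G E)
    (h : ∀ i, adj σ₀ B (E i) = 1 - E i) (i : Fin 2) : IsTotallySingularQuad Q (rng (E i)) := by
  by_cases he : (2 : F) = 0
  · obtain ⟨Q', h1, h2, h3⟩ := hE.exists_qf he (hQ.alt he) (hGQ.trans hQ.isom_le) h
    exact QF.unique_isom hG hι h1 hQ h2 hGQ ▸ h3 i
  · exact fun w hw => mul_left_cancel₀ he (by rw [← hQ.self, hE.ts hQ.rf h i w hw w hw, mul_zero])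

theorem OOut.of_ufld (hι : 2 ≤ Fintype.card ι) (hG : Irr G) {K : Subalgebra F (Matrix ι ι F)}
    (hK : IsFieldSubalgebra 2 K) (hn : Nrm G K) (hs : StCl σ₀ B K) (ha : ¬ ∀ k ∈ K, adj σ₀ B k = k) :
    OOut Q B G := by
  haveI : Nonempty ι := Fintype.card_pos_iff.1 (by omega)
  obtain ⟨s, hs', h1⟩ : ∃ s ∈ K, ∀ v, Q v = gf σ₀ B.val (s *ᵥ v) v := by
    by_cases he : (2 : F) = 0
    · push Not at ha
      obtain ⟨x, hx, hx'⟩ := ha
      obtain ⟨Q', h1, h2, h3⟩ := IsFieldSubalgebra.exists_qf he (hQ.alt he) (hGQ.trans hQ.isom_le) hK hn hs hx hx'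
      exact QF.unique_isom hG hι h1 hQ h2 hGQ ▸ h3
    · exact ⟨(2 : F)⁻¹ • 1, K.smul_mem K.one_mem _, fun v => by
        rw [smul_mulVec, one_mulVec, gf_smul_left, hQ.self, inv_mul_cancel_left₀ he]⟩
  refine .ufld K hK hs ha (fun k hk => ?_) (nrm_iff.1 hn)
  obtain ⟨c, hc⟩ := IsFieldSubalgebra.isSc_of_adj hK ha (K.mul_mem (hs k hk) hk) (by rw [adj_mul, hQ.rf.adj_adj])
  exact ⟨c, fun v => by
    rw [h1, h1, mulVec_mulVec, hK.comm s hs' k hk, hQ.rf.gf_adj', mulVec_mulVec, ← Matrix.mul_assoc, hc,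
      smul_mul_assoc, one_mul, smul_mulVec, gf_smul_left]⟩

theorem OOut.of_not_sprimF (hι : 3 ≤ Fintype.card ι) (hG : Irr G) (hP : ¬ SPrimF σ₀ B G) : OOut Q B G := by
  haveI : Nonempty ι := Fintype.card_pos_iff.1 (by omega)
  have hGB := hGQ.trans hQ.isom_le
  rcases hG.tri hQ.rf (hGB.trans Iso_le_Sim) hP with ⟨t, E, hE, h⟩ | ⟨E, hE, h⟩ | ⟨r, K, hr, hK, hn, hs⟩
  · obtain ⟨m, hm⟩ := hE.nondeg hQ.rf h
    exact .dec m _ ⟨hQ.polar ▸ hm, hE.isometric hGQ⟩ hE.le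
  · obtain ⟨m, hm⟩ := hE.isMDecomposition
    exact .pair m _ hm (of_idem hQ hGQ (by omega) hG hE h) hE.le
  by_cases ha : ∀ k ∈ K, adj σ₀ B k = k
  · refine .fld r K hr hK ha ?_ (fun he => ?_) hG (nrm_iff.1 hn)
    · rintro rfl
      have ho := hr.odd_of_ne_two (by omega)
      exact IsFieldSubalgebra.not_irr hQ.rf hK ha ho (Nat.card_eq_fintype_card (α := F) ▸
        two_ne_zero_iff_odd.1 (hQ.two_ne_of_odd ho)) (by omega) hGB hn hG
    · have he : (2 : F) = 0 := by rwa [← two_ne_zero_iff_odd, not_not] at he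
      exact IsFieldSubalgebra.two_mul_dvd hK hQ.rf hs fun k hk => (hQ.alt he).gf_self_adj hK hk (ha k hk)
  · have ha' := ha
    push Not at ha'
    obtain ⟨x, hx, hx'⟩ := ha'
    obtain rfl := hr.even_iff.1 (IsFieldSubalgebra.even_of_adj_ne hK hQ.rf hs hx hx')
    exact .of_ufld hQ hGQ (by omega) hG hK hn hs ha

theorem OOut.of_altalt (hι : 2 ≤ Fintype.card ι) (hG : Irr G) (hP : SPrimF σ₀ B G) {d k : ℕ} (hk : d ≤ k)
    {e : ι ≃ Fin d × Fin k} {P : GL ι F} {B₁ : GL (Fin d) F} {B₂ : GL (Fin k) F} (h1 : Alt B₁.val) (h2 : Alt B₂.val)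
    (hB : Pb σ₀ B.val e P (kgl B₁ B₂).val) (hT : G ≤ tensorProductSubgroup d k e P) : OOut Q B G := by
  haveI : Nonempty ι := Fintype.card_pos_iff.1 (by omega)
  haveI : Nonempty (Fin d) := ⟨(e (Classical.arbitrary ι)).1⟩
  haveI : Nonempty (Fin k) := ⟨(e (Classical.arbitrary ι)).2⟩
  have hGB := hGQ.trans hQ.isom_le
  have hg := fun g hg => mem_tensorProductSubgroup.1 (hT (x := g) hg)
  obtain ⟨Q', h3, h4, h5⟩ := exists_qf_of_kgl hB h1 h2 hg hGB
  obtain rfl := QF.unique_isom hG hι h3 hQ h4 hGQ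
  refine .tenS d k e P B₁ B₂ hk ?_ h1 h2 hB h5 hT
  rintro rfl
  by_contra hq
  have hq : Fintype.card F = 2 := by have := Fintype.one_lt_card (α := F); omega
  exact (hG.fac hg).not_sprimF (by simpa using Nat.prime_two) h1.rf (fac_le_Sim hB (hGB.trans Iso_le_Sim))
    (h1.isSolvable (by simp) (by rw [Nat.card_eq_fintype_card, hq]; omega))
    (by simpa using two_eq_zero_of_card (by rw [hq]; decide)) (hP.fac hg (fun _ => rfl) hB)

theorem OOut.of_symsym (he : (2 : F) ≠ 0) (hG : Irr G) (hP : SPrimF σ₀ B G) {d k : ℕ} (hd : 2 ≤ d) (hk : d ≤ k)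
    {e : ι ≃ Fin d × Fin k} {P : GL ι F} {B₁ : GL (Fin d) F} {B₂ : GL (Fin k) F} (h1 : RF σ₀ 1 B₁) (h2 : RF σ₀ 1 B₂)
    (hB : Pb σ₀ B.val e P (kgl B₁ B₂).val) (hT : G ≤ tensorProductSubgroup d k e P) : OOut Q B G := by
  haveI : Nonempty ι := ⟨e.symm (⟨0, by omega⟩, ⟨0, by omega⟩)⟩
  have hg := fun g hg => mem_tensorProductSubgroup.1 (hT (x := g) hg)
  obtain ⟨h3, h4⟩ := sym_factor he hG ((hGQ.trans hQ.isom_le).trans Iso_le_Sim) hP hg hB h1
  by_cases h5 : d = k → Even d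
  · exact .tenO d k e P B₁ B₂ (two_ne_zero_iff_odd.1 he) (by omega) hk h5 h4 h1 h2 hB hT
  push Not at h5
  obtain ⟨rfl, h5⟩ := h5
  obtain ⟨m, hm⟩ := Nat.not_even_iff_odd.1 h5
  obtain ⟨Q₁, k1⟩ := exists_qf_of_symm he (B := B₁.val) (by simpa using h1.symm)
  obtain ⟨Q₂, k2⟩ := exists_qf_of_symm he (B := B₂.val) (by simpa using h2.symm)
  obtain ⟨c, hc, k3⟩ := orth_iso_odd m _ _ k1.nondeg k2.nondeg (by simpa using hm) (by simpa using hm)
  obtain ⟨P₂, k4, -⟩ := exists_trv_iso k3 (Equiv.refl _)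
  have k4 : Pb σ₀ B₂.val (Equiv.refl _) P₂ (c • B₁.val) := fun x y => (k4 x y).trans (gf_smul (σ := σ₀) c B₁.val x y).symm
  obtain ⟨e', P', -, k5, k6⟩ := exists_kron_coord e P (Equiv.refl _) 1 (Equiv.refl _) P₂
  have k7 := k6 hB (C₁ := B₁.val) (Pb.refl_iff.2 (by simp [map_σ₀])) k4
  rw [kronecker_smul] at k7
  refine .wre d 2 _ P' B₁ c (two_ne_zero_iff_odd.1 he) (by omega) le_rfl h4 h1 hc k7.to_pt
    (le_trans (fun g k => ?_) (tensorProductSubgroup_le_wreath e' P'))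
  obtain ⟨a, b, rfl⟩ := hg g k
  exact mem_tensorProductSubgroup.2 ⟨(trg _ 1).symm a, (trg _ P₂).symm b, by
    rw [k5, MulEquiv.apply_symm_apply, MulEquiv.apply_symm_apply]⟩

theorem OOut.of_extra (hι : 5 ≤ Fintype.card ι) {N : Subgroup (GL ι F)} {r : ℕ} (h : ExtraCase G N r) :
    OOut Q B G := by
  haveI : Nonempty ι := Fintype.card_pos_iff.1 (by omega)
  have hGB := hGQ.trans hQ.isom_le
  have key : ∀ {x : GL ι F}, x ∈ Iso σ₀ B.val → x ∈ scalars ι F → x = 1 ∨ x = -1 := fun hx hx' => by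
    obtain ⟨c, rfl⟩ := exists_scal hx'
    rcases mul_self_eq_one_iff.1 (scal_mem_Iso.1 hx) with e | e
    · exact .inl (by rw [Units.val_eq_one.1 e, map_one])
    · exact .inr (by rw [show c = -1 from Units.ext e, scal_neg_one])
  have h1 : ¬ ∀ x ∈ N ⊓ Iso σ₀ B.val, ∀ y ∈ N ⊓ Iso σ₀ B.val, x * y = y * x := not_comm_of_top (by omega)
    (eq_top_iff.2 (by rw [← alg_sup_scalars, ← h.top]; exact alg_mono (h.le_inf_sup hGB)))
  obtain rfl : r = 2 := by
    by_contra hr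
    refine h1 fun x hx y hy => commutatorElement_eq_one_iff_mul_comm.1 ?_
    have h2 := comm_pow_eq_one (h.comm x hx.1 y hy.1) (h.pow y hy.1)
    rcases key (mul_mem (mul_mem (mul_mem hx.2 hy.2) (inv_mem hx.2)) (inv_mem hy.2)) (h.comm x hx.1 y hy.1) with e | e
    · exact e
    · rw [← h2, commutatorElement_def, e, (h.prime.odd_of_ne_two hr).neg_one_pow]
  obtain ⟨h2, -⟩ := h.xr_Iso (by omega) hGB
  obtain ⟨m, -, hm, -⟩ := h2.exists_card
  have he : (2 : F) ≠ 0 := by simpa using h2.cast_ne_zero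
  obtain ⟨s, hs, h3⟩ : ∃ s ∈ N ⊓ Iso σ₀ B.val, s * s = -1 := by
    by_contra e
    push Not at e
    have h3 : ∀ x ∈ N ⊓ Iso σ₀ B.val, x⁻¹ = x := fun x hx => inv_eq_of_mul_eq_one_right
      ((key (mul_mem hx.2 hx.2) (sq x ▸ h.pow x hx.1)).resolve_right (e x hx))
    exact h1 fun x hx y hy => by rw [← h3 _ (mul_mem hx hy), _root_.mul_inv_rev, h3 x hx, h3 y hy]
  obtain ⟨m, rfl⟩ : ∃ k, m = k + 2 := Nat.exists_eq_add_of_le' (by
    by_contra e
    interval_cases m <;> omega)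
  exact .evp 2 _ hm (by omega) even_two fun _ => hQ.isPlus_of_skew he (hQ.isom_eq he ▸ hs.2) h3 (m := 2 ^ m - 1) (by
    rw [hm, Nat.sub_add_cancel Nat.one_le_two_pow]; ring)

theorem OOut.of_wreath (hι : 2 ≤ Fintype.card ι) (hG : Irr G) {t m : ℕ} {K : Fin (t + 2) → Subgroup (GL ι F)}
    {e : ι ≃ (Fin (t + 2) → Fin m)} {P : GL ι F} (h : WreathCase G m K e P) : OOut Q B G := by
  have hGB := hGQ.trans hQ.isom_le
  haveI : Nonempty (Fin m) := ⟨⟨0, by have := h.hm; omega⟩⟩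
  obtain ⟨B₀, c, α, hc, h1, h2, h3⟩ := h.form hQ.rf (hGB.trans Iso_le_Sim)
  have h2 := RF.of_id h2
  obtain ⟨K₀, h4, h5, h6⟩ := h.exists_fac (fun _ => rfl) (hGB.trans Iso_le_Sim) hc h1
  have key : Alt B₀.val → (∀ x, Q (trv e P (ptv x)) = 0) → OOut Q B G := fun k1 k2 => by
    refine .evp m _ (by simpa using Fintype.card_congr e) (by omega) (by simpa using k1.even) ?_
    rintro rfl
    rw [← isPlus_trv e P]
    refine (hQ.trv h1).isPlus_of_index (s := Finset.univ.filter fun z => z 0 = 0) ?_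
      (fun z _ => by rw [single_eq_ptv, k2]) fun z hz w hw => ?_
    · rw [← Fintype.piFinset_univ, Fintype.card_filter_piFinset_const_eq_of_mem _ _ (Finset.mem_univ _)]
      simp [pow_succ']
    · rw [Matrix.smul_apply, pt_apply, Fin.prod_univ_succ, (Finset.mem_filter.1 hz).2, (Finset.mem_filter.1 hw).2, k1.diag]
      simp
  by_cases he : (2 : F) = 0
  · have h7 := (irr_of_alg_top h4).alt (by simpa using h.hm) he (by simpa using (h2.one_of_two he).symm)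
      (h6.trans Iso_le_Sim)
    obtain ⟨Q', h8, h9, k⟩ := exists_qf_of_wreath he h1 h7 h.le_wreath hGB
    exact key h7 (QF.unique_isom hG hι h8 hQ h9 hGQ ▸ k)
  rcases eq_one_or_of_mul_self h2.εε with rfl | rfl
  swap
  · exact key (h2.alt he) fun x => mul_left_cancel₀ he (by
      rw [← hQ.self, h1, gf_smul, gf_pt, Fin.prod_univ_succ, h2.alt he]; simp)
  refine .wre m _ e P B₀ c (two_ne_zero_iff_odd.1 he) ?_ (by omega) ?_ h2 hc h1 h.le_wreath
  · refine lt_of_le_of_ne h.hm ?_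
    rintro rfl
    obtain ⟨l, hl⟩ := schur_Iso h4 (le_Iso_of_perfect h5.perfect fun a _ => mem_Sim_J2 a) h6
    refine gl_ne_zero B₀ (eq_zero_of_eq_neg he ?_)
    rw [← (hl ▸ alt_J2.smul l : Alt B₀.val).transpose]
    simpa using h2.symm.symm
  · rintro rfl hq
    exact h5.not_le_of_isSolvable (h2.isSolvable_three (by simp) (by rw [Nat.card_eq_fintype_card, hq]) he) h6

theorem oOut (hι : 5 ≤ Fintype.card ι) : OOut Q B G := by
  haveI : Nonempty ι := Fintype.card_pos_iff.1 (by omega)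
  have hGB := hGQ.trans hQ.isom_le
  have hS := hGB.trans Iso_le_Sim
  by_cases hG : Irr G
  swap
  · exact .of_not_irr hQ hGQ hG
  by_cases hP : SPrimF σ₀ B G
  swap
  · exact .of_not_sprimF hQ hGQ (by omega) hG hP
  rcases hG.raw (by omega) (hP.prim hQ.rf (sup_le hS scalars_le_Sim)) with
    ⟨N, d, k, e, P, hN, h⟩ | ⟨N, r, h⟩ | ⟨t, m, K, e, P, h⟩ | ⟨K, h⟩
  · haveI : Nonempty (Fin d) := ⟨(e (Classical.arbitrary ι)).1⟩
    haveI : Nonempty (Fin k) := ⟨(e (Classical.arbitrary ι)).2⟩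
    obtain ⟨B₁, B₂, α, β, h1, h2, h3, h4⟩ := h.form hQ.rf (hN.trans (sup_le hS scalars_le_Sim))
    have h2 := RF.of_id h2
    have h3 := RF.of_id h3
    have hk := fun g hg => mem_tensorProductSubgroup.1 (h.le (x := g) hg)
    have key : Alt B₁.val → Alt B₂.val → OOut Q B G := fun k1 k2 => (le_total d k).elim
      (fun h5 => .of_altalt hQ hGQ (by omega) hG hP h5 k1 k2 h1 h.le)
      fun h5 => .of_altalt hQ hGQ (by omega) hG hP h5 k2 k1 (Pb.swap' h1) h.swap_le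
    by_cases he : (2 : F) = 0
    · exact key ((hG.fac hk).alt (by simpa using h.hd) he (by simpa using (h2.one_of_two he).symm) (fac_le_Sim h1 hS))
        ((hG.fac (kgl_swap hk)).alt (by simpa using h.hk) he (by simpa using (h3.one_of_two he).symm)
          (fac_le_Sim (Pb.swap' h1) hS))
    rcases eq_one_or_of_mul_self h2.εε with rfl | rfl
    · obtain rfl : β = 1 := by simpa using h4
      exact (le_total d k).elim (fun h5 => .of_symsym hQ hGQ he hG hP h.hd h5 h2 h3 h1 h.le)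
        fun h5 => .of_symsym hQ hGQ he hG hP h.hk h5 h3 h2 (Pb.swap' h1) h.swap_le
    · obtain rfl : β = -1 := by linear_combination -h4
      exact key (h2.alt he) (h3.alt he)
  · exact .of_extra hQ hGQ hι h
  · exact .of_wreath hQ hGQ (by omega) hG h
  by_cases h1 : ∃ F₀ : Subfield F, F₀ ≠ ⊤ ∧ RealisableOver F₀ (matrixSet K)
  · obtain ⟨F₀, h0, h1⟩ := h1
    obtain ⟨q, r, hF, P, hr, hP⟩ := exists_of_realisableOver h0 h1
    obtain ⟨ζ, h2, h3⟩ := hQ.exists_rational (by omega) hF h.top hP (h.le.trans hGQ)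
    exact .sub _ r P ζ hr (card_eq_fixSub hF) h2 h3 (le_subfieldSubgroup_fix hF h.top hP h.nrm)
  refine .res ⟨K, h.isResidualCore (by push Not at h1; exact h1), ?_⟩
  rintro ⟨τ, f, hf, h4⟩
  obtain ⟨hτ, H, hH, rfl⟩ := IsUnitaryForm.exists hf
  exact h1 (realisable_of_two_forms hH.σσ hτ h.top (h.le.trans hGB) (fixesForm_iff.1 h4))

end

end Cfsg.Agent.Classical.Asch
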