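import Cfsg.Agent.Lib.Classical.Asch22

/-!
Orthogonal decompositions: models, types, and the odd-dimensional Aschbacher theorem.
-/

set_option autoImplicit false

namespace Cfsg.Agent.Classical.Asch
open Matrix Cfsg.Geo Module Cfsg.Agent.Comp
open scoped MatrixGroups Kronecker commutatorElement

variable {ι : Type} [Fintype ι] [DecidableEq ι] {F : Type*} [Field F] {σ : F →+* F}
  {Q : (ι → F) → F}

local notation "Z" => scalars ι F
local notation "σ₀" => RingHom.id F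

section Model
variable {κ : Type} [Fintype κ] [DecidableEq κ] {t : ℕ} {D : Fin t → Submodule F (ι → F)} {e : ι ≃ κ × Fin t}
  {P : GL ι F}

theorem Coord.eq_range (h : Coord D e P) (j : Fin t) :
    D j = LinearMap.range ((trv e P).toLinearMap ∘ₗ blkL j) :=
  Submodule.ext fun v => (h j v).trans (exists_congr fun _ => eq_comm)

theorem Coord.isPlus_iff (h : Coord D e P) (j : Fin t) :
    IsPlusTypeOn Q (D j) ↔ IsPlusTypeOn (fun x => Q (trv e P (blk j x))) ⊤ := by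
  rw [h.eq_range]; exact isPlus_range ((trv e P).injective.comp (blk_injective j))

/-- the coordinate isomorphism of a block -/
noncomputable def Coord.equiv (h : Coord D e P) (j : Fin t) : (κ → F) ≃ₗ[F] D j :=
  (LinearEquiv.ofInjective ((trv e P).toLinearMap ∘ₗ blkL j) ((trv e P).injective.comp (blk_injective j))).trans
    (LinearEquiv.ofEq _ _ (h.eq_range j).symm)

theorem Coord.equiv_apply (h : Coord D e P) (j : Fin t) (x : κ → F) : (h.equiv j x).1 = trv e P (blk j x) := rfl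

theorem Coord.isometric_iff (h : Coord D e P) (i j : Fin t) : AreIsometricFor Q (D i) (D j) ↔
    ∃ g : GL κ F, ∀ x, Q (trv e P (blk j (g.val *ᵥ x))) = Q (trv e P (blk i x)) := by
  constructor
  · rintro ⟨φ, hφ⟩
    refine ⟨glEquiv.symm ((h.equiv i).trans (φ.trans (h.equiv j).symm)), fun x => ?_⟩
    rw [glEquiv_symm_mulVec, ← h.equiv_apply, ← h.equiv_apply, ← hφ]; simp
  · rintro ⟨g, hg⟩
    refine ⟨(h.equiv i).symm.trans ((glEquiv g).trans (h.equiv j)), fun w => ?_⟩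
    obtain ⟨x, rfl⟩ := (h.equiv i).surjective w
    simpa [h.equiv_apply] using hg x

omit [DecidableEq κ] in
theorem QF.blk {τ : Type} [Fintype τ] [DecidableEq τ] {C : τ → Matrix κ κ F} {Q : (κ × τ → F) → F}
    (h : QF Q (blockDiagonal C)) (j : τ) : QF (fun x => Q (blk j x)) (C j) :=
  ⟨fun c v => by rw [← h.smul]; exact congrArg Q ((blkL j).map_smul c v), fun u v => by
    rw [show Asch.blk j (u + v) = Asch.blk j u + Asch.blk j v from (blkL j).map_add u v, h.add, gf_blk, if_pos rfl]⟩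

theorem QF.eq_of {B C : Matrix ι ι F} (h : QF Q B) (h' : QF Q C) : B = C :=
  gf_ext (σ := σ₀) fun u v => by rw [← h.polar, h'.polar]

/-- coordinates in which all blocks carry the same form -/
structure Model (Q : (ι → F) → F) (B : GL ι F) (D : Fin t → Submodule F (ι → F)) (e : ι ≃ κ × Fin t) (P : GL ι F)
    (Q₀ : (κ → F) → F) (C : GL κ F) : Prop where
  coord : Coord D e P
  qf : QF Q₀ C.val
  pb : Pb σ₀ B.val e P (blockDiagonal fun _ => C.val)
  eq : ∀ j x, Q (trv e P (blk j x)) = Q₀ x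

variable {B : GL ι F} {Q₀ : (κ → F) → F} {C : GL κ F}

theorem exists_model (hQ : QF Q B.val) {m : ℕ} (hD : IsOrthogonalMDecomposition Q m D) :
    ∃ (e : ι ≃ Fin m × Fin t) (P : GL ι F) (Q₀ : (Fin m → F) → F) (C : GL (Fin m) F), Model Q B D e P Q₀ C := by
  obtain ⟨e, P, hc⟩ := IsMDecomposition.exists_coord hD.1.1
  let i : Fin t := ⟨0, by have := hD.1.1.two_le; omega⟩
  choose b hb using fun j => (hc.isometric_iff i j).1 (hD.2 i j)
  obtain ⟨C, hC⟩ := (hc.mul b).exists_pb (σ := σ₀) (B := B) (hQ.polar ▸ hD.1.3)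
  rw [coe_bdg] at hC
  have h1 : ∀ j x, Q (trv e (P * glReindex e.symm (bdg b)) (blk j x)) = Q (trv e P (blk i x)) := fun j x => by
    rw [trv_mul_trg, coe_bdg, blockDiagonal_blk, hb]
  have h2 : ∀ j, QF (fun x => Q (trv e P (blk i x))) (C j).val := fun j => by
    simpa only [h1] using (hQ.trv hC).blk j
  exact ⟨e, _, _, C i, hc.mul b, h2 i, by simpa only [fun j => (h2 j).eq_of (h2 i)] using hC, h1⟩

theorem Model.change (h : Model Q B D e P Q₀ C) {Q₁ : (κ → F) → F} {C₁ : GL κ F} (h1 : QF Q₁ C₁.val) {g : GL κ F}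
    (hg : ∀ x, Q₀ (trv (Equiv.refl _) g x) = Q₁ x) : ∃ P', Model Q B D e P' Q₁ C₁ := by
  have h2 : QF Q₁ (g.valᵀ * C.val * g.val) := funext hg ▸ h.qf.comp g.val
  refine ⟨_, h.coord.mul fun _ => g, h1, ?_, fun j x => by rw [trv_mul_trg, coe_bdg, blockDiagonal_blk, h.eq, ← hg]; rfl⟩
  simpa only [map_σ₀, h2.eq_of h1] using h.pb.mul_bdg fun _ => g

theorem Model.exists_bm (h : Model Q B D e P Q₀ C) {g : GL ι F} (hg : g ∈ decompositionStabilizer D)
    (hg' : g ∈ Cfsg.isometryGroup F Q) :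
    ∃ π a, g = trg e P (bm π a) ∧ ∀ j x, Q₀ ((a j).val *ᵥ x) = Q₀ x := by
  obtain ⟨π, a, rfl⟩ := h.coord.exists_bm hg
  exact ⟨π, a, rfl, fun j x => by rw [← h.eq (π j), ← bm_blk, ← trg_mulVec, mem_isometryGroup.1 hg', h.eq]⟩

theorem Model.isPlus_iff (h : Model Q B D e P Q₀ C) (j : Fin t) : IsPlusTypeOn Q (D j) ↔ IsPlusTypeOn Q₀ ⊤ := by
  simp only [h.coord.isPlus_iff, h.eq]

theorem Model.isOrth (hQ : QF Q B.val) (h : Model Q B D e P Q₀ C) (ht : 2 ≤ t) (hκ : 0 < Fintype.card κ) :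
    IsOrthogonalMDecomposition Q (Fintype.card κ) D :=
  ⟨hQ.polar ▸ h.coord.nondeg ht hκ (C := fun _ => C) h.pb,
    fun i j => (h.coord.isometric_iff i j).2 ⟨1, fun x => by simp [h.eq]⟩⟩

theorem Model.mem_isom (hQ : QF Q B.val) (h : Model Q B D e P Q₀ C) {g : GL (κ × Fin t) F}
    (hg : g ∈ Iso σ₀ (blockDiagonal fun _ => C.val))
    (h1 : ∀ k j, Q (trv e P (g.val *ᵥ Pi.single (k, j) 1)) = Q₀ (Pi.single k 1)) :
    trg e P g ∈ Cfsg.isometryGroup F Q :=
  (trg_mem_isom fun _ => rfl).2 (mem_isometryGroup.2 fun v => ((hQ.trv h.pb).mul_of_basis (c := 1)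
    ((mem_Iso.1 hg).trans (one_smul _ _).symm) (fun ⟨k, j⟩ => by rw [h1, ← blk_single, h.eq, one_mul]) v).trans
      (one_mul _))

theorem QF.areIsometric_span {B : Matrix ι ι F} (hQ : QF Q B) {u v : ι → F} (hu : u ≠ 0) (hv : v ≠ 0)
    (h : Q u = Q v) : AreIsometricFor Q (F ∙ u) (F ∙ v) := by
  refine ⟨(LinearEquiv.toSpanNonzeroSingleton F _ u hu).symm.trans (LinearEquiv.toSpanNonzeroSingleton F _ v hv),
    fun w => ?_⟩
  obtain ⟨c, rfl⟩ := (LinearEquiv.toSpanNonzeroSingleton F _ u hu).surjective w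
  rw [LinearEquiv.trans_apply, LinearEquiv.symm_apply_apply]
  simp [hQ.smul, h]

theorem not_mem_decStab {m : ℕ} (hD : IsMDecomposition m D) {g : GL ι F} {i j k : Fin t} {u v : ι → F}
    (hu : u ∈ D i) (hv : v ∈ D i) (hu0 : u ≠ 0) (hv0 : v ≠ 0) (h1 : g.val *ᵥ u ∈ D j) (h2 : g.val *ᵥ v ∈ D k)
    (h : j ≠ k) : g ∉ decompositionStabilizer D := fun ⟨π, hπ⟩ => h
  ((IsMDecomposition.eq_of_mem hD (mt gl_mulVec_eq_zero.1 hu0) h1 (hπ i ▸ Submodule.mem_map_of_mem hu)).trans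
    (IsMDecomposition.eq_of_mem hD (mt gl_mulVec_eq_zero.1 hv0) h2 (hπ i ▸ Submodule.mem_map_of_mem hv)).symm)

theorem QF.sq_mem_omega [Finite F] (hQ : QF Q B.val) (hι : 5 ≤ Fintype.card ι) {g : GL ι F}
    (hg : g ∈ Cfsg.isometryGroup F Q) : g ^ 2 ∈ omegaGL Q := by
  have hG := Form.good_of_finrank hQ.nondeg (by simp; omega)
  have h1 : ∀ x : Cfsg.isometryGroup F hQ.form.N, x ^ 2 ∈ commutator _ := fun x => by
    rw [← mem_commutator_congr (orthEquiv hQ.form), hG.mem_commutator_iff hQ.nondeg, map_pow, map_pow, map_pow]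
    exact ⟨Int.units_sq _, Int.units_sq _⟩
  exact ⟨_, h1 ⟨g, hg⟩, rfl⟩

/-- refining a decomposition to a frame -/
theorem Model.frame [Finite F] (hQ : QF Q B.val) (h : Model Q B D e P Q₀ C) (hι : 5 ≤ Fintype.card ι) {c : F}
    (hC : C.val = diagonal fun _ => 2 * c) (h1 : ∀ x, Q₀ x = c → ∃ k a, x = Pi.single k a) :
    ∃ (s : ℕ) (D' : Fin s → Submodule F (ι → F)), IsOrthogonalMDecomposition Q 1 D' ∧
      decompositionStabilizer D ⊓ Cfsg.isometryGroup F Q ≤ decompositionStabilizer D' ∧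
      (2 ≤ Fintype.card κ → 2 ≤ t →
        ∃ g ∈ decompositionStabilizer D' ⊓ omegaGL Q, g ∉ decompositionStabilizer D) := by
  obtain ⟨D', -, h2, h3, h4⟩ := exists_frame e P (by rw [← Fintype.card_congr e]; omega)
  haveI : Nonempty κ := ⟨(e (Fintype.card_pos_iff.1 (by omega)).some).1⟩
  have hc : 2 * c ≠ 0 := fun e => gl_ne_zero C (by rw [hC, e, diagonal_zero])
  have h5 : ∀ k, Q₀ (Pi.single k 1) = c := fun k => mul_left_cancel₀ (left_ne_zero_of_mul hc) (by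
    rw [← h.qf.self, gf_single, hC, diagonal_apply_eq])
  have h6 := h.pb
  rw [hC, blockDiagonal_diagonal] at h6
  refine ⟨_, D', ⟨hQ.polar ▸ h3 (fun _ => hc) h6, fun i j => ?_⟩, fun g hg => ?_, fun hκ ht => ?_⟩
  · obtain ⟨⟨k, i⟩, hi⟩ := h2 i
    obtain ⟨⟨l, j⟩, hj⟩ := h2 j
    rw [hi, hj]
    exact hQ.areIsometric_span (by simp) (by simp) (by rw [← blk_single, ← blk_single, h.eq, h.eq, h5, h5])
  · obtain ⟨π, a, rfl, h7⟩ := h.exists_bm hg.1 hg.2
    refine h4 _ fun ⟨k, j⟩ => ?_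
    obtain ⟨l, b, hb⟩ := h1 _ ((h7 j _).trans (h5 k))
    exact ⟨(l, π j), b, by rw [← blk_single, bm_blk, hb, blk_single']⟩
  · obtain ⟨k, l, hkl⟩ := Fintype.exists_pair_of_one_lt_card hκ
    obtain ⟨i, j, hij⟩ := Fintype.exists_pair_of_one_lt_card (α := Fin t) (by simp; omega)
    let π := Equiv.swap (k, i) (l, j) * Equiv.swap (k, i) (k, j)
    refine ⟨trg e P (pmg F π) ^ 2, ⟨pow_mem (h4 _ fun p => ⟨_, _, pmg_single _ _ _⟩) 2, hQ.sq_mem_omega hι
      (h.mem_isom hQ ?_ fun a b => by rw [pmg_single, ← blk_single, h.eq, h5, h5])⟩,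
      not_mem_decStab (h.coord.isMDecomposition ht (by omega)) (h.coord.mem i (Pi.single k 1))
        (h.coord.mem i (Pi.single l 1)) (by simp [blk_single]) (by simp [blk_single]) ?_ ?_ hij.symm⟩
    · rw [hC, blockDiagonal_diagonal, ← smul_one_eq_diagonal, Iso_smul hc]; exact pmg_mem_Iso _
    · rw [← map_pow, ← map_pow, trg_mulVec, blk_single, pmg_single, show (π ^ 2) (k, i) = (l, j) by
        simp [π, sq, Equiv.swap_apply_def, hkl, hij, hkl.symm, hij.symm], ← blk_single]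
      exact h.coord.mem _ _
    · rw [← map_pow, ← map_pow, trg_mulVec, blk_single, pmg_single, show (π ^ 2) (l, i) = (l, i) by
        simp [π, sq, Equiv.swap_apply_def, hkl, hij, hkl.symm, hij.symm], ← blk_single]
      exact h.coord.mem _ _

theorem QF.mem_of_basis {B : Matrix ι ι F} (h : QF Q B) {F₀ : Subfield F} (h1 : ∀ i j, B i j ∈ F₀)
    (h2 : ∀ i, Q (Pi.single i 1) ∈ F₀) {u : ι → F} (hu : ∀ i, u i ∈ F₀) : Q u ∈ F₀ := by
  refine Pi.single_induction (M := fun _ : ι => F₀) (fun f => Q (fun i => (f i).1) ∈ F₀) (fun i => ⟨u i, hu i⟩)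
    (by exact (h.zero ▸ F₀.zero_mem : Q 0 ∈ F₀)) (fun f g hf hg => ?_) fun i m => ?_
  · exact (h.add (fun i => (f i).1) (fun i => (g i).1)).symm ▸ F₀.add_mem (F₀.add_mem hf hg)
      (gf_mem (fun _ h => h) h1 (fun i => (f i).2) fun i => (g i).2)
  · rw [show (fun j => ((Pi.single i m : ι → F₀) j).1) = m.1 • Pi.single i 1 by
      ext j; by_cases hij : j = i <;> simp [hij, Pi.single_apply], h.smul]
    exact F₀.mul_mem (F₀.pow_mem m.2 2) (h2 i)

theorem trg_mem_subfield [Finite F] {τ : Type} [Fintype τ] [DecidableEq τ] (e : ι ≃ τ) (P : GL ι F) {F₀ : Subfield F}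
    {g : GL τ F} (h : ∀ i j, g.val i j ∈ F₀) : trg e P g ∈ subfieldSubgroup F₀ P :=
  mem_subfieldSubgroup.2 ⟨1, fun i j => by rw [coe_trg, trm_apply, cjm_inv_cjm, Units.val_one, one_mul]; exact h _ _⟩

theorem Model.rational (hQ : QF Q B.val) (h : Model Q B D e P Q₀ C) {F₀ : Subfield F} {ζ : F}
    (h1 : ∀ i j, ζ * C.val i j ∈ F₀) (h2 : ∀ i, ζ * Q₀ (Pi.single i 1) ∈ F₀) :
    IsQuadFormRationalStructure (fun v => ζ * Q v) F₀ P := fun u hu => by
  have := ((hQ.trv h.pb).mul ζ).mem_of_basis (F₀ := F₀) (fun p q => by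
    rw [Matrix.smul_apply, blockDiagonal_apply]
    split_ifs
    · exact h1 _ _
    · simp) (fun ⟨k, j⟩ => by rw [← blk_single, h.eq]; exact h2 k) (u := u ∘ e.symm) fun _ => hu _
  rwa [trv_apply, Function.comp_assoc, e.symm_comp_self] at this

theorem Model.le_subfield [Finite F] (h : Model Q B D e P Q₀ C) {F₀ : Subfield F}
    (h1 : ∀ a : Matrix κ κ F, (∀ x, Q₀ (a *ᵥ x) = Q₀ x) → ∀ i j, a i j ∈ F₀) :
    decompositionStabilizer D ⊓ Cfsg.isometryGroup F Q ≤ subfieldSubgroup F₀ P := fun g hg => by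
  obtain ⟨π, a, rfl, h2⟩ := h.exists_bm hg.1 hg.2
  refine trg_mem_subfield e P fun p ⟨k, j⟩ => ?_
  rw [show (bm π a).val p (k, j) = ((bm π a).val *ᵥ Pi.single (k, j) 1) p by simp, ← blk_single, bm_blk, blk_apply]
  split_ifs
  · simpa using h1 _ (h2 j) _ _
  · exact F₀.zero_mem

theorem frame_le_subfield [Fintype F] (hQ : QF Q B.val) (hD : IsOrthogonalMDecomposition Q 1 D)
    (hq : ¬ (Fintype.card F).Prime) : ∃ (F₀ : Subfield F) (r : ℕ) (P : GL ι F) (ζ : F), r.Prime ∧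
      Fintype.card F = Nat.card F₀ ^ r ∧ ζ ≠ 0 ∧ IsQuadFormRationalStructure (fun v => ζ * Q v) F₀ P ∧
      decompositionStabilizer D ⊓ Cfsg.isometryGroup F Q ≤ subfieldSubgroup F₀ P := by
  obtain ⟨e, P, Q₀, C, h⟩ := exists_model hQ hD
  obtain ⟨F₀, r, hr, -, h1, -⟩ := exists_prime_subfield (F₀ := (⊥ : Subfield F)) fun e => hq (by
    obtain ⟨p, hp⟩ := CharP.exists F
    haveI := Fact.mk (CharP.char_is_prime F p)
    rw [← Nat.card_eq_fintype_card, ← Nat.card_congr Subfield.topEquiv.toEquiv, ← e, Subfield.card_bot F p]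
    exact Fact.out)
  have h2 : C.val 0 0 = 2 * Q₀ (Pi.single 0 1) := by rw [← h.qf.self, gf_single]
  have h3 : Q₀ (Pi.single 0 1) ≠ 0 := fun e => C.det_ne_zero (by rw [det_unique, Fin.default_eq_zero, h2, e, mul_zero])
  refine ⟨F₀, r, P, _, hr, Nat.card_eq_fintype_card.symm.trans h1, inv_ne_zero h3, h.rational hQ (fun i j => ?_)
    fun i => ?_, h.le_subfield fun a ha i j => ?_⟩
  · rw [Subsingleton.elim i 0, Subsingleton.elim j 0, h2, mul_left_comm, inv_mul_cancel₀ h3, mul_one]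
    exact ofNat_mem F₀ 2
  · rw [Subsingleton.elim i 0, inv_mul_cancel₀ h3]; exact F₀.one_mem
  · have := ha (Pi.single 0 1)
    rw [show a *ᵥ Pi.single 0 1 = a i j • Pi.single 0 1 by
      ext k; simp [Subsingleton.elim k 0, Subsingleton.elim i 0, Subsingleton.elim j 0], h.qf.smul,
      mul_eq_right₀ h3, sq, mul_self_eq_one_iff] at this
    rcases this with e | e <;> rw [e]
    exacts [F₀.one_mem, F₀.neg_mem F₀.one_mem]

end Model

section Types
variable {B : GL ι F} {t m : ℕ} {D : Fin t → Submodule F (ι → F)}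

omit [Fintype ι] [DecidableEq ι] in
theorem AreIsometricFor.isPlus {U W : Submodule F (ι → F)} (h : AreIsometricFor Q U W) (hU : IsPlusTypeOn Q U) :
    IsPlusTypeOn Q W := by
  obtain ⟨φ, hφ⟩ := h
  obtain ⟨T, h1, h2, h3⟩ := hU
  refine ⟨((T.comap U.subtype).map φ.toLinearMap).map W.subtype, Submodule.map_subtype_le _ _, ?_, ?_⟩
  · rintro _ ⟨_, ⟨u, hu, rfl⟩, rfl⟩
    exact (hφ u).trans (h2 _ hu)
  · rw [Submodule.finrank_map_subtype_eq, LinearEquiv.finrank_map_eq, (Submodule.comapSubtypeEquivOfLe h1).finrank_eq,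
      h3, φ.finrank_eq]

theorem isPlus_biUnion (hQ : QF Q B.val) (hD : IsNondegenerateMDecomposition (gf σ₀ B.val) m D) {s u : Finset (Fin t)}
    (h : Disjoint s u) : AreOrthogonalFor (gf σ₀ B.val) (⨆ i ∈ s, D i) (⨆ i ∈ u, D i) ∧
      (IsPlusTypeOn Q (⨆ i ∈ s, D i) → IsPlusTypeOn Q (⨆ i ∈ u, D i) → IsPlusTypeOn Q (⨆ i ∈ s ∪ u, D i)) := by
  have key : ∀ (s : Finset (Fin t)), ∀ j ∉ s, ⨆ i ∈ s, D i ≤ hQ.form.perp (D j) := fun s j hj =>
    iSup₂_le fun i hi => hD.3 i j (ne_of_mem_of_not_mem hi hj)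
  have h1 : ⨆ i ∈ s, D i ≤ hQ.form.perp (⨆ i ∈ u, D i) := hQ.form.le_perp_comm.1
    (iSup₂_le fun j hj => hQ.form.le_perp_comm.1 (key s j (Finset.disjoint_right.1 h hj)))
  refine ⟨h1, fun h2 h3 => ?_⟩
  rw [Finset.iSup_union]
  refine hQ.isPlus_sup h2 h3 h1 (eq_bot_iff.2 ?_)
  rw [← hQ.nondeg.perp_top, ← hD.1.iSup_eq_top]
  refine hQ.form.le_perp_comm.1 (iSup_le fun j => hQ.form.le_perp_comm.1 ?_)
  by_cases hj : j ∈ s
  · exact inf_le_right.trans (key u j (Finset.disjoint_left.1 h hj))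
  · exact inf_le_left.trans (key s j hj)

theorem IsOrthogonalMDecomposition.isPlus_iff_of_even [Finite F] (hQ : QF Q B.val) (hD : IsOrthogonalMDecomposition Q m D)
    (hm : Even m) (i : Fin t) : IsPlusTypeOn Q ⊤ ↔ IsPlusTypeOn Q (D i) ∨ Even t := by
  have hD' : IsNondegenerateMDecomposition (gf σ₀ B.val) m D := hQ.polar ▸ hD.1
  have h0 : IsPlusTypeOn Q (⨆ i ∈ (∅ : Finset (Fin t)), D i) :=
    ⟨⊥, bot_le, fun w hw => by rw [(Submodule.mem_bot F).1 hw, hQ.zero], by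
      rw [show (⨆ i ∈ (∅ : Finset (Fin t)), D i) = ⊥ by simp]; simp⟩
  have h1 : ⨆ i ∈ (Finset.univ : Finset (Fin t)), D i = ⊤ := by simpa using hD'.1.iSup_eq_top
  have h2 : ∀ k, ∀ s : Finset (Fin t), s.card = 2 * k → IsPlusTypeOn Q (⨆ i ∈ s, D i) := fun k => by
    induction k with
    | zero => intro s hs; rwa [Finset.card_eq_zero.1 hs]
    | succ k ih =>
      intro s hs
      obtain ⟨u, hu, h3⟩ := Finset.exists_subset_card_eq (s := s) (n := 2) (by omega)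
      rw [← Finset.sdiff_union_of_subset hu]
      refine (isPlus_biUnion hQ hD' Finset.sdiff_disjoint).2 (ih _ (by rw [Finset.card_sdiff_of_subset hu]; omega)) ?_
      obtain ⟨a, b, hab, rfl⟩ := Finset.card_eq_two.1 h3
      rw [Finset.iSup_insert, Finset.iSup_singleton]
      exact hQ.isPlus_iso (hD.2 a b) (hD'.2 b) (by rwa [hD'.1.finrank_eq]) (hD'.3 a b hab)
        (hD'.1.indep.pairwiseDisjoint hab).eq_bot
  rcases t.even_or_odd with ⟨k, hk⟩ | ⟨k, hk⟩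
  · exact iff_of_true (h1 ▸ h2 k _ (by simp; omega)) (.inr ⟨k, hk⟩)
  have h3 := h2 k (Finset.univ.erase i) (by simp; omega)
  have h4 := isPlus_biUnion hQ hD' (s := Finset.univ.erase i) (u := {i}) (by simp)
  have h5 : Finset.univ.erase i ∪ {i} = Finset.univ := by ext j; by_cases j = i <;> simp [*]
  rw [Finset.iSup_singleton, h5, h1] at h4
  rw [or_iff_left (by rw [Nat.even_iff]; omega)]
  refine ⟨fun h => hQ.isPlus_cancel h h3 h4.1 ?_, h4.2 h3⟩
  have h6 := Finset.iSup_union (f := D) (s := Finset.univ.erase i) (t := {i})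
  rw [h5, h1, Finset.iSup_singleton] at h6
  exact h6.symm

theorem IsNondegenerateMDecomposition.two_ne (hQ : QF Q B.val) (hD : IsNondegenerateMDecomposition (gf σ₀ B.val) m D)
    (hm : Odd m) : (2 : F) ≠ 0 := fun he =>
  Nat.not_even_iff_odd.2 hm (hD.1.finrank_eq ⟨0, by have := hD.1.two_le; omega⟩ ▸ (hQ.alt he).even_of_nondeg (hD.2 _))

theorem IsOrthogonalMDecomposition.isPlus_iff_of_odd [Fintype F] (hQ : QF Q B.val) (hD : IsOrthogonalMDecomposition Q m D)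
    (hm : Odd m) {k : ℕ} (hι : Fintype.card ι = 2 * k) : IsPlusTypeOn Q ⊤ ↔ Even k ∨ Fintype.card F % 4 ≠ 3 := by
  obtain ⟨e, P, Q₀, C, h⟩ := exists_model hQ hD
  obtain ⟨s, rfl⟩ : Even t := by
    have := IsMDecomposition.card_eq hD.1.1
    exact (Nat.even_mul.1 (this ▸ hι ▸ even_two_mul k)).resolve_right (Nat.not_even_iff_odd.2 hm)
  rw [hQ.isPlus_iff_pb (IsNondegenerateMDecomposition.two_ne hQ (hQ.polar ▸ hD.1) hm) (C := bdg fun _ => C) h.pb hι,
    ← isSquare_neg_one_pow]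
  refine isSquare_iff_of_mul_sq one_ne_zero (pow_ne_zero s C.det_ne_zero) ?_
  rw [coe_bdg, det_blockDiagonal]; simp; ring

theorem isPlus_iff_of_not_isometric [Fintype F] (hQ : QF Q B.val) {D : Fin 2 → Submodule F (ι → F)}
    (hD : IsNondegenerateMDecomposition (gf σ₀ B.val) m D) (hm : Odd m) (h : ¬ AreIsometricFor Q (D 0) (D 1)) :
    IsPlusTypeOn Q ⊤ ↔ Fintype.card F % 4 = 3 := by
  have he := IsNondegenerateMDecomposition.two_ne hQ hD hm
  obtain ⟨e, P, hc⟩ := IsMDecomposition.exists_coord hD.1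
  obtain ⟨C, hC⟩ := hc.exists_pb hD.3
  have h1 := fun j => (hQ.trv (coe_bdg C ▸ hC)).blk j
  obtain ⟨k, hk⟩ := hm
  obtain ⟨c, hc0, h2⟩ := orth_iso_odd k _ _ (h1 0).nondeg (h1 1).nondeg (by simpa using hk) (by simpa using hk)
  obtain ⟨g, h3, h4⟩ := exists_trv_iso h2 (Equiv.refl _)
  have h3 : Pb σ₀ (C 1).val (Equiv.refl _) g (c • (C 0).val) := fun x y =>
    (h3 x y).trans (gf_smul (σ := σ₀) c _ x y).symm
  have h4 : ∀ x, Q (trv e P (blk 1 (g.val *ᵥ x))) = c * Q (trv e P (blk 0 x)) := h4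
  have h5 : ¬ IsSquare c := fun ⟨d, hd⟩ => by
    have : d ≠ 0 := by rintro rfl; simp [hc0] at hd
    refine h ((hc.isometric_iff 0 1).2 ⟨g * scal _ (Units.mk0 d this)⁻¹, fun x => ?_⟩)
    rw [Units.val_mul, ← mulVec_mulVec, h4, scal_mulVec, (h1 0).smul, hd]
    simp; field_simp
  have h6 := congrArg det (Pb.refl_iff.1 h3)
  rw [det_mul, det_mul, det_transpose, map_σ₀, det_smul, Fintype.card_fin] at h6
  rw [hQ.isPlus_iff_pb he hC (m := m) (by rw [IsMDecomposition.card_eq hD.1]),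
    isSquare_iff_of_mul_sq (b := -1 * c) g.det_ne_zero (mul_ne_zero (pow_ne_zero k hc0) (C 0).det_ne_zero) (by
      rw [coe_bdg, det_blockDiagonal, Fin.prod_univ_two, Odd.neg_one_pow ⟨k, hk⟩]
      rw [show c ^ m = c ^ (2 * k + 1) by rw [← hk]] at h6
      linear_combination -(C 0).val.det * h6), ← sqSign_neg_one]
  have h7 := (sqSign_eq_neg_one_iff (x := Units.mk0 c hc0)).2 h5
  refine (sqSign_eq_one_iff (x := -1 * Units.mk0 c hc0)).symm.trans ?_
  rw [map_mul, h7]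
  rcases Int.units_eq_one_or (sqSign F (-1)) with e | e <;> simp [e]

theorem isPlus_of_pair (hQ : QF Q B.val) {D : Fin 2 → Submodule F (ι → F)} (hD : IsMDecomposition m D)
    (h : ∀ i, IsTotallySingularQuad Q (D i)) : IsPlusTypeOn Q ⊤ :=
  hQ.isPlus_of_sup (h 0) (h 1) (by
    rw [← hD.iSup_eq_top]; exact le_antisymm (sup_le (le_iSup D 0) (le_iSup D 1))
      (iSup_le (Fin.forall_fin_two.2 ⟨le_sup_left, le_sup_right⟩)))

theorem det_mem {F₀ : Subfield F} {A : Matrix ι ι F} (h : ∀ i j, A i j ∈ F₀) : A.det ∈ F₀ := by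
  rw [det_apply']
  exact sum_mem fun π _ => mul_mem (intCast_mem _ _) (prod_mem fun i _ => h _ _)

theorem IsQuadFormRationalStructure.entry {B : Matrix ι ι F} (hQ : QF Q B) {F₀ : Subfield F} {P : GL ι F}
    (h : IsQuadFormRationalStructure Q F₀ P) (i j : ι) : (P.valᵀ * B * P.val) i j ∈ F₀ := by
  have h1 : ∀ i k, (Pi.single i 1 : ι → F) k ∈ F₀ := fun i k => by
    rw [Pi.single_apply]; split_ifs; exacts [F₀.one_mem, F₀.zero_mem]
  have h2 := (hQ.comp P.val).add (Pi.single i 1) (Pi.single j 1)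
  rw [gf_single, ← sub_eq_iff_eq_add', ← sub_sub] at h2
  exact h2 ▸ sub_mem (sub_mem (h _ fun k => add_mem (h1 i k) (h1 j k)) (h _ (h1 i))) (h _ (h1 j))

theorem IsQuadFormRationalStructure.rescale [Finite F] (hQ : QF Q B.val) {F₀ : Subfield F} {P : GL ι F} {ζ : F}
    (h : IsQuadFormRationalStructure (fun v => ζ * Q v) F₀ P) (h0 : ζ ≠ 0) (ho : Odd (Fintype.card ι))
    (hB : B.val.det ∈ F₀) :
    ∃ P', IsQuadFormRationalStructure Q F₀ P' ∧ subfieldSubgroup F₀ P' = subfieldSubgroup F₀ P := by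
  obtain ⟨k, hk⟩ := ho
  have h1 := F₀.mul_mem (det_mem (IsQuadFormRationalStructure.entry (hQ.mul ζ) h)) (F₀.inv_mem hB)
  rw [det_mul, det_mul, det_transpose, det_smul, hk] at h1
  refine ⟨scal ι (Units.mk0 (ζ ^ (k + 1) * P.val.det) (mul_ne_zero (pow_ne_zero _ h0) P.det_ne_zero)) * P,
    fun u hu => ?_, subfieldSubgroup_scal_mul _ _ _⟩
  rw [Units.val_mul, ← mulVec_mulVec, scal_mulVec, hQ.smul]
  convert F₀.mul_mem h1 (h u hu) using 1
  have := B.det_ne_zero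
  simp only [Units.val_mk0]
  field_simp
  ring

theorem exists_qf_odd (h2 : (2 : F) ≠ 0) (m : ℕ) : ∃ B : GL (Unit ⊕ (Fin m ⊕ Fin m)) F,
    QF (Cfsg.quadFormOdd m F) B.val ∧ ∀ F₀ : Subfield F, B.val.det ∈ F₀ := by
  have h1 : (fun u v => (oddForm m F).B u v) = gf σ₀ (gramMatrix fun u v => (oddForm m F).B u v) :=
    eq_gf (by intros; simp) (by intros; simp) (by intros; simp) (by intros; simp)
  obtain ⟨B, hB⟩ := exists_gl_of_nondeg (σ := σ₀) (B := gramMatrix fun u v => (oddForm m F).B u v) (by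
    rw [← h1]; exact fun v hv => ⟨(oddForm_nondeg m h2).exists_ne hv, by
      simpa only [(oddForm m F).orth_symm v] using (oddForm_nondeg m h2).exists_ne hv⟩)
  refine ⟨B, ⟨(oddForm m F).orth_N_smul, fun u v => by rw [hB, ← h1]; exact (oddForm m F).orth_N_add u v⟩,
    fun F₀ => det_mem fun i j => ?_⟩
  have h3 : ∀ i k, (Pi.single i 1 : Unit ⊕ (Fin m ⊕ Fin m) → F) k ∈ F₀ := fun i k => by
    rw [Pi.single_apply]; split_ifs; exacts [F₀.one_mem, F₀.zero_mem]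
  rw [hB, gramMatrix, oddForm_B]
  exact add_mem (mul_mem (mul_mem (ofNat_mem _ 2) (h3 _ _)) (h3 _ _))
    (sum_mem fun _ _ => add_mem (mul_mem (h3 _ _) (h3 _ _)) (mul_mem (h3 _ _) (h3 _ _)))

end Types

theorem OOut.inOrthogonalOddClass [Fintype F] {m : ℕ} (hm : 0 < m) {B : GL (Unit ⊕ (Fin m ⊕ Fin m)) F}
    (hQ : QF (Cfsg.quadFormOdd m F) B.val) (hB : ∀ F₀ : Subfield F, B.val.det ∈ F₀)
    {G : Subgroup (GL (Unit ⊕ (Fin m ⊕ Fin m)) F)} (hG : G ≤ Cfsg.isometryGroup F (Cfsg.quadFormOdd m F))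
    (h : OOut (Cfsg.quadFormOdd m F) B G) :
    (∃ M, InOrthogonalOddClass m F M ∧ G ≤ M) ∨ InOrthogonalResidualClass G := by
  have ho : Odd (Fintype.card (Unit ⊕ (Fin m ⊕ Fin m))) := ⟨m, by simp; omega⟩
  have h0 := hQ.polar
  have key : ∀ {F₀ : Subfield F} {r P ζ}, r.Prime → Fintype.card F = Nat.card F₀ ^ r → ζ ≠ 0 →
      IsQuadFormRationalStructure (fun v => ζ * Cfsg.quadFormOdd m F v) F₀ P → G ≤ subfieldSubgroup F₀ P →
      ∃ M, InOrthogonalOddClass m F M ∧ G ≤ M := fun hr hF h1 h2 h => by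
    obtain ⟨P', h3, h4⟩ := IsQuadFormRationalStructure.rescale hQ h2 h1 ho (hB _)
    exact ⟨_, .inr (.inr (.inr (.inr (.inr (.inr (.inl ⟨_, _, P', hr, hF, h3, rfl⟩)))))), le_inf (h4 ▸ h) hG⟩
  cases h with
  | ts W h1 h2 h => exact .inl ⟨_, .inl ⟨W, h1, h2, rfl⟩, le_inf h hG⟩
  | nsv v he => exact absurd (two_ne_zero_iff_odd.1 (hQ.two_ne_of_odd ho)) he
  | nd W h1 h2 h3 h =>
    exact .inl ⟨_, .inr (.inl ⟨W, h1, by rintro rfl; simp at h3, h0 ▸ h2, rfl⟩), le_inf h hG⟩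
  | dec k D hD h =>
    rcases (Nat.succ_le_of_lt hD.1.1.pos).lt_or_eq with hk | rfl
    · exact .inl ⟨_, .inr (.inr (.inl ⟨_, k, D, hk, hD, rfl⟩)), le_inf h hG⟩
    by_cases hq : (Fintype.card F).Prime
    · exact .inl ⟨_, .inr (.inr (.inr (.inl ⟨_, D, hq, hD, rfl⟩))), le_inf h hG⟩
    · obtain ⟨F₀, r, P, ζ, h1, h2, h3, h4, h5⟩ := frame_le_subfield hQ hD hq
      exact .inl (key h1 h2 h3 h4 ((le_inf h hG).trans h5))
  | pair k D hD => exact absurd (IsMDecomposition.card_eq hD ▸ ho) (by simp)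
  | fld r K hr hK h1 h2 _ _ h =>
    exact .inl ⟨_, .inr (.inr (.inr (.inr (.inl ⟨r, K, hr, by simpa [two_mul, add_comm] using h2, hK,
      h0 ▸ (isSelfAdjointFor_iff fun _ => rfl).2 h1, rfl⟩)))), le_inf h hG⟩
  | ufld K hK => exact absurd (even_iff_two_dvd.2 (IsFieldSubalgebra.dvd_card hK)) (Nat.not_even_iff_odd.2 ho)
  | tenS n₁ n₂ e _ _ _ _ _ h1 =>
    rw [Fintype.card_congr e, Fintype.card_prod] at ho
    exact absurd h1.even (Nat.not_even_iff_odd.2 (Nat.odd_mul.1 ho).1)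
  | tenO n₁ n₂ e P B₁ B₂ _ h1 h2 h3 _ hB₁ hB₂ hP h =>
    have h5 : IsTensorFormStructure id (gf σ₀ B.val) (gf σ₀ B₁.val) (gf σ₀ B₂.val) e P :=
      Pb.isTensorFormStructure (σ := σ₀) (B := B.val) (B₁ := B₁.val) (B₂ := B₂.val) (c := 1)
        one_ne_zero (by rw [one_smul]; exact hP)
    rw [Fintype.card_congr e, Fintype.card_prod, Fintype.card_fin] at ho
    exact .inl ⟨_, .inr (.inr (.inr (.inr (.inr (.inl ⟨n₁, n₂, e, P, _, _, h1, lt_of_le_of_ne h2 fun e =>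
      Nat.not_even_iff_odd.2 (Nat.odd_mul.1 ho).1 (h3 e), hB₁.isSymmetricForm, hB₂.isSymmetricForm, h0 ▸ h5,
      rfl⟩))))), le_inf h hG⟩
  | sub F₀ r P ζ hr hF h1 h2 h => exact .inl (key hr hF h1 h2 h)
  | evp k t h1 h2 h3 => exact absurd (h1 ▸ ho) (Nat.not_odd_iff_even.2 (h3.pow_of_ne_zero (by omega)))
  | wre k t e P B₀ c _ h1 h2 h3 hB₀ hc hP h =>
    have h5 : IsTensorPowerFormStructure id (gf σ₀ B.val) (gf σ₀ B₀.val) e P :=
      hP.isTensorPowerFormStructure (σ := σ₀) hc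
    exact .inl ⟨_, .inr (.inr (.inr (.inr (.inr (.inr (.inr ⟨k, t, e, P, _, h1, h2, fun h => h3 h.2 h.1,
      hB₀.isSymmetricForm, h0 ▸ h5, rfl⟩)))))), le_inf h hG⟩
  | res h => exact .inr h

end Cfsg.Agent.Classical.Asch
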