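import Cfsg.Agent.Lib.Classical.Asch23

/-!
Non-maximal geometric subgroups of the orthogonal groups.
-/

set_option autoImplicit false

namespace Cfsg.Agent.Classical.Asch
open Matrix Cfsg.Geo Module Cfsg.Agent.Comp
open scoped MatrixGroups Kronecker commutatorElement

variable {ι : Type} [Fintype ι] [DecidableEq ι] {F : Type*} [Field F] {σ : F →+* F}
  {Q : (ι → F) → F}

local notation "Z" => scalars ι F
local notation "σ₀" => RingHom.id F

/-- `M ⊓ X` is not maximal among the proper subgroups of `X` -/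
def NM {G : Type*} [Group G] (X M : Subgroup G) : Prop := ∃ K, M ⊓ X < K ∧ K < X

theorem NM.of {G : Type*} [Group G] {X M M' : Subgroup G} (h1 : M ⊓ X ≤ M') (h2 : ¬ X ≤ M') {g : G} (hg : g ∈ X)
    (hg' : g ∈ M') (h : g ∉ M) : NM X M :=
  ⟨M' ⊓ X, lt_of_le_of_ne (le_inf h1 inf_le_right) fun e => h (e.ge ⟨hg', hg⟩).1,
    lt_of_le_of_ne inf_le_right fun e => h2 (inf_eq_right.1 e)⟩

theorem NM.not_le {G : Type*} [Group G] {X M H : Subgroup G} (h : NM X M) (hH : IsMaximalIn X H) : ¬ H ≤ M :=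
  fun hM => by
    obtain ⟨K, h1, h2⟩ := h
    have := (le_inf hM hH.1.le).trans_lt h1
    exact (hH.2 K this.le h2.le).elim this.ne' h2.ne

variable {B : GL ι F}

theorem QF.exists_eich [Finite F] (h : QF Q B.val) (hι : 5 ≤ Fintype.card ι) {u w : ι → F} (hu : Q u = 0)
    (hw : gf σ₀ B.val w u = 0) : ∃ g ∈ omegaGL Q, ∀ x, g.val *ᵥ x =
      x + gf σ₀ B.val x w • u - gf σ₀ B.val x u • w - (Q w * gf σ₀ B.val x u) • u := by
  have k : h.form.IsEich u w (Q w) := ⟨hu, hw, rfl⟩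
  refine ⟨glEquiv.symm (h.form.eich u w _ k), ?_, fun x => by
    rw [glEquiv_symm_mulVec, Form.eich_apply]; simp [h.form_B]⟩
  have := h.form.eich_mem_E _ _ _ k
  rw [(Form.good_of_finrank h.nondeg (by simp; omega)).E_eq h.nondeg (by simp; omega)] at this
  rw [omegaGL_eq, ← h.isoF, IsoF, Subgroup.comap_equiv_eq_map_symm', ← Subgroup.map_commutator]
  exact Subgroup.mem_map_of_mem _ this

theorem QF.not_le_stab [Finite F] (h : QF Q B.val) (hι : 5 ≤ Fintype.card ι) {W : Submodule F (ι → F)}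
    (h1 : W ≠ ⊥) (h2 : finrank F W < Fintype.card ι) : ¬ omegaGL Q ≤ subspaceStabilizer W :=
  (amb_O h hι).not_le_stab h1 (by rintro rfl; simp at h2)

theorem QF.not_le_nd [Finite F] (h : QF Q B.val) (hι : 5 ≤ Fintype.card ι) {t m : ℕ}
    {D : Fin t → Submodule F (ι → F)} (hD : IsNondegenerateMDecomposition (gf σ₀ B.val) m D) :
    ¬ omegaGL Q ≤ decompositionStabilizer D := (amb_O h hι).not_le_nd h.nondeg (hasRf_orth _) hD

theorem QF.not_le_sub [Finite F] (h : QF Q B.val) (hι : 5 ≤ Fintype.card ι) {F₀ : Subfield F} (h0 : F₀ ≠ ⊤)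
    (P : GL ι F) : ¬ omegaGL Q ≤ subfieldSubgroup F₀ P := fun k =>
  not_O_le_subfield h hι h0 P (h.isoF ▸ (amb_O h hι).le_subfield k)

theorem QF.stab_le_of_le (hQ : QF Q B.val) {U W : Submodule F (ι → F)} (hU : hQ.form.MTS U) (hW : W ≤ U)
    (hd : finrank F W + 1 = finrank F U) : subspaceStabilizer W ⊓ omegaGL Q ≤ subspaceStabilizer U := fun g hg => by
  obtain ⟨g', h1, h2⟩ := hQ.mem_omega hg.2
  have := hU.map_eq_of_le hQ.nondeg hW hd h1 (by rw [h2, glEquiv_toLinearMap]; exact map_eq_of_mem_stab hg.1)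
  rw [h2] at this
  exact mem_subspaceStabilizer.2 fun w hw => this ▸ Submodule.mem_map_of_mem hw

theorem nm_ts [Finite F] (hQ : QF Q B.val) (hι : 5 ≤ Fintype.card ι) (hp : IsPlusTypeOn Q ⊤)
    {W : Submodule F (ι → F)} (hW : IsTotallySingularQuad Q W) (hd : 2 * (finrank F W + 1) = Fintype.card ι) :
    NM (omegaGL Q) (subspaceStabilizer W) := by
  obtain ⟨U₀, h0⟩ := hQ.isPlus_iff.1 hp
  obtain ⟨U, hU, hWU⟩ := h0.exists_ge hQ.nondeg (hQ.ts.2 hW)
  have h1 := hU.dim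
  rw [finrank_fintype_fun_eq_card] at h1
  obtain ⟨u, hu, hu'⟩ := SetLike.exists_of_lt (lt_of_le_of_ne hWU fun e => by rw [e] at hd; omega)
  obtain ⟨x, hx, hx0⟩ := Submodule.exists_mem_ne_zero_of_ne_bot (p := W) fun e => by
    rw [e, finrank_bot] at hd; omega
  obtain ⟨w, h2, h3⟩ := hQ.nondeg.exists_perp_one (U := F ∙ u) (u := x) fun e => by
    obtain ⟨c, rfl⟩ := Submodule.mem_span_singleton.1 e
    exact hu' ((W.smul_mem_iff (left_ne_zero_of_smul hx0)).1 hx)
  obtain ⟨g, hg, h4⟩ := hQ.exists_eich hι (hU.ts.1 u hu) (w := w)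
    (by rw [hQ.comm]; exact h2 u (Submodule.mem_span_singleton_self u))
  have h5 : ∀ y ∈ U, g.val *ᵥ y = y + gf σ₀ B.val y w • u := fun y hy => by
    rw [h4, show gf σ₀ B.val y u = 0 from hU.ts.2 y hy u hu]; simp
  refine .of (hQ.stab_le_of_le hU hWU (by omega)) (hQ.not_le_stab hι (fun e => hx0 (by simpa [e] using hWU hx))
    (by omega)) hg (mem_subspaceStabilizer.2 fun y hy => h5 y hy ▸ U.add_mem hy (U.smul_mem _ hu)) fun e => hu' ?_
  have := mem_subspaceStabilizer.1 e x hx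
  rwa [h5 x (hWU hx), show gf σ₀ B.val x w = 1 from h3, one_smul, W.add_mem_iff_right hx] at this

theorem not_mem_decStab' {t m : ℕ} {D : Fin t → Submodule F (ι → F)} (hD : IsMDecomposition m D) {g : GL ι F}
    {i j : Fin t} {u v : ι → F} (hu : u ∈ D i) (hu0 : u ≠ 0) (h1 : g.val *ᵥ u ∈ D j)
    (hv : v ∈ D i) (h2 : g.val *ᵥ v ∉ D j) : g ∉ decompositionStabilizer D := fun ⟨π, hπ⟩ =>
  h2 (IsMDecomposition.eq_of_mem hD (mt gl_mulVec_eq_zero.1 hu0) (hπ i ▸ Submodule.mem_map_of_mem hu) h1 ▸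
    hπ i ▸ Submodule.mem_map_of_mem hv)

theorem nm_pair [Finite F] (hQ : QF Q B.val) (hι : 5 ≤ Fintype.card ι) {m : ℕ} (hm : Odd m)
    {D : Fin 2 → Submodule F (ι → F)} (hD : IsMDecomposition m D) (hT : ∀ i, IsTotallySingularQuad Q (D i)) :
    NM (omegaGL Q) (decompositionStabilizer D) := by
  have h0 := IsMDecomposition.card_eq hD
  have h1 : hQ.form.MTS (D 0) := ⟨hQ.ts.2 (hT 0), by simp [hD.finrank_eq, h0]⟩
  obtain ⟨w, hw, hw0⟩ := IsMDecomposition.exists_ne_zero hD 0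
  obtain ⟨x, hx, h2⟩ : ∃ x ∈ D 1, gf σ₀ B.val x w ≠ 0 := by
    by_contra e
    push Not at e
    refine hw0 (gf_eq_zero_right B (σ := σ₀) fun y => ?_)
    have : ⨆ i, D i ≤ LinearMap.ker (hQ.form.B.flip w) :=
      iSup_le (Fin.forall_fin_two.2 ⟨fun y hy => h1.ts.2 y hy w hw, e⟩)
    exact this (hD.iSup_eq_top ▸ Submodule.mem_top)
  obtain ⟨u, hu, hu0, h3⟩ := exists_mem_ker (W := D 0) (by rw [hD.finrank_eq]; omega) (hQ.form.B x)
  obtain ⟨g, hg, h4⟩ := hQ.exists_eich hι (hT 0 u hu) (h1.ts.2 w hw u hu)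
  have h5 : ∀ y ∈ D 0, g.val *ᵥ y = y := fun y hy => by
    rw [h4, show gf σ₀ B.val y u = 0 from h1.ts.2 y hy u hu, show gf σ₀ B.val y w = 0 from h1.ts.2 y hy w hw]; simp
  refine .of (M' := subspaceStabilizer (D 0)) (fun g ⟨⟨π, hπ⟩, hg⟩ => ?_)
    (hQ.not_le_stab hι (fun e => hw0 (by simpa [e] using hw)) (by rw [hD.finrank_eq]; omega)) hg
    (mem_subspaceStabilizer.2 fun y hy => (h5 y hy).symm ▸ hy) fun ⟨π, hπ⟩ => ?_
  · obtain ⟨g', h6, h7⟩ := hQ.mem_omega hg
    have := h1.inf_ne_bot hQ.nondeg (hD.finrank_eq 0 ▸ hm) h6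
    rw [h7, glEquiv_toLinearMap, hπ] at this
    obtain ⟨y, hy, hy0⟩ := Submodule.exists_mem_ne_zero_of_ne_bot this
    exact mem_subspaceStabilizer.2 fun z hz =>
      IsMDecomposition.eq_of_mem hD hy0 hy.2 hy.1 ▸ hπ 0 ▸ Submodule.mem_map_of_mem hz
  refine absurd (IsMDecomposition.eq_of_mem hD hu0 hu (j := 1) ?_) (by simp)
  rcases perm_two π with rfl | rfl
  · have e : g.val *ᵥ x ∈ D 1 := (hπ 1).le (Submodule.mem_map_of_mem hx)
    rwa [h4, show gf σ₀ B.val x u = 0 from h3, zero_smul, mul_zero, zero_smul, sub_zero, sub_zero,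
      (D 1).add_mem_iff_right hx, (D 1).smul_mem_iff h2] at e
  · exact h5 u hu ▸ (hπ 0).le (Submodule.mem_map_of_mem hu)

theorem QF.exists_hyp_plane (hQ : QF Q B.val) {W : Submodule F (ι → F)} (hW : IsNondegenerateOn (gf σ₀ B.val) W)
    (hd : finrank F W = 2) (hp : IsPlusTypeOn Q W) :
    ∃ e f, hQ.form.IsHyp e f ∧ ∀ w, w ∈ W ↔ ∃ a b : F, a • e + b • f = w := by
  obtain ⟨U, h1, h2, h3⟩ := hp
  obtain ⟨e, he, h0⟩ := Submodule.exists_mem_ne_zero_of_ne_bot (p := U) fun e => by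
    rw [e, finrank_bot] at h3; omega
  obtain ⟨x, hx, h4⟩ := (hW e (h1 he) h0).2
  obtain ⟨a, ha⟩ := hQ.form.exists_hyp_of (h2 e he) (z := (gf σ₀ B.val e x)⁻¹ • x) (by
    rw [hQ.form_B, gf_smul_right, RingHom.id_apply, inv_mul_cancel₀ h4])
  refine ⟨e, _, ha, fun w => ?_⟩
  rw [← Submodule.mem_span_pair, Submodule.eq_of_le_of_finrank_eq (Submodule.span_le.2 (Set.pair_subset (h1 he)
    (W.add_mem (W.smul_mem _ hx) (W.smul_mem _ (h1 he))))) (hd ▸ Form.finrank_span_pair h0 fun k => by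
      obtain ⟨c, hc⟩ := Submodule.mem_span_singleton.1 k
      have := ha.hef
      rw [← hc, Form.orth_B_smul, Form.orth_B_self, ha.he] at this
      simp at this)]

theorem mul_self_of_le_three [Fintype F] (hq : Fintype.card F ≤ 3) {x : F} (hx : x ≠ 0) : x * x = 1 := by
  have := Fintype.one_lt_card (α := F)
  obtain e | e : Fintype.card F = 2 ∨ Fintype.card F = 3 := by omega
  · rw [(eq_zero_or_one e x).resolve_left hx, one_mul]
  · exact sq_eq_one_of_three e hx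

theorem eq_of_mul_eq_one [Fintype F] (hq : Fintype.card F ≤ 3) {a b : F} (h : a * b = 1) : b = a := by
  rw [← one_mul b, ← mul_self_of_le_three hq (left_ne_zero_of_mul_eq_one h), mul_assoc, h, mul_one]

theorem nm_plane [Fintype F] (hQ : QF Q B.val) (hι : 5 ≤ Fintype.card ι) (hq : Fintype.card F ≤ 3)
    {W : Submodule F (ι → F)} (hW : IsNondegenerateOn (gf σ₀ B.val) W) (hd : finrank F W = 2)
    (hp : IsPlusTypeOn Q W) : NM (omegaGL Q) (subspaceStabilizer W) := by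
  obtain ⟨e, f, h, h1⟩ := hQ.exists_hyp_plane hW hd hp
  have he : e ∈ W := (h1 _).2 ⟨1, 0, by simp⟩
  have hf : f ∈ W := (h1 _).2 ⟨0, 1, by simp⟩
  have h2 : Q (e + f) = 1 := by simpa [hQ.form_N] using h.orth_N 1 1
  have h3 : e + f ≠ 0 := fun k => by simp [k, hQ.zero] at h2
  obtain ⟨⟨u, hu⟩, hu0, h4⟩ := orth_exists_singular (hQ.form.restrict (perp σ₀ B.val W)) (by
    have := finrank_perp (σ := σ₀) (fun _ => rfl) B W; omega)
  have hu0 : u ≠ 0 := by simpa using hu0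
  have h5 : ∀ x ∈ W, gf σ₀ B.val x u = 0 := fun x hx => by rw [hQ.comm]; exact hu x hx
  obtain ⟨g, hg, h6⟩ := hQ.exists_eich hι (u := u) h4 (h5 _ (W.sub_mem he hf))
  have h7 : gf σ₀ B.val e e = 0 := h.Bee
  have h8 : gf σ₀ B.val f f = 0 := h.Bff
  have h9 : gf σ₀ B.val e f = 1 := h.hef
  refine .of (M' := subspaceStabilizer (F ∙ (e + f))) (fun g hg => mem_subspaceStabilizer.2 fun x hx => ?_)
    (hQ.not_le_stab hι (by simpa using h3) (by rw [finrank_span_singleton h3]; omega)) hg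
    (mem_subspaceStabilizer.2 fun x hx => ?_) fun k => hu0 ((Submodule.eq_bot_iff _).1
      ((isNondegenerateOn_iff hQ.rf).1 hW) u ⟨?_, hu⟩)
  · obtain ⟨c, rfl⟩ := Submodule.mem_span_singleton.1 hx
    obtain ⟨a, b, k⟩ := (h1 _).1 (mem_subspaceStabilizer.1 hg.1 _ (W.add_mem he hf))
    have := mem_isometryGroup.1 (omegaGL_le Q hg.2) (e + f)
    rw [← k, h2] at this
    rw [mulVec_smul, ← k, eq_of_mul_eq_one hq ((h.orth_N a b).symm.trans this), ← smul_add]
    exact Submodule.smul_mem _ _ (Submodule.smul_mem _ _ (Submodule.mem_span_singleton_self _))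
  · obtain ⟨c, rfl⟩ := Submodule.mem_span_singleton.1 hx
    rw [mulVec_smul, h6, h5 _ (W.add_mem he hf)]
    simpa [gf_add_left, gf_sub_right, h7, h8, h9, hQ.comm f e] using hx
  · have := mem_subspaceStabilizer.1 k e he
    rw [h6, h5 _ he] at this
    simpa [gf_sub_right, h7, h9, W.add_mem_iff_right he] using this

section Std
variable {κ : Type} [Fintype κ] [DecidableEq κ]

theorem QF.exists_iso [Finite F] {Q' : (κ → F) → F} {C : GL κ F} (hB : QF Q B.val) (hC : QF Q' C.val) {m : ℕ}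
    (hι : Fintype.card ι = 2 * m) (e : ι ≃ κ) (h : IsPlusTypeOn Q ⊤ ↔ IsPlusTypeOn Q' ⊤) :
    ∃ P, Pb σ₀ B.val e P C.val ∧ ∀ x, Q (Asch.trv e P x) = Q' x := by
  have hκ := (Fintype.card_congr e).symm.trans hι
  rw [hB.isType_of_plus hι, hC.isType_of_plus hκ] at h
  rcases exists_isType m hB.form hB.nondeg (by simpa using hι) with h1 | h1
  · exact hB.exists_pb hC h1 (h.1 h1) e
  rcases exists_isType m hC.form hC.nondeg (by simpa using hκ) with h2 | h2
  · exact hB.exists_pb hC (h.2 h2) h2 e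
  · exact hB.exists_pb hC h1 h2 e

omit [DecidableEq ι] in
theorem QF.isPlus_two {B : Matrix ι ι F} (h : QF Q B) (hι : Fintype.card ι = 2) :
    IsPlusTypeOn Q ⊤ ↔ ∃ x, x ≠ 0 ∧ Q x = 0 := by
  constructor
  · rintro ⟨U, -, h1, h2⟩
    obtain ⟨x, hx, h0⟩ := Submodule.exists_mem_ne_zero_of_ne_bot (p := U) fun e => by subst e; simp [hι] at h2
    exact ⟨x, h0, h1 x hx⟩
  · rintro ⟨x, h0, hx⟩
    refine ⟨F ∙ x, le_top, fun w hw => ?_, by simp [finrank_span_singleton h0, hι]⟩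
    obtain ⟨c, rfl⟩ := Submodule.mem_span_singleton.1 hw
    rw [h.smul, hx, mul_zero]

variable {t : ℕ} {D : Fin t → Submodule F (ι → F)} {e : ι ≃ κ × Fin t} {P : GL ι F} {Q₀ : (κ → F) → F} {C : GL κ F}

theorem Model.change' (h : Model Q B D e P Q₀ C) {κ' : Type} [Fintype κ'] [DecidableEq κ'] {Q₁ : (κ' → F) → F}
    {C₁ : GL κ' F} (h1 : QF Q₁ C₁.val) {e₀ : κ ≃ κ'} {g : GL κ F} (hg : ∀ x, Q₀ (trv e₀ g x) = Q₁ x) :
    ∃ e' P', Model Q B D e' P' Q₁ C₁ := by
  obtain ⟨e', P', h2, -, h3⟩ := exists_kron_coord e P e₀ g (Equiv.refl _) 1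
  have h4 : ∀ j x, trv e' P' (blk j x) = trv e P (blk j (trv e₀ g x)) := fun j x => by
    rw [blk, h2, blk, trv_apply (Equiv.refl _), Units.val_one, one_mulVec]; rfl
  obtain ⟨C', h5⟩ := exists_pb σ₀ C e₀ g
  have h6 := h3 (B₁ := C.val) (B₂ := 1) (by have := h.pb; rwa [← coe_bdg, bdg_const] at this) h5
    (C₂ := 1) (Pb.refl_iff.2 (by simp))
  refine ⟨e', P', fun j v => (h.coord j v).trans ?_, h1, ?_, fun j x => by rw [h4, h.eq, hg]⟩
  · simp only [h4]; exact (trv e₀ g).surjective.exists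
  · rw [← coe_bdg, bdg_const, coe_kgl, ← (funext hg ▸ h.qf.trv h5 : QF Q₁ C'.val).eq_of h1]; exact h6

theorem exists_model_of [Finite F] (hQ : QF Q B.val) {k : ℕ} (hD : IsOrthogonalMDecomposition Q (2 * k) D)
    (h1 : QF Q₀ C.val) (hκ : Fintype.card κ = 2 * k) {i : Fin t} (h : IsPlusTypeOn Q (D i) ↔ IsPlusTypeOn Q₀ ⊤) :
    ∃ e P, Model Q B D e P Q₀ C := by
  obtain ⟨e, P, Q₁, C₁, h2⟩ := exists_model hQ hD
  obtain ⟨g, -, hg⟩ := h2.qf.exists_iso h1 (m := k) (by simp) (Fintype.equivOfCardEq (by simp [hκ]))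
    ((h2.isPlus_iff i).symm.trans h)
  exact h2.change' h1 hg

theorem Model.exists_eich [Finite F] (hQ : QF Q B.val) (h : Model Q B D e P Q₀ C) (hι : 5 ≤ Fintype.card ι)
    (ht : 3 ≤ t) (h6 : (6 : F) = 0) {d c y : κ → F} (hd : Q₀ d = 1) (hc : gf σ₀ C.val c d = 1)
    (hy : gf σ₀ C.val y d = 0) (hy0 : y ≠ 0) : ∃ g ∈ omegaGL Q, g ∉ decompositionStabilizer D ∧
      ∃ u w, (∀ S : AddSubgroup (κ × Fin t → F), (∀ j, blk j d ∈ S) → u ∈ S ∧ w ∈ S) ∧
        ∀ x, g.val *ᵥ trv e P x = trv e P (x + gf σ₀ (blockDiagonal fun _ => C.val) x w • u -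
          gf σ₀ (blockDiagonal fun _ => C.val) x u • w - (2 * gf σ₀ (blockDiagonal fun _ => C.val) x u) • u) := by
  have h0 := hQ.trv h.pb
  have h1 : gf σ₀ C.val d d = 2 := by rw [h.qf.self, hd, mul_one]
  have h2 : gf σ₀ C.val d c = 1 := by rw [h.qf.comm, hc]
  obtain ⟨i, j, k, h01, h02, h12⟩ := (Fintype.two_lt_card_iff (α := Fin t)).1 (by simp; omega)
  obtain ⟨g, hg, h3⟩ := hQ.exists_eich hι (u := trv e P (blk i d + blk j d + (blk k d + blk k d)))
    (w := trv e P (blk j d + blk k d)) (by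
      simp only [h0.add, h.eq, gf_add_left, gf_add_right, gf_blk, hd, h1]
      simp [h01, h02, h12]; linear_combination h6) (by
      rw [h.pb]
      simp only [gf_add_left, gf_add_right, gf_blk, h1]
      simp [h01.symm, h02.symm, h12, h12.symm]; linear_combination h6)
  have h4 : Q (trv e P (blk j d + blk k d)) = 2 := by
    rw [h0.add, h.eq, h.eq, gf_blk, hd, if_neg h12]; norm_num
  haveI : Nonempty κ := ⟨(e (Fintype.card_pos_iff.1 (by omega)).some).1⟩
  refine ⟨g, hg, not_mem_decStab' (h.coord.isMDecomposition (by omega) Fintype.card_pos) (h.coord.mem i y) (j := i)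
    (fun e => hy0 (blk_injective i (((LinearEquiv.map_eq_zero_iff _).1 e).trans (blkL i).map_zero.symm))) ?_
    (h.coord.mem i c) fun k' => ?_, _, _,
    fun S hS => ⟨add_mem (add_mem (hS i) (hS j)) (add_mem (hS k) (hS k)), add_mem (hS j) (hS k)⟩,
    fun x => by rw [h3, h4, h.pb, h.pb]; simp only [map_add, map_sub, map_smul]⟩
  · rw [h3, h.pb, h.pb]
    simp only [gf_add_right, gf_blk, hy]
    simpa using h.coord.mem i y
  · obtain ⟨z, hz⟩ := (h.coord _ _).1 k'
    have := congrArg (gf σ₀ B.val · (trv e P (blk k c))) hz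
    simp only [h3, h4, gf_add_left, gf_sub_left, gf_smul_left, h.pb _ _, gf_add_right, gf_blk, hc, h2] at this
    simp [h01, h02, h12] at this
    exact one_ne_zero (by linear_combination this + h6 : (1 : F) = 0)

/-- the hyperbolic Gram matrix -/
def HG (F : Type*) [Field F] : GL (Fin 2) F :=
  ⟨!![0, 1; 1, 0], !![0, 1; 1, 0], by ext i j; fin_cases i <;> fin_cases j <;> simp,
    by ext i j; fin_cases i <;> fin_cases j <;> simp⟩

theorem gf_HG (x y : Fin 2 → F) : gf σ₀ (HG F).val x y = x 0 * y 1 + x 1 * y 0 := by simp [gf_eq_sum, HG]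

theorem qf_hyp : QF (fun x : Fin 2 → F => x 0 * x 1) (HG F).val :=
  ⟨fun c v => by simp; ring, fun u v => by simp [gf_HG]; ring⟩

theorem qf_nrm (h : (2 : F) = 0) : QF (fun x : Fin 2 → F => x 0 ^ 2 + x 0 * x 1 + x 1 ^ 2) (HG F).val :=
  ⟨fun c v => by simp; ring, fun u v => by
    simp only [gf_HG, Pi.add_apply]; linear_combination (u 0 * v 0 + u 1 * v 1) * h⟩

theorem qf_sq {c : F} (h : 2 * c ≠ 0) : QF (fun x : κ → F => c * ∑ i, x i ^ 2) (scal κ (Units.mk0 _ h)).val :=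
  ⟨fun a v => by simp [mul_pow, Finset.mul_sum, mul_left_comm], fun u v => by
    simp only [coe_scal, gf_eq_sum, Finset.mul_sum, ← Finset.sum_add_distrib]
    exact Finset.sum_congr rfl fun i _ => by simp [one_apply]; ring⟩

theorem six_eq_zero [Fintype F] (hq : Fintype.card F ≤ 3) : (6 : F) = 0 := by
  have := Fintype.one_lt_card (α := F)
  have h := FiniteField.cast_card_eq_zero F
  obtain e | e : Fintype.card F = 2 ∨ Fintype.card F = 3 := by omega
  · rw [e] at h; linear_combination 3 * h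
  · rw [e] at h; linear_combination 2 * h

theorem nm_plus_two [Fintype F] (hQ : QF Q B.val) (hι : 5 ≤ Fintype.card ι) (hq : Fintype.card F ≤ 3)
    (hD : IsOrthogonalMDecomposition Q 2 D) {i : Fin t} (hp : IsPlusTypeOn Q (D i)) :
    NM (omegaGL Q) (decompositionStabilizer D) := by
  have h0 := IsMDecomposition.card_eq hD.1.1
  obtain ⟨e, P, h⟩ := exists_model_of (k := 1) hQ hD qf_hyp rfl
    (iff_of_true hp ((qf_hyp.isPlus_two rfl).2 ⟨![1, 0], by simp, by simp⟩))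
  obtain ⟨g, hg, h1, u, w, h2, h3⟩ := h.exists_eich hQ hι (by omega) (six_eq_zero hq) (d := ![1, 1]) (c := ![1, 0])
    (y := ![1, -1]) (by simp) (by simp [gf_HG]) (by simp [gf_HG]) (by simp)
  let U := Submodule.span F (Set.range fun j => trv e P (blk j ![1, 1]))
  have h4 : ∀ j, trv e P (blk j ![1, 1]) ∈ U := fun j => Submodule.subset_span ⟨j, rfl⟩
  obtain ⟨h5, h6⟩ := h2 (U.comap (trv e P).toLinearMap).toAddSubgroup h4
  refine .of (M' := subspaceStabilizer U) (fun g hg => mem_subspaceStabilizer.2 ?_) (hQ.not_le_stab hι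
    (fun k => by simpa [k, hQ.zero] using ((Submodule.mem_bot F).1 (k ▸ h4 i) ▸ h.eq i ![1, 1] :))
    ((finrank_range_le_card _).trans_lt (by simp; omega))) hg (mem_subspaceStabilizer.2 fun x hx => ?_) h1
  · obtain ⟨π, a, rfl, h7⟩ := h.exists_bm hg.1 (omegaGL_le Q hg.2)
    refine fun x hx => (Submodule.span_le (p := U.comap (toLin' _))).2 ?_ hx
    rintro _ ⟨j, rfl⟩
    have h8 := eq_of_mul_eq_one hq ((h7 j ![1, 1]).trans (by simp))
    change _ *ᵥ _ ∈ U
    rw [trg_mulVec, bm_blk, show (a j).val *ᵥ ![1, 1] = ((a j).val *ᵥ ![1, 1]) 0 • ![1, 1] by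
      ext k; fin_cases k <;> simp [h8], show ∀ c x, blk (π j) (c • x) = c • blk (π j) x from (blkL _).map_smul,
      map_smul]
    exact U.smul_mem _ (h4 _)
  · obtain ⟨x, rfl⟩ := (trv e P).surjective x
    rw [h3]
    simp only [map_add, map_sub, map_smul]
    exact U.sub_mem (U.sub_mem (U.add_mem hx (U.smul_mem _ h5)) (U.smul_mem _ h6)) (U.smul_mem _ h5)

theorem four_aux [Fintype F] (hq : Fintype.card F = 4) {x y : F} (h : x ^ 2 + x * y + y ^ 2 = 1) :
    x ^ 2 = x ∧ y ^ 2 = y := by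
  have h2 : (2 : F) = 0 := two_eq_zero_of_card (by rw [hq]; decide)
  have h3 : ∀ x : F, x = 0 ∨ x ^ 3 = 1 := fun x => or_iff_not_imp_left.2 fun hx => by
    simpa [hq] using FiniteField.pow_card_sub_one_eq_one x hx
  have h4 : ∀ x : F, x ^ 2 = 1 → x ^ 2 = x := fun x hx => by
    have : (x - 1) ^ 2 = 0 := by linear_combination hx + (1 - x) * h2
    rw [sub_eq_zero.1 (pow_eq_zero_iff two_ne_zero |>.1 this), one_pow]
  rcases h3 x with rfl | hx
  · exact ⟨by simp, h4 y (by simpa using h)⟩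
  rcases h3 y with rfl | hy
  · exact ⟨h4 x (by simpa using h), by simp⟩
  obtain rfl : x = y := by linear_combination hx - hy - (x - y) * h
  exact ⟨h4 x (by linear_combination h - x ^ 2 * h2), h4 x (by linear_combination h - x ^ 2 * h2)⟩

theorem nm_plus_four [Fintype F] (hQ : QF Q B.val) (hι : 5 ≤ Fintype.card ι) (hq : Fintype.card F = 4)
    (hD : IsOrthogonalMDecomposition Q 2 D) {i : Fin t} (hp : IsPlusTypeOn Q (D i)) :
    NM (omegaGL Q) (decompositionStabilizer D) := by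
  have h0 := IsMDecomposition.card_eq hD.1.1
  have h2 : (2 : F) = 0 := two_eq_zero_of_card (by rw [hq]; decide)
  have hF : Nat.card F = 2 ^ 2 := by rw [Nat.card_eq_fintype_card, hq]; rfl
  have hn := ne_top_of_card Nat.prime_two (card_eq_fixSub hF)
  obtain ⟨ω, -, hω⟩ := SetLike.exists_of_lt hn.lt_top
  obtain ⟨e, P, h⟩ := exists_model_of (k := 1) hQ hD (qf_nrm h2) rfl
    (iff_of_true hp (((qf_nrm h2).isPlus_two rfl).2 ⟨![ω, 1], by simp, by
      have := FiniteField.pow_card ω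
      rw [hq] at this
      refine mul_left_cancel₀ (sub_ne_zero.2 hω) ?_
      change (ω ^ 2 - ω) * (ω ^ 2 + ω * 1 + 1 ^ 2) = _
      linear_combination this⟩))
  obtain ⟨g, hg, h1, u, w, h3, h4⟩ := h.exists_eich hQ hι (by omega) (by linear_combination 3 * h2) (d := ![1, 0])
    (c := ![0, 1]) (y := ![1, 0]) (by simp) (by simp [gf_HG]) (by simp [gf_HG]) (by simp)
  refine .of (M' := subfieldSubgroup (fixSub hF) P) ((inf_le_inf_left _ (omegaGL_le Q)).trans
    (h.le_subfield fun a ha k l => ?_)) (hQ.not_le_sub hι hn P) hg ?_ h1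
  · have := four_aux hq ((ha (Pi.single l 1)).trans (by fin_cases l <;> simp))
    fin_cases k
    · simpa [mem_fixSub] using this.1
    · simpa [mem_fixSub] using this.2
  obtain ⟨g, rfl⟩ := (trg e P).surjective g
  obtain ⟨h5, h6⟩ := h3 (AddSubgroup.pi Set.univ fun _ => (fixSub hF).toAddSubgroup) fun j ⟨k, l⟩ _ => by
    rw [blk_apply]; split_ifs
    · fin_cases k <;> simp
    · simp
  have h7 : ∀ p q, (blockDiagonal fun _ : Fin t => (HG F).val) p q ∈ fixSub hF := fun ⟨k, i⟩ ⟨l, j⟩ => by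
    rw [blockDiagonal_apply]; split_ifs
    · fin_cases k <;> fin_cases l <;> simp [HG]
    · simp
  refine trg_mem_subfield e P fun p q => ?_
  have h8 : ∀ p, (Pi.single q 1 : Fin 2 × Fin t → F) p ∈ fixSub hF := fun p => by
    rw [Pi.single_apply]; split_ifs <;> simp
  have h9 := congrFun ((trv e P).injective ((trg_mulVec _ _ _ _).symm.trans (h4 (Pi.single q 1)))) p
  rw [show g.val p q = _ by simpa only [mulVec_single_one, transpose_apply, col_apply] using h9]
  have k1 := gf_mem (σ := σ₀) (fun _ h => h) h7 h8 fun p => h5 p trivial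
  exact sub_mem (sub_mem (add_mem (h8 p) (mul_mem (gf_mem (σ := σ₀) (fun _ h => h) h7 h8 fun p => h6 p trivial)
    (h5 p trivial))) (mul_mem k1 (h6 p trivial))) (mul_mem (mul_mem (ofNat_mem _ 2) k1) (h5 p trivial))

theorem Model.nm_frame [Finite F] (hQ : QF Q B.val) {c : F} {hc : 2 * c ≠ 0}
    (h : Model Q B D e P (fun x => c * ∑ i, x i ^ 2) (scal κ (Units.mk0 _ hc))) (hι : 5 ≤ Fintype.card ι)
    (hκ : 2 ≤ Fintype.card κ) (ht : 2 ≤ t) (h1 : ∀ x : κ → F, ∑ i, x i ^ 2 = 1 → ∃ k a, x = Pi.single k a) :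
    NM (omegaGL Q) (decompositionStabilizer D) := by
  obtain ⟨s, D', h2, h3, h4⟩ := h.frame hQ hι (c := c) (by rw [coe_scal, smul_one_eq_diagonal]; rfl)
    fun x hx => h1 x ((mul_eq_left₀ (right_ne_zero_of_mul hc)).1 hx)
  obtain ⟨g, hg, h5⟩ := h4 hκ ht
  exact .of ((inf_le_inf_left _ (omegaGL_le Q)).trans h3) (hQ.not_le_nd hι (hQ.polar ▸ h2.1)) hg.2 hg.1 h5

theorem single_of_sq_three [Fintype F] (hq : Fintype.card F = 3) (hκ : Fintype.card κ ≤ 3) (x : κ → F)
    (h : ∑ i, x i ^ 2 = 1) : ∃ k a, x = Pi.single k a := by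
  classical
  have h1 : ((Finset.univ.filter fun i => x i ≠ 0).card : F) = 1 := by
    rw [← h, Finset.card_filter, Nat.cast_sum]
    exact Finset.sum_congr rfl fun i _ => by
      by_cases e : x i = 0
      · simp [e]
      · simp [e, sq, sq_eq_one_of_three hq e]
  have h2 := (Finset.card_le_univ (Finset.univ.filter fun i => x i ≠ 0)).trans hκ
  obtain ⟨k, hk⟩ : ∃ k, (Finset.univ.filter fun i => x i ≠ 0) = {k} := by
    have h3 := three_ne_of_card hq
    rw [← Finset.card_eq_one]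
    generalize (Finset.univ.filter fun i => x i ≠ 0).card = n at h1 h2
    interval_cases n
    · simp at h1
    · rfl
    · exact absurd (by linear_combination h1 : (1 : F) = 0) one_ne_zero
    · exact absurd (h1.symm.trans h3) one_ne_zero
  refine ⟨k, x k, funext fun i => ?_⟩
  by_cases e : i = k
  · simp [e]
  · simpa [e] using congrArg (i ∈ ·) hk

theorem nm_minus_three [Fintype F] (hQ : QF Q B.val) (hι : 5 ≤ Fintype.card ι) (hq : Fintype.card F = 3)
    (hD : IsOrthogonalMDecomposition Q 2 D) {i : Fin t} (hp : ¬ IsPlusTypeOn Q (D i)) :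
    NM (omegaGL Q) (decompositionStabilizer D) := by
  have h2 : (2 : F) * 1 ≠ 0 := by simpa using two_ne_of_three hq
  obtain ⟨e, P, h⟩ := exists_model_of (k := 1) (κ := Fin 2) hQ hD (qf_sq h2) rfl
    (iff_of_false hp (((qf_sq h2).isPlus_two rfl).not.2 fun ⟨x, h0, hx⟩ => h0 (by
      rw [one_mul, Fin.sum_univ_two] at hx
      by_cases k : x 1 = 0
      · ext j; fin_cases j <;> simp_all
      · exact absurd (by rw [← sq_eq_one_of_three hq k]; linear_combination hx) (not_sq_neg_one hq (x 0)))))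
  exact h.nm_frame hQ hι le_rfl hD.1.1.two_le (single_of_sq_three hq (by simp))

theorem nm_plus_five [Fintype F] (hQ : QF Q B.val) (hι : 5 ≤ Fintype.card ι) (hq : Fintype.card F = 5)
    (hD : IsOrthogonalMDecomposition Q 2 D) {i : Fin t} (hp : IsPlusTypeOn Q (D i)) :
    NM (omegaGL Q) (decompositionStabilizer D) := by
  have h2 : (2 : F) * 1 ≠ 0 := by simpa using two_ne_zero_iff_odd.2 (by rw [hq]; decide)
  have h5 := FiniteField.cast_card_eq_zero F
  rw [hq] at h5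
  obtain ⟨e, P, h⟩ := exists_model_of (k := 1) (κ := Fin 2) hQ hD (qf_sq h2) rfl
    (iff_of_true hp (((qf_sq h2).isPlus_two rfl).2 ⟨![1, 2], by simp, by simp; linear_combination h5⟩))
  refine h.nm_frame hQ hι le_rfl hD.1.1.two_le fun x hx => ?_
  by_cases k0 : x 0 = 0
  · exact ⟨1, x 1, by ext j; fin_cases j <;> simp [k0]⟩
  by_cases k1 : x 1 = 0
  · exact ⟨0, x 0, by ext j; fin_cases j <;> simp [k1]⟩
  have h3 : ∀ y : F, y ≠ 0 → y ^ 4 = 1 := fun y hy => by simpa [hq] using FiniteField.pow_card_sub_one_eq_one y hy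
  have h4 := h3 _ k0
  have h6 := h3 _ k1
  rw [Fin.sum_univ_two] at hx
  refine absurd (?_ : (1 : F) = 0) one_ne_zero
  have h7 : 2 * x 0 ^ 2 = 1 := by linear_combination h4 - h6 + (x 1 ^ 2 - x 0 ^ 2 + 1) * hx
  linear_combination (2 * x 0 ^ 2 + 1) * 2 * h7 - 8 * h4 - h5

theorem nm_three [Fintype F] (hQ : QF Q B.val) (hι : 5 ≤ Fintype.card ι) (hq : Fintype.card F = 3)
    (hD : IsOrthogonalMDecomposition Q 3 D) : NM (omegaGL Q) (decompositionStabilizer D) := by
  have h2 : (2 : F) * 1 ≠ 0 := by simpa using two_ne_of_three hq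
  obtain ⟨e, P, Q₀, C, h⟩ := exists_model hQ hD
  obtain ⟨c, hc, h1⟩ := orth_iso_odd 1 _ _ (qf_sq (κ := Fin 3) h2).nondeg h.qf.nondeg (by simp) (by simp)
  obtain ⟨g, -, h3⟩ := exists_trv_iso h1 (Equiv.refl _)
  obtain ⟨P', h4⟩ := h.change (qf_sq (mul_ne_zero (two_ne_of_three hq) hc)) (g := g) fun x =>
    (h3 x).trans (by rw [Form.scale_N, QF.form_N, one_mul])
  exact h4.nm_frame hQ hι (by simp) hD.1.1.two_le (single_of_sq_three hq (by simp))

theorem nm_plus_four_two [Fintype F] (hQ : QF Q B.val) (hι : 5 ≤ Fintype.card ι) (hq : Fintype.card F = 2)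
    (hD : IsOrthogonalMDecomposition Q 4 D) {i : Fin t} (hp : IsPlusTypeOn Q (D i)) :
    NM (omegaGL Q) (decompositionStabilizer D) := by
  have h2 : (2 : F) = 0 := two_eq_zero_of_card (by rw [hq]; decide)
  let N := fun x : Fin 2 → F => x 0 ^ 2 + x 0 * x 1 + x 1 ^ 2
  have hN : ∀ x, x ≠ 0 → N x = 1 := fun x hx => by
    rcases eq_zero_or_one hq (x 0) with h5 | h5 <;> rcases eq_zero_or_one hq (x 1) with h6 | h6
    · exact absurd (by ext i; fin_cases i <;> assumption) hx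
    all_goals simp [N, h5, h6]
    linear_combination h2
  have h0 : QF (fun x : Fin 2 × Fin 2 → F => N (fun k => x (k, 0)) + N fun k => x (k, 1))
      (bdg fun _ => HG F).val := ⟨fun c v => by simp [N]; ring, fun u v => by
    simp [N, gf_eq_sum, coe_bdg, blockDiagonal_apply, Fintype.sum_prod_type, HG]
    linear_combination (u (0, 0) * v (0, 0) + u (1, 0) * v (1, 0) + u (0, 1) * v (0, 1) + u (1, 1) * v (1, 1)) * h2⟩
  have h1 : ∀ i (x : Fin 2 → F), N (fun k => blk i x (k, 0)) + N (fun k => blk i x (k, (1 : Fin 2))) = N x :=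
    fun i x => by fin_cases i <;> simp [N, blk_apply]
  obtain ⟨e, P, h⟩ := exists_model_of (k := 2) hQ hD h0 rfl (iff_of_true hp
    ⟨LinearMap.range (blkL 0 + blkL 1), le_top, by
      rintro _ ⟨x, rfl⟩
      simp [N, blkL, blk_apply]; linear_combination (x 0 ^ 2 + x 0 * x 1 + x 1 ^ 2) * h2, by
      rw [LinearMap.finrank_range_of_inj fun x y h => funext fun k => by
        simpa [blkL, blk_apply] using congrFun h (k, 0)]; simp⟩)
  let ε : Fin 2 × Fin t ≃ Fin (2 * t) := finProdFinEquiv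
  let f := (Equiv.prodAssoc (Fin 2) (Fin 2) (Fin t)).trans ((Equiv.refl _).prodCongr ε)
  obtain ⟨D', h3⟩ := exists_coord (e.trans f) P
  have h4 : ∀ i j (y : Fin 2 → F), trv (e.trans f) P (blk (ε (i, j)) y) = trv e P (blk j (blk i y)) := fun i j y => by
    rw [trv_trans]; congr 1; ext ⟨⟨a, b⟩, c⟩
    simp [f, blk_apply, ite_and]; grind
  have h5 : Model Q B D' (e.trans f) P N (HG F) := ⟨h3, qf_nrm h2, by
    convert h.pb.trans f using 1
    ext ⟨a, p⟩ ⟨b, q⟩
    obtain ⟨⟨i, j⟩, rfl⟩ := ε.surjective p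
    obtain ⟨⟨k, l⟩, rfl⟩ := ε.surjective q
    simp [f, blockDiagonal_apply, coe_bdg, ite_and]; grind, fun p y => by
      obtain ⟨⟨i, j⟩, rfl⟩ := ε.surjective p
      rw [h4, h.eq, h1]⟩
  have ht := hD.1.1.two_le
  have h6 := h5.isOrth hQ (by omega) (by simp)
  have h7 : ∀ x : Fin 2 × Fin 2 → F, N (fun k => x (k, 0)) + N (fun k => x (k, 1)) = 1 → ∃ i y, x = blk i y :=
    fun x hx => by
      by_cases k0 : (fun k => x (k, 0)) = 0
      · exact ⟨1, fun k => x (k, 1), by ext ⟨a, b⟩; fin_cases b <;> simp [blk_apply]; exact congrFun k0 a⟩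
      by_cases k1 : (fun k => x (k, 1)) = 0
      · exact ⟨0, fun k => x (k, 0), by ext ⟨a, b⟩; fin_cases b <;> simp [blk_apply]; exact congrFun k1 a⟩
      rw [hN _ k0, hN _ k1] at hx
      simp at hx
  obtain ⟨j, l, hjl⟩ := Fintype.exists_pair_of_one_lt_card (α := Fin t) (by simp; omega)
  let π := Equiv.swap (ε (0, j)) (ε (1, l)) * Equiv.swap (ε (0, j)) (ε (0, l))
  have h8 : ∀ p y, (trg (e.trans f) P (bm π 1) ^ 2).val *ᵥ trv (e.trans f) P (blk p y) =
      trv (e.trans f) P (blk (π (π p)) y) := fun p y => by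
    simp only [sq, Units.val_mul, ← mulVec_mulVec, trg_mulVec, bm_blk, Pi.one_apply, Units.val_one, one_mulVec]
  have h9 : ∀ i j, trv e P (blk j (blk i (Pi.single 0 1 : Fin 2 → F))) ≠ 0 := fun (i : Fin 2) j => by
    simp [blk_single]
  refine .of (M' := decompositionStabilizer D') (fun g hg => IsMDecomposition.mem_stab h6.1.1 fun p => ?_)
    (hQ.not_le_nd hι (hQ.polar ▸ h6.1)) (hQ.sq_mem_omega hι (h5.mem_isom hQ (bm_mem_Iso.2 (by simp)) fun a b => by
      rw [← blk_single, bm_blk, h5.eq, Pi.one_apply, Units.val_one, one_mulVec])) (pow_mem (h3.bm_mem π 1) 2)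
    (not_mem_decStab (h.coord.isMDecomposition ht (by simp)) (h.coord.mem j _) (h.coord.mem j _) (h9 0 j) (h9 1 j)
      ?_ ?_ hjl.symm)
  · obtain ⟨ρ, a, rfl, k1⟩ := h.exists_bm hg.1 (omegaGL_le Q hg.2)
    obtain ⟨⟨i, j⟩, rfl⟩ := ε.surjective p
    obtain ⟨i₀, y₀, k2⟩ := h7 _ ((k1 j (blk i (Pi.single 0 1))).trans (by rw [h1]; simp [N]))
    obtain ⟨i₁, y₁, k3⟩ := h7 _ ((k1 j (blk i (Pi.single 1 1))).trans (by rw [h1]; simp [N]))
    have k4 := h0.gf_of_mul (c := 1) (g := (a j).val) (by simpa using k1 j) (blk i (Pi.single 0 1))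
      (blk i (Pi.single 1 1))
    rw [k2, k3, coe_bdg, gf_blk, gf_blk] at k4
    obtain rfl : i₀ = i₁ := by by_contra k; simp [k, gf_HG] at k4
    refine ⟨ε (i₀, ρ j), fun v hv => ?_⟩
    obtain ⟨y, rfl⟩ := (h3 _ _).1 hv
    have k5 : ∀ (i : Fin 2) (a b : F) x y, blk i (a • x + b • y : Fin 2 → F) = a • blk i x + b • blk i y :=
      fun i a b x y => ((blkL i).map_add _ _).trans (congrArg₂ _ ((blkL i).map_smul _ _) ((blkL i).map_smul _ _))
    rw [h4, trg_mulVec, bm_blk, show y = y 0 • Pi.single 0 1 + y 1 • Pi.single 1 1 by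
      ext k; fin_cases k <;> simp, k5, mulVec_add, mulVec_smul, mulVec_smul, k2, k3, ← k5, ← h4]
    exact h3.mem _ _
  · rw [← h4, h8, show π (π (ε (0, j))) = ε (1, l) by simp [π, Equiv.swap_apply_def, hjl, hjl.symm], h4]
    exact h.coord.mem _ _
  · rw [← h4, h8, show π (π (ε (1, j))) = ε (1, j) by simp [π, Equiv.swap_apply_def, hjl, hjl.symm], h4]
    exact h.coord.mem _ _

/-- the small imprimitive types -/
theorem nm_dec [Fintype F] (hQ : QF Q B.val) (hι : 5 ≤ Fintype.card ι) {k : ℕ} (hD : IsOrthogonalMDecomposition Q k D)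
    (i : Fin t) (h : (k = 2 ∧ (Fintype.card F = 3 ∨ (IsPlusTypeOn Q (D i) ∧ Fintype.card F ≤ 5))) ∨
      (k = 3 ∧ Fintype.card F = 3) ∨ (k = 4 ∧ Fintype.card F = 2 ∧ IsPlusTypeOn Q (D i))) :
    NM (omegaGL Q) (decompositionStabilizer D) := by
  rcases h with ⟨rfl, h | ⟨h, hq⟩⟩ | ⟨rfl, h⟩ | ⟨rfl, hq, h⟩
  · by_cases hp : IsPlusTypeOn Q (D i)
    exacts [nm_plus_two hQ hι h.le hD hp, nm_minus_three hQ hι h hD hp]
  · obtain e | e | e : Fintype.card F ≤ 3 ∨ Fintype.card F = 4 ∨ Fintype.card F = 5 := by omega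
    exacts [nm_plus_two hQ hι e hD h, nm_plus_four hQ hι e hD h, nm_plus_five hQ hι e hD h]
  exacts [nm_three hQ hι h hD, nm_plus_four_two hQ hι hq hD h]

end Std

end Cfsg.Agent.Classical.Asch
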