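import Cfsg.Agent.Lib.Classical.Asch24

/-!
Two-dimensional orthogonal spaces over an extension field; types of tensor products and subfield forms.
-/

set_option autoImplicit false

namespace Cfsg.Agent.Classical.Asch
open Matrix Cfsg.Geo Module Cfsg.Agent.Comp
open scoped MatrixGroups Kronecker commutatorElement

variable {ι : Type} [Fintype ι] [DecidableEq ι] {F : Type*} [Field F] {σ : F →+* F}
  {Q : (ι → F) → F} {B : GL ι F}

local notation "Z" => scalars ι F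
local notation "σ₀" => RingHom.id F

theorem Irr.tri_idem [Finite F] {G : Subgroup (GL ι F)} (hG : Irr G) {ε : F} {B : GL ι F} (hB : RF σ ε B)
    (hGB : G ≤ Sim σ B.val) {C : Subalgebra F (Matrix ι ι F)} (hn : Nrm G C) (hc : IsComm C) (hs : StCl σ B C)
    (hid : ¬ ∀ e ∈ C, e * e = e → e = 0 ∨ e = 1) :
    (∃ (t : ℕ) (E : Fin t → Matrix ι ι F), IdemDec G E ∧ ∀ i, adj σ B (E i) = E i) ∨
    (∃ E : Fin 2 → Matrix ι ι F, IdemDec G E ∧ ∀ i, adj σ B (E i) = 1 - E i) := by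
  have hmul : ∀ e ∈ C, ∀ f ∈ C, e * e = e → f * f = f → e * f * (e * f) = e * f := fun e he f hf h1 h2 => by
    rw [Matrix.mul_assoc, ← Matrix.mul_assoc f, hc f hf e he, ← Matrix.mul_assoc,
      ← Matrix.mul_assoc, h1, Matrix.mul_assoc, h2]
  by_cases hid' : ∀ e ∈ C, e * e = e → adj σ B e = e → e = 0 ∨ e = 1
  swap
  · push Not at hid'
    obtain ⟨e, he, h1, h1', h2, h3⟩ := hid'
    obtain ⟨t, E, hE, hES, -⟩ := hG.exists_idemDec (S := {e | e ∈ C ∧ e * e = e ∧ adj σ B e = e})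
      (fun e he => he.2.1)
      (fun e he f hf => ⟨C.mul_mem he.1 hf.1, hmul e he.1 f hf.1 he.2.1 hf.2.1, by
        rw [adj_mul, he.2.2, hf.2.2, hc e he.1 f hf.1]⟩)
      (fun e he f hf => hc e he.1 f hf.1) (fun g hg e he => ⟨hn g hg e he.1, by rw [← map_mul, he.2.1],
        by rw [adj_cjm hB.σσ (hGB hg), he.2.2]⟩)
      ⟨he, h1, h1'⟩ h2 h3
    exact Or.inl ⟨t, E, hE, fun i => (hES i).2.2⟩
  right
  push Not at hid
  obtain ⟨e, he, h1, h2, h3⟩ := hid
  obtain ⟨t, E, hE, hES, -⟩ := hG.exists_idemDec (S := {e | e ∈ C ∧ e * e = e}) (fun e he => he.2)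
    (fun e he f hf => ⟨C.mul_mem he.1 hf.1, hmul e he.1 f hf.1 he.2 hf.2⟩)
    (fun e he f hf => hc e he.1 f hf.1) (fun g hg e he => ⟨hn g hg e he.1, by rw [← map_mul, he.2]⟩)
    ⟨he, h1⟩ h2 h3
  have key : ∀ i, adj σ B (E i) = 1 - E i := fun i => by
    obtain ⟨hi, hi'⟩ := hES i
    have ha : adj σ B (E i) * adj σ B (E i) = adj σ B (E i) := by rw [← adj_mul, hi']
    have h0 : E i * adj σ B (E i) = 0 := by
      refine (hid' _ (C.mul_mem hi (hs _ hi)) (hmul _ hi _ (hs _ hi) hi' ha)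
        (by rw [adj_mul, hB.adj_adj])).resolve_right fun e => hE.ne_one i ?_
      rw [← Matrix.mul_one (E i), ← e, ← Matrix.mul_assoc, hi']
    have h0' : adj σ B (E i) * E i = 0 := by rw [hc _ (hs _ hi) _ hi, h0]
    refine eq_sub_of_add_eq' ((hid' _ (C.add_mem hi (hs _ hi)) ?_ ?_).resolve_left fun e => hE.ne i ?_)
    · rw [Matrix.add_mul, Matrix.mul_add, Matrix.mul_add, hi', h0, h0', ha]; simp
    · rw [adj_add, hB.adj_adj, add_comm]
    · have := congrArg (E i * ·) e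
      simpa [Matrix.mul_add, hi', h0] using this
  have h2 : ∀ i j, i ≠ j → E j = 1 - E i := fun i j hij => by
    have h4 := congrArg (adj σ B) (hE.orth i j hij)
    rw [adj_mul, key, key, adj_zero, Matrix.sub_mul, Matrix.mul_sub, Matrix.mul_sub,
      hE.orth j i hij.symm] at h4
    simp only [Matrix.mul_one, Matrix.one_mul, sub_zero] at h4
    exact (sub_eq_zero.1 h4).symm
  obtain rfl : t = 2 := by
    by_contra ht
    have := hE.two_le
    have h5 := hE.orth ⟨1, by omega⟩ ⟨2, by omega⟩ (by simp)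
    rw [h2 ⟨0, by omega⟩ ⟨2, by omega⟩ (by simp), ← h2 ⟨0, by omega⟩ ⟨1, by omega⟩ (by simp), hE.idem] at h5
    exact hE.ne _ h5
  exact ⟨E, hE, key⟩

theorem IsFieldSubalgebra.exists_not_adj [Finite F] [Nonempty ι] (hQ : QF Q B.val) {r : ℕ}
    {K : Subalgebra F (Matrix ι ι F)} (hK : IsFieldSubalgebra r K) (ha : ∀ k ∈ K, adj σ₀ B k = k)
    (hι : Fintype.card ι = 2 * r) : ∃ s, (∀ k ∈ K, k * s = s * k) ∧ adj σ₀ B s ≠ s ∧
      (∃ c : F, adj σ₀ B s = c • 1 - s) ∧ ∀ g ∈ Cfsg.isometryGroup F Q, (∀ k, k ∈ K ↔ cjm g k ∈ K) →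
        ∃ a ∈ K, ∃ b ∈ K, cjm g s = a + b * s := by
  letI := (IsFieldSubalgebra.isField hK).toField
  have hs : ∀ (k : K) (v : ι → F), k • v = k.1 *ᵥ v := fun _ _ => rfl
  haveI : Module.Finite K (ι → F) := Module.Finite.of_restrictScalars_finite F _ _
  have h2 : finrank K (ι → F) = 2 := by
    have := finrank_mul_finrank F K (ι → F)
    rw [hK.finrank_eq, finrank_fintype_fun_eq_card, hι, mul_comm 2] at this
    exact Nat.eq_of_mul_eq_mul_left (by have := Fintype.card_pos (α := ι); omega) this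
  let b := finBasisOfFinrankEq K _ h2
  have hb : ∀ v, ∃ x y : K, v = x • b 0 + y • b 1 := fun v =>
    ⟨_, _, (b.sum_repr v).symm.trans (Fin.sum_univ_two _)⟩
  have hk : ∀ (k : K) u v, gf σ₀ B.val (k • u) v = gf σ₀ B.val u (k • v) := fun k u v => by
    rw [hs, hs, hQ.rf.gf_adj, ha _ k.2]
  let C := fun x : Matrix ι ι F => ∀ k ∈ K, k * x = x * k
  have hC : ∀ x, C x → ∀ (k : K) v, x *ᵥ (k • v) = k • x *ᵥ v := fun x hx k v => by
    rw [hs, hs, mulVec_mulVec, mulVec_mulVec, hx _ k.2]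
  have hm : ∀ u v, ∃ x, C x ∧ x *ᵥ b 0 = u ∧ x *ᵥ b 1 = v := fun u v =>
    ⟨LinearMap.toMatrix' ((b.constr ℕ ![u, v]).restrictScalars F), fun k hk => matrix_ext_mulVec fun v => by
      simp only [← mulVec_mulVec, LinearMap.toMatrix'_mulVec, LinearMap.restrictScalars_apply]
      exact (map_smul _ (⟨k, hk⟩ : K) _).symm, by simp, by simp⟩
  have hcj : ∀ g x, (∀ k, k ∈ K ↔ cjm g k ∈ K) → C x → C (cjm g x) := fun g x hg hx k hk => by
    obtain ⟨k, rfl⟩ := (cjm g).surjective k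
    rw [← map_mul, ← map_mul, hx k ((hg k).2 hk)]
  have h0 : ∀ v, (∀ (k : K) i, gf σ₀ B.val v (k • b i) = 0) → v = 0 := fun v hv => gf_eq_zero_left (σ := σ₀) B fun u => by
    obtain ⟨x, y, rfl⟩ := hb u
    rw [gf_add_right, hv, hv, add_zero]
  let T := fun x : Matrix ι ι F => C x ∧ ∀ (k : K) v, gf σ₀ B.val (x *ᵥ v) (k • v) = 0
  have hT0 : ∀ x, T x → x *ᵥ b 0 = 0 → x = 0 := fun x hx h => by
    have h1 : x *ᵥ b 1 = 0 := h0 _ fun k => Fin.forall_fin_two.2 ⟨by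
      have := hx.2 k (b 0 + b 1)
      rwa [mulVec_add, h, zero_add, smul_add, gf_add_right, hx.2, add_zero] at this, hx.2 k _⟩
    refine matrix_ext_mulVec fun v => ?_
    obtain ⟨y, z, rfl⟩ := hb v
    simp [mulVec_add, hC x hx.1, h, h1]
  have hT : ∀ x t, T x → T t → t ≠ 0 → ∃ k ∈ K, x = k * t := fun x t hx ht h => by
    let U : Submodule K (ι → F) :=
      { carrier := {v | ∀ k : K, gf σ₀ B.val v (k • b 0) = 0}
        zero_mem' := fun _ => gf_zero_left _ _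
        add_mem' := fun {u v} hu hv k => by rw [gf_add_left, hu, hv, add_zero]
        smul_mem' := fun c v hv k => by rw [hk, smul_smul, hv] }
    have h1 : finrank K U ≤ 1 := Nat.le_of_lt_succ ((Submodule.finrank_lt fun e => b.ne_zero 0
      (gf_eq_zero_right (σ := σ₀) B fun u => by simpa using (e.ge Submodule.mem_top : u ∈ U) 1)).trans_eq h2)
    obtain ⟨k, hk'⟩ := (finrank_eq_one_iff_of_nonzero' (⟨t *ᵥ b 0, fun k => ht.2 k _⟩ : U) fun e =>
      h (hT0 t ht (congrArg Subtype.val e))).1 (le_antisymm h1 (Submodule.one_le_finrank_iff.2 fun e =>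
        h (hT0 t ht ((Submodule.eq_bot_iff _).1 e _ fun k => ht.2 k _)))) ⟨x *ᵥ b 0, fun k => hx.2 k _⟩
    refine ⟨k, k.2, sub_eq_zero.1 (hT0 _ ⟨fun l hl => by
      rw [mul_sub, sub_mul, hx.1 l hl, ← mul_assoc, hK.comm l hl k k.2, mul_assoc, ht.1 l hl, mul_assoc],
      fun l v => by rw [sub_mulVec, gf_sub_left, hx.2, ← mulVec_mulVec, ← hs, hk, smul_smul, ht.2, sub_zero]⟩ ?_)⟩
    rw [sub_mulVec, ← mulVec_mulVec, sub_eq_zero]
    exact (congrArg Subtype.val hk').symm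
  by_cases he : (2 : F) = 0
  swap
  · obtain ⟨y, hy, h1⟩ : ∃ y, C y ∧ adj σ₀ B y ≠ y := by
      by_contra e
      push Not at e
      obtain ⟨x, hx, k1, k2⟩ := hm (b 1) 0
      obtain ⟨y, hy, k3, k4⟩ := hm 0 (b 0)
      have := congrArg (· *ᵥ b 0) (e (x * y) fun k hk => by rw [← mul_assoc, hx k hk, mul_assoc, hy k hk, mul_assoc])
      simp only [adj_mul, e x hx, e y hy, ← mulVec_mulVec, k1, k3, k4, mulVec_zero] at this
      exact b.ne_zero 0 this
    have h3 : adj σ₀ B (y - adj σ₀ B y) = -(y - adj σ₀ B y) := by rw [adj_sub, hQ.rf.adj_adj, neg_sub]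
    have h4 : C (y - adj σ₀ B y) := fun k hk => by
      rw [mul_sub, sub_mul, hy k hk, ← ha k hk, ← adj_mul, ← adj_mul, hy k hk]
    have h5 : ∀ t, C t → adj σ₀ B t = -t → T t := fun t ht h => ⟨ht, fun k v => mul_left_cancel₀ he (by
      have := hQ.rf.gf_adj t v (k • v)
      rw [h, neg_mulVec, gf_neg_right, hC t ht, ← hk k v, hQ.comm (k • v)] at this
      linear_combination this)⟩
    refine ⟨_, h4, fun e => h1 (sub_eq_zero.1 (eq_zero_of_eq_neg he (e.symm.trans h3))).symm, ⟨0, by simp [h3]⟩,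
      fun g hg hn => ⟨0, K.zero_mem, ?_⟩⟩
    simpa only [zero_add] using hT _ _ (h5 _ (hcj g _ hn h4) (by
      rw [adj_cjm (fun _ => rfl) (Iso_le_Sim (hQ.isom_le hg)), h3, map_neg])) (h5 _ h4 h3) (sub_ne_zero.2 h1.symm)
  have h1 : ∀ (k : K) v, gf σ₀ B.val (k • v) v = 0 := fun k => (hQ.alt he).gf_self_adj hK k.2 (ha _ k.2)
  have h2K : (2 : K) = 0 := by rw [← map_ofNat (algebraMap F K), he, map_zero]
  haveI : Finite K := Module.finite_of_finite F
  choose ρ hρ using exists_sq_of_two h2K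
  have h3 : ∀ a c, c ^ 2 = a → ρ a = c := fun a c h => by
    have : (ρ a - c) ^ 2 = 0 := by linear_combination hρ a - h + (c ^ 2 - ρ a * c) * h2K
    exact sub_eq_zero.1 (pow_eq_zero_iff two_ne_zero |>.1 this)
  obtain ⟨τ, -, -, h4⟩ := IsFieldSubalgebra.exists_repr hK
  obtain ⟨β, hβ⟩ := h4 ⟨⟨fun k => gf σ₀ B.val (k • b 1) (b 0), fun x y => by rw [add_smul, gf_add_left]⟩,
    fun c x => by simp [gf_smul_left]⟩
  have hβ : ∀ k : K, gf σ₀ B.val (k • b 1) (b 0) = τ (β * k) := hβ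
  have hβ0 : β ≠ 0 := by
    rintro rfl
    exact b.ne_zero 0 (h0 _ fun k => Fin.forall_fin_two.2 ⟨by rw [← hk, h1], by rw [hQ.comm, hβ]; simp⟩)
  have h5 : ∀ v, ∃ c : K, ∀ k : K, Q (k • v) = gf σ₀ B.val ((k * k * c) • b 1) (b 0) := fun v => by
    obtain ⟨γ, hγ⟩ := h4 ⟨⟨fun k => Q (ρ k • v), fun x y => by
      rw [h3 (x + y) (ρ x + ρ y) (by linear_combination hρ x + hρ y + ρ x * ρ y * h2K), add_smul, hQ.add, ← hk,
        smul_smul, h1, add_zero]⟩, fun c x => by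
      obtain ⟨d, rfl⟩ := exists_sq_of_two he c
      simp only [RingHom.id_apply, smul_eq_mul]
      rw [h3 _ (d • ρ x) (by rw [smul_pow, hρ]), smul_assoc, hQ.smul]⟩
    refine ⟨γ / β, fun k => ?_⟩
    rw [hβ, show β * (k * k * (γ / β)) = γ * k ^ 2 by field_simp, ← hγ]
    exact congrArg (fun k => Q (k • v)) (h3 _ k rfl).symm
  obtain ⟨c₀, k0⟩ := h5 (b 0)
  obtain ⟨c₁, k1⟩ := h5 (b 1)
  obtain ⟨s, h6, h7, h8⟩ := hm (b 0 + c₀ • b 1) (c₁ • b 0)
  have h9 : ∀ v, gf σ₀ B.val (s *ᵥ v) v = Q v := fun v => by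
    obtain ⟨x, y, rfl⟩ := hb v
    have e1 : ∀ (k l : K) v, gf σ₀ B.val (k • v) (l • v) = 0 := fun k l v => by rw [← hk, smul_smul, h1]
    have e2 : ∀ k l : K, gf σ₀ B.val (k • b 1) (l • b 0) = τ (β * (k * l)) := fun k l => by
      rw [← hk, smul_smul, hβ, mul_comm l]
    simp only [mulVec_add, hC s h6, h7, h8, smul_add, smul_smul, gf_add_left, gf_add_right, hQ.add, k0, k1, hβ, e1,
      hQ.comm (_ • b 0) (_ • b 1), e2]
    ring_nf
  have k2 : adj σ₀ B s = 1 - s := eq_adj (fun _ => rfl) fun u v => by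
    have := h9 (u + v)
    rw [hQ.add, mulVec_add, gf_add_left, gf_add_right, gf_add_right, h9, h9, hQ.comm (s *ᵥ v)] at this
    rw [sub_mulVec, gf_sub_right, one_mulVec]
    linear_combination this
  refine ⟨s, h6, fun e => ?_, ⟨1, by rw [one_smul, k2]⟩, fun g hg hn => ?_⟩
  · have := k2.symm.trans e
    rw [sub_eq_iff_eq_add, ← two_smul F, he, zero_smul] at this
    exact one_ne_zero this
  obtain ⟨a, k3, k4⟩ := hT (cjm g s - s) 1 ⟨fun k hk => by rw [mul_sub, sub_mul, hcj g s hn h6 k hk, h6 k hk],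
    fun k v => by
      rw [← hρ k, sq, mul_smul, ← hk, sub_mulVec, smul_sub, ← hC _ (hcj g s hn h6), ← hC _ h6, gf_sub_left, h9,
        ← mulVec_inv_mulVec g (ρ k • v), cjm_mulVec, mem_Iso'.1 (hQ.isom_le hg), h9, mem_isometryGroup.1 hg, sub_self]⟩ ⟨fun k _ => by simp, fun k v => by rw [one_mulVec, ← hk, h1]⟩ one_ne_zero
  exact ⟨a, k3, 1, K.one_mem, by rw [one_mul, ← sub_eq_iff_eq_add, k4, mul_one]⟩

theorem Irr.of_two [Fintype F] (hQ : QF Q B.val) {G : Subgroup (GL ι F)} (hGQ : G ≤ Cfsg.isometryGroup F Q)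
    (hι : 2 ≤ Fintype.card ι) (hG : Irr G) {r : ℕ} {K : Subalgebra F (Matrix ι ι F)} (hK : IsFieldSubalgebra r K)
    (ha : ∀ k ∈ K, adj σ₀ B k = k) (hn : Nrm G K) (h : Fintype.card ι = 2 * r) :
    (∃ (t m : ℕ) (D : Fin t → Submodule F (ι → F)), IsOrthogonalMDecomposition Q m D ∧
      G ≤ decompositionStabilizer D) ∨ (∃ (m : ℕ) (D : Fin 2 → Submodule F (ι → F)), IsMDecomposition m D ∧
      (∀ i, IsTotallySingularQuad Q (D i)) ∧ G ≤ decompositionStabilizer D) ∨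
      ∃ K, IsFieldSubalgebra 2 K ∧ Nrm G K ∧ StCl σ₀ B K := by
  haveI : Nonempty ι := Fintype.card_pos_iff.1 (by omega)
  obtain ⟨s, h1, h2, ⟨c, h3⟩, h4⟩ := IsFieldSubalgebra.exists_not_adj hQ hK ha h
  let L := Algebra.adjoin F (insert s (K : Set (Matrix ι ι F)))
  have hs : s ∈ L := Algebra.subset_adjoin (Set.mem_insert _ _)
  have hKL : ∀ k ∈ K, k ∈ L := fun k hk => Algebra.subset_adjoin (Set.mem_insert_of_mem _ hk)
  have h5 : Nrm G L := fun g hg _ ha => (Algebra.adjoin_le (S := L.comap (cjm g).toAlgHom) (by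
    rintro x (rfl | hx)
    · obtain ⟨a, ha, b, hb, e⟩ := h4 g (hGQ hg) fun k => ⟨hn g hg k, fun h => cjm_inv_cjm g k ▸ hn _ (G.inv_mem hg) _ h⟩
      exact (e ▸ add_mem (hKL a ha) (mul_mem (hKL b hb) hs) : cjm g x ∈ L)
    · exact hKL _ (hn g hg x hx))) ha
  have h6 : IsComm L := fun x hx y hy => (Algebra.commute_of_mem_adjoin_of_forall_mem_commute hy fun y hy =>
    (Algebra.commute_of_mem_adjoin_of_forall_mem_commute hx (by
      rintro z hz
      rcases hy with e | hy <;> rcases hz with e' | hz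
      exacts [e ▸ e' ▸ Commute.refl _, e ▸ (h1 z hz).symm, e' ▸ h1 y hy, hK.comm y hy z hz])).symm).eq
  have h7 : StCl σ₀ B L := fun x hx => by
    induction hx using Algebra.adjoin_induction with
    | mem x hx =>
      rcases hx with rfl | hx
      · exact h3 ▸ sub_mem (L.smul_mem L.one_mem c) hs
      · exact (ha x hx).symm ▸ hKL x hx
    | algebraMap r =>
      rw [Algebra.algebraMap_eq_smul_one, adj_smul, adj_one]
      exact Subalgebra.smul_mem _ (one_mem _) _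
    | add x y _ _ hx hy => rw [adj_add]; exact add_mem hx hy
    | mul x y _ _ hx hy => rw [adj_mul]; exact mul_mem hy hx
  by_cases hid : ∀ e ∈ L, e * e = e → e = 0 ∨ e = 1
  · have h8 := hG.isField h5 h6 hid
    obtain ⟨K, hK, hm⟩ := exists_subfield_alg h8 (IsFieldSubalgebra.even_of_adj_ne h8 hQ.rf h7 hs h2).two_dvd
    exact .inr (.inr ⟨K, hK, fun g hg a ha => (hm _).2 ⟨h5 g hg a ((hm a).1 ha).1, by rw [← map_pow, ((hm a).1 ha).2]⟩,
      fun a ha => (hm _).2 ⟨h7 a ((hm a).1 ha).1, by rw [← adj_pow, ((hm a).1 ha).2]⟩⟩)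
  rcases hG.tri_idem hQ.rf ((hGQ.trans hQ.isom_le).trans Iso_le_Sim) h5 h6 h7 hid with ⟨t, E, hE, h⟩ | ⟨E, hE, h⟩
  · obtain ⟨m, hm⟩ := hE.nondeg hQ.rf h
    exact .inl ⟨t, m, _, ⟨hQ.polar ▸ hm, hE.isometric hGQ⟩, hE.le⟩
  · obtain ⟨m, hm⟩ := hE.isMDecomposition
    exact .inr (.inl ⟨m, _, hm, OOut.of_idem hQ hGQ hι hG hE h, hE.le⟩)

theorem exists_root_of_card [Fintype F] {F₀ : Subfield F} (hF : Fintype.card F = Nat.card F₀ ^ 2) {a b : F}
    (ha : a ∈ F₀) (hb : b ∈ F₀) : ∃ θ : F, θ ^ 2 + a * θ + b = 0 := by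
  by_cases h : ∀ x : F₀, x ^ 2 + ⟨a, ha⟩ * x + ⟨b, hb⟩ ≠ 0
  · exact exists_root_quad (F := F₀) (Nat.pow_right_injective (Finite.one_lt_card (α := F₀)) (by
      simp only [← Module.natCard_eq_pow_finrank, ← hF, Nat.card_eq_fintype_card])) _ _ h
  · push Not at h
    exact h.imp' Subtype.val fun x hx => congrArg Subtype.val hx

theorem IsQuadFormRationalStructure.isPlus [Fintype F] (hQ : QF Q B.val) {F₀ : Subfield F}
    (hF : Fintype.card F = Nat.card F₀ ^ 2) {P : GL ι F} {ζ : F} (h0 : ζ ≠ 0)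
    (h : IsQuadFormRationalStructure (fun v => ζ * Q v) F₀ P) (hι : Even (Fintype.card ι)) : IsPlusTypeOn Q ⊤ := by
  obtain ⟨m, hm⟩ := hι
  have h1 := IsQuadFormRationalStructure.entry (hQ.mul ζ) h
  by_cases he : (2 : F) = 0
  swap
  · obtain ⟨θ, hθ⟩ := exists_root_of_card hF F₀.zero_mem (F₀.neg_mem (F₀.mul_mem (F₀.pow_mem (F₀.neg_mem F₀.one_mem) m)
      (det_mem h1)))
    rw [hQ.isPlus_iff_disc he (hm.trans (two_mul m).symm), isSquare_iff_of_mul_sq (b := θ * θ)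
      (mul_ne_zero (pow_ne_zero m h0) P.det_ne_zero) one_ne_zero (by
        rw [det_mul, det_mul, det_transpose, det_smul, hm] at hθ; linear_combination -hθ)]
    exact ⟨θ, rfl⟩
  obtain ⟨C, hC⟩ := exists_pb σ₀ (scal ι (Units.mk0 ζ h0) * B) (Equiv.refl ι) P
  have h2 : C.val = P.valᵀ * (ζ • B.val) * P.val := by rw [← Pb.refl_iff.1 hC, coe_scal_mul, map_σ₀]; rfl
  have h3 : QF (fun x => ζ * Q (P.val *ᵥ x)) C.val := h2 ▸ (hQ.mul ζ).comp P.val
  let C₀ : Matrix ι ι F₀ := of fun i j => ⟨C.val i j, h2 ▸ h1 i j⟩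
  have h4 : C₀.map F₀.subtype = C.val := rfl
  have h5 : C₀.det ≠ 0 := fun e => C.det_ne_zero (by
    rw [← h4, ← RingHom.mapMatrix_apply, ← RingHom.map_det, e, map_zero])
  have k0 : ∀ u v, F₀.subtype (gf (RingHom.id F₀) C₀ u v) = gf σ₀ C.val (F₀.subtype ∘ u) (F₀.subtype ∘ v) :=
    fun u v => by simp [gf_eq_sum, C₀]
  have h6 : Alt (GeneralLinearGroup.mkOfDetNeZero C₀ h5).val := fun v => Subtype.ext ((k0 _ _).trans (h3.alt he _))
  obtain ⟨P₀, h7⟩ := h6.exists_pb (C := bdg fun _ : Fin m => J2 F₀) (alt_blockDiagonal.2 fun _ => alt_J2)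
    (Fintype.equivOfCardEq (by simp [hm, two_mul]))
  generalize (Fintype.equivOfCardEq _ : ι ≃ Fin 2 × Fin m) = e at h7
  let P₁ := GeneralLinearGroup.map F₀.subtype P₀
  have h8 : ∀ x, trv e P₁ (F₀.subtype ∘ x) = F₀.subtype ∘ trv e P₀ x := fun x =>
    funext fun i => (RingHom.map_mulVec F₀.subtype P₀.val (x ∘ e) i).symm
  have h9 : ∀ p : Fin 2 × Fin m, (Pi.single p 1 : _ → F) = F₀.subtype ∘ Pi.single p 1 := fun p => by
    ext q; by_cases h : q = p <;> simp [h]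
  obtain ⟨C₁, k1⟩ := exists_pb σ₀ C e P₁
  have k2 : C₁.val = blockDiagonal fun _ => (J2 F).val := by
    ext p q
    rw [← gf_single (σ := σ₀) C₁.val, ← k1, h9, h9, h8, h8, ← k0]
    refine (congrArg F₀.subtype ((h7 _ _).trans (gf_single _ _ _))).trans ?_
    obtain ⟨a, i⟩ := p
    obtain ⟨b, j⟩ := q
    by_cases h : i = j <;> fin_cases a <;> fin_cases b <;> simp [coe_bdg, blockDiagonal_apply, h, J2]
  have k3 := k2 ▸ h3.trv k1
  have k4 : ∀ j, ∃ g : GL (Fin 2) F, ζ * Q (P.val *ᵥ trv e P₁ (blk j (g.val *ᵥ Pi.single 0 1))) = 0 := fun j => by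
    have k5 : ∀ k, ζ * Q (P.val *ᵥ trv e P₁ (blk j (Pi.single k 1))) ∈ F₀ := fun k => by
      rw [blk_single, h9, h8]; exact h _ fun i => Subtype.property _
    obtain ⟨θ, hθ⟩ := exists_root_of_card hF F₀.one_mem (F₀.mul_mem (k5 0) (k5 1))
    by_cases k6 : ζ * Q (P.val *ᵥ trv e P₁ (blk j (Pi.single 0 1))) = 0
    · exact ⟨1, by rwa [Units.val_one, one_mulVec]⟩
    refine ⟨GeneralLinearGroup.mkOfDetNeZero !![θ / (ζ * Q (P.val *ᵥ trv e P₁ (blk j (Pi.single 0 1)))), 1; 1, 0]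
      (by simp), ?_⟩
    generalize hc : θ / _ = c
    rw [show (GeneralLinearGroup.mkOfDetNeZero !![c, 1; 1, 0] (by simp)).val *ᵥ Pi.single 0 1 =
      c • Pi.single 0 1 + Pi.single 1 (1 : F) by ext i; fin_cases i <;> simp, (k3.blk j).add, (k3.blk j).smul,
      gf_smul_left, gf_single, ← hc]
    simp only [J2, of_apply, cons_val', cons_val_one, cons_val_zero, cons_val_fin_one]
    generalize ζ * Q _ = x at hθ k6
    field_simp
    linear_combination hθ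
  choose g hg using k4
  rw [← isPlus_mul h0, ← isPlus_trv (Equiv.refl ι) P, ← isPlus_trv e P₁, ← isPlus_trv (Equiv.refl _) (bdg g)]
  refine (k3.comp (bdg g).val).isPlus_of_index (s := {0} ×ˢ Finset.univ) (by simp) (fun ⟨a, j⟩ h => ?_)
    fun ⟨a, i⟩ h ⟨b, j⟩ h' => ?_
  · rw [← blk_single, coe_bdg, blockDiagonal_blk, show a = 0 by simpa [eq_comm] using h]; exact hg j
  · rw [coe_bdg, blockDiagonal_transpose, ← blockDiagonal_mul, ← blockDiagonal_mul, blockDiagonal_apply]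
    simp only [pb_J2, show a = 0 by simpa [eq_comm] using h, show b = 0 by simpa [eq_comm] using h']
    simp [J2]

theorem isPlus_kron [Finite F] (he : (2 : F) ≠ 0) (hQ : QF Q B.val) {κ₁ κ₂ : Type} [Fintype κ₁] [DecidableEq κ₁]
    [Fintype κ₂] [DecidableEq κ₂] {e : ι ≃ κ₁ × κ₂} {P : GL ι F} {B₁ : GL κ₁ F} {B₂ : GL κ₂ F}
    (hP : Pb σ₀ B.val e P (kgl B₁ B₂).val) (h1 : Odd (Fintype.card κ₁)) (h2 : Even (Fintype.card κ₂))
    (hB₂ : RF σ₀ 1 B₂) : IsPlusTypeOn Q ⊤ ↔ IsPlusTypeOn (fun v => gf σ₀ B₂.val v v) ⊤ := by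
  obtain ⟨a, ha⟩ := h1
  obtain ⟨m, hm⟩ := h2
  obtain ⟨Q₂, k⟩ := exists_qf_of_symm he (B := B₂.val) (by simpa using hB₂.symm)
  simp only [k.self]
  rw [isPlus_mul he, k.isPlus_iff_disc he (hm.trans (two_mul m).symm), hQ.isPlus_iff_pb he hP (m := (2 * a + 1) * m)
    (by rw [Fintype.card_congr e, Fintype.card_prod, ha, hm]; ring)]
  refine isSquare_iff_of_mul_sq one_ne_zero (mul_ne_zero (pow_ne_zero m B₁.det_ne_zero) (pow_ne_zero a B₂.det_ne_zero)) ?_
  rw [coe_kgl, det_kronecker, ha, hm, pow_mul, pow_succ, pow_mul]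
  simp; ring

end Cfsg.Agent.Classical.Asch
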