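import Cfsg.Agent.Lib.Classical.Asch25

/-!
Maximal subgroups of the orthogonal groups.
-/

set_option autoImplicit false

namespace Cfsg.Agent.Classical.Asch
open Matrix Cfsg.Geo Module Cfsg.Agent.Comp
open scoped MatrixGroups Kronecker commutatorElement

variable {ι : Type} [Fintype ι] [DecidableEq ι] {F : Type*} [Field F] {σ : F →+* F}
  {Q : (ι → F) → F} {B : GL ι F}

local notation "Z" => scalars ι F
local notation "σ₀" => RingHom.id F

/-- The possibilities for a maximal subgroup of `Ω`. -/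
inductive OM [Fintype F] (Q : (ι → F) → F) (H : Subgroup (GL ι F)) : Prop
  | ts (W : Submodule F (ι → F)) (h1 : W ≠ ⊥) (h2 : IsTotallySingularQuad Q W)
      (h3 : IsPlusTypeOn Q ⊤ → 2 * (finrank F W + 1) ≠ Fintype.card ι) (h : H = subspaceStabilizer W ⊓ omegaGL Q)
  | nsv (v : ι → F) (he : ¬ Odd (Fintype.card F)) (h1 : Q v ≠ 0) (h : H = subspaceStabilizer (F ∙ v) ⊓ omegaGL Q)
  | nd (W : Submodule F (ι → F)) (h1 : W ≠ ⊥) (h1' : W ≠ ⊤) (h2 : IsNondegenerateOn (QuadraticMap.polar Q) W)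
      (h3 : 2 * finrank F W ≤ Fintype.card ι)
      (h4 : 2 * finrank F W = Fintype.card ι → Even (finrank F W) ∧ ¬ IsPlusTypeOn Q ⊤)
      (h5 : finrank F W = 2 → IsPlusTypeOn Q W → 4 ≤ Fintype.card F) (h6 : Odd (finrank F W) → Odd (Fintype.card F))
      (h : H = subspaceStabilizer W ⊓ omegaGL Q)
  | half (m : ℕ) (D : Fin 2 → Submodule F (ι → F)) (h1 : Odd m)
      (hD : IsNondegenerateMDecomposition (QuadraticMap.polar Q) m D) (h2 : ¬ AreIsometricFor Q (D 0) (D 1))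
      (ho : Odd (Fintype.card F)) (h3 : IsPlusTypeOn Q ⊤ ↔ Fintype.card F % 4 = 3)
      (h : H = decompositionStabilizer D ⊓ omegaGL Q)
  | dec {t : ℕ} (m : ℕ) (D : Fin t → Submodule F (ι → F)) (hD : IsOrthogonalMDecomposition Q m D)
      (h1 : m = 1 → (Fintype.card F).Prime)
      (h2 : m = 2 → Fintype.card F ≠ 3 ∧ ((∀ i, IsPlusTypeOn Q (D i)) → 7 ≤ Fintype.card F))
      (h3 : m = 3 → 5 ≤ Fintype.card F) (h4 : m = 4 → (∀ i, IsPlusTypeOn Q (D i)) → 3 ≤ Fintype.card F)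
      (h5 : Odd m → Odd (Fintype.card F)) (h6 : (∀ i, IsPlusTypeOn Q (D i)) ∨ ∀ i, ¬ IsPlusTypeOn Q (D i))
      (h7 : Even m → (IsPlusTypeOn Q ⊤ ↔ (∀ i, IsPlusTypeOn Q (D i)) ∨ Even t))
      (h8 : Odd m → ∀ k, Fintype.card ι = 2 * k → (IsPlusTypeOn Q ⊤ ↔ Even k ∨ Fintype.card F % 4 ≠ 3))
      (h : H = decompositionStabilizer D ⊓ omegaGL Q)
  | pair (m : ℕ) (D : Fin 2 → Submodule F (ι → F)) (h1 : Even m) (hD : IsMDecomposition m D)
      (h2 : ∀ i, IsTotallySingularQuad Q (D i)) (h3 : IsPlusTypeOn Q ⊤) (h : H = decompositionStabilizer D ⊓ omegaGL Q)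
  | fld (r : ℕ) (K : Subalgebra F (Matrix ι ι F)) (hr : r.Prime) (hK : IsFieldSubalgebra r K)
      (h1 : IsSelfAdjointFor (QuadraticMap.polar Q) K) (h2 : Fintype.card ι ≠ r) (h2' : Fintype.card ι ≠ 2 * r)
      (h3 : ¬ Odd (Fintype.card F) → 2 * r ∣ Fintype.card ι) (h4 : r ∣ Fintype.card ι)
      (h : H = subalgebraNormalizer K ⊓ omegaGL Q)
  | ufld (K : Subalgebra F (Matrix ι ι F)) (hK : IsFieldSubalgebra 2 K)
      (h1 : IsAdjointClosedFor (QuadraticMap.polar Q) K) (h2 : ¬ IsSelfAdjointFor (QuadraticMap.polar Q) K)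
      (h3 : ∀ k ∈ K, ∃ c, ∀ v, Q (k *ᵥ v) = c * Q v)
      (h4 : ∃ m, Fintype.card ι = 2 * (m + 1) ∧ (IsPlusTypeOn Q ⊤ ↔ Odd m))
      (h : H = subalgebraNormalizer K ⊓ omegaGL Q)
  | tenS (n₁ n₂ : ℕ) (e : ι ≃ Fin n₁ × Fin n₂) (P : GL ι F) (f₁ : (Fin n₁ → F) → (Fin n₁ → F) → F)
      (f₂ : (Fin n₂ → F) → (Fin n₂ → F) → F) (h1 : n₁ ≤ n₂) (h2 : n₁ = 2 → 3 ≤ Fintype.card F ∧ IsPlusTypeOn Q ⊤)
      (h3 : Even n₁) (h4 : Even n₂) (hf₁ : IsSymplecticForm f₁) (hf₂ : IsSymplecticForm f₂)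
      (hB : IsTensorFormStructure id (QuadraticMap.polar Q) f₁ f₂ e P) (hQ : ∀ x y, Q (trv e P (ktv x y)) = 0)
      (h : H = tensorProductSubgroup n₁ n₂ e P ⊓ omegaGL Q)
  | tenO (n₁ n₂ : ℕ) (e : ι ≃ Fin n₁ × Fin n₂) (P : GL ι F) (f₁ : (Fin n₁ → F) → (Fin n₁ → F) → F)
      (f₂ : (Fin n₂ → F) → (Fin n₂ → F) → F) (ho : Odd (Fintype.card F)) (h1 : 3 ≤ n₁) (h2 : n₁ ≤ n₂)
      (h3 : n₁ = n₂ → Even n₁) (h4 : n₁ = 3 → 5 ≤ Fintype.card F)
      (h5 : n₁ = 3 → n₂ = 4 → ¬ IsPlusTypeOn (fun v => f₂ v v) ⊤ ∧ ¬ IsPlusTypeOn Q ⊤)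
      (hf₁ : IsSymmetricForm f₁) (hf₂ : IsSymmetricForm f₂)
      (hB : IsTensorFormStructure id (QuadraticMap.polar Q) f₁ f₂ e P)
      (h : H = tensorProductSubgroup n₁ n₂ e P ⊓ omegaGL Q)
  | sub (F₀ : Subfield F) (r : ℕ) (P : GL ι F) (ζ : F) (hr : r.Prime)
      (hF : Fintype.card F = Nat.card F₀ ^ r) (h1 : ζ ≠ 0)
      (h2 : IsQuadFormRationalStructure (fun v => ζ * Q v) F₀ P)
      (h3 : Even (Fintype.card ι) → ¬ IsPlusTypeOn Q ⊤ → Odd r) (h : H = subfieldSubgroup F₀ P ⊓ omegaGL Q)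
  | evp (k t : ℕ) (h1 : Fintype.card ι = k ^ t) (h2 : 2 ≤ t) (h3 : Even k) (h4 : k = 2 → IsPlusTypeOn Q ⊤)
  | wre (k t : ℕ) (e : ι ≃ (Fin t → Fin k)) (P : GL ι F) (f : (Fin k → F) → (Fin k → F) → F)
      (ho : Odd (Fintype.card F)) (h1 : 3 ≤ k) (h2 : 2 ≤ t) (h3 : k = 3 → 5 ≤ Fintype.card F)
      (hf : IsSymmetricForm f) (hB : IsTensorPowerFormStructure id (QuadraticMap.polar Q) f e P)
      (h : H = tensorWreathSubgroup k t e P ⊓ omegaGL Q)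
  | res (h : InOrthogonalResidualClass H)

theorem RF.exists_not_isSc {κ : Type} [Fintype κ] [DecidableEq κ] {C : GL κ F} (h : RF σ₀ 1 C) (he : (2 : F) ≠ 0)
    (hκ : 2 ≤ Fintype.card κ) : ∃ a ∈ Iso σ₀ C.val, ¬ IsSc a.val := by
  obtain ⟨Q, hQ⟩ := exists_qf_of_symm he (B := C.val) (by simpa using h.symm)
  rw [← hQ.isom_eq he, ← hQ.isoF]
  exact (hasRf_orth _).exists_not_isSc hQ.nondeg hκ

theorem det_sw_two : (sw (Fin 2) F).val.det = -1 := by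
  rw [sw, det_pmg, show Equiv.Perm.sign (Equiv.prodComm (Fin 2) (Fin 2)) = -1 by decide]; simp

theorem det_of_mul {a C : GL ι F} {α : F} (h : a.valᵀ * C.val * a.val.map σ₀ = α • C.val) :
    a.val.det ^ 2 = α ^ Fintype.card ι := mul_right_cancel₀ C.det_ne_zero (by
  have := congrArg det h
  rw [det_mul, det_mul, det_transpose, map_σ₀, det_smul] at this
  linear_combination this)

theorem Irr.mul_of_ufld [Fintype F] (hQ : QF Q B.val) {G : Subgroup (GL ι F)} (hGQ : G ≤ Cfsg.isometryGroup F Q)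
    (hι : 2 ≤ Fintype.card ι) (hG : Irr G) {K : Subalgebra F (Matrix ι ι F)}
    (hK : IsFieldSubalgebra 2 K) (hn : Nrm G K) (hs : StCl σ₀ B K) (ha : ¬ ∀ k ∈ K, adj σ₀ B k = k) :
    ∀ k ∈ K, ∃ c, ∀ v, Q (k *ᵥ v) = c * Q v := fun k hk => by
  haveI : Nonempty ι := Fintype.card_pos_iff.1 (by omega)
  obtain ⟨s, hs', h1⟩ : ∃ s ∈ K, ∀ v, Q v = gf σ₀ B.val (s *ᵥ v) v := by
    by_cases he : (2 : F) = 0
    · push Not at ha
      obtain ⟨x, hx, hx'⟩ := ha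
      obtain ⟨Q', h1, h2, h3⟩ := IsFieldSubalgebra.exists_qf he (hQ.alt he) (hGQ.trans hQ.isom_le) hK hn hs hx hx'
      exact QF.unique_isom hG hι h1 hQ h2 hGQ ▸ h3
    · exact ⟨(2 : F)⁻¹ • 1, K.smul_mem K.one_mem _, fun v => by
        rw [smul_mulVec, one_mulVec, gf_smul_left, hQ.self, inv_mul_cancel_left₀ he]⟩
  obtain ⟨c, hc⟩ := IsFieldSubalgebra.isSc_of_adj hK ha (K.mul_mem (hs k hk) hk) (by rw [adj_mul, hQ.rf.adj_adj])
  exact ⟨c, fun v => by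
    rw [h1, h1, mulVec_mulVec, hK.comm s hs' k hk, hQ.rf.gf_adj', mulVec_mulVec, ← Matrix.mul_assoc, hc,
      smul_mul_assoc, one_mul, smul_mulVec, gf_smul_left]⟩

section
variable [Fintype F] (hQ : QF Q B.val) (hι : 5 ≤ Fintype.card ι) {H : Subgroup (GL ι F)}
  (hH : IsMaximalIn (omegaGL Q) H)
include hQ hι hH

theorem OM.of_sub {F₀ : Subfield F} {r : ℕ} {P : GL ι F} {ζ : F} (hr : r.Prime)
    (hF : Fintype.card F = Nat.card F₀ ^ r) (h1 : ζ ≠ 0) (h2 : IsQuadFormRationalStructure (fun v => ζ * Q v) F₀ P)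
    (h : H ≤ subfieldSubgroup F₀ P) : OM Q H :=
  .sub F₀ r P ζ hr hF h1 h2 (fun h3 h4 => hr.odd_of_ne_two fun e =>
    h4 (IsQuadFormRationalStructure.isPlus hQ (e ▸ hF) h1 h2 h3))
    (IsMaximalIn.eq_inf hH h (hQ.not_le_sub hι (ne_top_of_card hr hF) P))

theorem OM.of_dec {t m : ℕ} {D : Fin t → Submodule F (ι → F)} (hD : IsOrthogonalMDecomposition Q m D)
    (h : H ≤ decompositionStabilizer D) : OM Q H := by
  have hD' : IsNondegenerateMDecomposition (gf σ₀ B.val) m D := hQ.polar ▸ hD.1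
  by_cases h1 : m = 1 → (Fintype.card F).Prime
  swap
  · obtain ⟨rfl, h2⟩ := Classical.not_imp.1 h1
    obtain ⟨F₀, r, P, ζ, k1, k2, k3, k4, k5⟩ := frame_le_subfield hQ hD h2
    exact .of_sub hQ hι hH k1 k2 k3 k4 ((le_inf h (hH.1.le.trans (omegaGL_le Q))).trans k5)
  let i : Fin t := ⟨0, by have := hD.1.1.two_le; omega⟩
  have h2 := fun k => (nm_dec hQ hι hD i k).not_le hH h
  have h3 : Odd m → Odd (Fintype.card F) := fun k =>
    two_ne_zero_iff_odd.1 (IsNondegenerateMDecomposition.two_ne hQ hD' k)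
  have h4 : IsPlusTypeOn Q (D i) ↔ ∀ i, IsPlusTypeOn Q (D i) :=
    ⟨fun k j => AreIsometricFor.isPlus (hD.2 i j) k, fun k => k i⟩
  have h5 := card_ne_six (F := F)
  have h6 := Fintype.one_lt_card (α := F)
  refine .dec m D hD h1 (fun e => ⟨fun k => h2 (.inl ⟨e, .inl k⟩), fun k => ?_⟩)
    (fun e => five_le_of_odd (h3 (e ▸ by decide)) fun k => h2 (.inr (.inl ⟨e, k⟩))) (fun e k => ?_) h3
    ((em _).imp h4.1 fun k j k' => k (AreIsometricFor.isPlus (hD.2 j i) k'))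
    (fun e => (IsOrthogonalMDecomposition.isPlus_iff_of_even hQ hD e i).trans (or_congr_left h4))
    (fun e k => IsOrthogonalMDecomposition.isPlus_iff_of_odd hQ hD e) (IsMaximalIn.eq_inf hH h (hQ.not_le_nd hι hD'))
  · by_contra k'
    exact h2 (.inl ⟨e, .inr ⟨k i, by omega⟩⟩)
  · by_contra k'
    exact h2 (.inr (.inr ⟨e, by omega, k i⟩))

theorem OM.of_nd {W : Submodule F (ι → F)} (h1 : W ≠ ⊥) (h2 : IsNondegenerateOn (gf σ₀ B.val) W)
    (h3 : 2 * finrank F W ≤ Fintype.card ι) (h : H ≤ subspaceStabilizer W) : OM Q H := by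
  by_cases h4 : 2 * finrank F W = Fintype.card ι → Even (finrank F W) ∧ ¬ IsPlusTypeOn Q ⊤
  · refine .nd W h1 (by rintro rfl; simp at h3; omega) (hQ.polar ▸ h2) h3 h4 (fun e k => ?_) (fun k => ?_)
      (IsMaximalIn.eq_inf hH h (hQ.not_le_stab hι h1 (by omega)))
    · by_contra k'
      exact (nm_plane hQ hι (by omega) h2 e k).not_le hH h
    · exact two_ne_zero_iff_odd.1 fun he => Nat.not_even_iff_odd.2 k ((hQ.alt he).even_of_nondeg h2)
  obtain ⟨h4, h5⟩ := Classical.not_imp.1 h4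
  obtain ⟨h6, h7⟩ := half_dec hQ.rf h1 h2 h4
  have h8 := (le_inf h (hH.1.le.trans ((omegaGL_le Q).trans (hQ.isom_le.trans Iso_le_Sim)))).trans h7
  generalize ![W, perp σ₀ B.val W] = D at h6 h8
  generalize finrank F W = m at h4 h5 h6
  by_cases h9 : AreIsometricFor Q (D 0) (D 1)
  · obtain ⟨φ, hφ⟩ := h9
    exact .of_dec hQ hι hH ⟨hQ.polar ▸ h6, Fin.forall_fin_two.2 ⟨Fin.forall_fin_two.2 ⟨⟨.refl _ _, fun _ => rfl⟩, φ, hφ⟩,
      Fin.forall_fin_two.2 ⟨⟨φ.symm, fun w => by rw [← hφ, φ.apply_symm_apply]⟩, .refl _ _, fun _ => rfl⟩⟩⟩ h8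
  rcases m.even_or_odd with ⟨k, hk⟩ | hm
  swap
  · exact .half m D hm (hQ.polar ▸ h6) h9 (two_ne_zero_iff_odd.1 (IsNondegenerateMDecomposition.two_ne hQ h6 hm))
      (isPlus_iff_of_not_isometric hQ h6 hm h9) (IsMaximalIn.eq_inf hH h8 (hQ.not_le_nd hι h6))
  have hp : IsPlusTypeOn Q ⊤ := by by_contra e; exact h5 ⟨⟨k, hk⟩, e⟩
  have k1 : ∀ i j, i ≠ j → IsPlusTypeOn Q (D i) → IsPlusTypeOn Q (D j) := fun i j hij k =>
    hQ.isPlus_cancel hp k (h6.3 i j hij) (by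
      rw [eq_top_iff, ← h6.1.iSup_eq_top]
      refine iSup_le fun l => ?_
      obtain rfl | rfl : l = i ∨ l = j := by omega
      exacts [le_sup_left, le_sup_right])
  obtain ⟨e, P, hc⟩ := IsMDecomposition.exists_coord h6.1
  obtain ⟨C, hC⟩ := hc.exists_pb h6.3
  have k2 := fun j => (hQ.trv (coe_bdg C ▸ hC)).blk j
  obtain ⟨g, -, hg⟩ := (k2 1).exists_iso (k2 0) (m := k) (by simp [hk, two_mul]) (Equiv.refl _) (by
    rw [← hc.isPlus_iff, ← hc.isPlus_iff]; exact ⟨k1 1 0 (by simp), k1 0 1 (by simp)⟩)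
  exact absurd ((hc.isometric_iff 0 1).2 ⟨g, hg⟩) h9

theorem OM.of_pair {m : ℕ} {D : Fin 2 → Submodule F (ι → F)} (hD : IsMDecomposition m D)
    (hT : ∀ i, IsTotallySingularQuad Q (D i)) (h : H ≤ decompositionStabilizer D) : OM Q H :=
  .pair m D (Nat.not_odd_iff_even.1 fun k => (nm_pair hQ hι k hD hT).not_le hH h) hD hT (isPlus_of_pair hQ hD hT)
    (IsMaximalIn.eq_inf hH h ((amb_O hQ hι).not_le_pair hQ.nondeg (by have := IsMDecomposition.card_eq hD; omega) hD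
      fun i => hQ.ts.2 (hT i)))

theorem OM.of_ufld {K : Subalgebra F (Matrix ι ι F)} (hK : IsFieldSubalgebra 2 K) (h1 : StCl σ₀ B K)
    (h2 : ¬ ∀ k ∈ K, adj σ₀ B k = k) (h3 : ∀ k ∈ K, ∃ c, ∀ v, Q (k *ᵥ v) = c * Q v)
    (h : H ≤ subalgebraNormalizer K) : OM Q H := by
  haveI : Nonempty ι := Fintype.card_pos_iff.1 (by omega)
  obtain ⟨m, hm⟩ := IsFieldSubalgebra.dvd_card hK
  obtain ⟨m, rfl⟩ : ∃ k, m = k + 1 := ⟨m - 1, by omega⟩
  exact .ufld K hK (hQ.polar ▸ h1.isAdjointClosedFor fun _ => rfl)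
    (hQ.polar ▸ mt (isSelfAdjointFor_iff fun _ => rfl).1 h2) h3 ⟨m, hm, hQ.isPlus_iff_even hK (fun k hk v hv => by
      obtain ⟨c, hc⟩ := h3 k hk; rw [hc, hv, mul_zero]) hm⟩
    (IsMaximalIn.eq_inf hH h ((amb_O hQ hι).not_le_fld Nat.prime_two hK))

theorem OM.of_fld {r : ℕ} {K : Subalgebra F (Matrix ι ι F)} (hr : r.Prime) (hK : IsFieldSubalgebra r K)
    (h1 : ∀ k ∈ K, adj σ₀ B k = k) (h2 : Fintype.card ι ≠ r) (h2' : Fintype.card ι ≠ 2 * r)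
    (h : H ≤ subalgebraNormalizer K) : OM Q H := by
  haveI : Nonempty ι := Fintype.card_pos_iff.1 (by omega)
  refine .fld r K hr hK (hQ.polar ▸ (isSelfAdjointFor_iff fun _ => rfl).2 h1) h2 h2' (fun he => ?_)
    (IsFieldSubalgebra.dvd_card hK) (IsMaximalIn.eq_inf hH h ((amb_O hQ hι).not_le_fld hr hK))
  have he : (2 : F) = 0 := by rwa [← two_ne_zero_iff_odd, not_not] at he
  exact IsFieldSubalgebra.two_mul_dvd hK hQ.rf (fun k hk => (h1 k hk).symm ▸ hk)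
    fun k hk => (hQ.alt he).gf_self_adj hK hk (h1 k hk)

theorem OM.of_tenS {n₁ n₂ : ℕ} {e : ι ≃ Fin n₁ × Fin n₂} {P : GL ι F} {B₁ : GL (Fin n₁) F} {B₂ : GL (Fin n₂) F}
    (h1 : n₁ ≤ n₂) (h2 : n₁ = 2 → 3 ≤ Fintype.card F) (hB₁ : Alt B₁.val) (hB₂ : Alt B₂.val)
    (hB : Pb σ₀ B.val e P (kgl B₁ B₂).val) (h0 : ∀ x y, Q (trv e P (ktv x y)) = 0)
    (h : H ≤ tensorProductSubgroup n₁ n₂ e P) : OM Q H := by
  haveI : Nonempty ι := Fintype.card_pos_iff.1 (by omega)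
  haveI : Nonempty (Fin n₁) := ⟨(e (Classical.arbitrary ι)).1⟩
  have h3 : Even n₁ := by simpa using hB₁.even
  have h4 : 2 ≤ n₁ := by
    have := Fintype.card_pos (α := Fin n₁)
    obtain ⟨k, hk⟩ := h3
    simp only [Fintype.card_fin] at this; omega
  obtain ⟨a, ha, ha'⟩ := (hasRf_symp hB₁.form).exists_not_isSc hB₁.nondeg (by simpa using h4)
  have h5 : IsTensorFormStructure id (gf σ₀ B.val) (gf σ₀ B₁.val) (gf σ₀ B₂.val) e P :=
    Pb.isTensorFormStructure (σ := σ₀) (B := B.val) (B₁ := B₁.val) (B₂ := B₂.val) (c := 1)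
      one_ne_zero (by rw [one_smul]; exact hB)
  have h6 := hQ.trv hB
  refine .tenS n₁ n₂ e P _ _ h1 (fun k => ⟨h2 k, ?_⟩) h3 (by simpa using hB₂.even) hB₁.isSymplecticForm
    hB₂.isSymplecticForm (hQ.polar ▸ h5) h0
    (IsMaximalIn.eq_inf hH h ((amb_O hQ hι).not_le_tens (by omega) ?_ ha'))
  · subst k
    rw [← isPlus_trv e P]
    refine h6.isPlus_of_index (s := {0} ×ˢ Finset.univ) (by simp) (fun p _ => by rw [single_eq_ktv, h0])
      fun ⟨a, i⟩ h ⟨b, j⟩ h' => ?_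
    simp [coe_kgl, show a = 0 by simpa [eq_comm] using h, show b = 0 by simpa [eq_comm] using h', hB₁.diag]
  · rw [hQ.isoF, trg_mem_isom fun _ => rfl]
    refine mem_isometryGroup.2 fun v => (h6.mul_of_basis (c := 1) ((mem_Iso.1
      (kgl_mem_Iso (hB₁.isoF ▸ ha) (one_mem _))).trans (one_smul _ _).symm) (fun p => ?_) v).trans (one_mul _)
    rw [single_eq_ktv, coe_kgl, kron_mulVec, h0, h0, mul_zero]

theorem OM.of_tenO {n₁ n₂ : ℕ} {e : ι ≃ Fin n₁ × Fin n₂} {P : GL ι F} {B₁ : GL (Fin n₁) F} {B₂ : GL (Fin n₂) F}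
    (ho : Odd (Fintype.card F)) (h1 : 3 ≤ n₁) (h2 : n₁ ≤ n₂) (h3 : n₁ = n₂ → Even n₁)
    (h4 : n₁ = 3 → Fintype.card F ≠ 3) (hB₁ : RF σ₀ 1 B₁) (hB₂ : RF σ₀ 1 B₂)
    (hP : Pb σ₀ B.val e P (kgl B₁ B₂).val) (h : H ≤ tensorProductSubgroup n₁ n₂ e P) : OM Q H := by
  have he := two_ne_zero_iff_odd.2 ho
  by_cases h5 : n₁ = 3 → n₂ = 4 → ¬ IsPlusTypeOn (fun v => gf σ₀ B₂.val v v) ⊤
  · obtain ⟨a, ha, ha'⟩ := hB₁.exists_not_isSc he (by simp; omega)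
    have h6 : IsTensorFormStructure id (gf σ₀ B.val) (gf σ₀ B₁.val) (gf σ₀ B₂.val) e P :=
      Pb.isTensorFormStructure (σ := σ₀) (B := B.val) (B₁ := B₁.val) (B₂ := B₂.val) (c := 1)
        one_ne_zero (by rw [one_smul]; exact hP)
    refine .tenO n₁ n₂ e P _ _ ho h1 h2 h3 (fun e => five_le_of_odd ho (h4 e)) (fun k k' => ⟨h5 k k', mt
      (isPlus_kron he hQ hP (by simp [k]; decide) (by simp [k']; decide) hB₂).1 (h5 k k')⟩) hB₁.isSymmetricForm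
      hB₂.isSymmetricForm (hQ.polar ▸ h6) (IsMaximalIn.eq_inf hH h ((amb_O hQ hι).not_le_tens (by omega) ?_ ha'))
    rw [hQ.isoF, hQ.isom_eq he, hP.mem_Iso]
    exact kgl_mem_Iso ha (one_mem _)
  push Not at h5
  obtain ⟨rfl, rfl, W, -, h5, h6⟩ := h5
  obtain ⟨Q₂, hQ₂⟩ := exists_qf_of_symm he (B := B₂.val) (by simpa using hB₂.symm)
  obtain ⟨P₂, hP₂⟩ := hQ₂.exists_pb_JJ he ⟨W, le_top, fun w hw => mul_left_cancel₀ he (by
    rw [← hQ₂.self, mul_zero]; exact h5 w hw), h6⟩ (finProdFinEquiv (m := 2) (n := 2)).symm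
  obtain ⟨e', P', -, k1, k2⟩ := exists_kron_coord e P (Equiv.refl _) 1 (finProdFinEquiv (m := 2) (n := 2)).symm P₂
  have k3 := k2 hP (C₁ := B₁.val) (Pb.refl_iff.2 (by simp [map_σ₀])) hP₂
  let f : Fin 3 × Fin 2 × Fin 2 ≃ Fin 2 × Fin 3 × Fin 2 :=
    ⟨fun p => (p.2.1, p.1, p.2.2), fun p => (p.2.1, p.1, p.2.2), fun _ => rfl, fun _ => rfl⟩
  have k4 : Pb σ₀ B.val (e'.trans f) P' ((J2 F).val ⊗ₖ (kgl B₁ (J2 F)).val) := by
    convert k3.trans f using 1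
    ext p q; simp [f, JJ, coe_kgl, mul_left_comm]
  obtain ⟨C, hC⟩ := exists_pb σ₀ (kgl B₁ (J2 F)) finProdFinEquiv 1
  obtain ⟨e'', P'', -, k5, k6⟩ := exists_kron_coord (e'.trans f) P' (Equiv.refl _) 1 finProdFinEquiv 1
  have k7 := k6 k4 (C₁ := (J2 F).val) (Pb.refl_iff.2 (by simp [map_σ₀])) hC
  refine .of_tenS hQ hι hH (n₂ := 3 * 2) (by norm_num) (fun _ => by have := five_le_of_odd ho (h4 rfl); omega) alt_J2
    (hC.alt_iff.1 (RF.alt (by simpa using hB₁.kgl_of (alt_J2 (F := F)).rf) he)) k7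
    (fun x y => mul_left_cancel₀ he (by rw [← hQ.self, k7, gf_kron, alt_J2]; simp)) fun g hg => ?_
  obtain ⟨a, b, rfl⟩ := mem_tensorProductSubgroup.1 (h hg)
  obtain ⟨a, rfl⟩ := (trg (Equiv.refl _) 1).surjective a
  obtain ⟨b, rfl⟩ := (trg (finProdFinEquiv (m := 2) (n := 2)).symm P₂).surjective b
  rw [← k1] at hg ⊢
  obtain ⟨α, β, k8, k9, k0⟩ := (kgl_mul_iff (B := B₁) (C := JJ F) (c := 1)).1
    ((mem_Iso.1 (k3.mem_Iso.1 (hQ.isom_le (omegaGL_le Q (hH.1.le hg))))).trans (one_smul _ _).symm)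
  obtain ⟨x, y, rfl | rfl⟩ := exists_kgl_of_Sim_JJ he (mem_Sim_of k9)
  · refine mem_tensorProductSubgroup.2 ⟨(trg (Equiv.refl _) 1).symm x,
      (trg finProdFinEquiv 1).symm (kgl a y), ?_⟩
    rw [k5, MulEquiv.apply_symm_apply, MulEquiv.apply_symm_apply]
    refine Units.ext ?_
    rw [coe_trg, coe_trg, trm_trans]
    congr 1; ext p q; simp [f, coe_kgl, mul_left_comm]
  exfalso
  have l1 := det_of_mem_omega (hH.1.le hg)
  have l2 := det_of_mul k8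
  have l3 : β = x.val.det * y.val.det := smul_left_injective F (gl_ne_zero (JJ F)) (by
    have : (sw (Fin 2) F).valᵀ * (JJ F).val * (sw (Fin 2) F).val = (JJ F).val := by
      ext ⟨i, j⟩ ⟨k, l⟩
      fin_cases i <;> fin_cases j <;> fin_cases k <;> fin_cases l <;>
        simp [sw, pmg_apply, mul_apply, JJ, coe_kgl, Fintype.sum_prod_type, J2]
    simp only [← k9, map_σ₀, Units.val_mul, transpose_mul]
    rw [Matrix.mul_assoc, Matrix.mul_assoc, ← Matrix.mul_assoc _ (JJ F).val, ← Matrix.mul_assoc _ (sw _ F).val, this,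
      ← Matrix.mul_assoc, JJ, coe_kgl, coe_kgl, kron_transpose, ← mul_kronecker_mul, ← mul_kronecker_mul, pb_J2, pb_J2,
      smul_kronecker, kronecker_smul, smul_smul])
  rw [det_trg, coe_kgl, det_kronecker, Units.val_mul, det_mul, det_sw_two, coe_kgl, det_kronecker] at l1
  simp only [Fintype.card_prod, Fintype.card_fin] at l1 l2
  have l4 : (α * β) ^ 6 = 1 := by rw [k0, one_pow]
  rw [l3] at l4
  exact he (by linear_combination -l1 - l4 - (a.val.det ^ 2 + α ^ 3) * (x.val.det * y.val.det) ^ 6 * l2)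

theorem oM : OM Q H := by
  have hG := hH.1.le.trans (omegaGL_le Q)
  cases oOut hQ hG hι with
  | ts W h1 h2 h =>
    refine .ts W h1 h2 (fun k k' => (nm_ts hQ hι k h2 k').not_le hH h)
      (IsMaximalIn.eq_inf hH h ((amb_O hQ hι).not_le_stab h1 ?_))
    rintro rfl
    haveI : Nonempty ι := Fintype.card_pos_iff.1 (by omega)
    exact gl_ne_zero B (gf_ext (σ := σ₀) fun u v => ((hQ.ts.2 h2).2 u trivial v trivial).trans (by simp [gf]))
  | nsv v he h1 h =>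
    have : v ≠ 0 := fun e => h1 (e ▸ hQ.zero)
    exact .nsv v he h1 (IsMaximalIn.eq_inf hH h (hQ.not_le_stab hι (by simpa) (by rw [finrank_span_singleton this]; omega)))
  | nd W h1 h2 h3 h => exact .of_nd hQ hι hH h1 h2 h3 h
  | dec m D hD h => exact .of_dec hQ hι hH hD h
  | pair m D hD h2 h => exact .of_pair hQ hι hH hD h2 h
  | fld r K hr hK h1 h2 _ hI h =>
    by_cases h3 : Fintype.card ι = 2 * r
    swap
    · exact .of_fld hQ hι hH hr hK h1 h2 h3 h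
    rcases hI.of_two hQ hG (by omega) hK h1 (nrm_iff.2 h) h3 with ⟨t, m, D, hD, h⟩ | ⟨m, D, hD, h2, h⟩ | ⟨K, hK, h4, h5⟩
    · exact .of_dec hQ hι hH hD h
    · exact .of_pair hQ hι hH hD h2 h
    by_cases h6 : ∀ k ∈ K, adj σ₀ B k = k
    · exact .of_fld hQ hι hH Nat.prime_two hK h6 (by omega) (by omega) (nrm_iff.1 h4)
    exact .of_ufld hQ hι hH hK h5 h6 (hI.mul_of_ufld hQ hG (by omega) hK h4 h5 h6) (nrm_iff.1 h4)
  | ufld K hK h1 h2 h3 h => exact .of_ufld hQ hι hH hK h1 h2 h3 h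
  | tenS n₁ n₂ e P B₁ B₂ h1 h2 hB₁ hB₂ hP h3 h => exact .of_tenS hQ hι hH h1 h2 hB₁ hB₂ hP h3 h
  | tenO n₁ n₂ e P B₁ B₂ ho h1 h2 h3 h4 hB₁ hB₂ hP h => exact .of_tenO hQ hι hH ho h1 h2 h3 h4 hB₁ hB₂ hP h
  | sub F₀ r P ζ hr hF h1 h2 h => exact .of_sub hQ hι hH hr hF h1 h2 h
  | evp k t h1 h2 h3 h4 => exact .evp k t h1 h2 h3 h4
  | wre k t e P B₀ c ho h1 h2 h3 hB₀ hc hP h =>
    have he := two_ne_zero_iff_odd.2 ho
    obtain ⟨a, ha, ha'⟩ := hB₀.exists_not_isSc he (by simp; omega)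
    have h5 : IsTensorPowerFormStructure id (gf σ₀ B.val) (gf σ₀ B₀.val) e P :=
      hP.isTensorPowerFormStructure (σ := σ₀) hc
    refine .wre k t e P _ ho h1 h2 (fun e => five_le_of_odd ho (h3 e)) hB₀.isSymmetricForm (hQ.polar ▸ h5)
      (IsMaximalIn.eq_inf hH h ((amb_O hQ hι).not_le_wre (by omega) h2 (i := ⟨0, by omega⟩) ?_ ha'))
    rw [hQ.isoF, hQ.isom_eq he, hP.mem_Iso, Iso_smul hc]
    exact update_mem_Iso ha _
  | res h => exact .res h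

end

theorem nd_even [Finite F] (hQ : QF Q B.val) (ho : Odd (Fintype.card ι)) (hι : 5 ≤ Fintype.card ι)
    {W : Submodule F (ι → F)} (h1 : W ≠ ⊥) (h2 : IsNondegenerateOn (QuadraticMap.polar Q) W)
    (h3 : 2 * finrank F W ≤ Fintype.card ι) : ∃ W' : Submodule F (ι → F), W' ≠ ⊥ ∧ Even (finrank F W') ∧
      IsNondegenerateOn (QuadraticMap.polar Q) W' ∧ (finrank F W' = 2 → W' = W) ∧
      subspaceStabilizer W ⊓ omegaGL Q = subspaceStabilizer W' ⊓ omegaGL Q := by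
  rcases (finrank F W).even_or_odd with h | h
  · exact ⟨W, h1, h, h2, fun _ => rfl, rfl⟩
  have h4 := finrank_perp (σ := σ₀) (fun _ => rfl) B W
  have h5 := (omegaGL_le Q).trans (hQ.isom_le.trans Iso_le_Sim)
  rw [hQ.polar] at h2 ⊢
  refine ⟨perp σ₀ B.val W, fun e => by rw [e, finrank_bot] at h4; omega, by grind, IsNondegenerateOn.perp hQ.rf h2,
    by omega, le_antisymm (le_inf (le_stab_perp (inf_le_right.trans h5) inf_le_left) inf_le_right)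
      (le_inf ?_ inf_le_right)⟩
  simpa only [perp_perp hQ.rf] using le_stab_perp (inf_le_right.trans h5) (W := perp σ₀ B.val W) inf_le_left

end Cfsg.Agent.Classical.Asch
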