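import Cfsg.Agent.Lib.Classical.Asch2

/-!
Idempotent decompositions, field subalgebras, Galois descent.
-/

set_option autoImplicit false

namespace Cfsg.Agent.Classical.Asch
open Matrix Cfsg.Geo Module
open scoped MatrixGroups Kronecker

variable {ι : Type} [Fintype ι] [DecidableEq ι] {F : Type*} [Field F]

/-- column space -/
def rng (x : Matrix ι ι F) : Submodule F (ι → F) := LinearMap.range (Matrix.toLin' x)

theorem mem_rng {x : Matrix ι ι F} {v : ι → F} : v ∈ rng x ↔ ∃ u, x *ᵥ u = v := Iff.rfl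

theorem mulVec_mem_rng (x : Matrix ι ι F) (u : ι → F) : x *ᵥ u ∈ rng x := ⟨u, rfl⟩

theorem mem_rng_idem {x : Matrix ι ι F} (hx : x * x = x) {v : ι → F} : v ∈ rng x ↔ x *ᵥ v = v :=
  ⟨by rintro ⟨u, rfl⟩; rw [toLin'_apply, mulVec_mulVec, hx], fun h => ⟨v, h⟩⟩

theorem rng_eq_bot {x : Matrix ι ι F} : rng x = ⊥ ↔ x = 0 := by
  rw [rng, LinearMap.range_eq_bot, LinearEquiv.map_eq_zero_iff]

theorem map_rng (g : GL ι F) (x : Matrix ι ι F) :
    (rng x).map (Matrix.toLin' (g : Matrix ι ι F)) = rng (cjm g x) := by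
  apply le_antisymm
  · rintro _ ⟨_, ⟨u, rfl⟩, rfl⟩
    exact ⟨(g : Matrix ι ι F) *ᵥ u, cjm_mulVec g x u⟩
  · rintro _ ⟨u, rfl⟩
    refine ⟨_, ⟨((g⁻¹ : GL ι F) : Matrix ι ι F) *ᵥ u, rfl⟩, ?_⟩
    simp only [toLin'_apply]
    rw [← cjm_mulVec, mulVec_inv_mulVec]

theorem finrank_map_gl (g : GL ι F) (W : Submodule F (ι → F)) :
    finrank F (W.map (Matrix.toLin' (g : Matrix ι ι F))) = finrank F W := by
  rw [← glEquiv_toLinearMap]; exact LinearEquiv.finrank_map_eq _ _

theorem eq_one_of_rng {x : Matrix ι ι F} (hx : x * x = x) (h : rng x = ⊤) : x = 1 :=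
  matrix_ext_mulVec fun v => by rw [(mem_rng_idem hx).1 (h ▸ Submodule.mem_top), one_mulVec]

/-- A complete system of orthogonal idempotents permuted transitively by `G`. -/
structure IdemDec (G : Subgroup (GL ι F)) {t : ℕ} (E : Fin t → Matrix ι ι F) : Prop where
  two_le : 2 ≤ t
  idem : ∀ i, E i * E i = E i
  orth : ∀ i j, i ≠ j → E i * E j = 0
  sum : ∑ i, E i = 1
  ne : ∀ i, E i ≠ 0
  perm : ∀ g ∈ G, ∃ π : Equiv.Perm (Fin t), ∀ i, cjm g (E i) = E (π i)
  trans : ∀ i j, ∃ g ∈ G, cjm g (E i) = E j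

theorem Irr.exists_idemDec [Finite F] {G : Subgroup (GL ι F)} (hG : Irr G) {S : Set (Matrix ι ι F)}
    (hidem : ∀ e ∈ S, e * e = e) (hmul : ∀ e ∈ S, ∀ f ∈ S, e * f ∈ S)
    (hcomm : ∀ e ∈ S, ∀ f ∈ S, e * f = f * e) (hS : ∀ g ∈ G, ∀ e ∈ S, cjm g e ∈ S)
    {e₀ : Matrix ι ι F} (h0 : e₀ ∈ S) (h1 : e₀ ≠ 0) (h2 : e₀ ≠ 1) :
    ∃ (t : ℕ) (E : Fin t → Matrix ι ι F), IdemDec G E ∧ (∀ i, E i ∈ S) ∧
      ∀ i, ∀ f ∈ S, E i * f = 0 ∨ E i * f = E i := by
  obtain ⟨e, ⟨heS, he0⟩, hmin⟩ := Set.exists_min_image {e | e ∈ S ∧ e ≠ 0}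
    (fun e => finrank F (rng e)) (Set.toFinite _) ⟨e₀, h0, h1⟩
  have hP : ∀ f ∈ S, e * f = 0 ∨ e * f = e := by
    intro f hf
    by_cases h : e * f = 0
    · exact Or.inl h
    right
    have hle : rng (e * f) ≤ rng e := by
      rintro _ ⟨u, rfl⟩
      exact ⟨f *ᵥ u, by simp [mulVec_mulVec]⟩
    have heq := Submodule.eq_of_le_of_finrank_le hle (hmin _ ⟨hmul e heS f hf, h⟩)
    apply matrix_ext_mulVec
    intro v
    have h3 : e *ᵥ v ∈ rng (e * f) := heq ▸ mulVec_mem_rng e v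
    rw [mem_rng_idem (hidem _ (hmul e heS f hf)), mulVec_mulVec, Matrix.mul_assoc, hcomm f hf e heS,
      ← Matrix.mul_assoc, hidem e heS] at h3
    exact h3
  let O : Set (Matrix ι ι F) := {a | ∃ g ∈ G, cjm g e = a}
  have hOS : ∀ a ∈ O, a ∈ S := by rintro _ ⟨g, hg, rfl⟩; exact hS g hg e heS
  have hOP : ∀ a ∈ O, ∀ f ∈ S, a * f = 0 ∨ a * f = a := by
    rintro _ ⟨g, hg, rfl⟩ f hf
    rcases hP _ (hS _ (G.inv_mem hg) f hf) with h | h
    · left; rw [← cjm_cjm_inv g f, ← map_mul, h, map_zero]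
    · right; rw [← cjm_cjm_inv g f, ← map_mul, h]
  have hO0 : ∀ a ∈ O, a ≠ 0 := by
    rintro _ ⟨g, hg, rfl⟩ h
    exact he0 ((map_eq_zero_iff _ (cjm g).injective).1 h)
  have hOc : ∀ g ∈ G, ∀ a ∈ O, cjm g a ∈ O := by
    rintro g hg _ ⟨h, hh, rfl⟩
    exact ⟨g * h, G.mul_mem hg hh, cjm_mul _ _ _⟩
  have heO : e ∈ O := ⟨1, G.one_mem, cjm_one _⟩
  let eq := Finite.equivFin O
  let E : Fin (Nat.card O) → Matrix ι ι F := fun i => (eq.symm i).1
  have hE : ∀ i, E i ∈ O := fun i => (eq.symm i).2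
  have hEi : Function.Injective E := Subtype.val_injective.comp eq.symm.injective
  have hEs : ∀ a ∈ O, ∃ i, E i = a := fun a ha =>
    ⟨eq ⟨a, ha⟩, congrArg Subtype.val (eq.symm_apply_apply ⟨a, ha⟩)⟩
  have horth : ∀ i j, i ≠ j → E i * E j = 0 := by
    intro i j hij
    rcases hOP _ (hE i) _ (hOS _ (hE j)) with h | h
    · exact h
    rcases hOP _ (hE j) _ (hOS _ (hE i)) with h' | h'
    · rw [hcomm _ (hOS _ (hE i)) _ (hOS _ (hE j)), h']
    · exact absurd (hEi (h.symm.trans ((hcomm _ (hOS _ (hE i)) _ (hOS _ (hE j))).trans h'))) hij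
  have hperm : ∀ g ∈ G, ∃ π : Equiv.Perm (Fin (Nat.card O)), ∀ i, cjm g (E i) = E (π i) := by
    intro g hg
    choose f hf using fun i => hEs _ (hOc g hg _ (hE i))
    have hinj : Function.Injective f := fun i j hij =>
      hEi ((cjm g).injective (by rw [← hf, ← hf, hij]))
    exact ⟨Equiv.ofBijective f (Finite.injective_iff_bijective.1 hinj), fun i => (hf i).symm⟩
  have hsE : ∀ i, (∑ j, E j) * E i = E i := by
    intro i
    rw [Finset.sum_mul, Finset.sum_eq_single i (fun j _ hj => horth j i hj)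
      (fun h => absurd (Finset.mem_univ i) h)]
    exact hidem _ (hOS _ (hE i))
  have hsum : ∑ i, E i = 1 := by
    apply eq_one_of_rng
    · conv_lhs => rw [Finset.mul_sum]
      exact Finset.sum_congr rfl fun i _ => hsE i
    · refine (hG _ ?_).resolve_left ?_
      · rintro g hg _ ⟨u, rfl⟩
        obtain ⟨π, hπ⟩ := hperm g hg
        refine ⟨(g : Matrix ι ι F) *ᵥ u, ?_⟩
        rw [toLin'_apply, toLin'_apply, ← cjm_mulVec, map_sum]
        simp only [hπ]
        rw [Equiv.sum_comp π E]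
      · rw [rng_eq_bot]
        intro h
        obtain ⟨i, hi⟩ := hEs e heO
        have := hsE i
        rw [h, Matrix.zero_mul, hi] at this
        exact he0 this.symm
  refine ⟨_, E, ⟨?_, fun i => hidem _ (hOS _ (hE i)), horth, hsum, fun i => hO0 _ (hE i), hperm, ?_⟩,
    fun i => hOS _ (hE i), fun i => hOP _ (hE i)⟩
  · by_contra hlt
    obtain ⟨i, hi⟩ := hEs e heO
    have : ∀ j, j = i := fun j => Fin.ext (by have := i.2; have := j.2; omega)
    rw [Finset.sum_eq_single i (fun j _ hj => absurd (this j) hj)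
      (fun h => absurd (Finset.mem_univ i) h), hi] at hsum
    rcases hP e₀ h0 with h | h
    · rw [hsum, Matrix.one_mul] at h; exact h1 h
    · rw [hsum, Matrix.one_mul] at h; exact h2 h
  · intro i j
    obtain ⟨g, hg, hi⟩ := hE i
    obtain ⟨h, hh, hj⟩ := hE j
    exact ⟨h * g⁻¹, G.mul_mem hh (G.inv_mem hg), by rw [cjm_mul, ← hi, cjm_inv_cjm, hj]⟩

theorem isMDecomposition_of_idem {t : ℕ} {E : Fin t → Matrix ι ι F} (ht : 2 ≤ t)
    (hidem : ∀ i, E i * E i = E i) (horth : ∀ i j, i ≠ j → E i * E j = 0) (hsum : ∑ i, E i = 1)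
    {m : ℕ} (hm : 0 < m) (hr : ∀ i, finrank F (rng (E i)) = m) :
    IsMDecomposition m (fun i => rng (E i)) := by
  refine ⟨ht, hm, hr, ?_, ?_⟩
  · intro i
    rw [Submodule.disjoint_def]
    intro v hv hv'
    have : (⨆ j, ⨆ (_ : j ≠ i), rng (E j)) ≤ LinearMap.ker (Matrix.toLin' (E i)) := by
      refine iSup₂_le fun j hj => ?_
      rintro _ ⟨u, rfl⟩
      simp [mulVec_mulVec, horth i j (Ne.symm hj)]
    rw [← (mem_rng_idem (hidem i)).1 hv]
    exact this hv'
  · rw [eq_top_iff]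
    intro v _
    rw [← one_mulVec v, ← hsum, sum_mulVec]
    exact Submodule.sum_mem _ fun i _ => Submodule.mem_iSup_of_mem i (mulVec_mem_rng _ _)

theorem IdemDec.finrank_eq {G : Subgroup (GL ι F)} {t : ℕ} {E : Fin t → Matrix ι ι F}
    (h : IdemDec G E) (i j : Fin t) : finrank F (rng (E i)) = finrank F (rng (E j)) := by
  obtain ⟨g, _, hg⟩ := h.trans i j
  rw [← hg, ← map_rng, finrank_map_gl]

theorem IdemDec.isMDecomposition {G : Subgroup (GL ι F)} {t : ℕ} {E : Fin t → Matrix ι ι F}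
    (h : IdemDec G E) : ∃ m, IsMDecomposition m (fun i => rng (E i)) := by
  have h2 := h.two_le
  let i₀ : Fin t := ⟨0, by omega⟩
  refine ⟨finrank F (rng (E i₀)), isMDecomposition_of_idem h2 h.idem h.orth h.sum ?_
    fun i => h.finrank_eq _ _⟩
  rw [Nat.pos_iff_ne_zero, Ne, Submodule.finrank_eq_zero, rng_eq_bot]
  exact h.ne _

theorem IdemDec.le {G : Subgroup (GL ι F)} {t : ℕ} {E : Fin t → Matrix ι ι F}
    (h : IdemDec G E) : G ≤ decompositionStabilizer (fun i => rng (E i)) := by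
  intro g hg
  obtain ⟨π, hπ⟩ := h.perm g hg
  exact ⟨π, fun i => by rw [map_rng, hπ]⟩

theorem IsMDecomposition.card_eq {t m : ℕ} {D : Fin t → Submodule F (ι → F)}
    (h : IsMDecomposition m D) : Fintype.card ι = t * m := by
  have h1 := (DirectSum.isInternal_submodule_of_iSupIndep_of_iSup_eq_top h.indep h.iSup_eq_top)
  have h2 := (LinearEquiv.ofBijective (DirectSum.coeLinearMap D) h1).finrank_eq
  rw [Module.finrank_directSum] at h2
  simp only [h.finrank_eq, Finset.sum_const, Finset.card_univ, Fintype.card_fin, smul_eq_mul,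
    finrank_fintype_fun_eq_card] at h2
  exact h2.symm

theorem Irr.isField {G : Subgroup (GL ι F)} (hG : Irr G) {C : Subalgebra F (Matrix ι ι F)}
    (hC : Nrm G C) (hcomm : ∀ x ∈ C, ∀ y ∈ C, x * y = y * x)
    (hid : ∀ e ∈ C, e * e = e → e = 0 ∨ e = 1) : IsFieldSubalgebra (finrank F C) C := by
  refine ⟨hcomm, fun x hx hx0 => ?_, rfl⟩
  haveI := hG.semisimple hC
  obtain ⟨e, he, hI⟩ := IsSemisimpleRing.ideal_eq_span_idempotent (Ideal.span {(⟨x, hx⟩ : C)})
  rcases hid e e.2 (congrArg Subtype.val he) with h | h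
  · have : (⟨x, hx⟩ : C) ∈ Ideal.span {e} := hI ▸ Ideal.mem_span_singleton_self _
    obtain ⟨a, ha⟩ := Ideal.mem_span_singleton'.1 this
    have := congrArg Subtype.val ha
    simp only [MulMemClass.coe_mul, h, Matrix.mul_zero] at this
    exact absurd this.symm hx0
  · have : e ∈ Ideal.span {(⟨x, hx⟩ : C)} := hI ▸ Ideal.mem_span_singleton_self _
    obtain ⟨a, ha⟩ := Ideal.mem_span_singleton'.1 this
    have := congrArg Subtype.val ha
    simp only [MulMemClass.coe_mul, h] at this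
    exact ⟨a, a.2, by rw [hcomm x hx a a.2, this]⟩

/-! ### Finite fields -/

section FF
variable {L : Type*} [Field L] [Finite L] {Q s : ℕ}

theorem two_le_of_card_pow (h : Nat.card L = Q ^ s) : 2 ≤ Q ∧ 0 < s := by
  have h1 : 1 < Nat.card L := Finite.one_lt_card
  rw [h] at h1
  have hs : s ≠ 0 := by rintro rfl; simp at h1
  exact ⟨(Nat.one_lt_pow_iff hs).1 h1, Nat.pos_of_ne_zero hs⟩

theorem add_pow_of_card_pow (h : Nat.card L = Q ^ s) (x y : L) : (x + y) ^ Q = x ^ Q + y ^ Q := by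
  haveI := Fintype.ofFinite L
  obtain ⟨p, hp⟩ := CharP.exists L
  obtain ⟨n, hpp, hn⟩ := FiniteField.card L p
  haveI := Fact.mk hpp
  have : Q ∣ p ^ (n : ℕ) := by
    rw [← hn, ← Nat.card_eq_fintype_card, h]
    exact dvd_pow_self Q (two_le_of_card_pow h).2.ne'
  obtain ⟨j, -, rfl⟩ := (Nat.dvd_prime_pow hpp).1 this
  exact add_pow_char_pow x y p j

/-- the Frobenius map over the subfield of order `Q` -/
def frob (h : Nat.card L = Q ^ s) : L →+* L where
  toFun x := x ^ Q
  map_one' := one_pow Q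
  map_mul' x y := mul_pow x y Q
  map_zero' := zero_pow (by have := (two_le_of_card_pow h).1; omega)
  map_add' := add_pow_of_card_pow h

@[simp] theorem frob_apply (h : Nat.card L = Q ^ s) (x : L) : frob h x = x ^ Q := rfl

theorem pow_natCard (x : L) : x ^ Nat.card L = x := by
  haveI := Fintype.ofFinite L
  rw [Nat.card_eq_fintype_card, FiniteField.pow_card]

theorem card_pow_eq_self (h : Nat.card L = Q ^ s) : Nat.card {x : L // x ^ Q = x} = Q := by
  obtain ⟨hQ, hs⟩ := two_le_of_card_pow h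
  have h1 : Nat.card (powMonoidHom (Q - 1) : Lˣ →* Lˣ).ker = Q - 1 := by
    rw [IsCyclic.card_powMonoidHom_ker, Nat.card_units, h, Nat.gcd_eq_right]
    exact Nat.sub_one_dvd_pow_sub_one Q s
  have hQ' : Q = Q - 1 + 1 := by omega
  let e : {x : L // x ^ Q = x} ≃ Option (powMonoidHom (Q - 1) : Lˣ →* Lˣ).ker := by
    classical
    have hu : ∀ u : (powMonoidHom (Q - 1) : Lˣ →* Lˣ).ker, (u.1.1 : L) ^ Q = u.1.1 := by
      intro u
      have := congrArg Units.val (MonoidHom.mem_ker.1 u.2)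
      rw [powMonoidHom_apply, Units.val_pow_eq_pow_val, Units.val_one] at this
      calc (u.1.1 : L) ^ Q = (u.1.1 : L) ^ (Q - 1 + 1) := by rw [← hQ']
        _ = u.1.1 := by rw [pow_succ, this, one_mul]
    refine (Equiv.ofBijective (fun o : Option (powMonoidHom (Q - 1) : Lˣ →* Lˣ).ker =>
      (o.elim ⟨0, zero_pow (by omega)⟩ fun u => ⟨u.1.1, hu u⟩ : {x : L // x ^ Q = x})) ⟨?_, ?_⟩).symm
    · rintro (_ | u) (_ | v) huv
      · rfl
      · exact absurd (congrArg Subtype.val huv).symm v.1.ne_zero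
      · exact absurd (congrArg Subtype.val huv) u.1.ne_zero
      · exact congrArg some (Subtype.ext (Units.ext (congrArg Subtype.val huv)))
    · rintro ⟨x, hx⟩
      by_cases h0 : x = 0
      · exact ⟨none, Subtype.ext h0.symm⟩
      · refine ⟨some ⟨Units.mk0 x h0, MonoidHom.mem_ker.2 (Units.ext ?_)⟩, rfl⟩
        rw [powMonoidHom_apply, Units.val_pow_eq_pow_val, Units.val_one, Units.val_mk0]
        exact mul_right_cancel₀ h0 (by rw [← pow_succ, ← hQ', hx, one_mul])
  rw [Nat.card_congr e, Finite.card_option, h1]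
  omega

/-- the subfield of order `Q` -/
def fixSub (h : Nat.card L = Q ^ s) : Subfield L := (frob h).eqLocusField (RingHom.id L)

theorem mem_fixSub (h : Nat.card L = Q ^ s) {x : L} : x ∈ fixSub h ↔ x ^ Q = x := Iff.rfl

theorem card_fixSub (h : Nat.card L = Q ^ s) : Nat.card (fixSub h) = Q := card_pow_eq_self h

theorem pow_card_of_mem {F₀ : Subfield L} {x : L} (hx : x ∈ F₀) : x ^ Nat.card F₀ = x :=
  congrArg Subtype.val (pow_natCard (⟨x, hx⟩ : F₀))

theorem mem_iff_pow_card {F₀ : Subfield L} (h : Nat.card L = Nat.card F₀ ^ s) {x : L} :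
    x ∈ F₀ ↔ x ^ Nat.card F₀ = x := by
  have hle : F₀ ≤ fixSub h := fun x hx => pow_card_of_mem hx
  have : F₀ = fixSub h := by
    apply SetLike.coe_injective
    apply Set.eq_of_subset_of_ncard_le hle
    rw [← Nat.card_coe_set_eq, ← Nat.card_coe_set_eq]
    exact (card_fixSub h).le
  conv_lhs => rw [this]
  rfl

theorem pow_pow_of_pow_eq {A : Type*} [Monoid A] {x : A} {Q : ℕ} (h : x ^ Q = x) (k : ℕ) :
    x ^ Q ^ k = x := by
  induction k with
  | zero => simp
  | succ k ih => rw [pow_succ, pow_mul, ih, h]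

theorem card_eq_pow_subfield (F₀ : Subfield L) : Nat.card L = Nat.card F₀ ^ finrank F₀ L :=
  Module.natCard_eq_pow_finrank

theorem exists_prime_subfield {F₀ : Subfield L} (h : F₀ ≠ ⊤) :
    ∃ (F₁ : Subfield L) (r : ℕ), r.Prime ∧ r ∣ finrank F₀ L ∧ Nat.card L = Nat.card F₁ ^ r ∧ F₀ ≤ F₁ := by
  have h1 := card_eq_pow_subfield F₀
  have hd : finrank F₀ L ≠ 1 := by
    intro hd
    rw [hd] at h1
    apply h
    rw [eq_top_iff]
    intro x _
    rw [mem_iff_pow_card h1, ← pow_one (Nat.card F₀), ← h1, pow_natCard]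
  obtain ⟨r, hr, k, hk⟩ := Nat.exists_prime_and_dvd hd
  have h2 : Nat.card L = (Nat.card F₀ ^ k) ^ r := by rw [h1, hk, ← pow_mul, mul_comm]
  exact ⟨fixSub h2, r, hr, ⟨k, hk⟩, by rw [card_fixSub, h2],
    fun x hx => pow_pow_of_pow_eq (pow_card_of_mem hx) k⟩

theorem exists_norm (h : Nat.card L = Q ^ s) {μ : L} (h0 : μ ≠ 0) (hμ : μ ^ Q = μ) :
    ∃ c : L, c ≠ 0 ∧ c ^ (∑ j ∈ Finset.range s, Q ^ j) = μ := by
  obtain ⟨hQ, hs⟩ := two_le_of_card_pow h
  obtain ⟨g, hg⟩ := IsCyclic.exists_monoid_generator (α := Lˣ)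
  obtain ⟨k, hk⟩ := hg (Units.mk0 μ h0)
  have ho : orderOf g = Q ^ s - 1 := by
    rw [orderOf_eq_card_of_forall_mem_powers hg, Nat.card_units, h]
  have h1 : (Units.mk0 μ h0) ^ (Q - 1) = 1 := by
    apply Units.ext
    rw [Units.val_pow_eq_pow_val, Units.val_one, Units.val_mk0]
    have hQ' : Q = Q - 1 + 1 := by omega
    exact mul_right_cancel₀ h0 (by rw [← pow_succ, ← hQ', hμ, one_mul])
  simp only at hk
  rw [← hk, ← pow_mul, ← orderOf_dvd_iff_pow_eq_one, ho,
    ← geom_sum_mul_of_one_le (show 1 ≤ Q by omega) s] at h1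
  obtain ⟨l, rfl⟩ := Nat.dvd_of_mul_dvd_mul_right (by omega) h1
  refine ⟨(g ^ l : Lˣ), Units.ne_zero _, ?_⟩
  rw [← Units.val_pow_eq_pow_val, ← pow_mul, mul_comm, hk, Units.val_mk0]

end FF


/-- A subfield of prime degree of a field subalgebra. -/
theorem exists_subfield_alg [Finite F] [Nonempty ι] {d r : ℕ} {C : Subalgebra F (Matrix ι ι F)}
    (hC : IsFieldSubalgebra d C) (hr : r ∣ d) :
    ∃ K : Subalgebra F (Matrix ι ι F), IsFieldSubalgebra r K ∧
      ∀ x, x ∈ K ↔ x ∈ C ∧ x ^ (Nat.card F ^ r) = x := by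
  have hf : IsField C :=
    { exists_pair_ne := ⟨0, 1, zero_ne_one⟩
      mul_comm := fun a b => Subtype.ext (hC.comm _ a.2 _ b.2)
      mul_inv_cancel := fun {a} ha => by
        obtain ⟨y, hy, e⟩ := hC.inv a a.2 (fun h => ha (Subtype.ext h))
        exact ⟨⟨y, hy⟩, Subtype.ext e⟩ }
  letI := hf.toField
  obtain ⟨k, hk⟩ := hr
  have hc : Nat.card C = (Nat.card F ^ r) ^ k := by
    rw [Module.natCard_eq_pow_finrank (K := F), hC.finrank_eq, hk, pow_mul]
  let K : Subalgebra F (Matrix ι ι F) :=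
    { carrier := {x | x ∈ C ∧ x ^ (Nat.card F ^ r) = x}
      mul_mem' := fun {a b} ha hb => ⟨C.mul_mem ha.1 hb.1, by
        rw [Commute.mul_pow (hC.comm _ ha.1 _ hb.1), ha.2, hb.2]⟩
      add_mem' := fun {a b} ha hb => ⟨C.add_mem ha.1 hb.1, by
        have := congrArg Subtype.val (add_pow_of_card_pow hc (⟨a, ha.1⟩ : C) ⟨b, hb.1⟩)
        simp only [SubmonoidClass.coe_pow, AddMemClass.coe_add] at this
        rw [this, ha.2, hb.2]⟩
      algebraMap_mem' := fun c => ⟨C.algebraMap_mem c, by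
        rw [← map_pow, pow_pow_of_pow_eq (pow_natCard c)]⟩ }
  refine ⟨K, ⟨fun x hx y hy => hC.comm x hx.1 y hy.1, fun x hx hx0 => ?_, ?_⟩, fun x => Iff.rfl⟩
  · obtain ⟨y, hy, e⟩ := hC.inv x hx.1 hx0
    refine ⟨y, ⟨hy, ?_⟩, e⟩
    have h1 : x * y ^ (Nat.card F ^ r) = 1 := by
      conv_lhs => rw [← hx.2]
      rw [← Commute.mul_pow (hC.comm _ hx.1 _ hy), e, one_pow]
    calc y ^ (Nat.card F ^ r) = (y * x) * y ^ (Nat.card F ^ r) := by
          rw [← hC.comm _ hx.1 _ hy, e, Matrix.one_mul]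
      _ = y := by rw [Matrix.mul_assoc, h1, Matrix.mul_one]
  · have h1 : Nat.card K = Nat.card F ^ r := by
      rw [← card_pow_eq_self hc]
      exact Nat.card_congr
        { toFun := fun x => ⟨⟨x.1, x.2.1⟩, Subtype.ext x.2.2⟩
          invFun := fun x => ⟨x.1.1, x.1.2, congrArg Subtype.val x.2⟩
          left_inv := fun _ => rfl
          right_inv := fun _ => rfl }
    rw [Module.natCard_eq_pow_finrank (K := F)] at h1
    exact Nat.pow_right_injective Finite.one_lt_card h1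

theorem IsFieldSubalgebra.pow_card [Finite F] [Nonempty ι] {d : ℕ} {C : Subalgebra F (Matrix ι ι F)}
    (hC : IsFieldSubalgebra d C) {x : Matrix ι ι F} (hx : x ∈ C) : x ^ (Nat.card F ^ d) = x := by
  obtain ⟨K, hK, h⟩ := exists_subfield_alg hC dvd_rfl
  have : K = C := Subalgebra.eq_of_le_of_finrank_eq (fun x hx => ((h x).1 hx).1)
    (hK.finrank_eq.trans hC.finrank_eq.symm)
  exact ((h x).1 (this ▸ hx)).2

theorem IsFieldSubalgebra.dvd_card [Finite F] {d : ℕ} {C : Subalgebra F (Matrix ι ι F)} [Nonempty ι]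
    (hC : IsFieldSubalgebra d C) : d ∣ Fintype.card ι := by
  have hf : IsField C :=
    { exists_pair_ne := ⟨0, 1, zero_ne_one⟩
      mul_comm := fun a b => Subtype.ext (hC.comm _ a.2 _ b.2)
      mul_inv_cancel := fun {a} ha => by
        obtain ⟨y, hy, e⟩ := hC.inv a a.2 (fun h => ha (Subtype.ext h))
        exact ⟨⟨y, hy⟩, Subtype.ext e⟩ }
  letI := hf.toField
  letI : Module C (ι → F) := Module.compHom (ι → F)
    ((Matrix.toLinAlgEquiv' (R := F) (n := ι)).toRingEquiv.toRingHom.comp C.val.toRingHom)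
  have h1 := Module.natCard_eq_pow_finrank (K := C) (V := ι → F)
  rw [Module.natCard_eq_pow_finrank (K := F) (V := C), hC.finrank_eq, ← pow_mul,
    Module.natCard_eq_pow_finrank (K := F) (V := ι → F), finrank_fintype_fun_eq_card] at h1
  exact ⟨_, Nat.pow_right_injective Finite.one_lt_card h1⟩

/-! ### Galois descent -/

section Descent
variable [Finite F] {Q s : ℕ}

theorem map_mulVec' (σ : F →+* F) (x : Matrix ι ι F) (v : ι → F) :
    σ ∘ (x *ᵥ v) = x.map σ *ᵥ (σ ∘ v) := by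
  ext i; exact RingHom.map_mulVec σ x v i

/-- Hilbert 90 for `GL`. -/
theorem hilbert90 (h : Nat.card F = Q ^ s) (T : GL ι F) (μ : F)
    (hT : ∀ v, (fun v => (T : Matrix ι ι F) *ᵥ (frob h ∘ v))^[s] v = μ • v) :
    ∃ (P : GL ι F) (c : F), c ≠ 0 ∧ (T : Matrix ι ι F) * (P : Matrix ι ι F).map (frob h) = c • P.val := by
  obtain ⟨hQ, hs⟩ := two_le_of_card_pow h
  cases isEmpty_or_nonempty ι
  · exact ⟨1, 1, one_ne_zero, Subsingleton.elim _ _⟩
  set φ : (ι → F) → (ι → F) := fun v => (T : Matrix ι ι F) *ᵥ (frob h ∘ v) with hφ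
  have φsmul : ∀ (a : F) v, φ (a • v) = a ^ Q • φ v := by
    intro a v
    simp only [hφ]
    rw [← mulVec_smul]; congr 1; ext i; simp [mul_pow]
  have φadd : ∀ u v, φ (u + v) = φ u + φ v := by
    intro u v
    simp only [hφ]
    rw [← mulVec_add]; congr 1; ext i; exact map_add (frob h) _ _
  have φinj : Function.Injective φ := by
    intro u v huv
    have : frob h ∘ u = frob h ∘ v := (glEquiv T).injective huv
    ext i; exact (frob h).injective (congrFun this i)
  have φ0 : φ 0 = 0 := by simpa [zero_pow (show Q ≠ 0 by omega)] using φsmul 0 0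
  obtain ⟨v₀, hv₀⟩ := exists_ne (0 : ι → F)
  have hμ0 : μ ≠ 0 := by
    rintro rfl
    apply hv₀
    apply φinj.iterate s
    rw [hT, hT, zero_smul, zero_smul]
  have hμ : μ ^ Q = μ := by
    have h1 : φ (φ^[s] v₀) = φ^[s] (φ v₀) := by
      rw [← Function.iterate_succ_apply' φ, Function.iterate_succ_apply]
    rw [hT, hT, φsmul] at h1
    exact smul_left_injective F (fun e => hv₀ (φinj (e.trans φ0.symm))) h1
  obtain ⟨c, hc0, hc⟩ := exists_norm h hμ0 hμ
  let ψ : (ι → F) → (ι → F) := fun v => c⁻¹ • φ v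
  have ψsmul : ∀ (a : F) v, ψ (a • v) = a ^ Q • ψ v := by
    intro a v; simp only [ψ, φsmul, smul_comm c⁻¹]
  have ψadd : ∀ u v, ψ (u + v) = ψ u + ψ v := by
    intro u v; simp only [ψ, φadd, smul_add]
  have ψit : ∀ j v, ψ^[j] v = c⁻¹ ^ (∑ i ∈ Finset.range j, Q ^ i) • φ^[j] v := by
    intro j v
    induction j with
    | zero => simp
    | succ j ih =>
      rw [Function.iterate_succ_apply', Function.iterate_succ_apply', ih, ψsmul]
      simp only [ψ]
      rw [smul_smul, ← pow_mul, ← pow_succ, Finset.sum_range_succ', Finset.sum_mul]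
      simp only [pow_succ, pow_zero]
  have ψs : ∀ v, ψ^[s] v = v := by
    intro v
    rw [ψit, hT, smul_smul, inv_pow, hc, inv_mul_cancel₀ hμ0, one_smul]
  have ψits : ∀ j (a : F) v, ψ^[j] (a • v) = a ^ Q ^ j • ψ^[j] v := by
    intro j a v
    induction j with
    | zero => simp
    | succ j ih =>
      rw [Function.iterate_succ_apply', Function.iterate_succ_apply', ih, ψsmul, ← pow_mul, ← pow_succ]
  let ψ' : (ι → F) →+ (ι → F) := AddMonoidHom.mk' ψ ψadd
  have hspan : ⊤ ≤ Submodule.span F {v | ψ v = v} := by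
    by_contra hn
    obtain ⟨f, hf0, hf⟩ := Submodule.exists_le_ker_of_lt_top _ (lt_top_iff_ne_top.2 (fun e => hn e.ge))
    apply hf0
    apply LinearMap.ext
    intro v
    have key : ∀ a : F, ∑ j ∈ Finset.range s, a ^ Q ^ j * f (ψ^[j] v) = 0 := by
      intro a
      have h1 : ψ (∑ j ∈ Finset.range s, ψ^[j] (a • v)) = ∑ j ∈ Finset.range s, ψ^[j] (a • v) := by
        change ψ' _ = _
        rw [map_sum]
        have e1 := Finset.sum_range_succ (fun j => ψ^[j] (a • v)) s
        have e2 := Finset.sum_range_succ' (fun j => ψ^[j] (a • v)) s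
        rw [e1, ψs] at e2
        simp only [Function.iterate_zero, id] at e2
        rw [add_right_cancel e2]
        exact Finset.sum_congr rfl fun j _ => (Function.iterate_succ_apply' ψ j _).symm
      have h2 := hf (Submodule.subset_span h1)
      rw [LinearMap.mem_ker, map_sum] at h2
      simpa only [ψits, map_smul, smul_eq_mul] using h2
    haveI := Fintype.ofFinite F
    have hp := Polynomial.eq_zero_of_natDegree_lt_card_of_eval_eq_zero
      (∑ j ∈ Finset.range s, Polynomial.monomial (Q ^ j) (f (ψ^[j] v))) (f := id)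
      Function.injective_id (fun a => by
        rw [Polynomial.eval_finsetSum, ← key a]
        simp [mul_comm]) (by
        rw [← Nat.card_eq_fintype_card, h]
        refine lt_of_le_of_lt (Polynomial.natDegree_sum_le_of_forall_le _ _ (n := Q ^ (s - 1)) ?_) ?_
        · intro j hj
          refine (Polynomial.natDegree_monomial_le _).trans (Nat.pow_le_pow_right (by omega) ?_)
          have := Finset.mem_range.1 hj; omega
        · exact Nat.pow_lt_pow_right (by omega) (by omega))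
    have h3 := congrArg (fun p => p.coeff 1) hp
    simp only [Polynomial.finsetSum_coeff, Polynomial.coeff_monomial, Polynomial.coeff_zero] at h3
    rw [Finset.sum_eq_single 0 (fun j _ hj => if_neg (Nat.one_lt_pow hj (by omega)).ne')
      (fun h => absurd (Finset.mem_range.2 hs) h)] at h3
    simpa using h3
  classical
  let b := Basis.ofSpan hspan
  haveI := Fintype.ofFinite ((linearIndepOn_empty F id).extend (Set.empty_subset {v | ψ v = v}))
  let b' := b.reindex (Fintype.equivFin _)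
  obtain ⟨e, P, hP⟩ := exists_trv b'.equivFun.symm
  refine ⟨P, c, hc0, ?_⟩
  have hcol : ∀ i, ψ ((P : Matrix ι ι F) *ᵥ Pi.single i 1) = (P : Matrix ι ι F) *ᵥ Pi.single i 1 := by
    intro i
    have h1 : (P : Matrix ι ι F) *ᵥ Pi.single i 1 = trv e P (Pi.single (e i) 1) := by
      rw [trv_apply]; congr 1; ext j; simp [Pi.single_apply]
    rw [h1, hP, Basis.equivFun_symm_single]
    exact Basis.ofSpan_subset hspan ⟨_, (Basis.reindex_apply _ _ _).symm⟩
  ext j i
  have h1 := congrFun (hcol i) j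
  simp only [ψ, hφ, map_mulVec', mulVec_mulVec] at h1
  have h2 : frob h ∘ (Pi.single i (1 : F) : ι → F) = Pi.single i 1 := by
    ext k; simp only [Function.comp, Pi.single_apply]; split_ifs <;> simp [zero_pow (show Q ≠ 0 by omega)]
  rw [h2, mulVec_single_one, mulVec_single_one, Pi.smul_apply, smul_eq_mul] at h1
  rw [Matrix.smul_apply, smul_eq_mul]
  exact (inv_mul_eq_iff_eq_mul₀ hc0).1 h1

theorem map_eq_of_comm {σ : F →+* F} {T P : GL ι F} {c : F} (hc : c ≠ 0)
    (hP : (T : Matrix ι ι F) * (P : Matrix ι ι F).map σ = c • P.val) {x : Matrix ι ι F} {l : F}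
    (hx : (T : Matrix ι ι F) * x.map σ = l • (x * T)) : (cjm P⁻¹ x).map σ = l • cjm P⁻¹ x := by
  have h1 : (P : Matrix ι ι F) * cjm P⁻¹ x = x * P := by
    rw [← cjm_eq_iff, cjm_cjm_inv]
  have h2 := congrArg (fun y : Matrix ι ι F => (T : Matrix ι ι F) * y.map σ) h1
  simp only [Matrix.map_mul] at h2
  rw [← Matrix.mul_assoc, ← Matrix.mul_assoc, hP, hx, Matrix.smul_mul, Matrix.smul_mul,
    Matrix.mul_assoc, hP, Matrix.mul_smul, ← h1, smul_comm l c] at h2
  have h3 := smul_right_injective _ hc h2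
  rw [← Matrix.mul_smul] at h3
  exact (Units.mul_right_inj P).1 h3

theorem mem_subfieldSubgroup {F₀ : Subfield F} {P g : GL ι F} :
    g ∈ subfieldSubgroup F₀ P ↔ ∃ c : Fˣ, ∀ i j, (c : F) * cjm P⁻¹ g.val i j ∈ F₀ := by
  rw [subfieldSubgroup, Subgroup.mem_map_equiv]
  have e : ((MulAut.conj P).symm g).val = cjm P⁻¹ g.val := by
    rw [cjm_coe]; simp
  rw [← e]
  generalize (MulAut.conj P).symm g = x
  constructor
  · intro h
    obtain ⟨_, ⟨y, rfl⟩, c, rfl⟩ := exists_mul_of_mem_sup h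
    refine ⟨c⁻¹, fun i j => ?_⟩
    rw [Units.val_mul, coe_scal, Matrix.mul_smul, Matrix.mul_one, Matrix.smul_apply, smul_eq_mul,
      Units.inv_mul_cancel_left]
    exact (y.val i j).2
  · rintro ⟨c, hc⟩
    let y : Matrix ι ι F₀ := Matrix.of fun i j => ⟨_, hc i j⟩
    have hy : y.map F₀.subtype = (scal ι c * x).val := by
      rw [Units.val_mul, coe_scal, Matrix.smul_mul, Matrix.one_mul]; rfl
    have hu : IsUnit y := by
      rw [Matrix.isUnit_iff_isUnit_det, isUnit_iff_ne_zero]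
      intro h0
      have := F₀.subtype.map_det y
      rw [h0, map_zero, RingHom.mapMatrix_apply, hy] at this
      exact (Matrix.isUnits_det_units _).ne_zero this.symm
    have : x = (scal ι c)⁻¹ * Matrix.GeneralLinearGroup.map F₀.subtype hu.unit := by
      rw [eq_inv_mul_iff_mul_eq]; exact Units.ext hy.symm
    rw [this]
    exact mul_mem (Subgroup.mem_sup_right (inv_mem (scal_mem c))) (Subgroup.mem_sup_left ⟨_, rfl⟩)

theorem mem_subfieldSubgroup_of_map {F₀ : Subfield F} {σ : F →+* F} (hσ : ∀ x, σ x = x → x ∈ F₀)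
    {P g : GL ι F} {l : F} (h : (cjm P⁻¹ g.val).map σ = l • cjm P⁻¹ g.val) :
    g ∈ subfieldSubgroup F₀ P := by
  rw [mem_subfieldSubgroup]
  by_cases h0 : cjm P⁻¹ g.val = 0
  · exact ⟨1, fun i j => by rw [h0]; simp⟩
  obtain ⟨a, b, hab⟩ : ∃ a b, cjm P⁻¹ g.val a b ≠ 0 := by
    by_contra hn
    push Not at hn
    exact h0 (Matrix.ext hn)
  refine ⟨(Units.mk0 _ hab)⁻¹, fun i j => hσ _ ?_⟩
  have h1 := congrFun (congrFun h a) b
  have h2 := congrFun (congrFun h i) j
  simp only [map_apply, Matrix.smul_apply, smul_eq_mul] at h1 h2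
  have hl : l ≠ 0 := by
    rintro rfl
    rw [zero_mul, map_eq_zero] at h1
    exact hab h1
  rw [Units.val_inv_eq_inv_val, Units.val_mk0, map_mul, map_inv₀, h1, h2]
  field_simp

/-- The normaliser of an absolutely irreducible group defined over a subfield. -/
theorem le_subfieldSubgroup {F₀ : Subfield F} {σ : F →+* F} (hσ : ∀ x, σ x = x ↔ x ∈ F₀)
    {P : GL ι F} {N G : Subgroup (GL ι F)} (hN : alg N = ⊤)
    (hP : ∀ x ∈ N, ∀ i j, cjm P⁻¹ x.val i j ∈ F₀) (hG : ∀ g ∈ G, ∀ x ∈ N, g * x * g⁻¹ ∈ N) :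
    G ≤ subfieldSubgroup F₀ P := by
  intro g hg
  have hfix : ∀ x ∈ N, (cjm P⁻¹ x.val).map σ = cjm P⁻¹ x.val := fun x hx =>
    Matrix.ext fun i j => (hσ _).2 (hP x hx i j)
  set h : GL ι F := P⁻¹ * g * P⁻¹⁻¹ with hh
  have hh' : cjm P⁻¹ g.val = h.val := cjm_coe _ _
  have key : IsSc (cjm P (h⁻¹.val * h.val.map σ)) := by
    apply isSc_of_alg_top hN
    intro x hx
    rw [← cjm_cjm_inv P x.val, ← map_mul, ← map_mul]
    congr 1
    have h1 : h.val * cjm P⁻¹ x.val = cjm P⁻¹ (g * x * g⁻¹).val * h.val := by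
      rw [← hh', ← map_mul, ← map_mul, ← Units.val_mul, ← Units.val_mul, inv_mul_cancel_right]
    have h2 := congrArg (fun y : Matrix ι ι F => y.map σ) h1
    simp only [Matrix.map_mul, hfix x hx, hfix _ (hG g hg x hx)] at h2
    rw [Matrix.mul_assoc, h2, ← Matrix.mul_assoc, ← Matrix.mul_assoc]
    congr 1
    rw [← Matrix.one_mul (_ * h⁻¹.val), ← Units.inv_mul h, Matrix.mul_assoc, ← Matrix.mul_assoc h.val,
      h1, Matrix.mul_assoc, Units.mul_inv, Matrix.mul_one]
  obtain ⟨l, hl⟩ := isSc_of_cjm key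
  refine mem_subfieldSubgroup_of_map (l := l) (fun x => (hσ x).1) ?_
  rw [hh', ← Matrix.one_mul (h.val.map σ), ← Units.mul_inv h, Matrix.mul_assoc, hl, Matrix.mul_smul,
    Matrix.mul_one]

/-- If a spanning group is conjugate to its Galois twist then it is defined over the fixed field. -/
theorem exists_descent (h : Nat.card F = Q ^ s) {N : Subgroup (GL ι F)} (hN : alg N = ⊤) (T : GL ι F)
    (hT : ∀ x ∈ N, T.val * x.val.map (frob h) = x.val * T.val) :
    ∃ P : GL ι F, ∀ x ∈ N, ∀ i j, cjm P⁻¹ x.val i j ∈ fixSub h := by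
  set φ : (ι → F) → (ι → F) := fun v => (T : Matrix ι ι F) *ᵥ (frob h ∘ v) with hφ
  have φsmul : ∀ (a : F) v, φ (a • v) = a ^ Q • φ v := by
    intro a v
    simp only [hφ]
    rw [← mulVec_smul]; congr 1; ext i; simp [mul_pow]
  have φadd : ∀ u v, φ (u + v) = φ u + φ v := by
    intro u v
    simp only [hφ]
    rw [← mulVec_add]; congr 1; ext i; exact map_add (frob h) _ _
  have φx : ∀ x ∈ N, ∀ v, φ (x.val *ᵥ v) = x.val *ᵥ φ v := by
    intro x hx v
    simp only [hφ, map_mulVec', mulVec_mulVec, hT x hx]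
  have φits : ∀ j (a : F) v, φ^[j] (a • v) = a ^ Q ^ j • φ^[j] v := by
    intro j a v
    induction j with
    | zero => simp
    | succ j ih =>
      rw [Function.iterate_succ_apply', Function.iterate_succ_apply', ih, φsmul, ← pow_mul, ← pow_succ]
  let L : (ι → F) →ₗ[F] (ι → F) :=
    { toFun := φ^[s]
      map_add' := fun u v => Function.Semiconj₂.iterate (f := φ) (op := (· + ·)) φadd s u v
      map_smul' := fun a v => by rw [φits, ← h, pow_natCard]; rfl }
  obtain ⟨μ, hμ⟩ : IsSc (LinearMap.toMatrix' L) := by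
    apply isSc_of_alg_top hN
    intro x hx
    apply matrix_ext_mulVec
    intro v
    rw [← mulVec_mulVec, ← mulVec_mulVec, LinearMap.toMatrix'_mulVec, LinearMap.toMatrix'_mulVec]
    exact (Function.Commute.iterate_left (f := φ) (g := fun v => x.val *ᵥ v) (φx x hx) s) v
  obtain ⟨P, c, hc, hP⟩ := hilbert90 h T μ (fun v => by
    have := congrArg (fun y : Matrix ι ι F => y *ᵥ v) hμ
    simp only [LinearMap.toMatrix'_mulVec, smul_mulVec, one_mulVec] at this
    exact this)
  refine ⟨P, fun x hx i j => ?_⟩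
  have := map_eq_of_comm hc hP (l := 1) (x := x.val) (by rw [hT x hx, one_smul])
  rw [one_smul] at this
  exact congrFun (congrFun this i) j

end Descent

/-- Two spanning representations with the same traces are conjugate. -/
theorem exists_conj_of_trace {N : Subgroup (GL ι F)} (hN : alg N = ⊤) (ρ : N →* Matrix ι ι F)
    (hρ : ∀ y, (∀ x : N, (y * ρ x).trace = 0) → y = 0) (htr : ∀ x : N, (ρ x).trace = x.1.val.trace) :
    ∃ T : GL ι F, ∀ x : N, ρ x = cjm T x.1.val := by
  let π : (N →₀ F) →ₗ[F] Matrix ι ι F := Finsupp.linearCombination F fun x : N => x.1.val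
  let π' : (N →₀ F) →ₗ[F] Matrix ι ι F := Finsupp.linearCombination F fun x : N => ρ x
  have hπ : Function.Surjective π := by
    rw [← LinearMap.range_eq_top, Finsupp.range_linearCombination, eq_top_iff]
    intro y _
    have : y ∈ alg N := hN ▸ Algebra.mem_top
    rw [mem_alg] at this
    convert this using 2
    ext z
    exact ⟨fun ⟨x, hx⟩ => ⟨x.1, x.2, hx⟩, fun ⟨x, hx, e⟩ => ⟨⟨x, hx⟩, e⟩⟩
  have hker : LinearMap.ker π ≤ LinearMap.ker π' := by
    intro c hc
    rw [LinearMap.mem_ker] at hc ⊢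
    apply hρ
    intro x
    have : (π' c * ρ x).trace = (π c * x.1.val).trace := by
      simp only [π, π', Finsupp.linearCombination_apply, Finsupp.sum, Finset.sum_mul, Matrix.smul_mul,
        trace_sum, trace_smul]
      refine Finset.sum_congr rfl fun y _ => ?_
      rw [← map_mul, htr]; rfl
    rw [this, hc, Matrix.zero_mul, trace_zero]
  let θ : Matrix ι ι F →ₗ[F] Matrix ι ι F :=
    (LinearMap.ker π).liftQ π' hker ∘ₗ (π.quotKerEquivOfSurjective hπ).symm.toLinearMap
  have hθ : ∀ c, θ (π c) = π' c := by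
    intro c
    simp only [θ, LinearMap.comp_apply, LinearEquiv.coe_coe, LinearMap.quotKerEquivOfSurjective_symm_apply,
      Submodule.liftQ_apply]
  have hθx : ∀ x : N, θ x.1.val = ρ x := by
    intro x
    have := hθ (Finsupp.single x 1)
    simpa [π, π'] using this
  have hmul : ∀ a b, θ (a * b) = θ a * θ b := by
    intro a b
    refine alg_induction (N := N) (p := fun a => θ (a * b) = θ a * θ b) (fun g hg => ?_) (by simp)
      (fun x y hx hy => by rw [add_mul, map_add, map_add, add_mul, hx, hy])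
      (fun c x hx => by rw [smul_mul_assoc, map_smul, map_smul, smul_mul_assoc, hx])
      (hN ▸ Algebra.mem_top)
    refine alg_induction (N := N) (p := fun b => θ (g.val * b) = θ g.val * θ b) (fun h hh => ?_) (by simp)
      (fun x y hx hy => by rw [mul_add, map_add, map_add, mul_add, hx, hy])
      (fun c x hx => by rw [mul_smul_comm, map_smul, map_smul, mul_smul_comm, hx])
      (hN ▸ Algebra.mem_top)
    rw [hθx ⟨g, hg⟩, hθx ⟨h, hh⟩, ← map_mul, ← hθx]; rfl
  obtain ⟨T, hT⟩ := exists_cjm (AlgHom.ofLinearMap θ (by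
    have := hθx 1
    rw [map_one] at this; exact this) hmul)
  exact ⟨T, fun x => by rw [← hT, ← hθx]; rfl⟩

end Cfsg.Agent.Classical.Asch
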