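import Cfsg.Agent.Lib.Classical.Asch3
import Cfsg.Agent.Lib.Comp.Comp

/-!
The structure of a primitive linear group: the raw form of Aschbacher's theorem.
-/

set_option autoImplicit false

namespace Cfsg.Agent.Classical.Asch
open Matrix Cfsg.Geo Module Cfsg.Agent.Comp
open scoped MatrixGroups Kronecker commutatorElement

variable {ι : Type} [Fintype ι] [DecidableEq ι] {F : Type*} [Field F]

local notation "Z" => scalars ι F

theorem commutatorElement_scal_left (g h : GL ι F) (c : Fˣ) : ⁅g * scal ι c, h⁆ = ⁅g, h⁆ := by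
  simp only [commutatorElement_def, _root_.mul_inv_rev]
  rw [mul_assoc g, scalars_comm (scal_mem c) h]
  group

theorem commutatorElement_scal_right (g h : GL ι F) (c : Fˣ) : ⁅g, h * scal ι c⁆ = ⁅g, h⁆ := by
  rw [← commutatorElement_inv, commutatorElement_scal_left, commutatorElement_inv]

theorem commutator_sup_scalars (G : Subgroup (GL ι F)) : ⁅G ⊔ Z, G ⊔ Z⁆ = ⁅G, G⁆ := by
  refine le_antisymm (Subgroup.commutator_le.2 fun x hx y hy => ?_)
    (Subgroup.commutator_mono le_sup_left le_sup_left)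
  obtain ⟨g, hg, c, rfl⟩ := exists_mul_of_mem_sup hx
  obtain ⟨h, hh, d, rfl⟩ := exists_mul_of_mem_sup hy
  rw [commutatorElement_scal_left, commutatorElement_scal_right]
  exact Subgroup.commutator_mem_commutator hg hh

theorem commutator_self_le {H : Type*} [Group H] (K : Subgroup H) : ⁅K, K⁆ ≤ K :=
  Subgroup.commutator_le.2 fun _ hx _ hy =>
    K.mul_mem (K.mul_mem (K.mul_mem hx hy) (K.inv_mem hx)) (K.inv_mem hy)

theorem le_of_perfect {G K : Subgroup (GL ι F)} (hK : ⁅K, K⁆ = K) (h : K ≤ G ⊔ Z) : K ≤ G := by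
  rw [← hK]
  exact (Subgroup.commutator_mono h h).trans
    ((commutator_sup_scalars G).le.trans (commutator_self_le _))

theorem comm_of_perfect {K : Subgroup (GL ι F)} (hK : ⁅K, K⁆ = K) {h : GL ι F}
    (hh : ∀ x ∈ K, h * x * h⁻¹ * x⁻¹ ∈ Z) : ∀ x ∈ K, h * x = x * h := by
  have : ⁅K, K⁆ ≤ Subgroup.centralizer {h} := by
    refine Subgroup.commutator_le.2 fun x hx y hy => ?_
    obtain ⟨c, hc⟩ := exists_scal (hh x hx)
    obtain ⟨d, hd⟩ := exists_scal (hh y hy)
    have h1 : h * x * h⁻¹ = x * scal ι c := by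
      rw [← scalars_comm (scal_mem c), hc]; group
    have h2 : h * y * h⁻¹ = y * scal ι d := by
      rw [← scalars_comm (scal_mem d), hd]; group
    have h3 : h * ⁅x, y⁆ * h⁻¹ = ⁅x, y⁆ := by
      rw [conjugate_commutatorElement, h1, h2, commutatorElement_scal_left, commutatorElement_scal_right]
    rw [Subgroup.mem_centralizer_singleton_iff]
    exact (mul_inv_eq_iff_eq_mul.1 h3).symm
  rw [hK] at this
  intro x hx
  exact (Subgroup.mem_centralizer_singleton_iff.1 (this hx)).symm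

theorem sup_scalars_le_normalizer {G N : Subgroup (GL ι F)}
    (h : G ≤ Subgroup.normalizer (N : Set (GL ι F))) : G ⊔ Z ≤ Subgroup.normalizer (N : Set (GL ι F)) :=
  sup_le h (le_normalizer_of_le_centralizer (scalars_le_centralizer _))

theorem Irr.not_le_scalars {G : Subgroup (GL ι F)} (hG : Irr G) (h : 2 ≤ Fintype.card ι) : ¬ G ≤ Z := by
  intro hle
  obtain ⟨i⟩ : Nonempty ι := Fintype.card_pos_iff.1 (by omega)
  have h1 : finrank F (F ∙ (Pi.single i 1 : ι → F)) = 1 := finrank_span_singleton (by simp)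
  rcases hG (F ∙ (Pi.single i 1 : ι → F)) (fun g hg w hw => by
    obtain ⟨c, rfl⟩ := exists_scal (hle hg)
    rw [scal_mulVec]; exact Submodule.smul_mem _ _ hw) with h2 | h2
  · rw [h2] at h1; simp at h1
  · rw [h2] at h1; simp at h1; omega

/-- invertible matrices commuting with a given matrix -/
def centM (x : Matrix ι ι F) : Subgroup (GL ι F) where
  carrier := {g | x * g.val = g.val * x}
  one_mem' := by simp
  mul_mem' {a b} ha hb := by
    simp only [Set.mem_ofPred_eq, Units.val_mul] at *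
    rw [← Matrix.mul_assoc, ha, Matrix.mul_assoc, hb, Matrix.mul_assoc]
  inv_mem' {a} ha := by
    have : cjm a x = x := cjm_eq_iff.2 (Eq.symm ha)
    have h2 := congrArg (cjm a⁻¹) this
    rw [cjm_inv_cjm] at h2
    exact (cjm_eq_iff.1 h2.symm).symm

/-- units of a subalgebra -/
def unitsOf (A : Subalgebra F (Matrix ι ι F)) : Subgroup (GL ι F) where
  carrier := {g | g.val ∈ A ∧ g⁻¹.val ∈ A}
  one_mem' := ⟨A.one_mem, by simpa using A.one_mem⟩
  mul_mem' {a b} ha hb := ⟨A.mul_mem ha.1 hb.1, by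
    rw [_root_.mul_inv_rev]; exact A.mul_mem hb.2 ha.2⟩
  inv_mem' {a} ha := ⟨ha.2, by simpa using ha.1⟩

theorem alg_iSup_le {κ : Sort*} {K : κ → Subgroup (GL ι F)} {A : Subalgebra F (Matrix ι ι F)}
    (h : ∀ i, alg (K i) ≤ A) : alg (⨆ i, K i) ≤ A :=
  alg_le.2 fun _ hg => (iSup_le (a := unitsOf A) (fun i _ hg =>
    ⟨h i (coe_mem_alg hg), h i (coe_mem_alg ((K i).inv_mem hg))⟩) hg).1

theorem alg_sup_le {K L : Subgroup (GL ι F)} {A : Subalgebra F (Matrix ι ι F)}
    (h : alg K ≤ A) (h' : alg L ≤ A) : alg (K ⊔ L) ≤ A :=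
  alg_le.2 fun _ hg => (sup_le (c := unitsOf A) (fun _ hg =>
    ⟨h (coe_mem_alg hg), h (coe_mem_alg (K.inv_mem hg))⟩) (fun _ hg =>
    ⟨h' (coe_mem_alg hg), h' (coe_mem_alg (L.inv_mem hg))⟩) hg).1

theorem mem_alg_cj {K : Subgroup (GL ι F)} {g : GL ι F} {x : Matrix ι ι F} :
    x ∈ alg cj(g, K) ↔ cjm g⁻¹ x ∈ alg K := by
  have key : ∀ (K : Subgroup (GL ι F)) (g : GL ι F) x, x ∈ alg K → cjm g x ∈ alg cj(g, K) :=
    fun K g x hx => alg_induction (p := fun x => cjm g x ∈ alg cj(g, K))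
      (fun y hy => by rw [cjm_coe]; exact coe_mem_alg (conj_mem_cj.2 hy)) (by simp)
      (fun a b ha hb => by rw [map_add]; exact add_mem ha hb)
      (fun c a ha => by rw [map_smul]; exact Subalgebra.smul_mem _ ha c) hx
  constructor
  · intro h
    have := key _ g⁻¹ _ h
    rwa [cj_inv_cj] at this
  · intro h
    have := key _ g _ h
    rwa [cjm_cjm_inv] at this

theorem isSc_fin_one (a : Matrix (Fin 1) (Fin 1) F) : IsSc a :=
  ⟨a 0 0, by ext i j; fin_cases i; fin_cases j; simp⟩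

theorem IsSc.map {κ : Type} [Fintype κ] [DecidableEq κ] {a : Matrix κ κ F} (h : IsSc a)
    (φ : Matrix κ κ F →ₐ[F] Matrix ι ι F) : IsSc (φ a) := by
  obtain ⟨c, rfl⟩ := h
  exact ⟨c, by rw [map_smul, map_one]⟩

/-- primitivity in the algebraic sense -/
def Prim (Γ G : Subgroup (GL ι F)) : Prop :=
  ∀ N ≤ Γ, G ≤ Subgroup.normalizer (N : Set (GL ι F)) → ∀ x ∈ cen (alg N), IsSc x

theorem Prim.mono {Γ Γ' G G' : Subgroup (GL ι F)} (h : Prim Γ G) (h1 : Γ' ≤ Γ) (h2 : G ≤ G') :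
    Prim Γ' G' := fun N hN hG => h N (hN.trans h1) (h2.trans hG)

/-- the tensor case -/
structure TensCase (G N : Subgroup (GL ι F)) (d k : ℕ) (e : ι ≃ Fin d × Fin k) (P : GL ι F) : Prop where
  nrm : G ≤ Subgroup.normalizer (N : Set (GL ι F))
  hd : 2 ≤ d
  hk : 2 ≤ k
  mem : ∀ x, x ∈ alg N ↔ ∃ a, x = trm e P (kl (Fin k) a)

theorem TensCase.le {G N : Subgroup (GL ι F)} {d k : ℕ} {e : ι ≃ Fin d × Fin k} {P : GL ι F}
    (h : TensCase G N d k e P) : G ≤ tensorProductSubgroup d k e P := by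
  haveI : NeZero d := ⟨by have := h.hd; omega⟩
  haveI : NeZero k := ⟨by have := h.hk; omega⟩
  exact fun g hg => mem_tensorProductSubgroup_of_nrm fun a =>
    (h.mem _).1 (nrm_alg h.nrm g hg _ ((h.mem _).2 ⟨a, rfl⟩))

/-- the extraspecial case -/
structure ExtraCase (G N : Subgroup (GL ι F)) (r : ℕ) : Prop where
  prime : r.Prime
  sc_le : Z ≤ N
  le : N ≤ G ⊔ Z
  nrm : G ≤ Subgroup.normalizer (N : Set (GL ι F))
  top : alg N = ⊤
  comm : ∀ x ∈ N, ∀ y ∈ N, ⁅x, y⁆ ∈ Z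
  pow : ∀ x ∈ N, x ^ r ∈ Z
  min : ∀ L, Z ≤ L → L ≤ N → G ≤ Subgroup.normalizer (L : Set (GL ι F)) → L = Z ∨ L = N

/-- the tensor-induced case -/
structure WreathCase (G : Subgroup (GL ι F)) {t : ℕ} (m : ℕ) (K : Fin (t + 2) → Subgroup (GL ι F))
    (e : ι ≃ (Fin (t + 2) → Fin m)) (P : GL ι F) : Prop where
  hm : 2 ≤ m
  le : ∀ i, K i ≤ G
  qs : ∀ i, QS (K i)
  mem : ∀ i x, x ∈ alg (K i) ↔ ∃ a, x = trm e P (emb i a)
  perm : ∀ g ∈ G, ∃ π : Equiv.Perm (Fin (t + 2)), ∀ i, cj(g, K i) = K (π i)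
  trans : ∀ i, ∃ g ∈ G, ∀ a, cjm g (trm e P (emb 0 a)) = trm e P (emb i a)
  top : alg (⨆ i, K i) = ⊤

theorem WreathCase.le_wreath {G : Subgroup (GL ι F)} {t m : ℕ} {K : Fin (t + 2) → Subgroup (GL ι F)}
    {e : ι ≃ (Fin (t + 2) → Fin m)} {P : GL ι F} (h : WreathCase G m K e P) :
    G ≤ tensorWreathSubgroup m (t + 2) e P := by
  haveI : NeZero m := ⟨by have := h.hm; omega⟩
  intro g hg
  obtain ⟨π, hπ⟩ := h.perm g hg
  refine mem_tensorWreathSubgroup_of_nrm (by omega) π fun i a => (h.mem _ _).1 ?_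
  rw [← hπ, mem_alg_cj, cjm_inv_cjm]
  exact (h.mem _ _).2 ⟨a, rfl⟩

theorem WreathCase.nrm {G : Subgroup (GL ι F)} {t m : ℕ} {K : Fin (t + 2) → Subgroup (GL ι F)}
    {e : ι ≃ (Fin (t + 2) → Fin m)} {P : GL ι F} (h : WreathCase G m K e P) :
    G ≤ Subgroup.normalizer ((⨆ i, K i : Subgroup (GL ι F)) : Set (GL ι F)) := by
  refine le_normalizer_of_cj_le fun g hg => ?_
  obtain ⟨π, hπ⟩ := h.perm g hg
  rw [Subgroup.map_iSup]
  exact iSup_le fun i => (hπ i).le.trans (le_iSup K _)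

/-- the almost simple case -/
structure SimpleCase (G K : Subgroup (GL ι F)) : Prop where
  le : K ≤ G
  qs : QS K
  nrm : G ≤ Subgroup.normalizer (K : Set (GL ι F))
  top : alg K = ⊤

theorem Irr.dichotomy [Finite F] [Nonempty ι] {Γ G : Subgroup (GL ι F)} (hG : Irr G) (hP : Prim Γ G)
    {N : Subgroup (GL ι F)} (hN : N ≤ Γ) (hn : G ≤ Subgroup.normalizer (N : Set (GL ι F))) :
    alg N = ⊤ ∨ N ≤ Z ∨ ∃ d k e P, TensCase G N d k e P := by
  obtain ⟨d, φ, hd, hφ⟩ := hG.exists_matrix (nrm_alg hn) (hP N hN hn)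
  haveI : Nonempty (Fin d) := ⟨⟨0, hd⟩⟩
  obtain ⟨k, e, P, hP⟩ := exists_tensor φ
  have hmem : ∀ x, x ∈ alg N ↔ ∃ a, x = trm e P (kl (Fin k) a) := fun x => by
    rw [← hφ]
    exact ⟨fun ⟨a, ha⟩ => ⟨a, ha.symm.trans (hP a)⟩, fun ⟨a, ha⟩ => ⟨a, (hP a).trans ha.symm⟩⟩
  have hk : k ≠ 0 := by
    rintro rfl
    exact (e (Classical.arbitrary ι)).2.elim0
  by_cases hk1 : k = 1
  · subst hk1
    left
    rw [eq_top_iff]
    intro x _
    obtain ⟨y, rfl⟩ := (trm e P).surjective x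
    obtain ⟨a, rfl⟩ := exists_kl_of_comm (x := y) fun b => (((isSc_fin_one b).map (kr (Fin d))).comm y).symm
    exact (hmem _).2 ⟨a, rfl⟩
  by_cases hd1 : d = 1
  · subst hd1
    right; left
    intro g hg
    obtain ⟨a, ha⟩ := (hmem _).1 (coe_mem_alg hg)
    rw [mem_scalars, ha]
    exact ((isSc_fin_one a).map (kl (Fin k))).map (trm e P).toAlgHom
  · exact Or.inr (Or.inr ⟨d, k, e, P, hn, by omega, by omega, hmem⟩)

theorem QS.not_le_scalars {K : Subgroup (GL ι F)} (h : QS K) : ¬ K ≤ Z := fun h' =>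
  h.not_le_centralizer (h'.trans (scalars_le_centralizer _))

/-- Aschbacher's theorem, raw form. -/
theorem Irr.raw [Finite F] {G : Subgroup (GL ι F)} (hG : Irr G) (hι : 2 ≤ Fintype.card ι)
    (hP : Prim (G ⊔ Z) G) :
    (∃ N d k e P, N ≤ G ⊔ Z ∧ TensCase G N d k e P) ∨ (∃ N r, ExtraCase G N r) ∨
    (∃ (t m : ℕ) (K : Fin (t + 2) → Subgroup (GL ι F)) (e : ι ≃ (Fin (t + 2) → Fin m)) (P : GL ι F),
      WreathCase G m K e P) ∨ ∃ K, SimpleCase G K := by
  haveI : Nonempty ι := Fintype.card_pos_iff.1 (by omega)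
  by_cases hT : ∃ N d k e P, N ≤ G ⊔ Z ∧ TensCase G N d k e P
  · exact Or.inl hT
  right
  have dich : ∀ N ≤ G ⊔ Z, G ≤ Subgroup.normalizer (N : Set (GL ι F)) → ¬ N ≤ Z → alg N = ⊤ := by
    intro N hN hn hZ
    rcases hG.dichotomy hP hN hn with h | h | ⟨d, k, e, P, h⟩
    · exact h
    · exact absurd h hZ
    · exact absurd ⟨N, d, k, e, P, hN, h⟩ hT
  by_cases hc : ∃ K, CompIn K (G ⊔ Z)
  · right
    obtain ⟨K₀, hK₀⟩ := hc
    let O : Set (Subgroup (GL ι F)) := {L | ∃ g ∈ G, cj(g, K₀) = L}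
    have hO : ∀ L ∈ O, CompIn L (G ⊔ Z) := by
      rintro _ ⟨g, hg, rfl⟩
      exact hK₀.cj_of_mem (Subgroup.le_normalizer (Subgroup.mem_sup_left hg))
    have hOc : ∀ g ∈ G, ∀ L ∈ O, cj(g, L) ∈ O := by
      rintro g hg _ ⟨h, hh, rfl⟩
      exact ⟨g * h, G.mul_mem hg hh, cj_mul _ _ _⟩
    have hK₀O : K₀ ∈ O := ⟨1, G.one_mem, cj_one _⟩
    obtain ⟨t, ht⟩ : ∃ t, Nat.card O = t + 1 :=
      Nat.exists_eq_succ_of_ne_zero (Nat.card_ne_zero.2 ⟨⟨⟨K₀, hK₀O⟩⟩, inferInstance⟩)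
    obtain ⟨eq, heq⟩ : ∃ eq : O ≃ Fin (t + 1), eq ⟨K₀, hK₀O⟩ = 0 :=
      ⟨(Finite.equivFinOfCardEq ht).trans (Equiv.swap (Finite.equivFinOfCardEq ht ⟨K₀, hK₀O⟩) 0),
        by simp⟩
    obtain ⟨K, hK, hKi, hKs, hK0⟩ : ∃ K : Fin (t + 1) → Subgroup (GL ι F), (∀ i, K i ∈ O) ∧
        Function.Injective K ∧ (∀ L ∈ O, ∃ i, K i = L) ∧ K 0 = K₀ :=
      ⟨fun i => (eq.symm i).1, fun i => (eq.symm i).2, Subtype.val_injective.comp eq.symm.injective,
        fun L hL => ⟨eq ⟨L, hL⟩, congrArg Subtype.val (eq.symm_apply_apply ⟨L, hL⟩)⟩,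
        by simp only [← heq, Equiv.symm_apply_apply]⟩
    have hperm : ∀ g ∈ G, ∃ π : Equiv.Perm (Fin (t + 1)), ∀ i, cj(g, K i) = K (π i) := by
      intro g hg
      choose f hf using fun i => hKs _ (hOc g hg _ (hK i))
      have hinj : Function.Injective f := fun i j hij => hKi (cj_inj.1 (by rw [← hf, ← hf, hij]))
      exact ⟨Equiv.ofBijective f (Finite.injective_iff_bijective.1 hinj), fun i => (hf i).symm⟩
    have hKG : ∀ i, K i ≤ G := fun i => le_of_perfect (hO _ (hK i)).qs.perfect (hO _ (hK i)).le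
    have hn : G ≤ Subgroup.normalizer ((⨆ i, K i : Subgroup (GL ι F)) : Set (GL ι F)) := by
      refine le_normalizer_of_cj_le fun g hg => ?_
      obtain ⟨π, hπ⟩ := hperm g hg
      rw [Subgroup.map_iSup]
      exact iSup_le fun i => (hπ i).le.trans (le_iSup K _)
    have htop : alg (⨆ i, K i) = ⊤ := dich _ ((iSup_le hKG).trans le_sup_left) hn
      (fun h => QS.not_le_scalars (hO _ (hK 0)).qs ((le_iSup K 0).trans h))
    have hcomm : ∀ i j, i ≠ j → ∀ x ∈ K i, ∀ y ∈ K j, x * y = y * x := fun i j hij x hx y hy =>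
      ((hO _ (hK i)).le_centralizer_of_ne (hO _ (hK j)) (fun e => hij (hKi e)) hx y hy).symm
    cases t with
    | zero =>
      right
      have : ⨆ i, K i = K 0 := by
        refine le_antisymm (iSup_le fun i => ?_) (le_iSup K 0)
        rw [Fin.fin_one_eq_zero i]
      rw [this] at hn htop
      exact ⟨K 0, hKG 0, (hO _ (hK 0)).qs, hn, htop⟩
    | succ t =>
      left
      have hnK : (⨆ i, K i) ≤ Subgroup.normalizer (K 0 : Set (GL ι F)) := by
        refine iSup_le fun i => ?_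
        by_cases hi : i = 0
        · rw [hi]; exact Subgroup.le_normalizer
        · exact le_normalizer_of_le_centralizer fun x hx y hy => (hcomm i 0 hi x hx y hy).symm
      obtain ⟨m, φ₀, hm, hφ₀⟩ := (irr_of_alg_top htop).exists_matrix (nrm_alg hnK) (fun x hx => by
        refine isSc_of_alg_top htop (iSup_le (a := centM x) fun i g hg => ?_)
        by_cases hi : i = 0
        · subst hi; exact (hx.2 _ (coe_mem_alg hg)).symm
        · exact alg_comm_alg (hcomm 0 i (Ne.symm hi)) hx.1 (coe_mem_alg hg))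
      have hg : ∀ i, ∃ g ∈ G, cj(g, K 0) = K i ∧ (i = 0 → g = 1) := by
        intro i
        by_cases hi : i = 0
        · exact ⟨1, G.one_mem, by rw [cj_one, hi], fun _ => rfl⟩
        · obtain ⟨g, hg, e⟩ := hK i
          exact ⟨g, hg, by rw [hK0, e], fun h => absurd h hi⟩
      choose g hgG hgK hg0 using hg
      let φ : Fin (t + 2) → (Matrix (Fin m) (Fin m) F →ₐ[F] Matrix ι ι F) :=
        fun i => (cjm (g i)).toAlgHom.comp φ₀
      have hφ : ∀ i x, x ∈ alg (K i) ↔ ∃ a, x = φ i a := by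
        intro i x
        rw [← hgK, mem_alg_cj, ← hφ₀]
        constructor
        · rintro ⟨a, ha⟩
          refine ⟨a, ?_⟩
          change x = cjm (g i) (φ₀ a)
          rw [show φ₀ a = cjm (g i)⁻¹ x from ha, cjm_cjm_inv]
        · rintro ⟨a, rfl⟩
          exact ⟨a, (cjm_inv_cjm _ _).symm⟩
      haveI : Nonempty (Fin m) := ⟨⟨0, hm⟩⟩
      obtain ⟨e, P, hP⟩ := exists_tensor_pow φ
        (fun i j hij a b => alg_comm_alg (hcomm i j hij) ((hφ _ _).2 ⟨a, rfl⟩) ((hφ _ _).2 ⟨b, rfl⟩))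
        (fun A hA => by
          rw [eq_top_iff, ← htop]
          exact alg_iSup_le fun i x hx => by
            obtain ⟨a, rfl⟩ := (hφ _ _).1 hx
            exact hA i ⟨a, rfl⟩)
      refine ⟨t, m, K, e, P, ?_, hKG, fun i => (hO _ (hK i)).qs, fun i x => by simp only [hφ, hP], hperm,
        fun i => ⟨g i, hgG i, fun a => ?_⟩, htop⟩
      · by_contra hm2
        obtain rfl : m = 1 := by omega
        apply QS.not_le_scalars (hO _ (hK 0)).qs
        intro x hx
        obtain ⟨a, ha⟩ := (hφ _ _).1 (coe_mem_alg hx)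
        rw [mem_scalars, ha]
        exact (isSc_fin_one a).map _
      · rw [← hP, ← hP]
        change cjm (g i) (cjm (g 0) (φ₀ a)) = cjm (g i) (φ₀ a)
        rw [hg0 0 rfl, cjm_one]
  · left
    have hL : Lay (G ⊔ Z) = ⊥ := Lay_eq_bot_iff.2 fun K hK => hc ⟨K, hK⟩
    have hZF : Z ≤ Fit (G ⊔ Z) := le_Fit le_sup_right (le_normalizer_normal _ _)
      (isNilpotent_of_le_centralizer (scalars_le_centralizer _))
    have hFZ : Fit (G ⊔ Z) ≠ Z := by
      intro h
      apply hG.not_le_scalars hι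
      have := inf_centralizer_Fstar_le_Fit (G ⊔ Z)
      rw [Fstar, hL, bot_sup_eq, h] at this
      exact (le_inf le_sup_left fun g _ z hz => scalars_comm hz g).trans this
    obtain ⟨N, -, ⟨hN1, hN2, hN3, hN4⟩, hmin⟩ := exists_minimal_subgroup
      (P := fun L => Z ≤ L ∧ L ≠ Z ∧ L ≤ Fit (G ⊔ Z) ∧ G ≤ Subgroup.normalizer (L : Set (GL ι F)))
      ⟨hZF, hFZ, le_rfl, le_sup_left.trans (FClass.le_normalizer_radOf_self _ _)⟩
    have hmin' : ∀ L, Z ≤ L → L ≤ N → G ≤ Subgroup.normalizer (L : Set (GL ι F)) → L = Z ∨ L = N := by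
      intro L h1 h2 h3
      by_cases h : L = Z
      · exact Or.inl h
      · exact Or.inr (hmin L ⟨h1, h, h2.trans hN3, h3⟩ h2)
    have hNG : N ≤ G ⊔ Z := hN3.trans (FClass.radOf_le _ _)
    have hcomm : ⁅N, N⁆ ≤ Z := by
      rcases hmin' (⁅N, N⁆ ⊔ Z) le_sup_right (sup_le (commutator_self_le _) hN1)
        (le_normalizer_sup (le_normalizer_commutator hN4 hN4) (le_normalizer_normal _ _)) with h | h
      · exact le_sup_left.trans h.le
      · have h1 : ⁅⁅N, N⁆, ⁅N, N⁆⁆ = ⁅N, N⁆ := by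
          rw [← commutator_sup_scalars ⁅N, N⁆, h]
        rw [solvable_perfect_eq_bot h1 (isSolvable_of_le
          ((commutator_self_le _).trans (hN3.trans (Fit_le_Sol _))) (isSolvable_Sol _))]
        exact bot_le
    have hcomm' : ∀ x ∈ N, ∀ y ∈ N, ⁅x, y⁆ ∈ Z := fun x hx y hy =>
      hcomm (Subgroup.commutator_mem_commutator hx hy)
    obtain ⟨x, hxN, hxZ⟩ := SetLike.exists_of_lt (lt_of_le_of_ne hN1 hN2.symm)
    let π := QuotientGroup.mk' (Z)
    have hπ : ∀ y, π y = 1 ↔ y ∈ Z := fun y => QuotientGroup.eq_one_iff y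
    have ho : orderOf (π x) ≠ 1 := fun h => hxZ ((hπ x).1 (orderOf_eq_one_iff.1 h))
    obtain ⟨r, hr, k, hk⟩ := Nat.exists_prime_and_dvd ho
    let L : Subgroup (GL ι F) :=
      { carrier := {y | y ∈ N ∧ y ^ r ∈ Z}
        one_mem' := ⟨N.one_mem, by simp⟩
        mul_mem' := fun {a b} ha hb => ⟨N.mul_mem ha.1 hb.1, by
          have hc : Commute (π a) (π b) := by
            rw [← commutatorElement_eq_one_iff_commute, ← map_commutatorElement, hπ]
            exact hcomm' a ha.1 b hb.1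
          rw [← hπ, map_pow, map_mul, hc.mul_pow, ← map_pow, ← map_pow, (hπ _).2 ha.2, (hπ _).2 hb.2,
            mul_one]⟩
        inv_mem' := fun {a} ha => ⟨N.inv_mem ha.1, by rw [inv_pow]; exact inv_mem ha.2⟩ }
    have hLN : L = N := by
      refine (hmin' L (fun z hz => ⟨hN1 hz, pow_mem hz r⟩) (fun y hy => hy.1) ?_).resolve_left ?_
      · refine le_normalizer_of_cj_le fun g hg => cj_le_iff'.2 fun y hy =>
          ⟨conj_mem_of_le_normalizer hN4 hg hy.1, ?_⟩
        rw [conj_pow]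
        exact (scalars_normal).conj_mem _ hy.2 g
      · intro h
        have h1 : x ^ k ∈ L := ⟨pow_mem hxN k, by
          rw [← hπ, ← pow_mul, map_pow, mul_comm, ← hk, pow_orderOf_eq_one]⟩
        rw [h, ← hπ, map_pow, ← orderOf_dvd_iff_pow_eq_one, hk] at h1
        have hk0 : 0 < k := Nat.pos_of_ne_zero (by rintro rfl; exact (orderOf_pos (π x)).ne' hk)
        have := Nat.le_of_dvd hk0 h1
        have := hr.two_le
        nlinarith
    exact ⟨N, r, hr, hN1, hNG, hN4, dich N hNG hN4 (fun h => hN2 (le_antisymm h hN1)), hcomm',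
      fun y hy => (hLN.ge hy).2, hmin'⟩

theorem SimpleCase.isResidualCore {G K : Subgroup (GL ι F)} (h : SimpleCase G K)
    (hsub : ∀ F₀ : Subfield F, F₀ ≠ ⊤ → ¬ RealisableOver F₀ (matrixSet K)) : IsResidualCore G K := by
  have hZ : Subgroup.center K = (Z).subgroupOf K := by
    ext x
    rw [Subgroup.mem_center_iff, Subgroup.mem_subgroupOf]
    constructor
    · intro hx
      exact mem_scalars.2 (isSc_of_alg_top h.top fun g hg =>
        (congrArg (fun y : K => y.1.val) (hx ⟨g, hg⟩)).symm)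
    · intro hx g
      exact Subtype.ext (scalars_comm hx _).symm
  refine ⟨h.le, fun g hg x hx => conj_mem_of_le_normalizer h.nrm hg hx, h.qs.perfect, ?_, ?_, ?_,
    absIrr_of_alg_top h.top, hsub⟩
  · haveI := h.qs.isQuasisimple.2
    exact (QuotientGroup.quotientMulEquivOfEq hZ).symm.isSimpleGroup
  · intro hc
    apply QS.not_le_scalars h.qs
    rw [← h.qs.perfect]
    refine Subgroup.commutator_le.2 fun x hx y hy => ?_
    have := hc.is_comm.comm (QuotientGroup.mk (⟨x, hx⟩ : K)) (QuotientGroup.mk (⟨y, hy⟩ : K))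
    rw [← commutatorElement_eq_one_iff_mul_comm, ← QuotientGroup.mk'_apply, ← QuotientGroup.mk'_apply,
      ← map_commutatorElement, QuotientGroup.mk'_apply, QuotientGroup.eq_one_iff] at this
    exact this
  · intro g _ hg
    exact mem_scalars.2 (isSc_of_alg_top h.top fun x hx =>
      congrArg Units.val (comm_of_perfect h.qs.perfect hg x hx))

end Cfsg.Agent.Classical.Asch
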