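import Cfsg.Agent.Lib.Classical.Asch4
import Cfsg.Agent.Lib.Classical.SpU

/-!
Forms given by Gram matrices, adjoints, Schur's lemma for forms.
-/

set_option autoImplicit false

namespace Cfsg.Agent.Classical.Asch
open Matrix Cfsg.Geo Module
open scoped MatrixGroups Kronecker

variable {ι : Type} [Fintype ι] [DecidableEq ι] {F : Type*} [Field F] {σ : F →+* F}

local notation "Z" => scalars ι F
local notation "σ₀" => RingHom.id F

/-- the form with Gram matrix `B` -/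
def gf {ι : Type} [Fintype ι] (σ : F →+* F) (B : Matrix ι ι F) (u v : ι → F) : F := u ⬝ᵥ B *ᵥ (σ ∘ v)

section Basic
omit [DecidableEq ι]

theorem gf_id (B : Matrix ι ι F) (u v : ι → F) : gf σ₀ B u v = u ⬝ᵥ B *ᵥ v := rfl

theorem map_mulVec_rect {κ : Type} [Fintype κ] (σ : F →+* F) (x : Matrix ι κ F) (v : κ → F) :
    σ ∘ (x *ᵥ v) = x.map σ *ᵥ (σ ∘ v) := by
  ext i; simp [mulVec, dotProduct, map_sum]

theorem gf_mulVec {κ : Type} [Fintype κ] (B : Matrix ι ι F) (g h : Matrix ι κ F) (u v : κ → F) :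
    gf σ B (g *ᵥ u) (h *ᵥ v) = gf σ (gᵀ * B * h.map σ) u v := by
  rw [gf, gf, map_mulVec_rect, ← mulVec_mulVec, ← mulVec_mulVec, dotProduct_mulVec u, vecMul_transpose]

theorem gf_add_left (B : Matrix ι ι F) (u u' v : ι → F) : gf σ B (u + u') v = gf σ B u v + gf σ B u' v :=
  add_dotProduct _ _ _

theorem gf_smul_left (B : Matrix ι ι F) (c : F) (u v : ι → F) : gf σ B (c • u) v = c * gf σ B u v :=
  smul_dotProduct _ _ _

theorem gf_add_right (B : Matrix ι ι F) (u v v' : ι → F) :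
    gf σ B u (v + v') = gf σ B u v + gf σ B u v' := by
  have : σ ∘ (v + v') = σ ∘ v + σ ∘ v' := by ext; simp
  rw [gf, this, mulVec_add, dotProduct_add]; rfl

theorem gf_smul_right (B : Matrix ι ι F) (c : F) (u v : ι → F) :
    gf σ B u (c • v) = σ c * gf σ B u v := by
  have : σ ∘ (c • v) = σ c • σ ∘ v := by ext; simp
  rw [gf, this, mulVec_smul, dotProduct_smul]; rfl

@[simp] theorem gf_zero_left (B : Matrix ι ι F) (v : ι → F) : gf σ B 0 v = 0 := zero_dotProduct _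

@[simp] theorem gf_zero_right (B : Matrix ι ι F) (v : ι → F) : gf σ B v 0 = 0 := by
  have : σ ∘ (0 : ι → F) = 0 := by ext; simp
  rw [gf, this, mulVec_zero, dotProduct_zero]

theorem gf_neg_left (B : Matrix ι ι F) (u v : ι → F) : gf σ B (-u) v = - gf σ B u v :=
  neg_dotProduct _ _

theorem gf_neg_right (B : Matrix ι ι F) (u v : ι → F) : gf σ B u (-v) = - gf σ B u v := by
  rw [← neg_one_smul F v, gf_smul_right]; simp

theorem gf_sub_left (B : Matrix ι ι F) (u u' v : ι → F) : gf σ B (u - u') v = gf σ B u v - gf σ B u' v :=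
  sub_dotProduct _ _ _

theorem gf_sub_right (B : Matrix ι ι F) (u v v' : ι → F) :
    gf σ B u (v - v') = gf σ B u v - gf σ B u v' := by
  rw [sub_eq_add_neg, gf_add_right, gf_neg_right, sub_eq_add_neg]

theorem gf_smul (c : F) (B : Matrix ι ι F) (u v : ι → F) : gf σ (c • B) u v = c * gf σ B u v := by
  rw [gf, smul_mulVec, dotProduct_smul]; rfl

theorem gf_add (B C : Matrix ι ι F) (u v : ι → F) : gf σ (B + C) u v = gf σ B u v + gf σ C u v := by
  rw [gf, add_mulVec, dotProduct_add]; rfl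

theorem gf_transpose (B : Matrix ι ι F) (u v : ι → F) : gf σ₀ Bᵀ u v = gf σ₀ B v u := by
  rw [gf_id, gf_id, dotProduct_mulVec, vecMul_transpose, dotProduct_comm]

theorem gf_eq_sum (B : Matrix ι ι F) (u v : ι → F) :
    gf σ B u v = ∑ a, ∑ b, u a * B a b * σ (v b) := by
  simp [gf, dotProduct, mulVec, Finset.mul_sum, mul_assoc]

theorem formOfGram_eq (B : Matrix ι ι F) : formOfGram σ B = gf σ B := by
  ext u v; rw [gf_eq_sum]; rfl

theorem map_gf (τ : F →+* F) (h : ∀ a, τ (σ a) = σ (τ a)) (B : Matrix ι ι F) (u v : ι → F) :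
    τ (gf σ B u v) = gf σ (B.map τ) (τ ∘ u) (τ ∘ v) := by
  simp [gf_eq_sum, map_sum, h]

theorem gf_submatrix {κ : Type} [Fintype κ] (e : ι ≃ κ) (B : Matrix ι ι F) (x y : κ → F) :
    gf σ B (x ∘ e) (y ∘ e) = gf σ (B.submatrix e.symm e.symm) x y := by
  simp only [gf_eq_sum]
  rw [← e.sum_comp]
  refine Finset.sum_congr rfl fun a _ => ?_
  rw [← e.sum_comp]
  simp

end Basic

theorem gf_single (B : Matrix ι ι F) (i j : ι) : gf σ B (Pi.single i 1) (Pi.single j 1) = B i j := by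
  have : σ ∘ (Pi.single j (1 : F) : ι → F) = Pi.single j 1 := by
    ext k; by_cases h : k = j <;> simp [Pi.single_apply, h]
  rw [gf, this]; simp

theorem gf_ext {B C : Matrix ι ι F} (h : ∀ u v, gf σ B u v = gf σ C u v) : B = C := by
  ext i j; rw [← gf_single (σ := σ) B, h, gf_single]

theorem gramMatrix_gf (B : Matrix ι ι F) : gramMatrix (gf σ B) = B := by
  ext i j; exact gf_single B i j

theorem gf_mulVec_left (B x : Matrix ι ι F) (u v : ι → F) : gf σ B (x *ᵥ u) v = gf σ (xᵀ * B) u v := by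
  have := gf_mulVec (σ := σ) B x 1 u v
  rwa [one_mulVec, Matrix.map_one _ (map_zero σ) (map_one σ), Matrix.mul_one] at this

theorem gf_mulVec_right (B x : Matrix ι ι F) (u v : ι → F) :
    gf σ B u (x *ᵥ v) = gf σ (B * x.map σ) u v := by
  have := gf_mulVec (σ := σ) B 1 x u v
  rwa [one_mulVec, transpose_one, Matrix.one_mul] at this

theorem gf_eq_zero_right (B : GL ι F) {v : ι → F} (h : ∀ u, gf σ B.val u v = 0) : v = 0 := by
  have h1 : B.val *ᵥ (σ ∘ v) = 0 := by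
    ext i; have := h (Pi.single i 1); rwa [gf, single_one_dotProduct] at this
  have h2 := gl_mulVec_eq_zero.1 h1
  ext i; exact (map_eq_zero σ).1 (congrFun h2 i)

theorem gf_eq_zero_left (B : GL ι F) {v : ι → F} (h : ∀ u, gf σ B.val v u = 0) : v = 0 := by
  have h1 : v ᵥ* B.val = 0 := by
    ext i
    have := h (Pi.single i 1)
    have e : σ ∘ (Pi.single i (1 : F) : ι → F) = Pi.single i 1 := by
      ext k; by_cases h : k = i <;> simp [Pi.single_apply, h]
    rwa [gf, e, dotProduct_mulVec, dotProduct_single_one] at this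
  have := congrArg (· ᵥ* B⁻¹.val) h1
  simpa using this

theorem isNondegenerateForm_gf (B : GL ι F) : IsNondegenerateForm (gf σ B.val) := fun _ hv =>
  ⟨by by_contra h; push Not at h; exact hv (gf_eq_zero_right B h),
   by by_contra h; push Not at h; exact hv (gf_eq_zero_left B h)⟩

theorem exists_gl_of_nondeg {B : Matrix ι ι F} (h : IsNondegenerateForm (gf σ B)) :
    ∃ B' : GL ι F, B'.val = B := by
  have : B.det ≠ 0 := by
    intro hd
    obtain ⟨v, hv, hv'⟩ := Matrix.exists_vecMul_eq_zero_iff.2 hd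
    obtain ⟨x, hx⟩ := (h v hv).2
    apply hx
    rw [gf, dotProduct_mulVec, hv', zero_dotProduct]
  exact ⟨Matrix.GeneralLinearGroup.mkOfDetNeZero B this, rfl⟩

theorem isBilinearForm_gf (B : Matrix ι ι F) : IsBilinearForm (gf σ₀ B) :=
  ⟨gf_add_left B, gf_smul_left B, gf_add_right B, fun c v x => gf_smul_right B c v x⟩

theorem eq_gf {f : (ι → F) → (ι → F) → F} (h1 : ∀ x y v, f (x + y) v = f x v + f y v)
    (h2 : ∀ (c : F) x v, f (c • x) v = c * f x v) (h3 : ∀ v x y, f v (x + y) = f v x + f v y)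
    (h4 : ∀ (c : F) v x, f v (c • x) = σ c * f v x) : f = gf σ (gramMatrix f) := by
  let φ : (ι → F) →ₗ[F] (ι → F) →ₛₗ[σ] F := LinearMap.mk₂'ₛₗ (RingHom.id F) σ f h1 h2 h3 h4
  ext u v
  change φ u v = _
  rw [gf_eq_sum]
  conv_lhs => rw [pi_eq_sum_univ u, pi_eq_sum_univ v]
  simp only [map_sum, LinearMap.sum_apply, map_smul, LinearMap.smul_apply, map_smulₛₗ, smul_eq_mul,
    Finset.mul_sum]
  rw [Finset.sum_comm]
  refine Finset.sum_congr rfl fun a _ => Finset.sum_congr rfl fun b _ => ?_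
  have e : ∀ a : ι, (fun j => if a = j then (1 : F) else 0) = Pi.single a 1 := fun a => by
    ext j; simp [Pi.single_apply, eq_comm]
  rw [e, e]
  change _ * (_ * gramMatrix f a b) = _
  ring

theorem IsBilinearForm.eq_gf {f : (ι → F) → (ι → F) → F} (h : IsBilinearForm f) :
    f = gf σ₀ (gramMatrix f) := Asch.eq_gf h.add_left h.smul_left h.add_right h.smul_right

/-! ### isometries and similarities -/

/-- similarities -/
def Sim (σ : F →+* F) (B : Matrix ι ι F) : Subgroup (GL ι F) := similarityGroup (gf σ B)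

/-- isometries -/
def Iso (σ : F →+* F) (B : Matrix ι ι F) : Subgroup (GL ι F) :=
  Cfsg.preserving (Units.coeHom (Matrix ι ι F)) (gf σ B)

theorem mem_Sim {B : Matrix ι ι F} {g : GL ι F} :
    g ∈ Sim σ B ↔ ∃ c : Fˣ, g.valᵀ * B * g.val.map σ = (c : F) • B :=
  exists_congr fun _ => ⟨fun h => gf_ext fun u v => by rw [← gf_mulVec, h, gf_smul],
    fun h u v => by rw [gf_mulVec, h, gf_smul]⟩

theorem mem_Sim' {B : Matrix ι ι F} {g : GL ι F} :
    g ∈ Sim σ B ↔ ∃ c : Fˣ, ∀ u v, gf σ B (g.val *ᵥ u) (g.val *ᵥ v) = c * gf σ B u v := Iff.rfl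

theorem mem_Iso' {B : Matrix ι ι F} {g : GL ι F} :
    g ∈ Iso σ B ↔ ∀ u v, gf σ B (g.val *ᵥ u) (g.val *ᵥ v) = gf σ B u v := Iff.rfl

theorem mem_Iso {B : Matrix ι ι F} {g : GL ι F} :
    g ∈ Iso σ B ↔ g.valᵀ * B * g.val.map σ = B :=
  ⟨fun h => gf_ext fun u v => by rw [← gf_mulVec]; exact h u v,
    fun h => mem_Iso'.2 fun u v => by rw [gf_mulVec, h]⟩

theorem Iso_le_Sim {B : Matrix ι ι F} : Iso σ B ≤ Sim σ B := fun _ h =>
  mem_Sim.2 ⟨1, by rw [mem_Iso.1 h]; simp⟩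

theorem mem_Sim_of {B : GL ι F} {g : GL ι F} {c : F} (h : g.valᵀ * B.val * g.val.map σ = c • B.val) :
    g ∈ Sim σ B.val := by
  cases isEmpty_or_nonempty ι
  · exact mem_Sim.2 ⟨1, Subsingleton.elim _ _⟩
  have hc : c ≠ 0 := by
    rintro rfl
    have := congrArg det h
    rw [zero_smul, det_mul, det_mul, det_transpose, det_zero, ← RingHom.mapMatrix_apply,
      ← RingHom.map_det] at this
    simp [g.det_ne_zero, B.det_ne_zero] at this
  exact mem_Sim.2 ⟨Units.mk0 c hc, h⟩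

theorem scalars_le_Sim {B : Matrix ι ι F} : Z ≤ Sim σ B := by
  intro z hz
  obtain ⟨c, rfl⟩ := exists_scal hz
  refine ⟨c * Units.map σ.toMonoidHom c, fun u v => ?_⟩
  rw [scal_mulVec, scal_mulVec, gf_smul_left, gf_smul_right, ← mul_assoc]; rfl

theorem scal_mem_Iso [Nonempty ι] {B : GL ι F} {c : Fˣ} : scal ι c ∈ Iso σ B.val ↔ c * σ c = 1 := by
  rw [mem_Iso']
  simp only [scal_mulVec, gf_smul_left, gf_smul_right]
  constructor
  · intro h
    obtain ⟨i⟩ := ‹Nonempty ι›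
    obtain ⟨x, hx⟩ := (isNondegenerateForm_gf (σ := σ) B (Pi.single i 1) (by simp)).1
    have := h x (Pi.single i 1)
    rw [← mul_assoc, mul_comm (σ c)] at this
    exact (mul_eq_right₀ hx).1 this
  · intro h u v; rw [← mul_assoc, mul_comm (σ c), h, one_mul]

theorem Sim_smul {B : Matrix ι ι F} {c : F} (hc : c ≠ 0) : Sim σ (c • B) = Sim σ B := by
  ext g
  simp only [mem_Sim', gf_smul]
  refine exists_congr fun d => forall₂_congr fun u v => ?_
  rw [mul_left_comm, mul_right_inj' hc]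

theorem Iso_smul {B : Matrix ι ι F} {c : F} (hc : c ≠ 0) : Iso σ (c • B) = Iso σ B := by
  ext g
  simp only [mem_Iso', gf_smul, mul_right_inj' hc]

theorem le_Iso_of_perfect {B : Matrix ι ι F} {K : Subgroup (GL ι F)} (hK : ⁅K, K⁆ = K)
    (h : K ≤ Sim σ B) : K ≤ Iso σ B := by
  rw [← hK]
  refine Subgroup.commutator_le.2 fun x hx y hy => mem_Iso'.2 fun u v => ?_
  obtain ⟨c, hc⟩ := h hx
  obtain ⟨d, hd⟩ := h hy
  have h1 := hc (x⁻¹.val *ᵥ y⁻¹.val *ᵥ u) (x⁻¹.val *ᵥ y⁻¹.val *ᵥ v)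
  have h2 := hd (y⁻¹.val *ᵥ u) (y⁻¹.val *ᵥ v)
  simp only [mulVec_inv_mulVec] at h1 h2
  simp only [commutatorElement_def, Units.val_mul, ← mulVec_mulVec, hc, hd]
  rw [h2, h1]; ring

/-! ### adjoints -/

/-- the adjoint of a matrix -/
def adj (σ : F →+* F) (B : GL ι F) (x : Matrix ι ι F) : Matrix ι ι F := (cjm B⁻¹ xᵀ).map σ

theorem adj_mul (B : GL ι F) (x y : Matrix ι ι F) : adj σ B (x * y) = adj σ B y * adj σ B x := by
  rw [adj, transpose_mul, map_mul, Matrix.map_mul]; rfl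

theorem adj_add (B : GL ι F) (x y : Matrix ι ι F) : adj σ B (x + y) = adj σ B x + adj σ B y := by
  rw [adj, transpose_add, map_add, Matrix.map_add _ (map_add σ)]; rfl

theorem adj_smul (B : GL ι F) (c : F) (x : Matrix ι ι F) : adj σ B (c • x) = σ c • adj σ B x := by
  rw [adj, transpose_smul, map_smul]; ext; simp [adj]

@[simp] theorem adj_one (B : GL ι F) : adj σ B 1 = 1 := by
  rw [adj, transpose_one, map_one, Matrix.map_one _ (map_zero σ) (map_one σ)]

@[simp] theorem adj_zero (B : GL ι F) : adj σ B 0 = 0 := by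
  rw [adj, transpose_zero, map_zero, Matrix.map_zero _ (map_zero σ)]

theorem adj_neg (B : GL ι F) (x : Matrix ι ι F) : adj σ B (-x) = - adj σ B x := by
  rw [← neg_one_smul F x, adj_smul]; simp

theorem adj_sub (B : GL ι F) (x y : Matrix ι ι F) : adj σ B (x - y) = adj σ B x - adj σ B y := by
  rw [sub_eq_add_neg, adj_add, adj_neg, sub_eq_add_neg]

theorem adj_pow (B : GL ι F) (x : Matrix ι ι F) (k : ℕ) : adj σ B (x ^ k) = adj σ B x ^ k := by
  induction k with
  | zero => simp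
  | succ k ih => rw [pow_succ, adj_mul, ih, pow_succ']

theorem adj_injective (B : GL ι F) : Function.Injective (adj σ B) := fun _ _ h =>
  transpose_injective ((cjm B⁻¹).injective (Matrix.map_injective σ.injective h))

theorem adj_eq_zero {B : GL ι F} {x : Matrix ι ι F} : adj σ B x = 0 ↔ x = 0 := by
  rw [← adj_zero (σ := σ) B, (adj_injective B).eq_iff, adj_zero]

theorem map_map_of (hσ : ∀ a, σ (σ a) = a) {κ κ' : Type} (x : Matrix κ κ' F) : (x.map σ).map σ = x := by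
  ext; simp [hσ]

theorem gf_adj (hσ : ∀ a, σ (σ a) = a) (B : GL ι F) (x : Matrix ι ι F) (u v : ι → F) :
    gf σ B.val (x *ᵥ u) v = gf σ B.val u (adj σ B x *ᵥ v) := by
  rw [gf_mulVec_left, gf_mulVec_right, adj, map_map_of hσ, cjm_apply, inv_inv, ← Matrix.mul_assoc,
    ← Matrix.mul_assoc, Units.mul_inv, Matrix.one_mul]

theorem eq_adj (hσ : ∀ a, σ (σ a) = a) {B : GL ι F} {x y : Matrix ι ι F}
    (h : ∀ u v, gf σ B.val (x *ᵥ u) v = gf σ B.val u (y *ᵥ v)) : adj σ B x = y := by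
  refine matrix_ext_mulVec fun v => sub_eq_zero.1 (gf_eq_zero_right (σ := σ) B fun u => ?_)
  rw [gf_sub_right, ← gf_adj hσ, h, sub_self]

theorem adj_of_mul {B g : GL ι F} {c : F} (hσ : ∀ a, σ (σ a) = a)
    (h : g.valᵀ * B.val * g.val.map σ = c • B.val) : adj σ B g.val = σ c • g⁻¹.val := by
  refine eq_adj hσ fun u v => ?_
  rw [smul_mulVec, gf_smul_right, hσ, ← gf_smul, ← h, ← gf_mulVec, mulVec_inv_mulVec]

theorem adj_of_Iso (hσ : ∀ a, σ (σ a) = a) {B g : GL ι F} (h : g ∈ Iso σ B.val) :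
    adj σ B g.val = g⁻¹.val := by
  have := adj_of_mul (c := 1) hσ (by rw [mem_Iso.1 h, one_smul])
  rwa [map_one, one_smul] at this

theorem mem_Iso_of_adj (hσ : ∀ a, σ (σ a) = a) {B g : GL ι F} (h : adj σ B g.val * g.val = 1) :
    g ∈ Iso σ B.val := mem_Iso'.2 fun u v => by
  rw [gf_adj hσ, mulVec_mulVec, h, one_mulVec]

theorem mem_Sim_of_adj (hσ : ∀ a, σ (σ a) = a) {B g : GL ι F} (h : IsSc (adj σ B g.val * g.val)) :
    g ∈ Sim σ B.val := by
  obtain ⟨c, hc⟩ := h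
  refine mem_Sim_of (c := σ c) (gf_ext (σ := σ) fun u v => ?_)
  rw [← gf_mulVec, gf_adj hσ, mulVec_mulVec, hc, smul_mulVec, one_mulVec, gf_smul_right, gf_smul]

theorem adj_cjm (hσ : ∀ a, σ (σ a) = a) {B g : GL ι F} (h : g ∈ Sim σ B.val) (x : Matrix ι ι F) :
    adj σ B (cjm g x) = cjm g (adj σ B x) := by
  obtain ⟨c, hc⟩ := h
  refine eq_adj hσ fun u v => ?_
  rw [← mulVec_inv_mulVec g u, ← mulVec_inv_mulVec g v, cjm_mulVec, cjm_mulVec, hc, hc, gf_adj hσ]

theorem adj_mem_alg (hσ : ∀ a, σ (σ a) = a) {B : GL ι F} {N : Subgroup (GL ι F)} (h : N ≤ Sim σ B.val)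
    {x : Matrix ι ι F} (hx : x ∈ alg N) : adj σ B x ∈ alg N :=
  alg_induction (p := fun x => adj σ B x ∈ alg N)
    (fun g hg => by
      obtain ⟨c, hc⟩ := mem_Sim.1 (h hg)
      rw [adj_of_mul hσ hc]
      exact Subalgebra.smul_mem _ (coe_mem_alg (N.inv_mem hg)) _)
    (by simp) (fun a b ha hb => by rw [adj_add]; exact add_mem ha hb)
    (fun c a ha => by rw [adj_smul]; exact Subalgebra.smul_mem _ ha _) hx

/-- reflexive non-degenerate forms -/
structure RF (σ : F →+* F) (ε : F) (B : GL ι F) : Prop where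
  σσ : ∀ a, σ (σ a) = a
  εε : ε * ε = 1
  symm : B.valᵀ = ε • B.val.map σ

theorem eq_one_or_of_mul_self {ε : F} (h : ε * ε = 1) : ε = 1 ∨ ε = -1 := mul_self_eq_one_iff.1 h

theorem RF.σε {ε : F} {B : GL ι F} (h : RF σ ε B) : σ ε = ε := by
  rcases eq_one_or_of_mul_self h.εε with e | e <;> simp [e]

theorem RF.ε_ne {ε : F} {B : GL ι F} (h : RF σ ε B) : ε ≠ 0 := fun e => by
  have := h.εε; rw [e] at this; simp at this

theorem RF.gf_symm {ε : F} {B : GL ι F} (h : RF σ ε B) (u v : ι → F) :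
    gf σ B.val v u = ε * σ (gf σ B.val u v) := by
  have e : ∀ a b, B.val a b = ε * σ (B.val b a) := fun a b => congrFun (congrFun h.symm b) a
  rw [gf_eq_sum, gf_eq_sum, Finset.sum_comm]
  simp only [map_sum, map_mul, Finset.mul_sum, h.σσ]
  refine Finset.sum_congr rfl fun a _ => Finset.sum_congr rfl fun b _ => ?_
  rw [e b a]; ring

theorem RF.gf_eq_zero_comm {ε : F} {B : GL ι F} (h : RF σ ε B) {u v : ι → F} :
    gf σ B.val u v = 0 ↔ gf σ B.val v u = 0 := by
  rw [h.gf_symm u v]; simp [h.ε_ne]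

theorem RF.gf_adj {ε : F} {B : GL ι F} (h : RF σ ε B) (x : Matrix ι ι F) (u v : ι → F) :
    gf σ B.val (x *ᵥ u) v = gf σ B.val u (adj σ B x *ᵥ v) := Asch.gf_adj h.σσ B x u v

theorem RF.gf_adj' {ε : F} {B : GL ι F} (h : RF σ ε B) (x : Matrix ι ι F) (u v : ι → F) :
    gf σ B.val u (x *ᵥ v) = gf σ B.val (adj σ B x *ᵥ u) v := by
  rw [h.gf_symm, h.gf_adj, ← h.gf_symm]

theorem RF.adj_adj {ε : F} {B : GL ι F} (h : RF σ ε B) (x : Matrix ι ι F) :
    adj σ B (adj σ B x) = x := eq_adj h.σσ fun u v => (h.gf_adj' x u v).symm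

theorem RF.of_gf {ε : F} {B : GL ι F} (h1 : ∀ a, σ (σ a) = a) (h2 : ε * ε = 1)
    (h : ∀ u v, gf σ B.val v u = ε * σ (gf σ B.val u v)) : RF σ ε B :=
  ⟨h1, h2, by ext i j; simpa [gf_single] using h (Pi.single i 1) (Pi.single j 1)⟩

/-- closed under adjoints -/
def StCl (σ : F →+* F) (B : GL ι F) (A : Subalgebra F (Matrix ι ι F)) : Prop := ∀ x ∈ A, adj σ B x ∈ A

theorem RF.stCl_cen {ε : F} {B : GL ι F} (h : RF σ ε B) {A : Subalgebra F (Matrix ι ι F)}
    (hA : StCl σ B A) : StCl σ B (cen A) := fun x hx => ⟨hA x hx.1, fun y hy => by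
  have := congrArg (adj σ B) (hx.2 _ (hA y hy))
  rw [adj_mul, adj_mul, h.adj_adj] at this
  exact this.symm⟩

theorem stCl_alg (hσ : ∀ a, σ (σ a) = a) {B : GL ι F} {N : Subgroup (GL ι F)} (h : N ≤ Sim σ B.val) :
    StCl σ B (alg N) := fun _ hx => adj_mem_alg hσ h hx

theorem StCl.isAdjointClosedFor (hσ : ∀ a, σ (σ a) = a) {B : GL ι F} {A : Subalgebra F (Matrix ι ι F)}
    (hA : StCl σ B A) : IsAdjointClosedFor (gf σ B.val) A :=
  fun k hk => ⟨_, hA k hk, gf_adj hσ B k⟩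

theorem isSelfAdjointFor_iff (hσ : ∀ a, σ (σ a) = a) {B : GL ι F} {A : Subalgebra F (Matrix ι ι F)} :
    IsSelfAdjointFor (gf σ B.val) A ↔ ∀ k ∈ A, adj σ B k = k :=
  forall₂_congr fun k _ => ⟨eq_adj hσ, fun h u v => by rw [gf_adj hσ, h]⟩

/-! ### Schur's lemma for forms -/

theorem map_gl_mul_inv (σ : F →+* F) (g : GL ι F) : g.val.map σ * g⁻¹.val.map σ = 1 := by
  rw [← Matrix.map_mul, Units.mul_inv, Matrix.map_one _ (map_zero σ) (map_one σ)]

theorem map_gl_inv_mul (σ : F →+* F) (g : GL ι F) : g⁻¹.val.map σ * g.val.map σ = 1 := by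
  rw [← Matrix.map_mul, Units.inv_mul, Matrix.map_one _ (map_zero σ) (map_one σ)]

theorem schur_form {N : Subgroup (GL ι F)} (hN : alg N = ⊤) {B : GL ι F} {C : Matrix ι ι F}
    (h : ∀ x ∈ N, ∃ c : F, x.valᵀ * B.val * x.val.map σ = c • B.val ∧ x.valᵀ * C * x.val.map σ = c • C) :
    ∃ l : F, C = l • B.val := by
  have : IsSc (C * B⁻¹.val)ᵀ := isSc_of_alg_top hN fun x hx => by
    obtain ⟨c, h1, h2⟩ := h x hx
    apply transpose_injective
    rw [transpose_mul, transpose_mul _ (_ᵀ), transpose_transpose]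
    have e : B.val * x.val.map σ * (x⁻¹.val.map σ * B⁻¹.val) = 1 := by
      rw [Matrix.mul_assoc, ← Matrix.mul_assoc (x.val.map σ), map_gl_mul_inv, Matrix.one_mul, Units.mul_inv]
    calc x.valᵀ * (C * B⁻¹.val) = x.valᵀ * (C * B⁻¹.val) * (B.val * x.val.map σ *
          (x⁻¹.val.map σ * B⁻¹.val)) := by rw [e, Matrix.mul_one]
      _ = (x.valᵀ * C * (B⁻¹.val * B.val) * x.val.map σ) * (x⁻¹.val.map σ * B⁻¹.val) := by
          simp only [Matrix.mul_assoc]
      _ = C * B⁻¹.val * (x.valᵀ * B.val * x.val.map σ) * (x⁻¹.val.map σ * B⁻¹.val) := by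
          rw [Units.inv_mul, Matrix.mul_one, h1, h2, Matrix.mul_smul, Matrix.mul_assoc C, Units.inv_mul,
            Matrix.mul_one]
      _ = C * B⁻¹.val * x.valᵀ * (B.val * x.val.map σ * (x⁻¹.val.map σ * B⁻¹.val)) := by
          simp only [Matrix.mul_assoc]
      _ = _ := by rw [e, Matrix.mul_one]
  obtain ⟨l, hl⟩ := this
  refine ⟨l, ?_⟩
  have h2 := congrArg (fun y => yᵀ * B.val) hl
  simpa [Matrix.mul_assoc] using h2

theorem schur_Iso {N : Subgroup (GL ι F)} (hN : alg N = ⊤) {B : GL ι F} {C : Matrix ι ι F}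
    (h1 : N ≤ Iso σ B.val) (h2 : N ≤ Iso σ C) : ∃ l : F, C = l • B.val :=
  schur_form hN fun x hx => ⟨1, by rw [mem_Iso.1 (h1 hx), one_smul], by rw [mem_Iso.1 (h2 hx), one_smul]⟩

theorem le_Sim_of_nrm {N G : Subgroup (GL ι F)} (hN : alg N = ⊤) {B : GL ι F} (h : N ≤ Iso σ B.val)
    (hG : G ≤ Subgroup.normalizer (N : Set (GL ι F))) : G ≤ Sim σ B.val := by
  intro g hg
  obtain ⟨l, hl⟩ := schur_Iso hN (C := g.valᵀ * B.val * g.val.map σ) h fun x hx => mem_Iso'.2 fun u v => by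
    rw [← gf_mulVec, ← gf_mulVec, ← cjm_mulVec, ← cjm_mulVec, cjm_coe]
    exact h (Comp.conj_mem_of_le_normalizer hG hg hx) _ _
  exact mem_Sim_of hl

theorem trace_map (σ : F →+* F) (x : Matrix ι ι F) : (x.map σ).trace = σ x.trace := by
  simp [Matrix.trace, map_sum]

theorem eq_zero_of_trace {N : Subgroup (GL ι F)} (hN : alg N = ⊤) {y : Matrix ι ι F}
    (h : ∀ x ∈ N, (x.val * y).trace = 0) : y = 0 := by
  have : ∀ a : Matrix ι ι F, (a * y).trace = 0 := fun a =>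
    alg_induction (p := fun a => (a * y).trace = 0) h (by simp)
      (fun a b ha hb => by rw [Matrix.add_mul, trace_add, ha, hb, add_zero])
      (fun c a ha => by rw [Matrix.smul_mul, trace_smul, ha, smul_zero]) (hN ▸ Algebra.mem_top)
  ext i j
  have := this (single j i 1)
  rwa [trace_single_mul, one_smul] at this

theorem exists_Iso_of_trace (hσ : ∀ a, σ (σ a) = a) {N : Subgroup (GL ι F)} (hN : alg N = ⊤)
    (h : ∀ x ∈ N, σ x⁻¹.val.trace = x.val.trace) : ∃ B : GL ι F, N ≤ Iso σ B.val := by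
  let ρ : N →* Matrix ι ι F :=
    { toFun := fun x => (x.1⁻¹.valᵀ).map σ
      map_one' := by simp
      map_mul' := fun x y => by
        rw [Subgroup.coe_mul, _root_.mul_inv_rev, Units.val_mul, transpose_mul, Matrix.map_mul] }
  obtain ⟨T, hT⟩ := exists_conj_of_trace hN ρ (fun y hy => by
      have : (y.map σ)ᵀ = 0 := eq_zero_of_trace hN fun x hx => by
        have := congrArg σ (hy ⟨x⁻¹, N.inv_mem hx⟩)
        rw [← trace_map, Matrix.map_mul, map_zero] at this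
        rw [← trace_transpose, transpose_mul, transpose_transpose, ← this]
        change _ = (_ * ((x⁻¹⁻¹.valᵀ).map σ).map σ).trace
        rw [map_map_of hσ, inv_inv]
      rw [← map_map_of hσ y, ← transpose_transpose (y.map σ), this]; simp)
    (fun x => by
      change ((x.1⁻¹.valᵀ).map σ).trace = _
      rw [trace_map, trace_transpose, h x x.2])
  refine ⟨Matrix.GeneralLinearGroup.map σ T, fun x hx => mem_Iso.2 ?_⟩
  have h1 := cjm_eq_iff.1 (hT ⟨x, hx⟩).symm
  change T.val * x.val = (x⁻¹.valᵀ).map σ * T.val at h1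
  change x.valᵀ * T.val.map σ * x.val.map σ = T.val.map σ
  rw [Matrix.mul_assoc, ← Matrix.map_mul, h1, Matrix.map_mul, map_map_of hσ, ← Matrix.mul_assoc,
    ← transpose_mul, Units.inv_mul, transpose_one, Matrix.one_mul]

theorem gl_ne_zero [Nonempty ι] (B : GL ι F) : B.val ≠ 0 := fun h => B.det_ne_zero (by rw [h, det_zero])

theorem mul_σ_of_symm (hσ : ∀ a, σ (σ a) = a) {κ : Type} {B : Matrix κ κ F} (hB : B ≠ 0) {α : F}
    (h : Bᵀ = α • B.map σ) : α * σ α = 1 := by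
  have e : ∀ a b, B a b = α * σ (B b a) := fun a b => congrFun (congrFun h b) a
  by_contra hne
  apply hB
  ext i j
  have := e i j
  rw [e j i, map_mul, hσ, ← mul_assoc] at this
  by_contra h0
  exact hne ((mul_eq_right₀ h0).1 this.symm)

theorem exists_symm_of_Sim (hσ : ∀ a, σ (σ a) = a) {N : Subgroup (GL ι F)} (hN : alg N = ⊤) {B : GL ι F}
    (h : ∀ x ∈ N, ∃ c, σ c = c ∧ x.valᵀ * B.val * x.val.map σ = c • B.val) :
    ∃ α : F, B.valᵀ = α • B.val.map σ := by
  obtain ⟨l, hl⟩ := schur_form (σ := σ) hN (B := B) (C := (B.valᵀ).map σ) fun x hx => by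
    obtain ⟨c, hc, h1⟩ := h x hx
    refine ⟨c, h1, ?_⟩
    have := congrArg (fun y => yᵀ.map σ) h1
    simp only [transpose_mul, Matrix.map_mul, transpose_transpose, ← transpose_map, map_map_of hσ] at this
    rw [Matrix.mul_assoc, this]
    ext; simp [hc]
  refine ⟨σ l, ?_⟩
  rw [← map_map_of hσ B.valᵀ, hl]
  ext; simp

theorem exists_symm_of_Iso (hσ : ∀ a, σ (σ a) = a) {N : Subgroup (GL ι F)} (hN : alg N = ⊤) {B : GL ι F}
    (h : N ≤ Iso σ B.val) : ∃ α : F, B.valᵀ = α • B.val.map σ :=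
  exists_symm_of_Sim hσ hN fun x hx => ⟨1, map_one σ, by rw [mem_Iso.1 (h hx), one_smul]⟩

theorem coe_scal_mul (c : Fˣ) (B : GL ι F) : (scal ι c * B).val = (c : F) • B.val := by
  rw [Units.val_mul, coe_scal, Matrix.smul_mul, Matrix.one_mul]

theorem RF.of_id [Nonempty ι] {B : GL ι F} {α : F} (h : B.valᵀ = α • B.val.map σ₀) : RF σ₀ α B :=
  ⟨fun _ => rfl, mul_σ_of_symm (σ := σ₀) (fun _ => rfl) (gl_ne_zero B) h, h⟩

theorem exists_herm [Nonempty ι] (hσ : ∀ a, σ (σ a) = a) (hne : σ ≠ σ₀) {B : GL ι F} {α : F}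
    (h : B.valᵀ = α • B.val.map σ) : ∃ c : Fˣ, RF σ 1 (scal ι c * B) := by
  have h1 := mul_σ_of_symm hσ (gl_ne_zero B) h
  obtain ⟨y, hy, hy'⟩ := Classical.hilbert90 σ hne hσ (x := σ α) (by rw [hσ, mul_comm, h1])
  refine ⟨Units.mk0 y hy, hσ, one_mul 1, ?_⟩
  rw [coe_scal_mul, transpose_smul, h, smul_smul, one_smul]
  rw [div_eq_iff ((map_ne_zero σ).2 hy)] at hy'
  ext i j
  simp only [Units.val_mk0, Matrix.smul_apply, map_apply, smul_eq_mul, map_mul]
  congr 1
  linear_combination α * hy' + σ y * h1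

theorem RF.smul {ε : F} {B : GL ι F} (h : RF σ ε B) {c : Fˣ} (hc : σ c = c) : RF σ ε (scal ι c * B) := by
  refine ⟨h.σσ, h.εε, ?_⟩
  rw [coe_scal_mul, transpose_smul, h.symm]
  ext; simp [hc]; ring

end Cfsg.Agent.Classical.Asch
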