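import Cfsg.Agent.Lib.Classical.Asch5
import Cfsg.Agent.Lib.Classical.Orth

/-!
Alternating, quadratic, hermitian forms by Gram matrices; tensor products of forms.
-/

set_option autoImplicit false

namespace Cfsg.Agent.Classical.Asch
open Matrix Cfsg.Geo Module
open scoped MatrixGroups Kronecker

variable {ι : Type} [Fintype ι] [DecidableEq ι] {F : Type*} [Field F] {σ : F →+* F}

local notation "Z" => scalars ι F
local notation "σ₀" => RingHom.id F

theorem map_σ₀ {κ κ' : Type} (x : Matrix κ κ' F) : x.map σ₀ = x := rfl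

/-- alternating matrices -/
def Alt {ι : Type} [Fintype ι] (B : Matrix ι ι F) : Prop := ∀ v, gf σ₀ B v v = 0

theorem Alt.skew {B : Matrix ι ι F} (h : Alt B) (u v : ι → F) : gf σ₀ B v u = - gf σ₀ B u v := by
  have := h (u + v)
  rw [gf_add_left, gf_add_right, gf_add_right, h, h] at this
  linear_combination this

theorem Alt.transpose {B : Matrix ι ι F} (h : Alt B) : Bᵀ = -B := by
  ext i j
  simpa [gf_single] using h.skew (Pi.single i 1) (Pi.single j 1)

theorem Alt.diag {B : Matrix ι ι F} (h : Alt B) (i : ι) : B i i = 0 := by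
  rw [← gf_single (σ := σ₀) B, h]

theorem alt_of {B : Matrix ι ι F} (h1 : Bᵀ = -B) (h2 : ∀ i, B i i = 0) : Alt B := by
  intro v
  rw [gf_eq_sum, ← Finset.sum_product']
  refine Finset.sum_involution (fun p _ => p.swap) (fun p _ => ?_) (fun p _ hp e => hp ?_)
    (fun _ _ => by simp) (fun _ _ => rfl)
  · have : B p.2 p.1 = - B p.1 p.2 := congrFun (congrFun h1 p.1) p.2
    simp [this]; ring
  · have : p.2 = p.1 := congrArg Prod.fst e
    rw [this, h2]; simp

theorem Alt.smul {B : Matrix ι ι F} (h : Alt B) (c : F) : Alt (c • B) := fun v => by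
  rw [gf_smul, h, mul_zero]

theorem Alt.pb {κ : Type} [Fintype κ] {B : Matrix ι ι F} (h : Alt B) (g : Matrix ι κ F) :
    Alt (gᵀ * B * g) := fun v => by
  have := gf_mulVec (σ := σ₀) B g g v v
  rw [h] at this
  exact this.symm

theorem Alt.rf {B : GL ι F} (h : Alt B.val) : RF σ₀ (-1) B :=
  ⟨fun _ => rfl, by simp, by rw [h.transpose, map_σ₀, neg_one_smul]⟩

theorem RF.alt {B : GL ι F} (h : RF σ₀ (-1) B) (h2 : (2 : F) ≠ 0) : Alt B.val := fun v => by
  have := h.gf_symm v v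
  simp only [RingHom.id_apply] at this
  apply mul_left_cancel₀ h2
  linear_combination this

theorem RF.gf_comm {B : GL ι F} (h : RF σ₀ 1 B) (u v : ι → F) : gf σ₀ B.val u v = gf σ₀ B.val v u := by
  simpa using h.gf_symm v u

theorem RF.one_of_two {ε : F} {B : GL ι F} (h : RF σ ε B) (h2 : (2 : F) = 0) : RF σ 1 B := by
  rcases eq_one_or_of_mul_self h.εε with e | e
  · exact e ▸ h
  · have : ε = 1 := by rw [e]; linear_combination -h2
    exact this ▸ h

theorem Alt.even {B : GL ι F} (h : Alt B.val) : Even (Fintype.card ι) := by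
  refine symp_even _ (Form.ofAlt (LinearMap.mk₂ F (gf σ₀ B.val) (gf_add_left _) (gf_smul_left _)
    (gf_add_right _) (fun c u v => gf_smul_right _ c u v)) h) (fun v hv => gf_eq_zero_right B hv) ?_
  simp

theorem Alt.isSymplecticForm {B : GL ι F} (h : Alt B.val) : IsSymplecticForm (gf σ₀ B.val) :=
  ⟨isBilinearForm_gf _, fun v w => h.skew w v, h, isNondegenerateForm_gf B⟩

theorem IsSymplecticForm.exists {f : (ι → F) → (ι → F) → F} (h : IsSymplecticForm f) :
    ∃ B : GL ι F, Alt B.val ∧ f = gf σ₀ B.val := by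
  have e := IsBilinearForm.eq_gf h.bilinear
  obtain ⟨B, hB⟩ := exists_gl_of_nondeg (e ▸ h.nondegenerate)
  exact ⟨B, fun v => by rw [hB, ← e, h.alternating], hB ▸ e⟩

theorem RF.isSymmetricForm {B : GL ι F} (h : RF σ₀ 1 B) : IsSymmetricForm (gf σ₀ B.val) :=
  ⟨isBilinearForm_gf _, h.gf_comm, isNondegenerateForm_gf B⟩

theorem IsSymmetricForm.exists {f : (ι → F) → (ι → F) → F} (h : IsSymmetricForm f) :
    ∃ B : GL ι F, RF σ₀ 1 B ∧ f = gf σ₀ B.val := by
  have e := IsBilinearForm.eq_gf h.bilinear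
  obtain ⟨B, hB⟩ := exists_gl_of_nondeg (e ▸ h.nondegenerate)
  exact ⟨B, RF.of_gf (fun _ => rfl) (one_mul 1) fun u v => by
    rw [hB, ← e, h.symm]; simp, hB ▸ e⟩

theorem exists_of_herm (hσ : ∀ a, σ (σ a) = a) {f : (ι → F) → (ι → F) → F}
    (h1 : ∀ x y v, f (x + y) v = f x v + f y v) (h2 : ∀ (c : F) x v, f (c • x) v = c * f x v)
    (h3 : ∀ v w, f v w = σ (f w v)) (h4 : IsNondegenerateForm f) :
    ∃ B : GL ι F, RF σ 1 B ∧ f = gf σ B.val := by
  have e := eq_gf (σ := σ) h1 h2 (fun v x y => by rw [h3, h1, map_add, ← h3, ← h3])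
    (fun c v x => by rw [h3, h2, map_mul, ← h3])
  obtain ⟨B, hB⟩ := exists_gl_of_nondeg (e ▸ h4)
  exact ⟨B, RF.of_gf hσ (one_mul 1) fun u v => by rw [hB, ← e, h3, one_mul], hB ▸ e⟩

theorem IsUnitaryForm.exists {τ : F ≃+* F} {f : (ι → F) → (ι → F) → F} (h : IsUnitaryForm τ f) :
    (τ : F →+* F) ≠ σ₀ ∧ ∃ B : GL ι F, RF (τ : F →+* F) 1 B ∧ f = gf (τ : F →+* F) B.val :=
  ⟨fun e => h.ne_refl (RingEquiv.ext fun x => RingHom.congr_fun e x),
    exists_of_herm h.involutive h.add_left h.smul_left h.herm h.nondegenerate⟩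

theorem RF.isUnitaryForm {B : GL ι F} (h : RF σ 1 B) (hne : σ ≠ σ₀) :
    ∃ τ : F ≃+* F, IsUnitaryForm τ (gf σ B.val) :=
  ⟨RingEquiv.ofBijective σ (Function.Involutive.bijective h.σσ),
    fun e => hne (RingHom.ext fun x => RingEquiv.congr_fun e x), h.σσ, gf_add_left _, gf_smul_left _,
    fun v w => by simpa using h.gf_symm w v, isNondegenerateForm_gf B⟩

theorem RF.isUnitaryFormPow {q : ℕ} (hq : ∀ x, σ x = x ^ q) {B : GL ι F} (h : RF σ 1 B) :
    IsUnitaryFormPow q (gf σ B.val) :=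
  ⟨gf_add_left _, gf_smul_left _, fun v w => by simpa [hq] using h.gf_symm w v, isNondegenerateForm_gf B⟩

theorem IsUnitaryFormPow.exists (hσ : ∀ a, σ (σ a) = a) {q : ℕ} (hq : ∀ x, σ x = x ^ q)
    {f : (ι → F) → (ι → F) → F} (h : IsUnitaryFormPow q f) :
    ∃ B : GL ι F, RF σ 1 B ∧ f = gf σ B.val :=
  exists_of_herm hσ h.add_left h.smul_left (fun v w => by rw [hq, h.herm]) h.nondegenerate

theorem fixesForm_iff {K : Subgroup (GL ι F)} {B : Matrix ι ι F} :
    FixesForm (matrixSet K) (gf σ B) ↔ K ≤ Iso σ B :=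
  ⟨fun h g hg => h _ ⟨g, hg, rfl⟩, by rintro h _ ⟨g, hg, rfl⟩; exact h hg⟩

theorem fixesQuadForm_iff {K : Subgroup (GL ι F)} {Q : (ι → F) → F} :
    FixesQuadForm (matrixSet K) Q ↔ K ≤ Cfsg.isometryGroup F Q :=
  ⟨fun h g hg => mem_isometryGroup.2 (h _ ⟨g, hg, rfl⟩),
    by rintro h _ ⟨g, hg, rfl⟩; exact mem_isometryGroup.1 (h hg)⟩

/-! ### quadratic forms -/

theorem two_ne_zero_iff_odd [Fintype F] : (2 : F) ≠ 0 ↔ Odd (Fintype.card F) := by
  rw [← Nat.not_even_iff_odd, Nat.even_iff, ← FiniteField.even_card_iff_char_two]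
  refine not_congr ⟨fun h => ?_, fun h => ?_⟩
  · have := (ringChar.spec F 2).1 (by exact_mod_cast h)
    exact (Nat.prime_dvd_prime_iff_eq (CharP.char_is_prime F _) Nat.prime_two).1 this
  · exact_mod_cast (ringChar.spec F 2).2 (h ▸ dvd_rfl)

theorem Irr.eq_zero_of_additive [Finite F] {G : Subgroup (GL ι F)} (hG : Irr G)
    (hι : 2 ≤ Fintype.card ι) {D : (ι → F) → F} (hadd : ∀ u v, D (u + v) = D u + D v)
    (hsmul : ∀ (c : F) v, D (c • v) = c ^ 2 * D v)
    (hinv : ∀ g ∈ G, ∀ v, D v = 0 → D (g.val *ᵥ v) = 0) (v : ι → F) : D v = 0 := by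
  by_cases h2 : (2 : F) = 0
  swap
  · have h1 := hsmul 2 v
    rw [two_smul, hadd] at h1
    apply mul_left_cancel₀ h2
    linear_combination -h1
  let W : Submodule F (ι → F) :=
    { carrier := {v | D v = 0}
      zero_mem' := by simpa using hsmul 0 0
      add_mem' := fun {a b} ha hb => by
        simp only [Set.mem_ofPred_eq] at *; rw [hadd, ha, hb, add_zero]
      smul_mem' := fun c a ha => by
        simp only [Set.mem_ofPred_eq] at *; rw [hsmul, ha, mul_zero] }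
  rcases hG W hinv with h | h
  · exfalso
    obtain ⟨i, j, hij⟩ := Fintype.exists_pair_of_one_lt_card hι
    have hW : ∀ v, D v = 0 → v = 0 := fun v hv => (Submodule.eq_bot_iff _).1 h v hv
    have hb : D (Pi.single j 1) ≠ 0 := fun e => by simpa using hW _ e
    obtain ⟨c, hc⟩ := exists_sq_of_two h2 (D (Pi.single i 1) / D (Pi.single j 1))
    have := congrFun (hW (Pi.single i 1 + c • Pi.single j 1) (by
      rw [hadd, hsmul, hc, div_mul_cancel₀ _ hb, ← two_mul, h2, zero_mul])) i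
    simp [hij] at this
  · exact (h ▸ Submodule.mem_top : v ∈ W)

theorem Irr.alt [Finite F] {G : Subgroup (GL ι F)} (hG : Irr G) (hι : 2 ≤ Fintype.card ι)
    (h2 : (2 : F) = 0) {B : Matrix ι ι F} (hB : Bᵀ = B) (h : G ≤ Sim σ₀ B) : Alt B :=
  hG.eq_zero_of_additive hι (D := fun v => gf σ₀ B v v)
    (fun u v => by
      have := gf_transpose B u v
      rw [hB] at this
      simp only [gf_add_left, gf_add_right]
      linear_combination gf σ₀ B u v * h2 - this)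
    (fun c v => by simp only [gf_smul_left, gf_smul_right, RingHom.id_apply]; ring)
    (fun g hg v hv => by
      obtain ⟨c, hc⟩ := h hg
      rw [hc, hv, mul_zero])

/-- `Q` is a quadratic form with polar form `B` -/
structure QF (Q : (ι → F) → F) (B : Matrix ι ι F) : Prop where
  smul : ∀ (c : F) v, Q (c • v) = c ^ 2 * Q v
  add : ∀ u v, Q (u + v) = Q u + Q v + gf σ₀ B u v

theorem QF.polar {Q : (ι → F) → F} {B : Matrix ι ι F} (h : QF Q B) : QuadraticMap.polar Q = gf σ₀ B := by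
  ext u v; rw [QuadraticMap.polar, h.add]; ring

theorem QF.zero {Q : (ι → F) → F} {B : Matrix ι ι F} (h : QF Q B) : Q 0 = 0 := by
  simpa using h.smul 0 0

theorem QF.comm {Q : (ι → F) → F} {B : Matrix ι ι F} (h : QF Q B) (u v : ι → F) :
    gf σ₀ B u v = gf σ₀ B v u := by rw [← h.polar, QuadraticMap.polar_comm]

theorem QF.transpose {Q : (ι → F) → F} {B : Matrix ι ι F} (h : QF Q B) : Bᵀ = B :=
  gf_ext (σ := σ₀) fun u v => by rw [gf_transpose, h.comm]

theorem QF.self {Q : (ι → F) → F} {B : Matrix ι ι F} (h : QF Q B) (v : ι → F) :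
    gf σ₀ B v v = 2 * Q v := by
  have := h.add v v
  rw [← two_smul F, h.smul] at this
  linear_combination -this

theorem QF.rf {Q : (ι → F) → F} {B : GL ι F} (h : QF Q B.val) : RF σ₀ 1 B :=
  ⟨fun _ => rfl, one_mul 1, by rw [h.transpose, one_smul, map_σ₀]⟩

theorem QF.alt {Q : (ι → F) → F} {B : Matrix ι ι F} (h : QF Q B) (h2 : (2 : F) = 0) : Alt B :=
  fun v => by rw [h.self, h2, zero_mul]

theorem QF.isNondegenerate {Q : (ι → F) → F} {B : GL ι F} (h : QF Q B.val) :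
    IsNondegenerateQuadraticForm Q :=
  ⟨h.smul, h.polar ▸ isBilinearForm_gf _, h.polar ▸ isNondegenerateForm_gf B⟩

theorem IsNondegenerateQuadraticForm.exists {Q : (ι → F) → F} (h : IsNondegenerateQuadraticForm Q) :
    ∃ B : GL ι F, QF Q B.val := by
  have e := IsBilinearForm.eq_gf h.polar_bilinear
  obtain ⟨B, hB⟩ := exists_gl_of_nondeg (e ▸ h.nondegenerate)
  exact ⟨B, h.smul, fun u v => by rw [hB, ← e, QuadraticMap.polar]; ring⟩

theorem qf_qf (U : Matrix ι ι F) : QF (fun v => gf σ₀ U v v) (U + Uᵀ) :=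
  ⟨fun c v => by simp only [gf_smul_left, gf_smul_right, RingHom.id_apply]; ring,
    fun u v => by simp only [gf_add_left, gf_add_right, gf_add, gf_transpose]; ring⟩

theorem QF.mul {Q : (ι → F) → F} {B : Matrix ι ι F} (h : QF Q B) (c : F) : QF (fun v => c * Q v) (c • B) :=
  ⟨fun a v => by rw [h.smul]; ring, fun u v => by rw [h.add, gf_smul]; ring⟩

theorem QF.comp {κ : Type} [Fintype κ] [DecidableEq κ] {Q : (ι → F) → F} {B : Matrix ι ι F} (h : QF Q B)
    (g : Matrix ι κ F) : QF (fun v => Q (g *ᵥ v)) (gᵀ * B * g) :=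
  ⟨fun a v => by rw [mulVec_smul, h.smul], fun u v => by rw [mulVec_add, h.add, gf_mulVec]; rfl⟩

theorem exists_qf_of_symm (h2 : (2 : F) ≠ 0) {B : Matrix ι ι F} (hB : Bᵀ = B) : ∃ Q, QF Q B := by
  refine ⟨_, (?_ : (2⁻¹ : F) • B + ((2⁻¹ : F) • B)ᵀ = B) ▸ qf_qf ((2⁻¹ : F) • B)⟩
  rw [transpose_smul, hB, ← add_smul, ← two_mul, mul_inv_cancel₀ h2, one_smul]

theorem mem_quadSim {Q : (ι → F) → F} {g : GL ι F} :
    g ∈ quadSimilarityGroup Q ↔ ∃ c : Fˣ, ∀ v, Q (g.val *ᵥ v) = c * Q v := Iff.rfl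

theorem QF.gf_of_mul {Q : (ι → F) → F} {B : Matrix ι ι F} (h : QF Q B) {g : Matrix ι ι F} {c : F}
    (hc : ∀ v, Q (g *ᵥ v) = c * Q v) (u v : ι → F) : gf σ₀ B (g *ᵥ u) (g *ᵥ v) = c * gf σ₀ B u v := by
  have := hc (u + v)
  rw [mulVec_add, h.add, h.add, hc, hc] at this
  linear_combination this

theorem QF.quadSim_le {Q : (ι → F) → F} {B : Matrix ι ι F} (h : QF Q B) :
    quadSimilarityGroup Q ≤ Sim σ₀ B := fun _ ⟨c, hc⟩ => ⟨c, h.gf_of_mul hc⟩

theorem QF.isom_le {Q : (ι → F) → F} {B : Matrix ι ι F} (h : QF Q B) :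
    Cfsg.isometryGroup F Q ≤ Iso σ₀ B := fun _ hg u v => by
  simpa using h.gf_of_mul (c := 1) (fun v => by rw [mem_isometryGroup.1 hg, one_mul]) u v

theorem QF.mul_of_gf {Q : (ι → F) → F} {B : Matrix ι ι F} (h : QF Q B) (h2 : (2 : F) ≠ 0)
    {g : Matrix ι ι F} {c : F} (hc : ∀ u v, gf σ₀ B (g *ᵥ u) (g *ᵥ v) = c * gf σ₀ B u v) (v : ι → F) :
    Q (g *ᵥ v) = c * Q v := by
  apply mul_left_cancel₀ h2
  rw [← h.self, hc, h.self]; ring

theorem QF.quadSim_eq {Q : (ι → F) → F} {B : Matrix ι ι F} (h : QF Q B) (h2 : (2 : F) ≠ 0) :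
    quadSimilarityGroup Q = Sim σ₀ B :=
  le_antisymm h.quadSim_le fun _ ⟨c, hc⟩ => ⟨c, h.mul_of_gf h2 hc⟩

theorem QF.isom_eq {Q : (ι → F) → F} {B : Matrix ι ι F} (h : QF Q B) (h2 : (2 : F) ≠ 0) :
    Cfsg.isometryGroup F Q = Iso σ₀ B :=
  le_antisymm h.isom_le fun _ hg => mem_isometryGroup.2 fun v => by
    simpa using h.mul_of_gf h2 (c := 1) (fun u v => by rw [mem_Iso'.1 hg, one_mul]) v

theorem isom_le_quadSim {Q : (ι → F) → F} : Cfsg.isometryGroup F Q ≤ quadSimilarityGroup Q :=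
  fun _ hg => ⟨1, fun v => by rw [mem_isometryGroup.1 hg]; simp⟩

theorem QF.quadSim_inf [Nonempty ι] {Q : (ι → F) → F} {B : GL ι F} (h : QF Q B.val) :
    quadSimilarityGroup Q ⊓ Iso σ₀ B.val = Cfsg.isometryGroup F Q := by
  refine le_antisymm ?_ (le_inf isom_le_quadSim h.isom_le)
  rintro g ⟨⟨c, hc⟩, hg⟩
  obtain ⟨i⟩ := ‹Nonempty ι›
  obtain ⟨x, hx⟩ := (isNondegenerateForm_gf (σ := σ₀) B (Pi.single i 1) (by simp)).1
  have := h.gf_of_mul hc x (Pi.single i 1)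
  rw [mem_Iso'.1 hg] at this
  have hc1 : (c : F) = 1 := (mul_eq_right₀ hx).1 this.symm
  exact mem_isometryGroup.2 fun v => by rw [hc, hc1, one_mul]

theorem QF.unique [Finite F] {G : Subgroup (GL ι F)} (hG : Irr G) (hι : 2 ≤ Fintype.card ι)
    {Q₁ Q₂ : (ι → F) → F} {B : Matrix ι ι F} (h1 : QF Q₁ B) (h2 : QF Q₂ B)
    (h : ∀ g ∈ G, ∃ c : F, (∀ v, Q₁ (g.val *ᵥ v) = c * Q₁ v) ∧ ∀ v, Q₂ (g.val *ᵥ v) = c * Q₂ v) :
    Q₁ = Q₂ := by
  ext v
  refine sub_eq_zero.1 (hG.eq_zero_of_additive hι (D := fun v => Q₁ v - Q₂ v) (fun u v => ?_)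
    (fun c v => ?_) (fun g hg v hv => ?_) v)
  · simp only [h1.add, h2.add]; ring
  · simp only [h1.smul, h2.smul]; ring
  · obtain ⟨c, hc1, hc2⟩ := h g hg
    simp only [hc1, hc2] at hv ⊢
    rw [← mul_sub, hv, mul_zero]

theorem QF.unique_isom [Finite F] {G : Subgroup (GL ι F)} (hG : Irr G) (hι : 2 ≤ Fintype.card ι)
    {Q₁ Q₂ : (ι → F) → F} {B : Matrix ι ι F} (h1 : QF Q₁ B) (h2 : QF Q₂ B)
    (k1 : G ≤ Cfsg.isometryGroup F Q₁) (k2 : G ≤ Cfsg.isometryGroup F Q₂) : Q₁ = Q₂ :=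
  h1.unique hG hι h2 fun _ hg => ⟨1, fun v => by rw [mem_isometryGroup.1 (k1 hg), one_mul],
    fun v => by rw [mem_isometryGroup.1 (k2 hg), one_mul]⟩

theorem QF.ext_basis {Q₁ Q₂ : (ι → F) → F} {B : Matrix ι ι F} (h1 : QF Q₁ B) (h2 : QF Q₂ B)
    (h : ∀ i, Q₁ (Pi.single i 1) = Q₂ (Pi.single i 1)) : Q₁ = Q₂ := by
  ext v
  induction v using Pi.single_induction with
  | zero => rw [h1.zero, h2.zero]
  | add u v hu hv => rw [h1.add, h2.add, hu, hv]
  | single i c =>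
    have : (Pi.single i c : ι → F) = c • (Pi.single i 1 : ι → F) := by
      rw [← Pi.single_smul]; simp
    rw [this, h1.smul, h2.smul, h]

theorem QF.mul_of_basis {Q : (ι → F) → F} {B : Matrix ι ι F} (h : QF Q B) {g : Matrix ι ι F} {c : F}
    (hc : gᵀ * B * g = c • B) (h0 : ∀ i, Q (g *ᵥ Pi.single i 1) = c * Q (Pi.single i 1)) (v : ι → F) :
    Q (g *ᵥ v) = c * Q v :=
  congrFun ((hc ▸ h.comp g).ext_basis (h.mul c) h0) v

/-- the normaliser of a spanning group of isometries of a quadratic form -/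
theorem QF.le_isom_of_nrm [Finite F] (hι : 2 ≤ Fintype.card ι) {Q : (ι → F) → F} {B : Matrix ι ι F}
    (h : QF Q B) {N G : Subgroup (GL ι F)} (hN : Irr N) (hQ : N ≤ Cfsg.isometryGroup F Q)
    (hG : G ≤ Subgroup.normalizer (N : Set (GL ι F))) (hB : G ≤ Iso σ₀ B) :
    G ≤ Cfsg.isometryGroup F Q := by
  intro g hg
  have h1 := h.comp g.val
  rw [show g.valᵀ * B * g.val = B from mem_Iso.1 (hB hg)] at h1
  refine mem_isometryGroup.2 (congrFun (h1.unique_isom hN hι h (fun x hx => ?_) hQ))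
  refine mem_isometryGroup.2 fun v => ?_
  rw [← cjm_mulVec, cjm_coe]
  exact mem_isometryGroup.1 (hQ (Comp.conj_mem_of_le_normalizer hG hg hx)) _

/-- the quadratic form attached to `k` with `k + k^* = 1` -/
theorem RF.qf_of_add {B : GL ι F} (h : RF σ₀ 1 B) {k : Matrix ι ι F} (hk : k + adj σ₀ B k = 1) :
    QF (fun v => gf σ₀ B.val (k *ᵥ v) v) B.val :=
  ⟨fun c v => by simp only [mulVec_smul, gf_smul_left, gf_smul_right, RingHom.id_apply]; ring,
    fun u v => by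
      have : gf σ₀ B.val u v = gf σ₀ B.val (k *ᵥ u) v + gf σ₀ B.val (k *ᵥ v) u := by
        rw [h.gf_comm (k *ᵥ v), h.gf_adj', ← gf_add_left, ← add_mulVec, hk, one_mulVec]
      simp only [mulVec_add, gf_add_left, gf_add_right, this]; ring⟩

/-! ### standard forms -/

/-- the standard symplectic Gram matrix -/
def JG (m : ℕ) (F : Type*) [Field F] : GL (Fin m ⊕ Fin m) F :=
  ⟨Matrix.J (Fin m) F, -Matrix.J (Fin m) F, by rw [Matrix.mul_neg, J_squared, neg_neg],
    by rw [Matrix.neg_mul, J_squared, neg_neg]⟩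

theorem sympForm_eq_gf (m : ℕ) : Cfsg.sympForm m F = gf σ₀ (JG m F).val := rfl

theorem spGL_eq (m : ℕ) : Cfsg.spGL m F = Iso σ₀ (JG m F).val := rfl

theorem alt_JG (m : ℕ) : Alt (JG m F).val :=
  alt_of (J_transpose _ _) (by rintro (i | i) <;> simp [JG, Matrix.J])

theorem hermForm_eq_gf [Fintype F] {q : ℕ} (hF : Fintype.card F = q ^ 2) (n : ℕ) :
    Cfsg.hermForm n F q = gf (frobq hF) (1 : GL (Fin n) F).val := by
  ext u v; simp [gf, Cfsg.hermForm, dotProduct]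

theorem GU_eq [Fintype F] {q : ℕ} (hF : Fintype.card F = q ^ 2) (n : ℕ) :
    Cfsg.GU n F q = Iso (frobq hF) (1 : GL (Fin n) F).val := by
  rw [Cfsg.GU, hermForm_eq_gf hF]; rfl

theorem rf_one (hσ : ∀ a, σ (σ a) = a) : RF σ 1 (1 : GL ι F) :=
  ⟨hσ, one_mul 1, by simp⟩

end Cfsg.Agent.Classical.Asch
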