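import Cfsg.Agent.Lib.Classical.Asch6

/-!
Transport of forms, tensor products and tensor powers of forms.
-/

set_option autoImplicit false

namespace Cfsg.Agent.Classical.Asch
open Matrix Cfsg.Geo Module Cfsg.Agent.Comp
open scoped MatrixGroups Kronecker

variable {ι : Type} [Fintype ι] [DecidableEq ι] {F : Type*} [Field F] {σ : F →+* F}

local notation "Z" => scalars ι F
local notation "σ₀" => RingHom.id F

section Pb
variable {κ : Type} [Fintype κ] [DecidableEq κ]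

/-- `C` is the Gram matrix of `B` in the transported coordinates -/
def Pb (σ : F →+* F) (B : Matrix ι ι F) (e : ι ≃ κ) (P : GL ι F) (C : Matrix κ κ F) : Prop :=
  ∀ x y, gf σ B (trv e P x) (trv e P y) = gf σ C x y

theorem exists_pb (σ : F →+* F) (B : GL ι F) (e : ι ≃ κ) (P : GL ι F) :
    ∃ C : GL κ F, Pb σ B.val e P C.val := by
  have h : Pb σ B.val e P ((P.valᵀ * B.val * P.val.map σ).submatrix e.symm e.symm) := fun x y => by
    rw [trv_apply, trv_apply, gf_mulVec, gf_submatrix]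
  have : ((P.valᵀ * B.val * P.val.map σ).submatrix e.symm e.symm).det ≠ 0 := by
    rw [det_submatrix_equiv_self, det_mul, det_mul, det_transpose, ← RingHom.mapMatrix_apply,
      ← RingHom.map_det]
    simp [P.det_ne_zero, B.det_ne_zero]
  exact ⟨Matrix.GeneralLinearGroup.mkOfDetNeZero _ this, h⟩

variable {e : ι ≃ κ} {P : GL ι F}

theorem Pb.unique {B : Matrix ι ι F} {C C' : Matrix κ κ F} (h : Pb σ B e P C) (h' : Pb σ B e P C') :
    C = C' := gf_ext fun x y => by rw [← h, h']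

theorem Pb.smul {B : Matrix ι ι F} {C : Matrix κ κ F} (h : Pb σ B e P C) (c : F) :
    Pb σ (c • B) e P (c • C) := fun x y => by rw [gf_smul, gf_smul, h]

theorem Pb.adj (hσ : ∀ a, σ (σ a) = a) {B : GL ι F} {C : GL κ F} (h : Pb σ B.val e P C.val)
    (a : Matrix κ κ F) : adj σ B (trm e P a) = trm e P (adj σ C a) := by
  refine eq_adj hσ fun u v => ?_
  obtain ⟨x, rfl⟩ := (trv e P).surjective u
  obtain ⟨y, rfl⟩ := (trv e P).surjective v
  rw [trm_mulVec, trm_mulVec, h, h, gf_adj hσ]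

theorem Pb.mul_iff {B : Matrix ι ι F} {C : Matrix κ κ F} (h : Pb σ B e P C) {g : Matrix κ κ F} {c : F} :
    (∀ u v, gf σ B (trm e P g *ᵥ u) (trm e P g *ᵥ v) = c * gf σ B u v) ↔
      ∀ u v, gf σ C (g *ᵥ u) (g *ᵥ v) = c * gf σ C u v := by
  constructor
  · intro hc u v
    rw [← h, ← h, ← trm_mulVec, ← trm_mulVec, hc]
  · intro hc u v
    obtain ⟨x, rfl⟩ := (trv e P).surjective u
    obtain ⟨y, rfl⟩ := (trv e P).surjective v
    rw [trm_mulVec, trm_mulVec, h, h, hc]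

theorem Pb.mem_Sim {B : Matrix ι ι F} {C : Matrix κ κ F} (h : Pb σ B e P C) {g : GL κ F} :
    trg e P g ∈ Sim σ B ↔ g ∈ Sim σ C := exists_congr fun _ => h.mul_iff

theorem Pb.mem_Iso {B : Matrix ι ι F} {C : Matrix κ κ F} (h : Pb σ B e P C) {g : GL κ F} :
    trg e P g ∈ Iso σ B ↔ g ∈ Iso σ C := by
  have := h.mul_iff (g := g.val) (c := 1)
  simp only [one_mul] at this
  exact this

theorem Pb.rf {ε : F} {B : GL ι F} {C : GL κ F} (h : Pb σ B.val e P C.val) (hB : RF σ ε B) : RF σ ε C :=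
  RF.of_gf hB.σσ hB.εε fun u v => by rw [← h, ← h, hB.gf_symm]

theorem Pb.rf' {ε : F} {B : GL ι F} {C : GL κ F} (h : Pb σ B.val e P C.val) (hC : RF σ ε C) : RF σ ε B :=
  RF.of_gf hC.σσ hC.εε fun u v => by
    obtain ⟨x, rfl⟩ := (trv e P).surjective u
    obtain ⟨y, rfl⟩ := (trv e P).surjective v
    rw [h, h, hC.gf_symm]

theorem Pb.alt_iff {B : Matrix ι ι F} {C : Matrix κ κ F} (h : Pb σ₀ B e P C) : Alt B ↔ Alt C :=
  ⟨fun hB v => by rw [← h, hB], fun hC v => by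
    obtain ⟨x, rfl⟩ := (trv e P).surjective v
    rw [h, hC]⟩

theorem exists_pb' (σ : F →+* F) (C : GL κ F) (e : ι ≃ κ) (P : GL ι F) :
    ∃ B : GL ι F, Pb σ B.val e P C.val := by
  obtain ⟨e', P', h⟩ := exists_trv (trv e P).symm
  obtain ⟨B, hB⟩ := exists_pb σ C e' P'
  exact ⟨B, fun x y => by rw [← hB, h]; simp⟩

theorem QF.trv {Q : (ι → F) → F} {B : Matrix ι ι F} {C : Matrix κ κ F} (hQ : QF Q B)
    (h : Pb σ₀ B e P C) : QF (fun x => Q (trv e P x)) C :=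
  ⟨fun c v => by rw [map_smul, hQ.smul], fun u v => by rw [map_add, hQ.add, h]⟩

theorem QF.trv_symm {Q : (κ → F) → F} {B : Matrix ι ι F} {C : Matrix κ κ F} (hQ : QF Q C)
    (h : Pb σ₀ B e P C) : QF (fun x => Q ((Asch.trv e P).symm x)) B :=
  ⟨fun c v => by rw [map_smul, hQ.smul], fun u v => by
    rw [map_add, hQ.add, ← h]; simp⟩

theorem trv_mul_trg (g : GL κ F) (x : κ → F) : trv e (P * glReindex e.symm g) x = trv e P (g.val *ᵥ x) := by
  rw [trv_apply, trv_apply, Units.val_mul, ← mulVec_mulVec]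
  congr 1
  exact submatrix_mulVec_equiv _ _ _ _ |>.trans (by simp [Function.comp_assoc])

theorem trg_mul_right (g h : GL κ F) : trg e (P * glReindex e.symm g) h = trg e P (g * h * g⁻¹) := by
  simp [trg, mul_assoc]

theorem Pb.mul {B : Matrix ι ι F} {C : Matrix κ κ F} (h : Pb σ B e P C) (g : GL κ F) :
    Pb σ B e (P * glReindex e.symm g) (g.valᵀ * C * g.val.map σ) := fun x y => by
  rw [trv_mul_trg, trv_mul_trg, h, gf_mulVec]

theorem Pb.trans {κ' : Type} [Fintype κ'] [DecidableEq κ'] {B : Matrix ι ι F} {C : Matrix κ κ F}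
    (h : Pb σ B e P C) (e' : κ ≃ κ') : Pb σ B (e.trans e') P (C.submatrix e'.symm e'.symm) :=
  fun x y => by rw [trv_trans, trv_trans, h, gf_submatrix]

end Pb

theorem eq_smul_of_adj_eq {B C : GL ι F} (h : ∀ a, adj σ B a = adj σ C a) : ∃ c : F, C.val = c • B.val := by
  have : IsSc (C * B⁻¹).val := isSc_of_comm fun y => by
    have h1 : cjm B⁻¹ y = cjm C⁻¹ y := Matrix.map_injective σ.injective (h yᵀ)
    rw [← cjm_eq_iff, cjm_mul, h1, cjm_cjm_inv]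
  obtain ⟨c, hc⟩ := this
  refine ⟨c, ?_⟩
  have := congrArg (· * B.val) hc
  simpa [Matrix.mul_assoc] using this

theorem cjm_inv_eq_adj (hσ : ∀ a, σ (σ a) = a) (B : GL ι F) (x : Matrix ι ι F) :
    cjm B⁻¹ x = (adj σ B xᵀ).map σ := by rw [adj, map_map_of hσ, transpose_transpose]

section Kron
variable {κ₁ κ₂ : Type} [Fintype κ₁] [DecidableEq κ₁] [Fintype κ₂] [DecidableEq κ₂]

omit [Fintype κ₁] [DecidableEq κ₁] [Fintype κ₂] [DecidableEq κ₂] in
theorem kron_map (σ : F →+* F) (a : Matrix κ₁ κ₁ F) (b : Matrix κ₂ κ₂ F) :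
    (a ⊗ₖ b).map σ = a.map σ ⊗ₖ b.map σ := by ext; simp

omit [Fintype κ₁] [DecidableEq κ₁] [Fintype κ₂] [DecidableEq κ₂] in
theorem kron_transpose (a : Matrix κ₁ κ₁ F) (b : Matrix κ₂ κ₂ F) : (a ⊗ₖ b)ᵀ = aᵀ ⊗ₖ bᵀ := rfl

omit [Fintype κ₁] [DecidableEq κ₁] [Fintype κ₂] [DecidableEq κ₂] in
theorem kron_eq {a c : Matrix κ₁ κ₁ F} {b d : Matrix κ₂ κ₂ F} (ha : a ≠ 0) (hb : b ≠ 0) {l : F}
    (h : a ⊗ₖ b = l • c ⊗ₖ d) : ∃ α β : F, a = α • c ∧ b = β • d ∧ α * β = l := by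
  obtain ⟨i, j, hij⟩ : ∃ i j, a i j ≠ 0 := by
    by_contra h'; push Not at h'; exact ha (Matrix.ext h')
  obtain ⟨k, m, hkm⟩ : ∃ i j, b i j ≠ 0 := by
    by_contra h'; push Not at h'; exact hb (Matrix.ext h')
  have e : ∀ i j k m, a i j * b k m = l * (c i j * d k m) := fun i j k m =>
    congrFun (congrFun h (i, k)) (j, m)
  refine ⟨l * d k m / b k m, l * c i j / a i j, ?_, ?_, ?_⟩
  · ext u v; simp only [Matrix.smul_apply, smul_eq_mul]; field_simp; linear_combination e u v k m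
  · ext u v; simp only [Matrix.smul_apply, smul_eq_mul]; field_simp; linear_combination e i j u v
  · field_simp; linear_combination -l * e i j k m

theorem kron_pb (a B : Matrix κ₁ κ₁ F) (b C : Matrix κ₂ κ₂ F) :
    (a ⊗ₖ b)ᵀ * (B ⊗ₖ C) * (a ⊗ₖ b).map σ = (aᵀ * B * a.map σ) ⊗ₖ (bᵀ * C * b.map σ) := by
  rw [kron_transpose, kron_map, ← mul_kronecker_mul, ← mul_kronecker_mul]

theorem gl_pb_ne_zero [Nonempty ι] (a B : GL ι F) : a.valᵀ * B.val * a.val.map σ ≠ 0 := fun h => by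
  have := congrArg det h
  rw [det_mul, det_mul, det_transpose, det_zero, ← RingHom.mapMatrix_apply, ← RingHom.map_det] at this
  simp [a.det_ne_zero, B.det_ne_zero] at this

theorem kgl_mul_iff [Nonempty κ₁] [Nonempty κ₂] {B a : GL κ₁ F} {C b : GL κ₂ F} {c : F} :
    (kgl a b).valᵀ * (B.val ⊗ₖ C.val) * (kgl a b).val.map σ = c • B.val ⊗ₖ C.val ↔
      ∃ α β : F, a.valᵀ * B.val * a.val.map σ = α • B.val ∧ b.valᵀ * C.val * b.val.map σ = β • C.val ∧
        α * β = c := by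
  rw [coe_kgl, kron_pb]
  refine ⟨kron_eq (gl_pb_ne_zero _ _) (gl_pb_ne_zero _ _), ?_⟩
  rintro ⟨α, β, h1, h2, rfl⟩
  rw [h1, h2, smul_kronecker, kronecker_smul, smul_smul]

theorem kgl_mem_Sim [Nonempty κ₁] [Nonempty κ₂] {B a : GL κ₁ F} {C b : GL κ₂ F} :
    kgl a b ∈ Sim σ (B.val ⊗ₖ C.val) ↔ a ∈ Sim σ B.val ∧ b ∈ Sim σ C.val := by
  constructor
  · intro h
    obtain ⟨c, hc⟩ := mem_Sim.1 h
    obtain ⟨α, β, h1, h2, -⟩ := kgl_mul_iff.1 hc
    exact ⟨mem_Sim_of h1, mem_Sim_of h2⟩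
  · rintro ⟨h1, h2⟩
    obtain ⟨α, h1⟩ := mem_Sim.1 h1
    obtain ⟨β, h2⟩ := mem_Sim.1 h2
    exact mem_Sim.2 ⟨α * β, kgl_mul_iff.2 ⟨α, β, h1, h2, rfl⟩⟩

theorem adj_kgl (B : GL κ₁ F) (C : GL κ₂ F) (x : Matrix κ₁ κ₁ F) (y : Matrix κ₂ κ₂ F) :
    adj σ (kgl B C) (x ⊗ₖ y) = adj σ B x ⊗ₖ adj σ C y := by
  rw [adj, kgl_inv, kron_transpose, cjm_kgl, kron_map]; rfl

theorem adj_kgl_kl (B : GL κ₁ F) (C : GL κ₂ F) (x : Matrix κ₁ κ₁ F) :
    adj σ (kgl B C) (kl κ₂ x) = kl κ₂ (adj σ B x) := by rw [kl_apply, adj_kgl, adj_one]; rfl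

theorem adj_kgl_kr (B : GL κ₁ F) (C : GL κ₂ F) (y : Matrix κ₂ κ₂ F) :
    adj σ (kgl B C) (kr κ₁ y) = kr κ₁ (adj σ C y) := by rw [kr_apply, adj_kgl, adj_one]; rfl

theorem exists_kgl_of_adj [Nonempty κ₁] [Nonempty κ₂] (hσ : ∀ a, σ (σ a) = a) {B : GL (κ₁ × κ₂) F}
    (h : ∀ a, ∃ a', adj σ B (kl κ₂ a) = kl κ₂ a') : ∃ B₁ B₂, B = kgl B₁ B₂ := by
  obtain ⟨a, b, hab⟩ := exists_kgl (g := B⁻¹) fun a => by
    obtain ⟨a', ha'⟩ := h aᵀ
    refine ⟨a'.map σ, ?_⟩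
    rw [cjm_inv_eq_adj hσ, kl_apply a, kron_transpose, transpose_one, ← kl_apply, ha', kl_apply a',
      kron_map, Matrix.map_one _ (map_zero σ) (map_one σ)]
    rfl
  exact ⟨a⁻¹, b⁻¹, by rw [← kgl_inv, ← hab, inv_inv]⟩

theorem transpose_ne_zero {κ : Type} {a : Matrix κ κ F} (h : a ≠ 0) : aᵀ ≠ 0 :=
  fun e => h (transpose_injective e)

theorem RF.kgl [Nonempty κ₁] [Nonempty κ₂] {ε : F} {B₁ : GL κ₁ F} {B₂ : GL κ₂ F}
    (h : RF σ ε (kgl B₁ B₂)) : ∃ α β : F, B₁.valᵀ = α • B₁.val.map σ ∧ B₂.valᵀ = β • B₂.val.map σ ∧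
      α * β = ε := by
  refine kron_eq (transpose_ne_zero (gl_ne_zero _)) (transpose_ne_zero (gl_ne_zero _)) ?_
  rw [← kron_transpose, ← kron_map]; exact h.symm

theorem RF.kgl_of {α β : F} {B₁ : GL κ₁ F} {B₂ : GL κ₂ F} (h₁ : RF σ α B₁) (h₂ : RF σ β B₂) :
    RF σ (α * β) (Asch.kgl B₁ B₂) :=
  ⟨h₁.σσ, by linear_combination β * β * h₁.εε + h₂.εε, by
    rw [coe_kgl, kron_transpose, h₁.symm, h₂.symm, kron_map, smul_kronecker, kronecker_smul, smul_smul]⟩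

/-- pure tensors of vectors -/
def ktv (x : κ₁ → F) (y : κ₂ → F) : κ₁ × κ₂ → F := fun p => x p.1 * y p.2

omit [DecidableEq κ₁] [DecidableEq κ₂] in
theorem kron_mulVec (a : Matrix κ₁ κ₁ F) (b : Matrix κ₂ κ₂ F) (x : κ₁ → F) (y : κ₂ → F) :
    (a ⊗ₖ b) *ᵥ ktv x y = ktv (a *ᵥ x) (b *ᵥ y) := by
  ext p
  simp only [mulVec, dotProduct, ktv, kroneckerMap_apply, Fintype.sum_prod_type, Finset.sum_mul_sum]
  exact Finset.sum_congr rfl fun _ _ => Finset.sum_congr rfl fun _ _ => by ring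

omit [DecidableEq κ₁] [DecidableEq κ₂] in
theorem gf_kron (B : Matrix κ₁ κ₁ F) (C : Matrix κ₂ κ₂ F) (x x' : κ₁ → F) (y y' : κ₂ → F) :
    gf σ (B ⊗ₖ C) (ktv x y) (ktv x' y') = gf σ B x x' * gf σ C y y' := by
  have : σ ∘ ktv x' y' = ktv (σ ∘ x') (σ ∘ y') := by ext; simp [ktv]
  rw [gf, this, kron_mulVec, gf, gf]
  simp only [dotProduct, ktv, Fintype.sum_prod_type, Finset.sum_mul_sum]
  exact Finset.sum_congr rfl fun _ _ => Finset.sum_congr rfl fun _ _ => by ring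

omit [Fintype κ₁] [Fintype κ₂] in
theorem single_eq_ktv (p : κ₁ × κ₂) :
    (Pi.single p 1 : κ₁ × κ₂ → F) = ktv (Pi.single p.1 1) (Pi.single p.2 1) := by
  ext q
  simp only [ktv, Pi.single_apply, Prod.ext_iff]
  split_ifs <;> simp_all

end Kron

theorem Alt.exists_sub {B : Matrix ι ι F} (h : Alt B) : ∃ U : Matrix ι ι F, U - Uᵀ = B := by
  let f := Fintype.equivFin ι
  refine ⟨Matrix.of fun i j => if f i < f j then B i j else 0, ?_⟩
  ext i j
  have : B j i = - B i j := congrFun (congrFun h.transpose i) j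
  simp only [Matrix.sub_apply, of_apply, transpose_apply]
  rcases lt_trichotomy (f i) (f j) with h1 | h1 | h1
  · simp [h1, h1.not_gt]
  · obtain rfl := f.injective h1
    simp [h.diag]
  · simp [h1, h1.not_gt, this]

section Kron2
variable {κ₁ κ₂ : Type} [Fintype κ₁] [DecidableEq κ₁] [Fintype κ₂] [DecidableEq κ₂]

theorem exists_qf_kron {B : Matrix κ₁ κ₁ F} {C : Matrix κ₂ κ₂ F} (hB : Alt B) (hC : Alt C) :
    ∃ Q, QF Q (B ⊗ₖ C) ∧ ∀ x y, Q (ktv x y) = 0 := by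
  obtain ⟨U, hU⟩ := hB.exists_sub
  have e : U ⊗ₖ C + (U ⊗ₖ C)ᵀ = B ⊗ₖ C := by
    rw [kron_transpose, hC.transpose, ← hU]
    ext p q; simp; ring
  exact ⟨_, e ▸ qf_qf (U ⊗ₖ C), fun x y => by rw [gf_kron, hC, mul_zero]⟩

theorem QF.kron_mul {B : Matrix κ₁ κ₁ F} {C : Matrix κ₂ κ₂ F} {Q : (κ₁ × κ₂ → F) → F}
    (h : QF Q (B ⊗ₖ C)) (h0 : ∀ x y, Q (ktv x y) = 0) {a : Matrix κ₁ κ₁ F} {b : Matrix κ₂ κ₂ F} {c : F}
    (hc : (a ⊗ₖ b)ᵀ * (B ⊗ₖ C) * (a ⊗ₖ b) = c • B ⊗ₖ C) (v : κ₁ × κ₂ → F) :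
    Q ((a ⊗ₖ b) *ᵥ v) = c * Q v :=
  h.mul_of_basis hc (fun p => by rw [single_eq_ktv, kron_mulVec, h0, h0, mul_zero]) v

theorem alt_kron {B : Matrix κ₁ κ₁ F} {C : Matrix κ₂ κ₂ F} (hB : Alt B) (hC : Cᵀ = C) : Alt (B ⊗ₖ C) :=
  alt_of (by rw [kron_transpose, hB.transpose, hC]; ext; simp) (fun p => by simp [hB.diag])

end Kron2

theorem TensCase.form {G N : Subgroup (GL ι F)} {d k : ℕ} {e : ι ≃ Fin d × Fin k} {P : GL ι F}
    (h : TensCase G N d k e P) {ε : F} {B : GL ι F} (hB : RF σ ε B) (hN : N ≤ Sim σ B.val) :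
    ∃ (B₁ : GL (Fin d) F) (B₂ : GL (Fin k) F) (α β : F), Pb σ B.val e P (B₁.val ⊗ₖ B₂.val) ∧
      B₁.valᵀ = α • B₁.val.map σ ∧ B₂.valᵀ = β • B₂.val.map σ ∧ α * β = ε := by
  haveI : Nonempty (Fin d) := ⟨⟨0, by have := h.hd; omega⟩⟩
  haveI : Nonempty (Fin k) := ⟨⟨0, by have := h.hk; omega⟩⟩
  obtain ⟨C, hC⟩ := exists_pb σ B e P
  obtain ⟨B₁, B₂, rfl⟩ := exists_kgl_of_adj hB.σσ (B := C) fun a => by
    obtain ⟨a', ha'⟩ := (h.mem _).1 (adj_mem_alg hB.σσ hN ((h.mem _).2 ⟨a, rfl⟩))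
    rw [hC.adj hB.σσ] at ha'
    exact ⟨a', (trm e P).injective ha'⟩
  obtain ⟨α, β, h1⟩ := (hC.rf hB).kgl
  exact ⟨B₁, B₂, α, β, hC, h1⟩

theorem Pb.isTensorFormStructure {n₁ n₂ : ℕ} {e : ι ≃ Fin n₁ × Fin n₂} {P : GL ι F} {B : Matrix ι ι F}
    {B₁ : Matrix (Fin n₁) (Fin n₁) F} {B₂ : Matrix (Fin n₂) (Fin n₂) F} {c : F} (hc : c ≠ 0)
    (h : Pb σ B e P (c • B₁ ⊗ₖ B₂)) : IsTensorFormStructure σ (gf σ B) (gf σ B₁) (gf σ B₂) e P :=
  ⟨c, hc, fun x y => by rw [gramMatrix_gf, gramMatrix_gf, formOfGram_eq, ← gf_smul]; exact h x y⟩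

theorem IsTensorFormStructure.pb {n₁ n₂ : ℕ} {e : ι ≃ Fin n₁ × Fin n₂} {P : GL ι F} {B : Matrix ι ι F}
    {B₁ : Matrix (Fin n₁) (Fin n₁) F} {B₂ : Matrix (Fin n₂) (Fin n₂) F}
    (h : IsTensorFormStructure σ (gf σ B) (gf σ B₁) (gf σ B₂) e P) :
    ∃ c : F, c ≠ 0 ∧ Pb σ B e P (c • B₁ ⊗ₖ B₂) := by
  obtain ⟨c, hc, h⟩ := h
  exact ⟨c, hc, fun x y => by
    have := h x y
    rwa [gramMatrix_gf, gramMatrix_gf, formOfGram_eq, ← gf_smul] at this⟩

theorem Pb.swap {κ₁ κ₂ : Type} [Fintype κ₁] [DecidableEq κ₁] [Fintype κ₂] [DecidableEq κ₂]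
    {e : ι ≃ κ₁ × κ₂} {P : GL ι F} {B : Matrix ι ι F} {B₁ : Matrix κ₁ κ₁ F} {B₂ : Matrix κ₂ κ₂ F} {c : F}
    (h : Pb σ B e P (c • B₁ ⊗ₖ B₂)) : Pb σ B (e.trans (Equiv.prodComm _ _)) P (c • B₂ ⊗ₖ B₁) := by
  convert h.trans (Equiv.prodComm _ _) using 1
  ext p q; simp [mul_comm]

theorem Pb.to_pt {κ : Type} [Fintype κ] [DecidableEq κ] {e : ι ≃ κ × κ} {P : GL ι F} {B : Matrix ι ι F}
    {C : Matrix κ κ F} {c : F} (h : Pb σ B e P (c • C ⊗ₖ C)) :
    Pb σ B (e.trans (finTwoArrowEquiv κ).symm) P (c • pt fun _ : Fin 2 => C) := by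
  convert h.trans (finTwoArrowEquiv κ).symm using 1
  ext p q; simp [pt_apply]

section Pow
variable {κ : Type} [Fintype κ] [DecidableEq κ] {t : ℕ}

omit [Fintype κ] [DecidableEq κ] in
theorem pt_eq_smul {a b : Fin t → Matrix κ κ F} (ha : ∀ i, a i ≠ 0) {c : F} (h : pt a = c • pt b)
    (i : Fin t) : ∃ l : F, a i = l • b i := by
  have : ∀ i, ∃ x y, a i x y ≠ 0 := fun i => by
    by_contra h'; push Not at h'; exact ha i (Matrix.ext h')
  choose x y hxy using this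
  have h0 : ∏ j ∈ Finset.univ.erase i, a j (x j) (y j) ≠ 0 := Finset.prod_ne_zero_iff.2 fun j _ => hxy j
  refine ⟨c * (∏ j ∈ Finset.univ.erase i, b j (x j) (y j)) / ∏ j ∈ Finset.univ.erase i, a j (x j) (y j), ?_⟩
  ext u v
  have := congrFun (congrFun h (Function.update x i u)) (Function.update y i v)
  have key : ∀ a : Fin t → Matrix κ κ F, pt a (Function.update x i u) (Function.update y i v) =
      a i u v * ∏ j ∈ Finset.univ.erase i, a j (x j) (y j) := fun a => by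
    conv_lhs => rw [← Function.update_eq_self i a]
    rw [pt_update, Function.update_self, Function.update_self]
    congr 1
    exact Finset.prod_congr rfl fun j hj => by
      rw [Function.update_of_ne (Finset.ne_of_mem_erase hj), Function.update_of_ne (Finset.ne_of_mem_erase hj)]
  rw [Matrix.smul_apply, key, key, smul_eq_mul] at this
  rw [Matrix.smul_apply, smul_eq_mul]
  field_simp
  linear_combination this

omit [DecidableEq κ] in
theorem pt_pb (a B : Fin t → Matrix κ κ F) :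
    (pt a)ᵀ * pt B * (pt a).map σ = pt fun i => (a i)ᵀ * B i * (a i).map σ := by
  rw [pt_transpose, pt_map, pt_mul, pt_mul]; rfl

theorem pgl_mem_Sim {B : Fin t → Matrix κ κ F} {b : Fin t → GL κ F} (h : ∀ i, b i ∈ Sim σ (B i)) :
    pgl b ∈ Sim σ (pt B) := by
  choose c hc using fun i => mem_Sim.1 (h i)
  refine mem_Sim.2 ⟨∏ i, c i, ?_⟩
  rw [coe_pgl, pt_pb]
  simp only [hc]
  rw [pt_smul]; simp

theorem mem_Sim_of_pgl [Nonempty κ] {B b : Fin t → GL κ F} (h : pgl b ∈ Sim σ (pt fun i => (B i).val))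
    (i : Fin t) : b i ∈ Sim σ (B i).val := by
  obtain ⟨c, hc⟩ := mem_Sim.1 h
  rw [coe_pgl, pt_pb] at hc
  obtain ⟨l, hl⟩ := pt_eq_smul (fun i => gl_pb_ne_zero _ _) hc i
  exact mem_Sim_of hl

theorem fgl_mem_Iso (B : Matrix κ κ F) (π : Equiv.Perm (Fin t)) :
    fgl κ F π ∈ Iso σ (pt fun _ : Fin t => B) := by
  rw [mem_Iso, coe_fgl, fpm_transpose, fpm_map]
  have := cjm_fgl (F := F) π⁻¹ (fun _ : Fin t => B)
  rw [cjm_apply, ← map_inv, inv_inv] at this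
  exact this

theorem adj_pgl (B : Fin t → GL κ F) (a : Fin t → Matrix κ κ F) :
    adj σ (pgl B) (pt a) = pt fun i => adj σ (B i) (a i) := by
  rw [adj, pgl_inv, pt_transpose, cjm_pgl, pt_map]; rfl

theorem adj_pgl_emb (B : Fin t → GL κ F) (i : Fin t) (a : Matrix κ κ F) :
    adj σ (pgl B) (emb i a) = emb i (adj σ (B i) a) := by
  rw [emb_apply, adj_pgl, emb_apply]
  congr 1
  ext j : 1
  by_cases hj : j = i
  · subst hj; simp
  · simp [hj]

theorem emb_transpose (i : Fin t) (a : Matrix κ κ F) : (emb i a)ᵀ = emb i aᵀ := by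
  rw [emb_apply, pt_transpose, emb_apply]
  congr 1
  ext j : 1
  by_cases hj : j = i
  · subst hj; simp
  · simp [hj]

theorem emb_map (σ : F →+* F) (i : Fin t) (a : Matrix κ κ F) : (emb i a).map σ = emb i (a.map σ) := by
  rw [emb_apply, pt_map, emb_apply]
  congr 1
  ext j : 1
  by_cases hj : j = i
  · subst hj; simp
  · simp [hj]

theorem emb_injective [Nonempty κ] (i : Fin t) : Function.Injective (emb (F := F) (κ := κ) i) :=
  RingHom.injective (emb (F := F) (κ := κ) i).toRingHom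

theorem exists_pgl_of_adj [Nonempty κ] (ht : 0 < t) (hσ : ∀ a, σ (σ a) = a) {B : GL (Fin t → κ) F}
    (h : ∀ i a, ∃ a', adj σ B (emb i a) = emb i a') : ∃ b, B = pgl b := by
  obtain ⟨b, hb⟩ := exists_pgl_fgl ht (g := B⁻¹) 1 fun i a => by
    obtain ⟨a', ha'⟩ := h i aᵀ
    refine ⟨a'.map σ, ?_⟩
    rw [cjm_inv_eq_adj hσ, emb_transpose, ha', emb_map]
    rfl
  exact ⟨b⁻¹, by rw [← pgl_inv, ← mul_one (pgl b), ← map_one (fgl κ F), ← hb, inv_inv]⟩

/-- pure tensors of vectors -/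
def ptv (x : Fin t → κ → F) : (Fin t → κ) → F := fun z => ∏ i, x i (z i)

theorem pt_mulVec (a : Fin t → Matrix κ κ F) (x : Fin t → κ → F) :
    pt a *ᵥ ptv x = ptv fun i => a i *ᵥ x i := by
  ext z
  simp only [mulVec, dotProduct, ptv, pt_apply]
  rw [Finset.prod_univ_sum, Fintype.piFinset_univ]
  exact Finset.sum_congr rfl fun z _ => Finset.prod_mul_distrib.symm

theorem gf_pt (B : Fin t → Matrix κ κ F) (x y : Fin t → κ → F) :
    gf σ (pt B) (ptv x) (ptv y) = ∏ i, gf σ (B i) (x i) (y i) := by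
  have : σ ∘ ptv y = ptv fun i => σ ∘ y i := by ext; simp [ptv]
  rw [gf, this, pt_mulVec]
  simp only [gf, dotProduct, ptv]
  rw [Finset.prod_univ_sum, Fintype.piFinset_univ]
  exact Finset.sum_congr rfl fun z _ => Finset.prod_mul_distrib.symm

theorem single_eq_ptv (z : Fin t → κ) :
    (Pi.single z 1 : (Fin t → κ) → F) = ptv fun i => Pi.single (z i) 1 := by
  ext w
  simp only [ptv, Pi.single_apply]
  rw [Finset.prod_ite_zero]
  simp only [Finset.mem_univ, forall_true_left, Finset.prod_const_one, funext_iff]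

theorem fpm_mulVec (π : Equiv.Perm (Fin t)) (x : Fin t → κ → F) :
    fpm κ F π *ᵥ ptv x = ptv (x ∘ π.symm) := by
  ext z
  simp only [mulVec, dotProduct, fpm, of_apply, ite_mul, one_mul, zero_mul, Finset.sum_ite_eq',
    Finset.mem_univ, if_true, ptv]
  rw [← Equiv.prod_comp π fun i => (x ∘ π.symm) i (z i)]; simp

theorem exists_qf_pt (h2 : (2 : F) = 0) {B : Matrix κ κ F} (hB : Alt B) :
    ∃ Q, QF Q (pt fun _ : Fin (t + 2) => B) ∧ ∀ x, Q (ptv x) = 0 := by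
  obtain ⟨U, hU⟩ := hB.exists_sub
  have hn : ∀ a : F, -a = a := fun a => by linear_combination -a * h2
  have hT : ∀ x y, B y x = B x y := fun x y => (congrFun (congrFun hB.transpose x) y).trans (hn _)
  let V := pt (Function.update (fun _ : Fin (t + 2) => B) 0 U)
  have e : V + Vᵀ = pt fun _ : Fin (t + 2) => B := by
    ext x y
    conv_rhs => rw [← Function.update_eq_self 0 (fun _ : Fin (t + 2) => B)]
    simp only [V, Matrix.add_apply, transpose_apply, pt_update]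
    simp only [hT (x _)]
    rw [← add_mul, ← hU]; simp [sub_eq_add_neg, hn]
  refine ⟨_, e ▸ qf_qf V, fun x => ?_⟩
  rw [gf_pt, Finset.prod_eq_zero (Finset.mem_univ 1)]
  rw [Function.update_of_ne (by simp)]; exact hB _

theorem QF.pt_mul {B : Matrix (Fin t → κ) (Fin t → κ) F} {Q : ((Fin t → κ) → F) → F} (h : QF Q B)
    (h0 : ∀ x, Q (ptv x) = 0) {b : Fin t → GL κ F} {π : Equiv.Perm (Fin t)} {c : F}
    (hc : (pgl b * fgl κ F π).valᵀ * B * (pgl b * fgl κ F π).val = c • B) (v : (Fin t → κ) → F) :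
    Q ((pgl b * fgl κ F π).val *ᵥ v) = c * Q v :=
  h.mul_of_basis hc (fun p => by
    rw [single_eq_ptv, Units.val_mul, ← mulVec_mulVec, coe_fgl, fpm_mulVec, coe_pgl, pt_mulVec, h0, h0,
      mul_zero]) v

omit [Fintype κ] [DecidableEq κ] in
theorem pt_const_transpose {B : Matrix κ κ F} {α : F} (h : Bᵀ = α • B.map σ) :
    (pt fun _ : Fin t => B)ᵀ = α ^ t • (pt fun _ : Fin t => B).map σ := by
  rw [pt_transpose, pt_map]
  simp only [h]
  rw [pt_smul (fun _ => α)]; simp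

theorem alt_pt {B : Matrix κ κ F} (hB : Alt B) (ht : 0 < t) (h : (-1 : F) ^ t = -1) :
    Alt (pt fun _ : Fin t => B) :=
  alt_of (by
      rw [pt_const_transpose (σ := σ₀) (α := -1) (by rw [hB.transpose, map_σ₀, neg_one_smul]), h]
      simp [map_σ₀])
    (fun x => by rw [pt_apply]; exact Finset.prod_eq_zero (Finset.mem_univ ⟨0, ht⟩) (hB.diag _))

end Pow

theorem WreathCase.form {G : Subgroup (GL ι F)} {t m : ℕ} {K : Fin (t + 2) → Subgroup (GL ι F)}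
    {e : ι ≃ (Fin (t + 2) → Fin m)} {P : GL ι F} (h : WreathCase G m K e P) {ε : F} {B : GL ι F}
    (hB : RF σ ε B) (hG : G ≤ Sim σ B.val) :
    ∃ (B₀ : GL (Fin m) F) (c α : F), c ≠ 0 ∧ Pb σ B.val e P (c • pt fun _ => B₀.val) ∧
      B₀.valᵀ = α • B₀.val.map σ ∧ c * α ^ (t + 2) = ε * σ c := by
  haveI : Nonempty (Fin m) := ⟨⟨0, by have := h.hm; omega⟩⟩
  obtain ⟨C, hC⟩ := exists_pb σ B e P
  obtain ⟨b, rfl⟩ := exists_pgl_of_adj (by omega) hB.σσ (B := C) fun i a => by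
    obtain ⟨a', ha'⟩ := (h.mem _ _).1 (adj_mem_alg hB.σσ ((h.le i).trans hG) ((h.mem _ _).2 ⟨a, rfl⟩))
    rw [hC.adj hB.σσ] at ha'
    exact ⟨a', (trm e P).injective ha'⟩
  have h1 : ∀ i, ∃ c : F, (b i).val = c • (b 0).val := fun i => eq_smul_of_adj_eq (σ := σ) fun a => by
    obtain ⟨g, hg, hg'⟩ := h.trans i
    apply emb_injective i
    apply (trm e P).injective
    rw [← hg', ← adj_pgl_emb, ← hC.adj hB.σσ, ← adj_cjm hB.σσ (hG hg), hg', hC.adj hB.σσ, adj_pgl_emb]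
  choose c hc using h1
  have h2 : (pgl b).val = (∏ i, c i) • pt fun _ => (b 0).val := by
    rw [coe_pgl, ← pt_smul]; congr 1; ext i : 1; exact hc i
  have hc0 : ∏ i, c i ≠ 0 := fun e => gl_ne_zero (pgl b) (by rw [h2, e, zero_smul])
  have h3 := (hC.rf hB).symm
  obtain ⟨α, hα⟩ := pt_eq_smul (fun i => transpose_ne_zero (gl_ne_zero (b i)))
    (h3.trans (by rw [coe_pgl, pt_map])) 0
  refine ⟨b 0, ∏ i, c i, α, hc0, h2 ▸ hC, hα, ?_⟩
  rw [h2, transpose_smul, pt_const_transpose hα, smul_smul, Matrix.map_smul' _ _ _ (map_mul σ),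
    smul_smul] at h3
  refine smul_left_injective F (fun e => ?_) h3
  exact gl_ne_zero (pgl fun _ : Fin (t + 2) => b 0) (Matrix.map_injective σ.injective
    (e.trans (Matrix.map_zero _ (map_zero σ)).symm))

theorem Pb.isTensorPowerFormStructure {k t : ℕ} {e : ι ≃ (Fin t → Fin k)} {P : GL ι F} {B : Matrix ι ι F}
    {B₀ : Matrix (Fin k) (Fin k) F} {c : F} (hc : c ≠ 0)
    (h : Pb σ B e P (c • pt fun _ => B₀)) : IsTensorPowerFormStructure σ (gf σ B) (gf σ B₀) e P :=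
  ⟨c, hc, fun x y => by
    rw [gramMatrix_gf]; exact (h x y).trans (by rw [gf_smul, gf_eq_sum]; rfl)⟩

/-- the determinant form in dimension two -/
def J2 (F : Type*) [Field F] : GL (Fin 2) F :=
  ⟨!![0, 1; -1, 0], !![0, -1; 1, 0], by simp [one_fin_two], by simp [one_fin_two]⟩

theorem alt_J2 : Alt (J2 F).val :=
  alt_of (by ext i j; fin_cases i <;> fin_cases j <;> simp [J2]) (fun i => by fin_cases i <;> simp [J2])

theorem pb_J2 (a : Matrix (Fin 2) (Fin 2) F) : aᵀ * (J2 F).val * a = a.det • (J2 F).val := by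
  ext i j
  fin_cases i <;> fin_cases j <;> simp [J2, det_fin_two, mul_apply, Fin.sum_univ_two] <;> ring

theorem mem_Sim_J2 (a : GL (Fin 2) F) : a ∈ Sim σ₀ (J2 F).val := mem_Sim_of (pb_J2 a.val)

end Cfsg.Agent.Classical.Asch
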