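import Cfsg.Agent.Lib.Classical.Asch7

/-!
Absolutely irreducible groups of symplectic type.
-/

set_option autoImplicit false

namespace Cfsg.Agent.Classical.Asch
open Matrix Cfsg.Geo Module Cfsg.Agent.Comp
open scoped MatrixGroups Kronecker commutatorElement

variable {ι : Type} [Fintype ι] [DecidableEq ι] {F : Type*} [Field F] {σ : F →+* F}

local notation "Z" => scalars ι F
local notation "σ₀" => RingHom.id F

theorem not_comm_of_top (hι : 2 ≤ Fintype.card ι) {N : Subgroup (GL ι F)} (hN : alg N = ⊤) :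
    ¬ ∀ x ∈ N, ∀ y ∈ N, x * y = y * x := fun h =>
  (irr_of_alg_top hN).not_le_scalars hι fun x hx =>
    mem_scalars.2 (isSc_of_alg_top hN fun y hy => congrArg Units.val (h x hx y hy))

theorem alg_sup_scalars (N : Subgroup (GL ι F)) : alg (N ⊔ Z) = alg N :=
  le_antisymm (alg_sup_le le_rfl (alg_le.2 fun _ hz => by
    obtain ⟨c, hc⟩ := mem_scalars.1 hz
    rw [hc]; exact Subalgebra.smul_mem _ (one_mem _) _)) (alg_mono le_sup_left)

theorem center_eq_of_top {N : Subgroup (GL ι F)} (hN : alg N = ⊤) :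
    Subgroup.center N = (Z).subgroupOf N := by
  ext x
  rw [Subgroup.mem_center_iff, Subgroup.mem_subgroupOf]
  constructor
  · intro hx
    exact mem_scalars.2 (isSc_of_alg_top hN fun g hg =>
      (congrArg (fun y : N => y.1.val) (hx ⟨g, hg⟩)).symm)
  · intro hx g
    exact Subtype.ext (scalars_comm hx _).symm

instance isCyclic_scalars [Finite F] : IsCyclic (Z) :=
  isCyclic_of_surjective _ (MonoidHom.rangeRestrict_surjective _)

theorem isCyclic_of_le_scalars [Finite F] {A : Subgroup (GL ι F)} (h : A ≤ Z) : IsCyclic A :=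
  isCyclic_of_injective _ (Subgroup.inclusion_injective h)

theorem mul_pow_of_central {H : Type*} [Group H] {x y z : H} (hz : ∀ g, z * g = g * z)
    (h : y * x = z * (x * y)) (k : ℕ) : (x * y) ^ k = z ^ (k.choose 2) * (x ^ k * y ^ k) := by
  have hz' : ∀ k g, z ^ k * g = g * z ^ k := fun k g => (Commute.pow_left (hz g) k).eq
  have h1 : ∀ k : ℕ, y ^ k * x = z ^ k * (x * y ^ k) := by
    intro k
    induction k with
    | zero => simp
    | succ k ih =>
      rw [pow_succ' y, mul_assoc, ih, ← mul_assoc y, ← hz', mul_assoc, ← mul_assoc y, h, pow_succ z]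
      simp only [mul_assoc]
  induction k with
  | zero => simp
  | succ k ih =>
    rw [pow_succ, ih, Nat.choose_succ_succ' k 1, Nat.choose_one_right, add_comm k, pow_add, pow_succ x,
      pow_succ y]
    simp only [mul_assoc]
    rw [← mul_assoc (y ^ k), h1, ← mul_assoc (x ^ k), ← mul_assoc (x ^ k), ← hz']
    simp only [mul_assoc]

theorem comm_pow_eq_one {x y : GL ι F} {r : ℕ} (h : ⁅x, y⁆ ∈ Z) (hr : y ^ r ∈ Z) : ⁅x, y⁆ ^ r = 1 := by
  have h1 : x * y * x⁻¹ = ⁅x, y⁆ * y := by simp [commutatorElement_def]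
  have h2 := congrArg (· ^ r) h1
  simp only [conj_pow] at h2
  rw [(show Commute ⁅x, y⁆ y from scalars_comm h y).mul_pow, ← scalars_comm hr x, mul_inv_cancel_right] at h2
  exact mul_right_cancel (h2.symm.trans (one_mul _).symm)

theorem dvd_choose_two {r : ℕ} (hr : r.Prime) : r ∣ (r * Nat.gcd 2 r).choose 2 := by
  rcases hr.eq_two_or_odd' with rfl | h
  · decide
  · rw [(Nat.coprime_two_left.2 h).gcd_eq_one, mul_one]
    refine hr.dvd_choose_self (by omega) ?_
    have := hr.two_le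
    rcases h with ⟨k, hk⟩; omega

theorem mul_pow_of_comm {x y : GL ι F} {r : ℕ} (hr : r.Prime) (h : ⁅y, x⁆ ∈ Z) (hx : x ^ r ∈ Z) :
    (x * y) ^ (r * Nat.gcd 2 r) = x ^ (r * Nat.gcd 2 r) * y ^ (r * Nat.gcd 2 r) := by
  rw [mul_pow_of_central (z := ⁅y, x⁆) (scalars_comm h) (by simp [commutatorElement_def, mul_assoc])]
  obtain ⟨j, hj⟩ := dvd_choose_two hr
  rw [hj, pow_mul, comm_pow_eq_one h hx, one_pow, one_mul]

theorem trace_eq_zero_of_comm {R : Subgroup (GL ι F)} (hR : alg R = ⊤)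
    (hc : ∀ x ∈ R, ∀ y ∈ R, ⁅x, y⁆ ∈ Z) {x : GL ι F} (hx : x ∈ R) (hZ : x ∉ Z) : x.val.trace = 0 := by
  by_contra h0
  refine hZ (mem_scalars.2 (isSc_of_alg_top hR fun y hy => ?_))
  obtain ⟨c, hc⟩ := exists_scal (hc y hy x hx)
  have h1 : y * x * y⁻¹ = scal ι c * x := by rw [hc]; simp [commutatorElement_def]
  have h2 := trace_cjm y x.val
  rw [cjm_coe, h1, coe_scal_mul, trace_smul, smul_eq_mul] at h2
  have h3 : c = 1 := Units.ext ((mul_eq_right₀ h0).1 h2)
  rw [h3, map_one, one_mul, mul_inv_eq_iff_eq_mul] at h1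
  exact congrArg Units.val h1.symm

theorem trace_scal (c : Fˣ) : (scal ι c).val.trace = c * Fintype.card ι := by
  rw [coe_scal, trace_smul, trace_one, smul_eq_mul]

theorem card_ne_zero_of_comm [Nonempty ι] {R : Subgroup (GL ι F)} (hR : alg R = ⊤)
    (hc : ∀ x ∈ R, ∀ y ∈ R, ⁅x, y⁆ ∈ Z) : (Fintype.card ι : F) ≠ 0 := by
  intro h0
  refine one_ne_zero (eq_zero_of_trace hR (y := 1) fun x hx => ?_)
  rw [Matrix.mul_one]
  by_cases hZ : x ∈ Z
  · obtain ⟨c, rfl⟩ := exists_scal hZ
    rw [trace_scal, h0, mul_zero]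
  · exact trace_eq_zero_of_comm hR hc hx hZ

theorem finrank_alg_eq [Nonempty ι] [Finite F] {R : Subgroup (GL ι F)} (hR : alg R = ⊤)
    (hc : ∀ x ∈ R, ∀ y ∈ R, ⁅x, y⁆ ∈ Z) {A : Subgroup (GL ι F)} (hA : A ≤ R) :
    finrank F (alg A) = Nat.card (A ⧸ (Z).subgroupOf A) := by
  classical
  haveI := Fintype.ofFinite (A ⧸ (Z).subgroupOf A)
  let b : (A ⧸ (Z).subgroupOf A) → Matrix ι ι F := fun q => q.out.1.val
  have hli : LinearIndependent F b := by
    rw [Fintype.linearIndependent_iff]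
    intro g hg j
    have := congrArg (fun y => (j.out.1⁻¹.val * y).trace) hg
    simp only [Matrix.mul_sum, trace_sum, Matrix.mul_smul, trace_smul, Matrix.mul_zero, trace_zero,
      smul_eq_mul, b] at this
    rw [Finset.sum_eq_single j (fun i _ hi => ?_) (fun h => absurd (Finset.mem_univ j) h),
      Units.inv_mul, trace_one] at this
    · exact (mul_eq_zero.1 this).resolve_right (card_ne_zero_of_comm hR hc)
    · rw [← Units.val_mul, trace_eq_zero_of_comm hR hc
        (hA (A.mul_mem (A.inv_mem j.out.2) i.out.2)), mul_zero]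
      intro hZ
      apply hi
      rw [← j.out_eq', ← i.out_eq', eq_comm, QuotientGroup.eq]
      exact hZ
  have hsp : Submodule.span F (Set.range b) = (alg A).toSubmodule := by
    apply le_antisymm
    · rw [Submodule.span_le]
      rintro _ ⟨q, rfl⟩
      exact coe_mem_alg q.out.2
    · refine Submodule.span_le.2 ?_
      rintro _ ⟨x, hx, rfl⟩
      obtain ⟨z, hz⟩ := QuotientGroup.mk_out_eq_mul ((Z).subgroupOf A) ⟨x, hx⟩
      obtain ⟨c, hc⟩ := exists_scal (inv_mem z.2 : (z.1.1)⁻¹ ∈ Z)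
      have : x = scal ι c * (QuotientGroup.mk (⟨x, hx⟩ : A) : A ⧸ (Z).subgroupOf A).out.1 := by
        rw [hz, scalars_comm (scal_mem c), hc]; simp
      change x.val ∈ _
      rw [this, coe_scal_mul]
      exact Submodule.smul_mem _ _ (Submodule.subset_span ⟨_, rfl⟩)
  rw [← Subalgebra.finrank_toSubmodule, ← hsp, finrank_span_eq_card hli, Nat.card_eq_fintype_card]

theorem card_eq_of_comm [Nonempty ι] [Finite F] {R : Subgroup (GL ι F)} (hR : alg R = ⊤)
    (hc : ∀ x ∈ R, ∀ y ∈ R, ⁅x, y⁆ ∈ Z) :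
    Nat.card R = Fintype.card ι ^ 2 * Nat.card (Subgroup.center R) := by
  rw [center_eq_of_top hR, Subgroup.card_eq_card_quotient_mul_card_subgroup ((Z).subgroupOf R),
    ← finrank_alg_eq hR hc le_rfl, hR, ← Subalgebra.finrank_toSubmodule, Algebra.top_toSubmodule,
    finrank_top, finrank_matrix, finrank_self, mul_one, sq]

/-- spanning groups of symplectic type normalised by `G` -/
structure XR (G R : Subgroup (GL ι F)) (r : ℕ) : Prop where
  two_le : 2 ≤ Fintype.card ι
  prime : r.Prime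
  top : alg R = ⊤
  nrm : G ≤ Subgroup.normalizer (R : Set (GL ι F))
  comm : ∀ x ∈ R, ∀ y ∈ R, ⁅x, y⁆ ∈ Z
  pow : ∀ x ∈ R, x ^ (r * Nat.gcd 2 r) = 1
  ab : ∀ A ≤ R, G ≤ Subgroup.normalizer (A : Set (GL ι F)) → (∀ x ∈ A, ∀ y ∈ A, x * y = y * x) → A ≤ Z

theorem ExtraCase.xr {G N R : Subgroup (GL ι F)} {r : ℕ} (h : ExtraCase G N r) (hι : 2 ≤ Fintype.card ι)
    (h1 : R ≤ N) (h2 : N ≤ R ⊔ Z) (hn : G ≤ Subgroup.normalizer (R : Set (GL ι F)))
    (hp : ∀ x ∈ R, x ^ (r * Nat.gcd 2 r) = 1) : XR G R r := by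
  refine ⟨hι, h.prime, ?_, hn, fun x hx y hy => h.comm x (h1 hx) y (h1 hy), hp, fun A hA hGA hc => ?_⟩
  · rw [eq_top_iff, ← h.top, ← alg_sup_scalars R]; exact alg_mono h2
  · rcases h.min (A ⊔ Z) le_sup_right (sup_le (hA.trans h1) h.sc_le)
      (le_normalizer_sup hGA (le_normalizer_normal _ _)) with e | e
    · exact le_sup_left.trans e.le
    · refine absurd (fun x hx y hy => ?_) (not_comm_of_top hι (N := A) (by
        rw [← alg_sup_scalars, e, h.top]))
      exact hc x hx y hy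

theorem ExtraCase.exists_xr [Finite F] {G N : Subgroup (GL ι F)} {r : ℕ} (h : ExtraCase G N r)
    (hι : 2 ≤ Fintype.card ι) : ∃ R, XR G R r ∧ R ≤ N ∧
      ∀ c : Fˣ, c ^ (r * Nat.gcd 2 r) = 1 → scal ι c ∈ R := by
  have hm : ∀ x ∈ N, ∀ y ∈ N, (x * y) ^ (r * Nat.gcd 2 r) = x ^ (r * Nat.gcd 2 r) * y ^ (r * Nat.gcd 2 r) :=
    fun x hx y hy => mul_pow_of_comm h.prime (h.comm y hy x hx) (h.pow x hx)
  let R : Subgroup (GL ι F) :=
    { carrier := {x | x ∈ N ∧ x ^ (r * Nat.gcd 2 r) = 1}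
      one_mem' := ⟨N.one_mem, one_pow _⟩
      mul_mem' := fun {a b} ha hb => ⟨N.mul_mem ha.1 hb.1, by rw [hm a ha.1 b hb.1, ha.2, hb.2, mul_one]⟩
      inv_mem' := fun {a} ha => ⟨N.inv_mem ha.1, by rw [inv_pow, ha.2, inv_one]⟩ }
  have hn : G ≤ Subgroup.normalizer (R : Set (GL ι F)) :=
    le_normalizer_of_cj_le fun g hg => cj_le_iff'.2 fun y hy =>
      ⟨conj_mem_of_le_normalizer h.nrm hg hy.1, by rw [conj_pow, hy.2]; simp⟩
  refine ⟨R, h.xr hι (fun x hx => hx.1) ?_ hn (fun x hx => hx.2), fun x hx => hx.1,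
    fun c hc => ⟨h.sc_le (scal_mem c), by rw [← map_pow, hc, map_one]⟩⟩
  rcases h.min (R ⊔ Z) le_sup_right (sup_le (fun x hx => hx.1) h.sc_le)
    (le_normalizer_sup hn (le_normalizer_normal _ _)) with e | e
  · exfalso
    let φ : N →* Z :=
      { toFun := fun x => ⟨x.1 ^ (r * Nat.gcd 2 r), by rw [pow_mul]; exact pow_mem (h.pow _ x.2) _⟩
        map_one' := Subtype.ext (one_pow _)
        map_mul' := fun x y => Subtype.ext (hm _ x.2 _ y.2) }
    have := φ.isMulCommutative_of_isCyclic_of_ker_le_center (fun x hx => by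
      rw [center_eq_of_top h.top]
      exact e.le (Subgroup.mem_sup_left ⟨x.2, congrArg Subtype.val hx⟩))
    exact not_comm_of_top hι h.top fun x hx y hy =>
      congrArg Subtype.val (this.is_comm.comm ⟨x, hx⟩ ⟨y, hy⟩)
  · exact e.ge

theorem ExtraCase.le_inf_sup {G N I : Subgroup (GL ι F)} {r : ℕ} (h : ExtraCase G N r) (hG : G ≤ I) :
    N ≤ (N ⊓ I) ⊔ Z := by
  intro x hx
  obtain ⟨g, hg, c, rfl⟩ := exists_mul_of_mem_sup (h.le hx)
  refine Subgroup.mul_mem_sup ⟨?_, hG hg⟩ (scal_mem c)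
  simpa using N.mul_mem hx (N.inv_mem (h.sc_le (scal_mem c)))

namespace XR
variable {G R : Subgroup (GL ι F)} {r : ℕ}

theorem nonempty (h : XR G R r) : Nonempty ι := Fintype.card_pos_iff.1 (by have := h.two_le; omega)

theorem isPGroup (h : XR G R r) : IsPGroup r R := by
  intro x
  refine ⟨2, Subtype.ext ?_⟩
  have : r * Nat.gcd 2 r ∣ r ^ 2 := by rw [sq]; exact Nat.mul_dvd_mul_left _ (Nat.gcd_dvd_right _ _)
  obtain ⟨k, hk⟩ := this
  rw [Subgroup.coe_pow, hk, pow_mul, h.pow _ x.2, one_pow, Subgroup.coe_one]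

theorem card_ne_zero (h : XR G R r) : (Fintype.card ι : F) ≠ 0 :=
  haveI := h.nonempty
  card_ne_zero_of_comm h.top h.comm

theorem exists_card [Finite F] (h : XR G R r) : ∃ m, 1 ≤ m ∧ Fintype.card ι = r ^ m ∧
    Nat.card R = r ^ (2 * m) * Nat.card (Subgroup.center R) := by
  haveI := h.nonempty
  haveI := Fact.mk h.prime
  obtain ⟨k, hk⟩ := IsPGroup.iff_card.1 h.isPGroup
  have e := card_eq_of_comm h.top h.comm
  have : Fintype.card ι ∣ r ^ k := by rw [← hk, e, sq, mul_assoc]; exact Dvd.intro _ rfl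
  obtain ⟨m, -, hm⟩ := (Nat.dvd_prime_pow h.prime).1 this
  refine ⟨m, ?_, hm, by rw [e, hm, ← pow_mul, mul_comm m]⟩
  have := h.two_le
  rcases m with _ | m
  · simp at hm; omega
  · omega

theorem dvd_card [Finite F] (h : XR G R r) : r ∣ Fintype.card ι := by
  obtain ⟨m, h1, h2, -⟩ := h.exists_card
  rw [h2]; exact dvd_pow_self _ (by omega)

theorem cast_ne_zero [Finite F] (h : XR G R r) : (r : F) ≠ 0 := fun e => by
  obtain ⟨k, hk⟩ := h.dvd_card
  exact h.card_ne_zero (by rw [hk, Nat.cast_mul, e, zero_mul])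

theorem ne_char [Finite F] (h : XR G R r) {p : ℕ} [CharP F p] : r ≠ p := by
  rintro rfl; exact h.cast_ne_zero (CharP.cast_eq_zero F r)

theorem not_comm (h : XR G R r) : ¬ ∀ x ∈ R, ∀ y ∈ R, x * y = y * x := not_comm_of_top h.two_le h.top

theorem isSymplecticTypeGroup [Finite F] (h : XR G R r) : IsSymplecticTypeGroup r R := by
  refine ⟨h.prime, h.isPGroup, fun A hA hc => ?_, ?_⟩
  · have := isCyclic_of_le_scalars (h.ab (A.map R.subtype) (Subgroup.map_subtype_le _)
      (le_normalizer_of_cj_le fun g hg => cj_le_iff'.2 ?_) ?_)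
    · exact (A.equivMapOfInjective _ R.subtype_injective).isCyclic.2 this
    · rintro _ ⟨x, hx, rfl⟩
      refine ⟨R.normalizerMonoidHom ⟨g, h.nrm hg⟩ x, ?_, rfl⟩
      have := hA.fixed (R.normalizerMonoidHom ⟨g, h.nrm hg⟩)
      rw [← this] at hx
      exact hx
    · rintro _ ⟨x, hx, rfl⟩ _ ⟨y, hy, rfl⟩
      exact congrArg (fun z : A => z.1.1) (hc.is_comm.comm ⟨x, hx⟩ ⟨y, hy⟩)
  · have h1 : Monoid.exponent R ∣ r * Nat.gcd 2 r :=
      Monoid.exponent_dvd_of_forall_pow_eq_one fun x => Subtype.ext (h.pow _ x.2)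
    have h2 : ¬ Monoid.exponent R ∣ 2 := fun e => h.not_comm fun x hx y hy => by
      have := Monoid.exponent_dvd_iff_forall_pow_eq_one.1 e
      exact congrArg Subtype.val (Commute.of_orderOf_dvd_two
        (fun z => orderOf_dvd_of_pow_eq_one (this z)) (⟨x, hx⟩ : R) ⟨y, hy⟩).eq
    rcases h.prime.eq_two_or_odd' with rfl | ho
    · obtain ⟨k, hk, e⟩ := (Nat.dvd_prime_pow Nat.prime_two (m := 2)).1 h1
      rw [e] at h2 ⊢
      interval_cases k <;> simp at h2 ⊢
    · rw [(Nat.coprime_two_left.2 ho).gcd_eq_one, mul_one] at h1 ⊢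
      exact ((Nat.dvd_prime h.prime).1 h1).resolve_left fun e => h2 (by rw [e]; exact one_dvd _)

theorem absIrr (h : XR G R r) : ActsAbsolutelyIrreducibly (matrixSet R) := absIrr_of_alg_top h.top

theorem isCyclic_center [Finite F] (h : XR G R r) : IsCyclic (Subgroup.center R) :=
  h.isSymplecticTypeGroup.cyclic_of_characteristic _ inferInstance inferInstance

theorem pow_center [Finite F] (h : XR G R r) {c : Fˣ} (hc : scal ι c ∈ R) :
    c ^ Nat.card (Subgroup.center R) = 1 := by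
  haveI := h.nonempty
  apply scal_injective (ι := ι)
  rw [map_pow, map_one]
  exact congrArg (fun z : Subgroup.center R => z.1.1) (pow_card_eq_one' (G := Subgroup.center R)
    (x := ⟨⟨scal ι c, hc⟩, by rw [center_eq_of_top h.top]; exact scal_mem c⟩))

theorem center_dvd [Finite F] (h : XR G R r) : Nat.card (Subgroup.center R) ∣ r * Nat.gcd 2 r := by
  haveI := h.isCyclic_center
  rw [← IsCyclic.exponent_eq_card]
  exact Monoid.exponent_dvd_of_forall_pow_eq_one fun x => Subtype.ext (Subtype.ext (h.pow _ x.1.2))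

theorem center_ne_one [Finite F] (h : XR G R r) : Nat.card (Subgroup.center R) ≠ 1 := by
  intro e
  refine h.not_comm fun x hx y hy => ?_
  obtain ⟨c, hc⟩ := exists_scal (h.comm x hx y hy)
  have := h.pow_center (c := c) (by
    rw [hc]; exact R.mul_mem (R.mul_mem (R.mul_mem hx hy) (R.inv_mem hx)) (R.inv_mem hy))
  rw [e, pow_one] at this
  rw [← commutatorElement_eq_one_iff_mul_comm, ← hc, this, map_one]

theorem center_odd [Finite F] (h : XR G R r) (ho : Odd r) : Nat.card (Subgroup.center R) = r := by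
  have := h.center_dvd
  rw [(Nat.coprime_two_left.2 ho).gcd_eq_one, mul_one] at this
  exact ((Nat.dvd_prime h.prime).1 this).resolve_left h.center_ne_one

theorem center_two [Finite F] (h : XR G R 2) :
    Nat.card (Subgroup.center R) = 2 ∨ Nat.card (Subgroup.center R) = 4 := by
  obtain ⟨k, hk, e⟩ := (Nat.dvd_prime_pow Nat.prime_two (m := 2)).1 h.center_dvd
  have := h.center_ne_one
  rw [e] at this ⊢
  interval_cases k <;> simp at this ⊢

theorem center_dvd_card [Finite F] (h : XR G R r) : Nat.card (Subgroup.center R) ∣ Nat.card F - 1 := by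
  haveI := h.nonempty
  rw [center_eq_of_top h.top, ← Nat.card_units,
    Nat.card_congr (MonoidHom.ofInjective (scal_injective (F := F) (ι := ι))).toEquiv,
    ← Subgroup.inf_subgroupOf_right, Nat.card_congr (Subgroup.subgroupOfEquivOfLe inf_le_right).toEquiv]
  exact Subgroup.card_dvd_of_le inf_le_left

theorem exists_descent [Finite F] (h : XR G R r) {Q s : ℕ} (hF : Nat.card F = Q ^ s)
    (hQ : Nat.card (Subgroup.center R) ∣ Q - 1) :
    ∃ P : GL ι F, ∀ x ∈ R, ∀ i j, cjm P⁻¹ x.val i j ∈ fixSub hF := by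
  let ρ : R →* Matrix ι ι F :=
    { toFun := fun x => x.1.val.map (frob hF)
      map_one' := Matrix.map_one _ (map_zero _) (map_one _)
      map_mul' := fun x y => Matrix.map_mul }
  have hb : Function.Bijective (frob hF) := Finite.injective_iff_bijective.1 (frob hF).injective
  let τ : F ≃+* F := RingEquiv.ofBijective _ hb
  obtain ⟨T, hT⟩ := exists_conj_of_trace h.top ρ (fun y hy => by
      have : y.map (τ.symm : F →+* F) = 0 := eq_zero_of_trace h.top fun x hx => by
        have := congrArg (τ.symm : F →+* F) (hy ⟨x, hx⟩)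
        rw [← trace_map, Matrix.map_mul, map_zero, trace_mul_comm] at this
        rw [← this]
        congr 2
        ext i j
        exact (τ.symm_apply_apply _).symm
      exact Matrix.map_injective τ.symm.injective (this.trans (Matrix.map_zero _ (map_zero _)).symm))
    (fun x => by
      change (x.1.val.map (frob hF)).trace = _
      rw [trace_map]
      by_cases hZ : x.1 ∈ Z
      · obtain ⟨c, hc⟩ := exists_scal hZ
        have h1 := h.pow_center (c := c) (hc ▸ x.2)
        obtain ⟨k, hk⟩ := hQ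
        have h2 : Q = Nat.card (Subgroup.center R) * k + 1 := by
          have := (two_le_of_card_pow hF).1; omega
        rw [← hc, trace_scal, map_mul, map_natCast, frob_apply, h2, pow_succ, pow_mul, ← Units.val_pow_eq_pow_val,
          h1]
        simp
      · rw [trace_eq_zero_of_comm h.top h.comm x.2 hZ, map_zero])
  refine Asch.exists_descent hF h.top T⁻¹ fun x hx => ?_
  have := hT ⟨x, hx⟩
  change x.val.map (frob hF) = cjm T x.val at this
  rw [this, ← cjm_eq_iff, cjm_inv_cjm]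

theorem exists_Iso [Finite F] (h : XR G R r) (hσ : ∀ a, σ (σ a) = a)
    (hc : ∀ c : F, c ^ Nat.card (Subgroup.center R) = 1 → c * σ c = 1) :
    ∃ B : GL ι F, R ≤ Iso σ B.val := by
  refine exists_Iso_of_trace hσ h.top fun x hx => ?_
  by_cases hZ : x ∈ Z
  · obtain ⟨c, rfl⟩ := exists_scal hZ
    have := hc (c⁻¹ : Fˣ) (by rw [← Units.val_pow_eq_pow_val, inv_pow, h.pow_center hx]; simp)
    rw [← map_inv, trace_scal, trace_scal, map_mul, map_natCast]
    congr 1
    rw [← one_mul (σ _), ← c.mul_inv, mul_assoc, this, mul_one]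
  · rw [trace_eq_zero_of_comm h.top h.comm hx hZ,
      trace_eq_zero_of_comm h.top h.comm (R.inv_mem hx) (fun e => hZ (inv_mem_iff.1 e)), map_zero]

/-- either the field is minimal for the centre or there is a subfield of prime index containing it -/
theorem field_cases [Fintype F] (h : XR G R r) :
    (∃ p e, r ≠ p ∧ 0 < e ∧ IsMinimalFieldFor (Nat.card (Subgroup.center R)) p e F) ∨
    ∃ Q s, s.Prime ∧ Nat.card F = Q ^ s ∧ Nat.card (Subgroup.center R) ∣ Q - 1 := by
  obtain ⟨p, hp, e, hp', he⟩ := FiniteField.card' F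
  have hd := h.center_dvd_card
  rw [Nat.card_eq_fintype_card (α := F), he] at hd
  by_cases hmin : ∀ d : ℕ, 0 < d → d < e → ¬ Nat.card (Subgroup.center R) ∣ p ^ d - 1
  · exact Or.inl ⟨p, e, h.ne_char, e.2, hp', hp, he, hd, hmin⟩
  right
  push Not at hmin
  obtain ⟨d, hd0, hde, hd1⟩ := hmin
  have h1 := Nat.dvd_gcd hd1 hd
  rw [Nat.pow_sub_one_gcd_pow_sub_one] at h1
  obtain ⟨k, hk⟩ := Nat.gcd_dvd_right d e
  have hk1 : k ≠ 1 := by
    rintro rfl
    have := Nat.gcd_le_left e hd0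
    omega
  obtain ⟨s, hs, j, rfl⟩ := Nat.exists_prime_and_dvd hk1
  refine ⟨p ^ (Nat.gcd d e * j), s, hs, ?_, h1.trans (Nat.pow_sub_one_dvd_pow_sub_one _ (Dvd.intro _ rfl))⟩
  rw [Nat.card_eq_fintype_card, he, ← pow_mul]
  congr 1
  rw [mul_assoc, mul_comm j]; exact hk

end XR

end Cfsg.Agent.Classical.Asch
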