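import Cfsg.Agent.Lib.Classical.Asch8

/-!
Normalised commutative subalgebras, with and without forms.
-/

set_option autoImplicit false

namespace Cfsg.Agent.Classical.Asch
open Matrix Cfsg.Geo Module Cfsg.Agent.Comp
open scoped MatrixGroups Kronecker commutatorElement

variable {ι : Type} [Fintype ι] [DecidableEq ι] {F : Type*} [Field F] {σ : F →+* F}

local notation "Z" => scalars ι F
local notation "σ₀" => RingHom.id F

theorem exists_eq_pow_of_involutive {L : Type*} [Field L] [Finite L] (τ : L →+* L) (hτ : ∀ a, τ (τ a) = a)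
    {θ : L} (hθ : τ θ ≠ θ) : ∃ Q, Nat.card L = Q ^ 2 ∧ ∀ x, τ x = x ^ Q := by
  let F₀ : Subfield L := τ.eqLocusField (RingHom.id L)
  have hm : ∀ x, x ∈ F₀ ↔ τ x = x := fun x => Iff.rfl
  have hd : θ - τ θ ≠ 0 := sub_ne_zero.2 hθ.symm
  have hdec : ∀ x, ∃ a ∈ F₀, ∃ b ∈ F₀, x = a + b * θ := fun x => by
    have hb : τ ((x - τ x) / (θ - τ θ)) = (x - τ x) / (θ - τ θ) := by
      rw [map_div₀, map_sub, map_sub, hτ, hτ, ← neg_div_neg_eq, neg_sub, neg_sub]
    refine ⟨x - (x - τ x) / (θ - τ θ) * θ, ?_, _, hb, by ring⟩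
    rw [hm, map_sub, map_mul, hb]
    field_simp
    ring
  have h2 : finrank F₀ L = 2 := by
    apply le_antisymm
    · have : (⊤ : Submodule F₀ L) ≤ Submodule.span F₀ (Set.range ![1, θ]) := fun x _ => by
        obtain ⟨a, ha, b, hb, rfl⟩ := hdec x
        rw [Submodule.mem_span_range_iff_exists_fun]
        exact ⟨![⟨a, ha⟩, ⟨b, hb⟩], by simp [Subfield.smul_def]⟩
      simpa using finrank_le_of_span_eq_top (top_le_iff.1 this)
    · by_contra hlt
      have h1 : finrank F₀ L = 1 := by have := finrank_pos (R := F₀) (M := L); omega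
      have := card_eq_pow_subfield F₀
      rw [h1] at this
      exact hθ ((hm θ).1 ((mem_iff_pow_card this).2 (by rw [← pow_one (Nat.card F₀), ← this, pow_natCard])))
  have hc : Nat.card L = Nat.card F₀ ^ 2 := h2 ▸ card_eq_pow_subfield F₀
  have hθ' : θ ^ Nat.card F₀ = τ θ := by
    have h1 : frob hc (θ + τ θ) = θ + τ θ := pow_card_of_mem ((hm _).2 (by rw [map_add, hτ, add_comm]))
    have h3 : frob hc (θ * τ θ) = θ * τ θ := pow_card_of_mem ((hm _).2 (by rw [map_mul, hτ, mul_comm]))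
    have h4 : (frob hc θ - θ) * (frob hc θ - τ θ) = 0 := by
      rw [map_add] at h1; rw [map_mul] at h3
      linear_combination frob hc θ * h1 - h3
    rcases mul_eq_zero.1 h4 with h | h
    · exact absurd ((hm θ).1 ((mem_iff_pow_card hc).2 (sub_eq_zero.1 h))) hθ
    · exact sub_eq_zero.1 h
  refine ⟨_, hc, fun x => ?_⟩
  obtain ⟨a, ha, b, hb, rfl⟩ := hdec x
  rw [← frob_apply hc, map_add, map_add, map_mul, map_mul, frob_apply, frob_apply, frob_apply,
    pow_card_of_mem ha, pow_card_of_mem hb, hθ', (hm a).1 ha, (hm b).1 hb]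

theorem exists_eq_pow_of_ne_id [Finite F] (hσ : ∀ a, σ (σ a) = a) (hne : σ ≠ σ₀) :
    ∃ Q, Nat.card F = Q ^ 2 ∧ ∀ x, σ x = x ^ Q := by
  obtain ⟨θ, hθ⟩ : ∃ θ, σ θ ≠ θ := by
    by_contra h; push Not at h; exact hne (RingHom.ext h)
  exact exists_eq_pow_of_involutive σ hσ hθ

theorem IsFieldSubalgebra.isField [Nonempty ι] {d : ℕ} {C : Subalgebra F (Matrix ι ι F)}
    (hC : IsFieldSubalgebra d C) : IsField C :=
  { exists_pair_ne := ⟨0, 1, zero_ne_one⟩
    mul_comm := fun a b => Subtype.ext (hC.comm _ a.2 _ b.2)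
    mul_inv_cancel := fun {a} ha => by
      obtain ⟨y, hy, e⟩ := hC.inv a a.2 (fun h => ha (Subtype.ext h))
      exact ⟨⟨y, hy⟩, Subtype.ext e⟩ }

theorem IsFieldSubalgebra.eq_zero_or {d : ℕ} {C : Subalgebra F (Matrix ι ι F)}
    (hC : IsFieldSubalgebra d C) {x y : Matrix ι ι F} (hx : x ∈ C) (h : x * y = 0) : x = 0 ∨ y = 0 := by
  by_cases h0 : x = 0
  · exact Or.inl h0
  · obtain ⟨z, hz, e⟩ := hC.inv x hx h0
    right
    rw [← Matrix.one_mul y, ← e, hC.comm x hx z hz, Matrix.mul_assoc, h, Matrix.mul_zero]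

theorem IsFieldSubalgebra.mulVec_eq_zero {d : ℕ} {C : Subalgebra F (Matrix ι ι F)}
    (hC : IsFieldSubalgebra d C) {x : Matrix ι ι F} (hx : x ∈ C) {v : ι → F} (h : x *ᵥ v = 0) :
    x = 0 ∨ v = 0 := by
  by_cases h0 : x = 0
  · exact Or.inl h0
  · obtain ⟨z, hz, e⟩ := hC.inv x hx h0
    right
    rw [← one_mulVec v, ← e, hC.comm x hx z hz, ← mulVec_mulVec, h, mulVec_zero]

theorem IsFieldSubalgebra.exists_not_isSc {d : ℕ} {C : Subalgebra F (Matrix ι ι F)}
    (hC : IsFieldSubalgebra d C) (hd : 2 ≤ d) : ∃ x ∈ C, ¬ IsSc x := by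
  by_contra h
  push Not at h
  have : C ≤ ⊥ := fun x hx => isSc_iff_mem_bot.1 (h x hx)
  have h1 := hC.finrank_eq
  rw [le_bot_iff.1 this] at h1
  have := finrank_le_one (R := F) (1 : (⊥ : Subalgebra F (Matrix ι ι F))) (fun w => by
    obtain ⟨c, hc⟩ := isSc_iff_mem_bot.2 w.2
    exact ⟨c, Subtype.ext hc.symm⟩)
  omega

theorem IsFieldSubalgebra.exists_adj_eq_pow [Finite F] {d : ℕ} {K : Subalgebra F (Matrix ι ι F)}
    (hK : IsFieldSubalgebra d K) {ε : F} {B : GL ι F} (hB : RF σ ε B) (hs : StCl σ B K)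
    {x : Matrix ι ι F} (hx : x ∈ K) (hx' : adj σ B x ≠ x) :
    ∃ Q, Nat.card F ^ d = Q ^ 2 ∧ (∀ x ∈ K, adj σ B x = x ^ Q) ∧
      Nat.card {x : K // x.1 ^ Q = x.1} = Q := by
  haveI : Nonempty ι := by
    by_contra h; rw [not_nonempty_iff] at h; exact hx' (Subsingleton.elim _ _)
  letI := (IsFieldSubalgebra.isField hK).toField
  let τ : K →+* K :=
    { toFun := fun x => ⟨adj σ B x.1, hs _ x.2⟩
      map_one' := Subtype.ext (adj_one B)
      map_mul' := fun a b => Subtype.ext ((adj_mul B _ _).trans (hK.comm _ (hs _ b.2) _ (hs _ a.2)))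
      map_zero' := Subtype.ext (adj_zero B)
      map_add' := fun a b => Subtype.ext (adj_add B _ _) }
  obtain ⟨Q, h1, h2⟩ := exists_eq_pow_of_involutive τ (fun a => Subtype.ext (hB.adj_adj _))
    (θ := ⟨x, hx⟩) (fun e => hx' (congrArg Subtype.val e))
  refine ⟨Q, by rw [← h1, Module.natCard_eq_pow_finrank (K := F) (V := K), hK.finrank_eq],
    fun y hy => congrArg Subtype.val (h2 ⟨y, hy⟩), ?_⟩
  refine Eq.trans ?_ (card_pow_eq_self h1)
  exact Nat.card_congr (Equiv.subtypeEquivRight fun x => by rw [Subtype.ext_iff]; rfl)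

theorem IsFieldSubalgebra.even_of_adj_ne [Finite F] {d : ℕ} {K : Subalgebra F (Matrix ι ι F)}
    (hK : IsFieldSubalgebra d K) {ε : F} {B : GL ι F} (hB : RF σ₀ ε B) (hs : StCl σ₀ B K)
    {x : Matrix ι ι F} (hx : x ∈ K) (hx' : adj σ₀ B x ≠ x) : Even d := by
  obtain ⟨Q, h1, h2, h3⟩ := IsFieldSubalgebra.exists_adj_eq_pow hK hB hs hx hx'
  let S : Submodule F K :=
    { carrier := {x | adj σ₀ B x.1 = x.1}
      zero_mem' := adj_zero B
      add_mem' := fun {a b} ha hb => by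
        simp only [Set.mem_ofPred_eq, AddMemClass.coe_add] at *; rw [adj_add, ha, hb]
      smul_mem' := fun c a ha => by
        simp only [Set.mem_ofPred_eq, SetLike.val_smul] at *; rw [adj_smul, ha]; rfl }
  have : Nat.card S = Q := by
    rw [← h3]
    exact Nat.card_congr (Equiv.subtypeEquivRight fun x => by rw [← h2 _ x.2]; rfl)
  rw [← this, Module.natCard_eq_pow_finrank (K := F) (V := S), ← pow_mul] at h1
  exact ⟨finrank F S, by have := Nat.pow_right_injective Finite.one_lt_card h1; omega⟩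

theorem IsFieldSubalgebra.odd_of_stCl [Finite F] [Nonempty ι] {d : ℕ} {K : Subalgebra F (Matrix ι ι F)}
    (hK : IsFieldSubalgebra d K) {ε : F} {B : GL ι F} (hB : RF σ ε B) (hne : σ ≠ σ₀) (hs : StCl σ B K) :
    Odd d := by
  obtain ⟨q, hq, hq'⟩ := exists_eq_pow_of_ne_id hB.σσ hne
  obtain ⟨θ, hθ⟩ : ∃ θ, σ θ ≠ θ := by
    by_contra h; push Not at h; exact hne (RingHom.ext h)
  have hinj : Function.Injective fun c : F => c • (1 : Matrix ι ι F) := smul_left_injective F one_ne_zero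
  have hθK : θ • (1 : Matrix ι ι F) ∈ K := K.smul_mem K.one_mem θ
  obtain ⟨Q, h1, h2, -⟩ := IsFieldSubalgebra.exists_adj_eq_pow hK hB hs hθK
    (fun e => hθ (hinj (by simpa [adj_smul] using e)))
  rw [← Nat.not_even_iff_odd]
  rintro ⟨j, rfl⟩
  have : Q = Nat.card F ^ j := by
    rw [← two_mul, mul_comm, pow_mul] at h1
    exact (Nat.pow_left_injective two_ne_zero h1).symm
  have h3 := h2 _ hθK
  rw [adj_smul, adj_one, smul_pow, one_pow, this, pow_pow_of_pow_eq (pow_natCard θ)] at h3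
  exact hθ (hinj h3)

theorem IsFieldSubalgebra.exists_gen [Finite F] [Nonempty ι] {d : ℕ} {K : Subalgebra F (Matrix ι ι F)}
    (hK : IsFieldSubalgebra d K) : ∃ γ ∈ K, γ ≠ 0 ∧ ∀ k ∈ K, k ≠ 0 → ∃ j : ℕ, k = γ ^ j := by
  letI := (IsFieldSubalgebra.isField hK).toField
  obtain ⟨γ, hγ⟩ := IsCyclic.exists_monoid_generator (α := Kˣ)
  refine ⟨γ.1.1, γ.1.2, fun e => γ.ne_zero (Subtype.ext e), fun k hk h0 => ?_⟩
  obtain ⟨j, hj⟩ := hγ (Units.mk0 ⟨k, hk⟩ (fun e => h0 (congrArg Subtype.val e)))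
  exact ⟨j, (congrArg (fun u : Kˣ => u.1.1) hj).symm⟩

theorem IsFieldSubalgebra.comm_of_mem_commutator [Finite F] [Nonempty ι] {d : ℕ}
    {K : Subalgebra F (Matrix ι ι F)} (hK : IsFieldSubalgebra d K) {G : Subgroup (GL ι F)} (hG : Nrm G K)
    {g : GL ι F} (hg : g ∈ ⁅G, G⁆) {k : Matrix ι ι F} (hk : k ∈ K) : k * g.val = g.val * k := by
  obtain ⟨γ, hγ, h0, hgen⟩ := IsFieldSubalgebra.exists_gen hK
  have : ⁅G, G⁆ ≤ centM γ := Subgroup.commutator_le.2 fun a ha b hb => by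
    obtain ⟨i, hi⟩ := hgen _ (hG a ha γ hγ) (fun e => h0 ((map_eq_zero_iff _ (cjm a).injective).1 e))
    obtain ⟨j, hj⟩ := hgen _ (hG b hb γ hγ) (fun e => h0 ((map_eq_zero_iff _ (cjm b).injective).1 e))
    have h1 : cjm (a * b) γ = cjm (b * a) γ := by
      rw [cjm_mul, cjm_mul, hi, hj, map_pow, map_pow, hi, hj, ← pow_mul, ← pow_mul, mul_comm]
    have h2 : cjm ⁅a, b⁆ (cjm (b * a) γ) = cjm (b * a) γ := by
      rw [← cjm_mul, ← h1]; congr 2; simp [commutatorElement_def, mul_assoc]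
    obtain ⟨l, hl⟩ := hgen _ (hG _ (G.inv_mem (G.mul_mem hb ha)) γ hγ)
      (fun e => h0 ((map_eq_zero_iff _ (cjm _).injective).1 e))
    have h3 : γ = cjm (b * a) γ ^ l := by rw [← map_pow, ← hl, cjm_cjm_inv]
    refine (cjm_eq_iff.1 ?_).symm
    rw [h3, map_pow, h2]
  by_cases hk0 : k = 0
  · simp [hk0]
  · obtain ⟨j, rfl⟩ := hgen k hk hk0
    exact (Commute.pow_left (this hg) j).eq

theorem IsFieldSubalgebra.exists_mulVec {K : Subalgebra F (Matrix ι ι F)}
    (hK : IsFieldSubalgebra (Fintype.card ι) K) {v : ι → F} (hv : v ≠ 0) (w : ι → F) :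
    ∃ k ∈ K, k *ᵥ v = w := by
  let φ : K →ₗ[F] (ι → F) :=
    { toFun := fun k => k.1 *ᵥ v
      map_add' := fun a b => add_mulVec _ _ _
      map_smul' := fun c a => smul_mulVec _ _ _ }
  have h1 : Function.Injective φ := (injective_iff_map_eq_zero φ).2 fun k hk =>
    Subtype.ext ((IsFieldSubalgebra.mulVec_eq_zero hK k.2 hk).resolve_right hv)
  obtain ⟨k, hk⟩ := (LinearMap.injective_iff_surjective_of_finrank_eq_finrank
    (by rw [hK.finrank_eq]; simp)).1 h1 w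
  exact ⟨k.1, k.2, hk⟩

theorem IsFieldSubalgebra.mem_of_comm {K : Subalgebra F (Matrix ι ι F)}
    (hK : IsFieldSubalgebra (Fintype.card ι) K) {x : Matrix ι ι F} (hx : ∀ k ∈ K, k * x = x * k) :
    x ∈ K := by
  cases isEmpty_or_nonempty ι
  · rw [Subsingleton.elim x 0]; exact K.zero_mem
  obtain ⟨i⟩ := ‹Nonempty ι›
  have hv : (Pi.single i 1 : ι → F) ≠ 0 := by simp
  obtain ⟨k, hk, e⟩ := IsFieldSubalgebra.exists_mulVec hK hv (x *ᵥ Pi.single i 1)
  have : x = k := matrix_ext_mulVec fun w => by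
    obtain ⟨l, hl, rfl⟩ := IsFieldSubalgebra.exists_mulVec hK hv w
    rw [mulVec_mulVec, ← hx l hl, ← mulVec_mulVec, ← e, mulVec_mulVec, mulVec_mulVec, hK.comm l hl k hk]
  exact this ▸ hk

/-- commutative subalgebras -/
def IsComm (C : Subalgebra F (Matrix ι ι F)) : Prop := ∀ x ∈ C, ∀ y ∈ C, x * y = y * x

theorem isComm_cen (A : Subalgebra F (Matrix ι ι F)) : IsComm (cen A) :=
  fun _ hx _ hy => hy.2 _ hx.1

theorem isComm_adjoin (s : Matrix ι ι F) : IsComm (Algebra.adjoin F {s}) := fun _ hx _ hy =>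
  (Algebra.commute_of_mem_adjoin_of_forall_mem_commute hy (by
    rintro _ rfl; exact Algebra.commute_of_mem_adjoin_self hx |>.symm)).eq

theorem nrm_adjoin {G : Subgroup (GL ι F)} {s : Matrix ι ι F}
    (h : ∀ g ∈ G, cjm g s ∈ Algebra.adjoin F {s}) : Nrm G (Algebra.adjoin F {s}) := fun g hg _ ha =>
  (Algebra.adjoin_le (S := (Algebra.adjoin F {s}).comap (cjm g).toAlgHom)
    (by rintro _ rfl; exact h g hg)) ha

theorem stCl_adjoin {B : GL ι F} {s : Matrix ι ι F} (h : adj σ B s ∈ Algebra.adjoin F {s}) :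
    StCl σ B (Algebra.adjoin F {s}) := by
  intro x hx
  induction hx using Algebra.adjoin_induction with
  | mem x hx => rw [hx]; exact h
  | algebraMap r =>
    rw [Algebra.algebraMap_eq_smul_one, adj_smul, adj_one]
    exact Subalgebra.smul_mem _ (one_mem _) _
  | add x y _ _ hx hy => rw [adj_add]; exact add_mem hx hy
  | mul x y _ _ hx hy => rw [adj_mul]; exact mul_mem hy hx

theorem add_smul_mem_adjoin (s : Matrix ι ι F) (a b : F) :
    a • (1 : Matrix ι ι F) + b • s ∈ Algebra.adjoin F {s} :=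
  add_mem (Subalgebra.smul_mem _ (one_mem _) _)
    (Subalgebra.smul_mem _ (Algebra.self_mem_adjoin_singleton F s) _)

theorem smul_mem_adjoin (s : Matrix ι ι F) (b : F) : b • s ∈ Algebra.adjoin F {s} :=
  Subalgebra.smul_mem _ (Algebra.self_mem_adjoin_singleton F s) _

/-- no normalised commutative subalgebra -/
def SPrim (G : Subgroup (GL ι F)) : Prop := ∀ C, Nrm G C → IsComm C → ∀ x ∈ C, IsSc x

/-- no normalised commutative adjoint closed subalgebra -/
def SPrimF (σ : F →+* F) (B : GL ι F) (G : Subgroup (GL ι F)) : Prop :=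
  ∀ C, Nrm G C → IsComm C → StCl σ B C → ∀ x ∈ C, IsSc x

theorem SPrim.prim {G Γ : Subgroup (GL ι F)} (h : SPrim G) : Prim Γ G :=
  fun _ _ hN => h _ (nrm_alg hN).cen (isComm_cen _)

theorem SPrimF.prim {ε : F} {B : GL ι F} (hB : RF σ ε B) {G Γ : Subgroup (GL ι F)} (h : SPrimF σ B G)
    (hΓ : Γ ≤ Sim σ B.val) : Prim Γ G :=
  fun _ hle hN => h _ (nrm_alg hN).cen (isComm_cen _) (hB.stCl_cen (stCl_alg hB.σσ (hle.trans hΓ)))

theorem SPrim.isSc {G : Subgroup (GL ι F)} (h : SPrim G) {s : Matrix ι ι F}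
    (hs : ∀ g ∈ G, cjm g s ∈ Algebra.adjoin F {s}) : IsSc s :=
  h _ (nrm_adjoin hs) (isComm_adjoin s) _ (Algebra.self_mem_adjoin_singleton F s)

theorem SPrimF.isSc {B : GL ι F} {G : Subgroup (GL ι F)} (h : SPrimF σ B G) {s : Matrix ι ι F}
    (hs : ∀ g ∈ G, cjm g s ∈ Algebra.adjoin F {s}) (ha : adj σ B s ∈ Algebra.adjoin F {s}) : IsSc s :=
  h _ (nrm_adjoin hs) (isComm_adjoin s) (stCl_adjoin ha) _ (Algebra.self_mem_adjoin_singleton F s)

theorem SPrimF.ab {B : GL ι F} {G A : Subgroup (GL ι F)} (h : SPrimF σ B G) (hσ : ∀ a, σ (σ a) = a)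
    (hA : A ≤ Sim σ B.val) (hn : G ≤ Subgroup.normalizer (A : Set (GL ι F)))
    (hc : ∀ x ∈ A, ∀ y ∈ A, x * y = y * x) : A ≤ Z := fun _ hx =>
  mem_scalars.2 (h _ (nrm_alg hn) (fun _ ha _ hb => alg_comm_alg hc ha hb) (stCl_alg hσ hA) _
    (coe_mem_alg hx))

theorem exists_prime_field [Finite F] {G : Subgroup (GL ι F)} {C : Subalgebra F (Matrix ι ι F)} {d : ℕ}
    (hC : IsFieldSubalgebra d C) (hn : Nrm G C) {x : Matrix ι ι F} (hx : x ∈ C) (hx' : ¬ IsSc x) :
    ∃ r K, r.Prime ∧ IsFieldSubalgebra r K ∧ Nrm G K ∧ K ≤ C ∧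
      ∀ (σ : F →+* F) (B : GL ι F), StCl σ B C → StCl σ B K := by
  haveI : Nonempty ι := by
    by_contra h; rw [not_nonempty_iff] at h; exact hx' ⟨0, Subsingleton.elim _ _⟩
  have hd : d ≠ 1 := by
    rintro rfl
    rw [isSc_iff_mem_bot, ← Subalgebra.eq_bot_of_finrank_one hC.finrank_eq] at hx'
    exact hx' hx
  obtain ⟨r, hr, hrd⟩ := Nat.exists_prime_and_dvd hd
  obtain ⟨K, hK, hm⟩ := exists_subfield_alg hC hrd
  refine ⟨r, K, hr, hK, fun g hg a ha => (hm _).2 ⟨hn g hg a ((hm a).1 ha).1, ?_⟩,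
    fun a ha => ((hm a).1 ha).1, fun σ B hs a ha => (hm _).2 ⟨hs a ((hm a).1 ha).1, ?_⟩⟩
  · rw [← map_pow, ((hm a).1 ha).2]
  · rw [← adj_pow, ((hm a).1 ha).2]

theorem Irr.dec_or_fld [Finite F] {G : Subgroup (GL ι F)} (hG : Irr G) (h : ¬ SPrim G) :
    (∃ (t : ℕ) (E : Fin t → Matrix ι ι F), IdemDec G E) ∨
      ∃ r K, r.Prime ∧ IsFieldSubalgebra r K ∧ Nrm G K := by
  simp only [SPrim, not_forall] at h
  obtain ⟨C, hn, hc, x, hx, hx'⟩ := h
  by_cases hid : ∀ e ∈ C, e * e = e → e = 0 ∨ e = 1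
  · obtain ⟨r, K, h1, h2, h3, -⟩ := exists_prime_field (hG.isField hn hc hid) hn hx hx'
    exact Or.inr ⟨r, K, h1, h2, h3⟩
  · push Not at hid
    obtain ⟨e, he, h1, h2, h3⟩ := hid
    obtain ⟨t, E, hE, -⟩ := hG.exists_idemDec (S := {e | e ∈ C ∧ e * e = e}) (fun e he => he.2)
      (fun e he f hf => ⟨C.mul_mem he.1 hf.1, by
        rw [Matrix.mul_assoc, ← Matrix.mul_assoc f, hc f hf.1 e he.1, ← Matrix.mul_assoc,
          ← Matrix.mul_assoc, he.2, Matrix.mul_assoc, hf.2]⟩)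
      (fun e he f hf => hc e he.1 f hf.1) (fun g hg e he => ⟨hn g hg e he.1, by rw [← map_mul, he.2]⟩)
      ⟨he, h1⟩ h2 h3
    exact Or.inl ⟨t, E, hE⟩

theorem IdemDec.ne_one {G : Subgroup (GL ι F)} {t : ℕ} {E : Fin t → Matrix ι ι F} (h : IdemDec G E)
    (i : Fin t) : E i ≠ 1 := by
  haveI : Nontrivial (Fin t) := Fin.nontrivial_iff_two_le.2 h.two_le
  obtain ⟨j, hj⟩ := exists_ne i
  intro e
  have := h.orth j i hj
  rw [e, Matrix.mul_one] at this
  exact h.ne j this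

theorem Irr.tri [Finite F] {G : Subgroup (GL ι F)} (hG : Irr G) {ε : F} {B : GL ι F} (hB : RF σ ε B)
    (hGB : G ≤ Sim σ B.val) (h : ¬ SPrimF σ B G) :
    (∃ (t : ℕ) (E : Fin t → Matrix ι ι F), IdemDec G E ∧ ∀ i, adj σ B (E i) = E i) ∨
    (∃ E : Fin 2 → Matrix ι ι F, IdemDec G E ∧ ∀ i, adj σ B (E i) = 1 - E i) ∨
      ∃ r K, r.Prime ∧ IsFieldSubalgebra r K ∧ Nrm G K ∧ StCl σ B K := by
  simp only [SPrimF, not_forall] at h
  obtain ⟨C, hn, hc, hs, x, hx, hx'⟩ := h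
  have hmul : ∀ e ∈ C, ∀ f ∈ C, e * e = e → f * f = f → e * f * (e * f) = e * f := fun e he f hf h1 h2 => by
    rw [Matrix.mul_assoc, ← Matrix.mul_assoc f, hc f hf e he, ← Matrix.mul_assoc,
      ← Matrix.mul_assoc, h1, Matrix.mul_assoc, h2]
  by_cases hid : ∀ e ∈ C, e * e = e → e = 0 ∨ e = 1
  · obtain ⟨r, K, h1, h2, h3, -, h4⟩ := exists_prime_field (hG.isField hn hc hid) hn hx hx'
    exact Or.inr (Or.inr ⟨r, K, h1, h2, h3, h4 σ B hs⟩)
  by_cases hid' : ∀ e ∈ C, e * e = e → adj σ B e = e → e = 0 ∨ e = 1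
  swap
  · push Not at hid'
    obtain ⟨e, he, h1, h1', h2, h3⟩ := hid'
    obtain ⟨t, E, hE, hES, -⟩ := hG.exists_idemDec (S := {e | e ∈ C ∧ e * e = e ∧ adj σ B e = e})
      (fun e he => he.2.1)
      (fun e he f hf => ⟨C.mul_mem he.1 hf.1, hmul e he.1 f hf.1 he.2.1 hf.2.1, by
        rw [adj_mul, he.2.2, hf.2.2, hc e he.1 f hf.1]⟩)
      (fun e he f hf => hc e he.1 f hf.1) (fun g hg e he => ⟨hn g hg e he.1, by rw [← map_mul, he.2.1],
        by rw [adj_cjm hB.σσ (hGB hg), he.2.2]⟩)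
      ⟨he, h1, h1'⟩ h2 h3
    exact Or.inl ⟨t, E, hE, fun i => (hES i).2.2⟩
  right; left
  push Not at hid
  obtain ⟨e, he, h1, h2, h3⟩ := hid
  obtain ⟨t, E, hE, hES, -⟩ := hG.exists_idemDec (S := {e | e ∈ C ∧ e * e = e}) (fun e he => he.2)
    (fun e he f hf => ⟨C.mul_mem he.1 hf.1, hmul e he.1 f hf.1 he.2 hf.2⟩)
    (fun e he f hf => hc e he.1 f hf.1) (fun g hg e he => ⟨hn g hg e he.1, by rw [← map_mul, he.2]⟩)
    ⟨he, h1⟩ h2 h3
  have key : ∀ i, adj σ B (E i) = 1 - E i := fun i => by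
    obtain ⟨hi, hi'⟩ := hES i
    have ha : adj σ B (E i) * adj σ B (E i) = adj σ B (E i) := by rw [← adj_mul, hi']
    have h0 : E i * adj σ B (E i) = 0 := by
      refine (hid' _ (C.mul_mem hi (hs _ hi)) (hmul _ hi _ (hs _ hi) hi' ha)
        (by rw [adj_mul, hB.adj_adj])).resolve_right fun e => hE.ne_one i ?_
      rw [← Matrix.mul_one (E i), ← e, ← Matrix.mul_assoc, hi']
    have h0' : adj σ B (E i) * E i = 0 := by rw [hc _ (hs _ hi) _ hi, h0]
    refine eq_sub_of_add_eq' ((hid' _ (C.add_mem hi (hs _ hi)) ?_ ?_).resolve_left fun e => hE.ne i ?_)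
    · rw [Matrix.add_mul, Matrix.mul_add, Matrix.mul_add, hi', h0, h0', ha]; simp
    · rw [adj_add, hB.adj_adj, add_comm]
    · have := congrArg (E i * ·) e
      simpa [Matrix.mul_add, hi', h0] using this
  have h2 : ∀ i j, i ≠ j → E j = 1 - E i := fun i j hij => by
    have h4 := congrArg (adj σ B) (hE.orth i j hij)
    rw [adj_mul, key, key, adj_zero, Matrix.sub_mul, Matrix.mul_sub, Matrix.mul_sub,
      hE.orth j i hij.symm] at h4
    simp only [Matrix.mul_one, Matrix.one_mul, sub_zero] at h4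
    exact (sub_eq_zero.1 h4).symm
  obtain rfl : t = 2 := by
    by_contra ht
    have := hE.two_le
    have h5 := hE.orth ⟨1, by omega⟩ ⟨2, by omega⟩ (by simp)
    rw [h2 ⟨0, by omega⟩ ⟨2, by omega⟩ (by simp), ← h2 ⟨0, by omega⟩ ⟨1, by omega⟩ (by simp), hE.idem] at h5
    exact hE.ne _ h5
  exact ⟨E, hE, key⟩

theorem isNondegenerateOn_rng {ε : F} {B : GL ι F} (hB : RF σ ε B) {e : Matrix ι ι F} (h1 : e * e = e)
    (h2 : adj σ B e = e) : IsNondegenerateOn (gf σ B.val) (rng e) := by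
  intro w hw h0
  have : ∃ x ∈ rng e, gf σ B.val x w ≠ 0 := by
    obtain ⟨x, hx⟩ := (isNondegenerateForm_gf (σ := σ) B w h0).1
    exact ⟨e *ᵥ x, mulVec_mem_rng _ _, by rwa [hB.gf_adj, h2, (mem_rng_idem h1).1 hw]⟩
  obtain ⟨x, hx, hx'⟩ := this
  exact ⟨⟨x, hx, hx'⟩, x, hx, fun e => hx' (hB.gf_eq_zero_comm.1 e)⟩

theorem IdemDec.nondeg {G : Subgroup (GL ι F)} {t : ℕ} {E : Fin t → Matrix ι ι F} (h : IdemDec G E)
    {ε : F} {B : GL ι F} (hB : RF σ ε B) (hE : ∀ i, adj σ B (E i) = E i) :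
    ∃ m, IsNondegenerateMDecomposition (gf σ B.val) m (fun i => rng (E i)) := by
  obtain ⟨m, hm⟩ := h.isMDecomposition
  refine ⟨m, hm, fun i => isNondegenerateOn_rng hB (h.idem i) (hE i), ?_⟩
  rintro i j hij _ ⟨u, rfl⟩ _ ⟨v, rfl⟩
  rw [toLin'_apply, toLin'_apply, hB.gf_adj, hE, mulVec_mulVec, h.orth i j hij, zero_mulVec, gf_zero_right]

theorem IdemDec.ts {G : Subgroup (GL ι F)} {t : ℕ} {E : Fin t → Matrix ι ι F} (h : IdemDec G E)
    {ε : F} {B : GL ι F} (hB : RF σ ε B) (hE : ∀ i, adj σ B (E i) = 1 - E i) (i : Fin t) :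
    IsTotallySingularFor (gf σ B.val) (rng (E i)) := by
  rintro _ ⟨u, rfl⟩ _ ⟨v, rfl⟩
  rw [toLin'_apply, toLin'_apply, hB.gf_adj, hE, mulVec_mulVec, Matrix.sub_mul, h.idem, Matrix.one_mul,
    sub_self, zero_mulVec, gf_zero_right]

theorem IdemDec.isometric {G : Subgroup (GL ι F)} {t : ℕ} {E : Fin t → Matrix ι ι F} (h : IdemDec G E)
    {Q : (ι → F) → F} (hQ : G ≤ Cfsg.isometryGroup F Q) (i j : Fin t) :
    AreIsometricFor Q (rng (E i)) (rng (E j)) := by
  obtain ⟨g, hg, e⟩ := h.trans i j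
  refine ⟨(glEquiv g).ofSubmodules _ _ (by rw [glEquiv_toLinearMap, map_rng, e]), fun w => ?_⟩
  exact mem_isometryGroup.1 (hQ hg) _

/-! ### reducible groups of similarities -/

/-- orthogonal complement -/
def perp (σ : F →+* F) (B : Matrix ι ι F) (W : Submodule F (ι → F)) : Submodule F (ι → F) where
  carrier := {v | ∀ w ∈ W, gf σ B v w = 0}
  zero_mem' := fun _ _ => gf_zero_left _ _
  add_mem' := fun {a b} ha hb w hw => by rw [gf_add_left, ha w hw, hb w hw, add_zero]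
  smul_mem' := fun c a ha w hw => by rw [gf_smul_left, ha w hw, mul_zero]

theorem mem_perp {B : Matrix ι ι F} {W : Submodule F (ι → F)} {v : ι → F} :
    v ∈ perp σ B W ↔ ∀ w ∈ W, gf σ B v w = 0 := Iff.rfl

theorem finrank_perp (hσ : ∀ a, σ (σ a) = a) (B : GL ι F) (W : Submodule F (ι → F)) :
    finrank F (perp σ B.val W) + finrank F W = Fintype.card ι := by
  let b := Module.finBasis F W
  let M : Matrix (Fin (finrank F W)) ι F := Matrix.of fun k => B.val *ᵥ (σ ∘ (b k).1)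
  have h1 : perp σ B.val W = LinearMap.ker (Matrix.toLin' M) := by
    ext v
    rw [mem_perp, LinearMap.mem_ker, toLin'_apply, funext_iff]
    have : ∀ k, (M *ᵥ v) k = gf σ B.val v (b k).1 := fun k => dotProduct_comm _ _
    simp only [this, Pi.zero_apply]
    refine ⟨fun h k => h _ (b k).2, fun h w hw => ?_⟩
    rw [show w = (∑ k, b.repr ⟨w, hw⟩ k • b k : W).1 by rw [b.sum_repr]]
    simp only [gf, AddSubmonoidClass.coe_finsetSum, SetLike.val_smul] at h ⊢
    have : σ ∘ (∑ k, b.repr ⟨w, hw⟩ k • (b k).1) = ∑ k, σ (b.repr ⟨w, hw⟩ k) • (σ ∘ (b k).1) := by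
      ext i; simp [map_sum]
    rw [this, mulVec_sum, dotProduct_sum]
    simp [mulVec_smul, h]
  have h2 : M.rank = finrank F W := by
    have : LinearIndependent F M.row := by
      rw [Fintype.linearIndependent_iff]
      intro c hc
      have h3 : B.val *ᵥ (σ ∘ (∑ k, σ (c k) • b k : W).1) = 0 := by
        rw [← hc]
        have : σ ∘ (∑ k, σ (c k) • b k : W).1 = ∑ k, c k • (σ ∘ (b k).1) := by
          ext i; simp [map_sum, hσ]
        rw [this, mulVec_sum]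
        simp only [mulVec_smul]
        rfl
      have h4 : (∑ k, σ (c k) • b k : W) = 0 := by
        ext i; exact (map_eq_zero σ).1 (congrFun (gl_mulVec_eq_zero.1 h3) i)
      exact fun k => (map_eq_zero σ).1 (Fintype.linearIndependent_iff.1 b.linearIndependent _ h4 k)
    simpa using this.rank_matrix
  have h3 := (Matrix.toLin' M).finrank_range_add_finrank_ker
  rw [finrank_fintype_fun_eq_card] at h3
  have h4 : finrank F (LinearMap.range (Matrix.toLin' M)) = M.rank := rfl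
  rw [h1]; omega

theorem le_stab_perp {B : Matrix ι ι F} {G : Subgroup (GL ι F)} (hG : G ≤ Sim σ B)
    {W : Submodule F (ι → F)} (h : G ≤ subspaceStabilizer W) : G ≤ subspaceStabilizer (perp σ B W) :=
  le_subspaceStabilizer.2 fun g hg v hv w hw => by
    obtain ⟨c, hc⟩ := hG hg
    rw [← mulVec_inv_mulVec g w, hc, hv _ (le_subspaceStabilizer.1 h _ (G.inv_mem hg) w hw), mul_zero]

theorem isNondegenerateOn_iff {ε : F} {B : GL ι F} (hB : RF σ ε B) {W : Submodule F (ι → F)} :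
    IsNondegenerateOn (gf σ B.val) W ↔ W ⊓ perp σ B.val W = ⊥ := by
  rw [Submodule.eq_bot_iff]
  constructor
  · intro h w hw
    by_contra h0
    obtain ⟨x, hx, hx'⟩ := (h w hw.1 h0).2
    exact hx' (hw.2 x hx)
  · intro h w hw h0
    have : ∃ x ∈ W, gf σ B.val w x ≠ 0 := by
      by_contra h'; push Not at h'; exact h0 (h w ⟨hw, h'⟩)
    obtain ⟨x, hx, hx'⟩ := this
    exact ⟨⟨x, hx, fun e => hx' (hB.gf_eq_zero_comm.1 e)⟩, x, hx, hx'⟩

theorem perp_perp {ε : F} {B : GL ι F} (hB : RF σ ε B) (W : Submodule F (ι → F)) :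
    perp σ B.val (perp σ B.val W) = W := by
  have h0 : W ≤ perp σ B.val (perp σ B.val W) := fun w hw v hv => hB.gf_eq_zero_comm.1 (hv w hw)
  refine (Submodule.eq_of_le_of_finrank_eq h0 ?_).symm
  have h1 := finrank_perp hB.σσ B W
  have h2 := finrank_perp hB.σσ B (perp σ B.val W)
  omega

theorem IsNondegenerateOn.perp {ε : F} {B : GL ι F} (hB : RF σ ε B) {W : Submodule F (ι → F)}
    (h : IsNondegenerateOn (gf σ B.val) W) : IsNondegenerateOn (gf σ B.val) (perp σ B.val W) := by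
  rw [isNondegenerateOn_iff hB] at h ⊢
  rwa [perp_perp hB, inf_comm]

theorem IsNondegenerateOn.sup_perp {ε : F} {B : GL ι F} (hB : RF σ ε B) {W : Submodule F (ι → F)}
    (h : IsNondegenerateOn (gf σ B.val) W) : W ⊔ Asch.perp σ B.val W = ⊤ := by
  apply Submodule.eq_top_of_finrank_eq
  have h1 := Submodule.finrank_sup_add_finrank_inf_eq W (Asch.perp σ B.val W)
  have h2 := finrank_perp hB.σσ B W
  rw [(isNondegenerateOn_iff hB).1 h, finrank_bot] at h1
  rw [finrank_fintype_fun_eq_card]; omega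

theorem red_cases {ε : F} {B : GL ι F} (hB : RF σ ε B) {G : Subgroup (GL ι F)} (hG : G ≤ Sim σ B.val)
    (h : ¬ Irr G) :
    (∃ W, W ≠ ⊥ ∧ IsTotallySingularFor (gf σ B.val) W ∧ G ≤ subspaceStabilizer W) ∨
    ∃ W, W ≠ ⊥ ∧ IsNondegenerateOn (gf σ B.val) W ∧ 2 * finrank F W ≤ Fintype.card ι ∧
      G ≤ subspaceStabilizer W := by
  obtain ⟨W, h1, h2, h3⟩ := not_irr h
  have h4 := le_stab_perp hG h3
  by_cases h5 : W ⊓ perp σ B.val W = ⊥
  · right
    have h6 := (isNondegenerateOn_iff hB).2 h5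
    have h7 := finrank_perp hB.σσ B W
    by_cases h8 : 2 * finrank F W ≤ Fintype.card ι
    · exact ⟨W, h1, h6, h8, h3⟩
    · refine ⟨_, fun e => h2 ?_, IsNondegenerateOn.perp hB h6, by omega, h4⟩
      have := IsNondegenerateOn.sup_perp hB h6
      rwa [e, sup_bot_eq] at this
  · exact Or.inl ⟨_, h5, fun u hu v hv => hu.2 v hv.1, le_subspaceStabilizer.2 fun g hg w hw =>
      ⟨le_subspaceStabilizer.1 h3 g hg w hw.1, le_subspaceStabilizer.1 h4 g hg w hw.2⟩⟩

theorem map_eq_of_mem_stab {W : Submodule F (ι → F)} {g : GL ι F} (h : g ∈ subspaceStabilizer W) :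
    W.map (Matrix.toLin' g.val) = W :=
  Submodule.eq_of_le_of_finrank_eq (by rintro _ ⟨w, hw, rfl⟩; exact mem_subspaceStabilizer.1 h w hw)
    (finrank_map_gl g W)

theorem half_dec {ε : F} {B : GL ι F} (hB : RF σ ε B) {W : Submodule F (ι → F)} (h0 : W ≠ ⊥)
    (h : IsNondegenerateOn (gf σ B.val) W) (hd : 2 * finrank F W = Fintype.card ι) :
    IsNondegenerateMDecomposition (gf σ B.val) (finrank F W) ![W, perp σ B.val W] ∧
      subspaceStabilizer W ⊓ Sim σ B.val ≤ decompositionStabilizer ![W, perp σ B.val W] := by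
  have h1 := finrank_perp hB.σσ B W
  refine ⟨⟨⟨le_rfl, ?_, ?_, ?_, ?_⟩, ?_, ?_⟩, fun g hg => ⟨1, ?_⟩⟩
  · exact Nat.pos_of_ne_zero fun e => h0 (Submodule.finrank_eq_zero.1 e)
  · intro i; fin_cases i
    · rfl
    · change finrank F (perp σ B.val W) = _; omega
  · rw [iSupIndep_pair (i := 0) (j := 1) (by simp) (fun k => by fin_cases k <;> simp)]
    exact disjoint_iff.2 ((isNondegenerateOn_iff hB).1 h)
  · rw [← IsNondegenerateOn.sup_perp hB h]
    exact le_antisymm (iSup_le fun i => by fin_cases i <;> simp)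
      (sup_le (le_iSup ![W, perp σ B.val W] 0) (le_iSup ![W, perp σ B.val W] 1))
  · intro i; fin_cases i
    · exact h
    · exact IsNondegenerateOn.perp hB h
  · intro i j hij
    fin_cases i <;> fin_cases j
    · exact absurd rfl hij
    · exact fun u hu v hv => hB.gf_eq_zero_comm.1 (hv u hu)
    · exact fun u hu v hv => hu v hv
    · exact absurd rfl hij
  · intro i; fin_cases i
    · exact map_eq_of_mem_stab hg.1
    · exact map_eq_of_mem_stab (le_stab_perp inf_le_right inf_le_left hg)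

end Cfsg.Agent.Classical.Asch
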