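import Cfsg.Agent.Lib.Classical.SpUE

/-! Orders of stabilisers of subspaces. -/

set_option autoImplicit false

namespace Cfsg.Agent.Classical

open Module

universe u

theorem card_rel {α β : Type*} [Finite α] [Finite β] (R : α → β → Prop) {m n : ℕ}
    (h1 : ∀ a, Nat.card {b // R a b} = m) (h2 : ∀ b, Nat.card {a // R a b} = n) :
    Nat.card α * m = Nat.card β * n := by
  cases nonempty_fintype α
  cases nonempty_fintype β
  have : Nat.card (Σ a, {b // R a b}) = Nat.card (Σ b, {a // R a b}) :=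
    Nat.card_congr ⟨fun x => ⟨x.2.1, x.1, x.2.2⟩, fun x => ⟨x.2.1, x.1, x.2.2⟩, fun _ => rfl, fun _ => rfl⟩
  simpa [Nat.card_sigma, h1, h2] using this

theorem card_compl {α : Type*} [Finite α] (P : α → Prop) : Nat.card {x // ¬ P x} = Nat.card α - Nat.card {x // P x} := by
  classical
  cases nonempty_fintype α
  simp [Fintype.card_subtype_compl]

theorem card_ne {α : Type*} [Finite α] (a : α) : Nat.card {x // x ≠ a} = Nat.card α - 1 := by
  rw [card_compl]; simp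

theorem card_eq_orbit {G X : Type*} [Group G] [MulAction G X] (S : Subgroup G) {x : X} {P : X → Prop}
    (h : ∀ y, P y ↔ ∃ g ∈ S, g • x = y) :
    Nat.card S = Nat.card {y // P y} * Nat.card (S ⊓ MulAction.stabilizer G x : Subgroup G) := by
  rw [← Nat.card_congr (MulAction.orbitProdStabilizerEquivGroup S x), Nat.card_prod]
  congr 1
  · exact Nat.card_congr (Equiv.subtypeEquivRight fun y => by simp [h, MulAction.mem_orbit_iff, Subgroup.smul_def])
  · exact Nat.card_congr ⟨fun g => ⟨g.1, g.1.2, g.2⟩, fun g => ⟨⟨g.1, g.2.1⟩, g.2.2⟩, fun _ => rfl, fun _ => rfl⟩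

section Lin
variable {F : Type*} [Field F] {V : Type*} [AddCommGroup V] [Module F V]

/-- pointwise stabiliser -/
def fixS (W : Submodule F V) : Subgroup (V ≃ₗ[F] V) where
  carrier := {g | ∀ x ∈ W, g x = x}
  one_mem' _ _ := rfl
  mul_mem' {a b} ha hb x hx := by rw [LinearEquiv.mul_apply, hb x hx, ha x hx]
  inv_mem' {a} ha x hx := by rw [LinearEquiv.coe_inv, LinearEquiv.symm_apply_eq, ha x hx]

theorem card_ext {U : Type*} [AddCommGroup U] [Module F U] {j : U →ₗ[F] V} (hj : Function.Injective j)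
    {X T : Subgroup (V ≃ₗ[F] V)} {S : Subgroup (U ≃ₗ[F] U)} (hX : ∀ s : U ≃ₗ[F] U, ∃ g ∈ X, ∀ x, g (j x) = j (s x))
    (hT : ∀ g, g ∈ T ↔ g ∈ X ∧ ∃ s ∈ S, ∀ x, g (j x) = j (s x)) :
    Nat.card T = Nat.card (X ⊓ fixS j.range : Subgroup _) * Nat.card S := by
  choose f f1 f2 using fun g : T => ((hT g).1 g.2).2
  let φ : T →* S := MonoidHom.mk' (fun g => ⟨f g, f1 g⟩) fun a b => Subtype.ext (LinearEquiv.ext fun x => hj (by
    simp [← f2]))
  have k : Function.Surjective φ := fun s => by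
    obtain ⟨g, a, b⟩ := hX s
    exact ⟨⟨g, (hT g).2 ⟨a, s, s.2, b⟩⟩, Subtype.ext (LinearEquiv.ext fun x => hj ((f2 _ x).symm.trans (b x)))⟩
  rw [← φ.ker.card_mul_index, Subgroup.index_ker, MonoidHom.range_eq_top.2 k, Subgroup.card_top]
  congr 1
  exact Nat.card_congr ⟨fun g => ⟨g.1, ((hT _).1 g.1.2).1, by
      rintro _ ⟨x, rfl⟩
      rw [f2, show f g = 1 from congrArg Subtype.val g.2]; rfl⟩,
    fun g => ⟨⟨g.1, (hT _).2 ⟨g.2.1, 1, S.one_mem, fun x => g.2.2 _ ⟨x, rfl⟩⟩⟩,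
      Subtype.ext (LinearEquiv.ext fun x => hj ((f2 _ x).symm.trans (g.2.2 _ ⟨x, rfl⟩)))⟩, fun _ => rfl, fun _ => rfl⟩

variable [FiniteDimensional F V]

theorem card_stab {W : Submodule F V} {X : Subgroup (V ≃ₗ[F] V)} (hX : ∀ s : W ≃ₗ[F] W, ∃ g ∈ X, ∀ x : W, g x = s x) :
    Nat.card (X ⊓ stab W : Subgroup _) = Nat.card (X ⊓ fixS W : Subgroup _) * Nat.card (W ≃ₗ[F] W) := by
  rw [card_ext W.injective_subtype (S := ⊤) hX fun g => and_congr_right fun _ =>
    ⟨fun h => ⟨res g W h, trivial, fun _ => rfl⟩, fun ⟨s, _, h⟩ => stab_of_le fun v hv => h ⟨v, hv⟩ ▸ (s _).2⟩,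
    Submodule.range_subtype, Subgroup.card_top]

theorem exists_fix_map {W : Submodule F V} {u v : V} (hu : u ∉ W) (hv : v ∉ W) : ∃ g ∈ fixS W, g u = v := by
  obtain ⟨φ, a, b, c⟩ : ∃ φ : V →ₗ[F] F, (∀ x ∈ W, φ x = 0) ∧ φ u = 1 ∧ φ v ≠ 0 := by
    obtain ⟨φ, a, b⟩ := Submodule.exists_dual_map_eq_bot_of_notMem hu inferInstance
    obtain ⟨ψ, c, d⟩ := Submodule.exists_dual_map_eq_bot_of_notMem hv inferInstance
    have p : ∀ x ∈ W, φ x = 0 := fun x hx => (b ▸ Submodule.mem_map_of_mem hx : φ x ∈ (⊥ : Submodule F F))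
    have q : ∀ x ∈ W, ψ x = 0 := fun x hx => (d ▸ Submodule.mem_map_of_mem hx : ψ x ∈ (⊥ : Submodule F F))
    by_cases e : φ v = 0
    · exact ⟨ψ + ((1 - ψ u) / φ u) • φ, fun x hx => by simp [p x hx, q x hx], by simp [a], by simp [e, c]⟩
    · exact ⟨(φ u)⁻¹ • φ, fun x hx => by simp [p x hx], by simp [a], by simp [e, a]⟩
  exact ⟨LinearEquiv.ofLinearMap (LinearMap.id + φ.smulRight (v - u)) (LinearMap.id - (φ v)⁻¹ • φ.smulRight (v - u))
    (by ext x; simp [b]; match_scalars <;> field_simp <;> ring)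
    (by ext x; simp [b]; match_scalars <;> field_simp <;> ring), fun x hx => by simp [a x hx], by simp [b]⟩

theorem card_fixS [Finite F] (d : ℕ) : ∀ (k : ℕ) (W : Submodule F V), finrank F W = k → k + d = finrank F V →
    Nat.card (fixS W) = ∏ i ∈ Finset.range d, (Nat.card F ^ finrank F V - Nat.card F ^ (k + i)) := by
  induction d with
  | zero =>
    intro k W h1 h2
    rw [Submodule.eq_top_of_finrank_eq (h1.trans h2),
      show fixS ⊤ = ⊥ from eq_bot_iff.2 fun g hg => LinearEquiv.ext fun x => hg x trivial]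
    simp
  | succ d ih =>
    intro k W h1 h2
    haveI := Module.finite_of_finite F (M := V)
    obtain ⟨u, -, hu⟩ := SetLike.exists_of_lt (Submodule.lt_top_of_finrank_lt_finrank (s := W) (by omega))
    rw [card_eq_orbit (fixS W) (x := u) (P := (· ∉ W)) fun y => ⟨exists_fix_map hu, by
      rintro ⟨g, a, rfl⟩ b
      exact hu (g.injective (a _ b) ▸ b)⟩, show fixS W ⊓ MulAction.stabilizer _ u = fixS (W ⊔ F ∙ u) from ?_,
      ih (k + 1) _ (by rw [Submodule.finrank_sup_span_singleton hu, h1]) (by omega), Finset.prod_range_succ',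
      mul_comm, card_compl, Module.natCard_eq_pow_finrank (K := F) (V := V),
      Module.natCard_eq_pow_finrank (K := F) (V := W), h1]
    · simp only [add_assoc, add_comm 1, add_zero]
    refine le_antisymm (fun g hg x hx => ?_) fun g hg => ⟨fun x hx => hg x (Submodule.mem_sup_left hx),
      hg u (Submodule.mem_sup_right (Submodule.mem_span_singleton_self u))⟩
    obtain ⟨y, a, _, ⟨c, rfl⟩, rfl⟩ := by simpa only [Submodule.mem_sup, Submodule.mem_span_singleton] using hx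
    rw [map_add, map_smul, hg.1 y a, show g u = u from hg.2]

theorem card_linEquiv [Finite F] {n : ℕ} (h : finrank F V = n) :
    Nat.card (V ≃ₗ[F] V) = ∏ i : Fin n, (Nat.card F ^ n - Nat.card F ^ (i : ℕ)) := by
  have := card_fixS n 0 (⊥ : Submodule F V) (by simp) (by omega)
  rw [show fixS ⊥ = ⊤ from eq_top_iff.2 fun g _ x hx => by simp [(Submodule.mem_bot F).1 hx], Subgroup.card_top] at this
  simp [this, h, Finset.prod_range]

end Lin

namespace Form
variable {F : Type*} [Field F] [Finite F] {K : Kind F}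

section
variable {V : Type*} [AddCommGroup V] [Module F V] [FiniteDimensional F V] {Φ : Form K V} {e f : V}

theorem IsHyp.card_partners_perp (h : Φ.IsHyp e f) (U : Submodule F (Φ.hperp e f)) :
    Nat.card {f' : V // Φ.IsHyp e f' ∧ ∀ u ∈ U, Φ.B u f' = 0} =
      Nat.card ((Φ.restrict (Φ.hperp e f)).perp U) * Nat.card K.T.ker := by
  have e1 : (Σ y : (Φ.restrict (Φ.hperp e f)).perp U, {a : F // K.T a = - Φ.N y}) ≃
      {f' : V // Φ.IsHyp e f' ∧ ∀ u ∈ U, Φ.B u f' = 0} := by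
    refine Equiv.ofBijective
      (fun p => ⟨p.2.1 • e + (1 : F) • f + p.1, ⟨h.he, by
        rw [h.N_decomp _ _ p.1.1.2]; simp [p.2.2], by
        rw [Φ.symm, h.B_e _ _ p.1.1.2, one_mul, K.σε, K.εε]⟩, fun u hu => by
          simpa [Φ.mem_hperp.1 u.2] using Φ.B_symm_zero (p.1.2 u hu)⟩) ⟨?_, ?_⟩
    · rintro ⟨y, a, ha⟩ ⟨y', a', ha'⟩ hh
      have := h.coord.injective (a₁ := (a, 1, y)) (a₂ := (a', 1, y')) (congrArg Subtype.val hh)
      simp only [Prod.mk.injEq, Subtype.coe_inj] at this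
      obtain ⟨rfl, -, rfl⟩ := this; rfl
    · rintro ⟨v, hv, hv'⟩
      obtain ⟨a, b, y, hy, rfl⟩ := h.decomp v
      have h1 := hv.hf
      have h2 := hv.Bfe
      rw [h.N_decomp _ _ hy] at h1
      rw [h.B_e _ _ hy] at h2
      obtain rfl : b = 1 := by simpa [K.ε_ne] using h2
      exact ⟨⟨⟨⟨y, hy⟩, fun u hu => Φ.B_symm_zero (by simpa [Φ.mem_hperp.1 u.2] using hv' u hu)⟩, a,
        by simpa [add_eq_zero_iff_eq_neg] using h1⟩, rfl⟩
  haveI := Module.finite_of_finite F (M := V)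
  have := Fintype.ofFinite ((Φ.restrict (Φ.hperp e f)).perp U)
  have k : ∀ y : V, Nat.card {a : F // K.T a = - Φ.N y} = Nat.card K.T.ker := fun y => by
    obtain ⟨b, hb⟩ := Φ.N_range y
    exact card_T_fiber ⟨- b, by rw [map_neg, hb]⟩
  rw [← Nat.card_congr e1, Nat.card_sigma]
  simp [k]

end

theorem card_fix_TS {c d : ℕ} (hc : ∀ {V : Type u} [AddCommGroup V] [Module F V] [FiniteDimensional F V]
    (Φ : Form K V), Φ.Nondeg → finrank F V = d → Nat.card Φ.Isom = c) (k : ℕ) :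
    ∀ {V : Type u} [AddCommGroup V] [Module F V] [FiniteDimensional F V] (Φ : Form K V) (W : Submodule F V),
    Φ.Nondeg → Φ.TS W → finrank F W = k → finrank F V = 2 * k + d → Nat.card (Φ.Isom ⊓ fixS W : Subgroup _) =
      Nat.card F ^ (k * d + k.choose 2) * Nat.card K.T.ker ^ k * c := by
  induction k with
  | zero =>
    intro V _ _ _ Φ W hΦ _ h1 h2
    rw [Submodule.finrank_eq_zero.1 h1,
      show fixS ⊥ = ⊤ from eq_top_iff.2 fun g _ x hx => by simp [(Submodule.mem_bot F).1 hx], inf_top_eq,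
      hc Φ hΦ (by omega)]
    simp
  | succ k ih =>
    intro V _ _ _ Φ W hΦ hW h1 h2
    obtain ⟨e, he, e0⟩ := W.exists_mem_ne_zero_of_ne_bot (by rintro rfl; simp at h1)
    obtain ⟨f, h⟩ := hΦ.exists_hyp e0 (hW.1 e he)
    have d1 := hW.finrank_comap_hperp h he
    have d2 := h.finrank_hperp
    have d3 := (h.nondeg_hperp hΦ).finrank_perp (W.comap (Φ.hperp e f).subtype)
    have k1 : ∀ x ∈ W, ∃ u ∈ W.comap (Φ.hperp e f).subtype, x = Φ.B x f • e + u := fun x hx =>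
      ⟨⟨_, h.proj_mem x⟩, by simpa [hW.2 x hx e he] using sub_mem hx (W.smul_mem _ he), by simp [hW.2 x hx e he]⟩
    have k2 : ∀ {f}, Φ.IsHyp e f → f ∉ W := fun h k => by simpa [h.hef] using hW.2 e he _ k
    have k3 : Nat.card (Φ.Isom ⊓ fixS W ⊓ MulAction.stabilizer _ f : Subgroup _) =
        Nat.card ((Φ.restrict (Φ.hperp e f)).Isom ⊓ fixS (W.comap (Φ.hperp e f).subtype) : Subgroup _) := by
      refine (Nat.card_congr (Equiv.ofBijective (fun g => ⟨h.ext g.1, ⟨h.ext_mem g.2.1, fun x hx => by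
        obtain ⟨u, a, b⟩ := k1 x hx
        rw [b, map_add, map_smul, h.ext_e, h.ext_perp, g.2.2 u a]⟩, h.ext_f _⟩) ⟨fun a b k =>
          Subtype.ext (h.ext_injective (congrArg Subtype.val k)), fun g => ?_⟩)).symm
      obtain ⟨g', a, b⟩ := h.exists_ext g.2.1.1 (g.2.1.2 e he) g.2.2
      exact ⟨⟨g', a, fun x hx => Subtype.ext (by rw [← h.ext_perp, b]; exact g.2.1.2 _ hx)⟩, Subtype.ext b⟩
    rw [card_eq_orbit _ (x := f) (P := fun f' => Φ.IsHyp e f' ∧ ∀ u ∈ W.comap (Φ.hperp e f).subtype, Φ.B u f' = 0)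
      fun y => ⟨fun ⟨a, b⟩ => ?_, ?_⟩, h.card_partners_perp, k3,
      ih _ _ (h.nondeg_hperp hΦ) ⟨fun w hw => hW.1 _ hw, fun u hu w hw => hW.2 _ hu _ hw⟩ (by omega) (by omega),
      Module.natCard_eq_pow_finrank (K := F) (V := perp _ _), show finrank F (perp _ _) = k + d by omega, Nat.choose_succ_succ' k 1,
      Nat.choose_one_right]
    · ring
    · obtain ⟨g, p, q, r⟩ := hΦ.witt_step W (k2 h) (k2 a) (fun x hx => by
        obtain ⟨u, c, d⟩ := k1 x hx
        rw [d]; simp [h.hef, a.hef, b u c, (Φ.mem_hperp.1 u.2).2]) (h.hf.trans a.hf.symm)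
      exact ⟨g, ⟨Φ.elemSet_subset p, q⟩, r⟩
    · rintro ⟨g, ⟨a, b⟩, rfl⟩
      exact ⟨b e he ▸ h.map a, fun u hu => by
        rw [← show g u = u from b _ hu]; exact (a.1 _ _).trans (Φ.mem_hperp.1 u.2).2⟩

variable {V : Type*} [AddCommGroup V] [Module F V] [FiniteDimensional F V] {Φ : Form K V}

omit [Finite F] in
theorem TS.card_stab (hΦ : Φ.Nondeg) {W : Submodule F V} (hW : Φ.TS W) :
    Nat.card (Φ.Isom ⊓ stab W : Subgroup _) = Nat.card (Φ.Isom ⊓ fixS W : Subgroup _) * Nat.card (W ≃ₗ[F] W) :=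
  Classical.card_stab fun s => hΦ.witt W W s (fun x y => (hW.2 _ (s x).2 _ (s y).2).trans (hW.2 _ x.2 _ y.2).symm)
    fun x => (hW.1 _ (s x).2).trans (hW.1 _ x.2).symm

theorem IsHyp.card_lines {e f : V} (h : Φ.IsHyp e f) :
    Nat.card {W : Submodule F V // finrank F W = 2 ∧ e ∈ W ∧ Φ.TS W} * (Nat.card F - 1) =
      (Φ.restrict (Φ.hperp e f)).cnt 0 - 1 := by
  haveI := Module.finite_of_finite F (M := V)
  have k0 : ∀ {y}, y ∈ Φ.hperp e f → y ≠ 0 → y ∉ F ∙ e := fun a b c => by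
    obtain ⟨t, rfl⟩ := Submodule.mem_span_singleton.1 c
    have := (Φ.mem_hperp.1 a).2
    simp_all [h.hef]
  rw [← card_singular_ne, card_rel (fun (W : {W : Submodule F V // finrank F W = 2 ∧ e ∈ W ∧ Φ.TS W})
    (y : {y : Φ.hperp e f // y ≠ 0 ∧ Φ.N y = 0}) => y.1.1 ∈ W.1) (n := 1) (fun W => ?_) fun y => ?_, mul_one]
  · rfl
  · have := W.2.2.2.finrank_comap_hperp h W.2.2.1
    have k := Module.natCard_eq_pow_finrank (K := F) (V := W.1.comap (Φ.hperp e f).subtype)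
    rw [show finrank F _ = 1 by have := W.2.1; omega, pow_one] at k
    rw [← k, ← card_ne 0]
    exact Nat.card_congr ⟨fun y => ⟨⟨y.1.1, y.2⟩, fun k => y.1.2.1 (congrArg Subtype.val k)⟩,
      fun y => ⟨⟨y.1.1, fun k => y.2 (Subtype.ext k), W.2.2.2.1 _ y.1.2⟩, y.1.2⟩, fun _ => rfl, fun _ => rfl⟩
  · have k := finrank_span_pair h.e_ne (k0 y.1.2 fun k => y.2.1 (Subtype.ext k))
    refine Nat.card_eq_one_iff_exists.2 ⟨⟨⟨_, k, Submodule.subset_span (by simp),
      TS_pair h.he y.2.2 (Φ.mem_hperp.1 y.1.2).1⟩, Submodule.subset_span (by simp)⟩, fun W => ?_⟩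
    exact Subtype.ext (Subtype.ext (Submodule.eq_of_le_of_finrank_eq (Submodule.span_le.2 (Set.pair_subset
      W.1.2.2.1 W.2)) (k.trans W.1.2.1.symm)).symm)

theorem card_lines (hΦ : Φ.Nondeg) {c : ℕ}
    (h : ∀ e f, Φ.IsHyp e f → (Φ.restrict (Φ.hperp e f)).cnt 0 - 1 = c * (Nat.card F - 1)) :
    (∀ e, Φ.Sing e → Nat.card {W : Submodule F V // finrank F W = 2 ∧ e ∈ W ∧ Φ.TS W} = c) ∧
    Nat.card {W : Submodule F V // finrank F W = 2 ∧ Φ.TS W} * (Nat.card F ^ 2 - 1) = (Φ.cnt 0 - 1) * c := by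
  haveI := Module.finite_of_finite F (M := V)
  have k : ∀ e, Φ.Sing e → Nat.card {W : Submodule F V // finrank F W = 2 ∧ e ∈ W ∧ Φ.TS W} = c := fun e he => by
    obtain ⟨f, hh⟩ := hΦ.exists_hyp he.1 he.2
    exact Nat.eq_of_mul_eq_mul_right (Nat.sub_pos_of_lt Finite.one_lt_card) (hh.card_lines.trans (h e f hh))
  refine ⟨k, ?_⟩
  rw [← card_singular_ne]
  refine card_rel (fun (W : {W : Submodule F V // finrank F W = 2 ∧ Φ.TS W}) (y : {y : V // y ≠ 0 ∧ Φ.N y = 0}) =>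
    y.1 ∈ W.1) (fun W => ?_) fun y => ?_
  · have := Module.natCard_eq_pow_finrank (K := F) (V := W.1)
    rw [W.2.1] at this
    rw [← this, ← card_ne 0]
    exact Nat.card_congr ⟨fun y => ⟨⟨y.1.1, y.2⟩, fun k => y.1.2.1 (congrArg Subtype.val k)⟩,
      fun y => ⟨⟨y.1.1, fun k => y.2 (Subtype.ext k), W.2.2.1 _ y.1.2⟩, y.1.2⟩, fun _ => rfl, fun _ => rfl⟩
  · rw [← k y y.2]
    exact Nat.card_congr ⟨fun W => ⟨W.1.1, W.1.2.1, W.2, W.1.2.2⟩, fun W => ⟨⟨W.1, W.2.1, W.2.2.2⟩, W.2.2.1⟩,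
      fun _ => rfl, fun _ => rfl⟩

end Form

end Cfsg.Agent.Classical
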