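import Cfsg.Agent.Lib.Classical.Max4

/-! Orthogonal decompositions and their stabilisers. -/

set_option autoImplicit false

namespace Cfsg.Agent.Classical

open Module

namespace Form
variable {F : Type*} [Field F] {K : Kind F} {V : Type*} [AddCommGroup V] [Module F V]
  {Φ : Form K V} {H : Subgroup (V ≃ₗ[F] V)} {e : V} [FiniteDimensional F V]

theorem exists_swap_iso (hΦ : Φ.Nondeg) {U W : Submodule F V} (hU : (Φ.restrict U).Nondeg)
    (hW : (Φ.restrict W).Nondeg) (ho : W ≤ Φ.perp U) (hi : (Φ.restrict U).Iso (Φ.restrict W)) :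
    ∃ s ∈ Φ.Isom, (∀ x ∈ U, s x ∈ W) ∧ (∀ x ∈ W, s x ∈ U) ∧ ∀ x ∈ Φ.perp U ⊓ Φ.perp W, s x = x := by
  obtain ⟨ψ, h1, h2⟩ := hi
  have ho' := Φ.le_perp_comm.1 ho
  let p := U.projectionOnto _ (Φ.isCompl_perp hU)
  let p' := W.projectionOnto _ (Φ.isCompl_perp hW)
  let f : V →ₗ[F] V := LinearMap.id - U.subtype ∘ₗ p - W.subtype ∘ₗ p' + W.subtype ∘ₗ (ψ : U →ₗ[F] W) ∘ₗ p +
    U.subtype ∘ₗ (ψ.symm : W →ₗ[F] U) ∘ₗ p'
  have k : ∀ (a : U) (b : W), ∀ c ∈ Φ.perp U ⊓ Φ.perp W, f (a.1 + b.1 + c) = (ψ.symm b).1 + (ψ a).1 + c :=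
    fun a b c hc => by
    simp [f, p, p', Submodule.projection_apply_of_mem_right _ (ho b.2), Submodule.projection_apply_of_mem_right _ hc.1,
      Submodule.projection_apply_of_mem_right _ (ho' a.2), Submodule.projection_apply_of_mem_right _ hc.2,
      Submodule.projectionOnto_apply_of_mem_right _ (ho b.2), Submodule.projectionOnto_apply_of_mem_right _ hc.1,
      Submodule.projectionOnto_apply_of_mem_right _ (ho' a.2), Submodule.projectionOnto_apply_of_mem_right _ hc.2]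
    abel
  have k1 : ∀ x : V, ∃ (a : U) (b : W), ∃ c ∈ Φ.perp U ⊓ Φ.perp W, x = a + b + c := fun x => by
    obtain ⟨a, y, rfl⟩ := exists_add_of_isCompl (Φ.isCompl_perp hU) x
    obtain ⟨b, c, h⟩ := exists_add_of_isCompl (Φ.isCompl_perp hW) y
    exact ⟨a, b, c, ⟨by simpa [h] using sub_mem y.2 (ho b.2), c.2⟩, by rw [h, add_assoc]⟩
  have k2 : ∀ (a a' : U) (b b' : W), ∀ c ∈ Φ.perp U ⊓ Φ.perp W, ∀ c' ∈ Φ.perp U ⊓ Φ.perp W,
      Φ.B (a + b + c) (a' + b' + c') = Φ.B a a' + Φ.B b b' + Φ.B c c' := fun a a' b b' c hc c' hc' => by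
    simp [ho b.2 _ a'.2, ho' a.2 _ b'.2, hc.1 _ a'.2, hc.2 _ b'.2, Φ.mem_perp'.1 hc'.1 _ a.2,
      Φ.mem_perp'.1 hc'.2 _ b.2]
  have k3 : ∀ (a : U) (b : W), ∀ c ∈ Φ.perp U ⊓ Φ.perp W, Φ.N (a + b + c) = Φ.N a + Φ.N b + Φ.N c :=
    fun a b c hc => by
    rw [Φ.N_add_of_orth, Φ.N_add_of_orth (ho' a.2 _ b.2)]
    simp [Φ.mem_perp'.1 hc.1 _ a.2, Φ.mem_perp'.1 hc.2 _ b.2]
  obtain ⟨s, hs, h⟩ := hΦ.exists_isom_of_linear f (fun x y => by
    obtain ⟨a, b, c, hc, rfl⟩ := k1 x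
    obtain ⟨a', b', c', hc', rfl⟩ := k1 y
    have := h1 (ψ.symm b) (ψ.symm b')
    have := h1 a a'
    rw [k _ _ _ hc, k _ _ _ hc', k2 _ _ _ _ _ hc _ hc', k2 _ _ _ _ _ hc _ hc']
    simp_all [add_comm]) (fun x => by
    obtain ⟨a, b, c, hc, rfl⟩ := k1 x
    have := h2 (ψ.symm b)
    have := h2 a
    rw [k _ _ _ hc, k3 _ _ _ hc, k3 _ _ _ hc]
    simp_all [add_comm])
  refine ⟨s, hs, fun x hx => ?_, fun x hx => ?_, fun x hx => ?_⟩
  · have := k ⟨x, hx⟩ 0 0 (zero_mem _)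
    simp only [map_zero, ZeroMemClass.coe_zero, add_zero, zero_add] at this
    rw [h, this]; exact Subtype.prop _
  · have := k 0 ⟨x, hx⟩ 0 (zero_mem _)
    simp only [map_zero, ZeroMemClass.coe_zero, add_zero, zero_add] at this
    rw [h, this]; exact Subtype.prop _
  · simpa [h] using k 0 0 x hx

/-- an orthogonal decomposition into non-degenerate subspaces -/
structure ODec (Φ : Form K V) {τ : Type} (D : τ → Submodule F V) : Prop where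
  nd : ∀ i, (Φ.restrict (D i)).Nondeg
  orth : ∀ i j, i ≠ j → D i ≤ Φ.perp (D j)
  top : iSup D = ⊤

namespace ODec
variable {τ : Type} {D : τ → Submodule F V} (h : Φ.ODec D)

/-- the projections -/
noncomputable def pr (i : τ) : V →ₗ[F] V := (D i).projection _ (Φ.isCompl_perp (h.nd i))

theorem pr_mem (i : τ) (x : V) : h.pr i x ∈ D i := Submodule.projection_apply_mem _ _

theorem pr_self {i : τ} {x : V} (hx : x ∈ D i) : h.pr i x = x := Submodule.projection_apply_of_mem_left _ hx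

theorem pr_eq_zero {i : τ} {x : V} : h.pr i x = 0 ↔ x ∈ Φ.perp (D i) := Submodule.projection_apply_eq_zero_iff _

theorem pr_ne {i j : τ} {x : V} (hx : x ∈ D j) (hij : j ≠ i) : h.pr i x = 0 := h.pr_eq_zero.2 (h.orth j i hij hx)

theorem sub_pr (i : τ) (x : V) : x - h.pr i x ∈ Φ.perp (D i) := h.pr_eq_zero.1 (by
  rw [map_sub, h.pr_self (h.pr_mem i x), sub_self])

theorem B_pr {i : τ} {u : V} (hu : u ∈ D i) (x : V) : Φ.B (h.pr i x) u = Φ.B x u := by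
  rw [eq_comm, ← sub_eq_zero, ← LinearMap.sub_apply, ← map_sub]; exact h.sub_pr i x u hu

theorem sum_pr [Fintype τ] (x : V) : ∑ i, h.pr i x = x := by
  have hx : x ∈ iSup D := h.top ▸ trivial
  induction hx using Submodule.iSup_induction' with
  | mem i x hx => rw [Finset.sum_eq_single i (fun j _ hj => h.pr_ne hx hj.symm) (by simp), h.pr_self hx]
  | zero => simp
  | add x y _ _ hx hy => simp [Finset.sum_add_distrib, hx, hy]

theorem mem_of_pr [Fintype τ] {i : τ} {x : V} (hx : ∀ j, j ≠ i → h.pr j x = 0) : x ∈ D i := by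
  rw [← h.sum_pr x, Finset.sum_eq_single i (fun j _ hj => hx j hj) (by simp)]; exact h.pr_mem i x

theorem exists_two [Fintype τ] {X : Submodule F V} (i : τ) (hX : ∀ j, ¬ X ≤ D j) :
    ∃ x ∈ X, ∃ i j, i ≠ j ∧ h.pr i x ≠ 0 ∧ h.pr j x ≠ 0 := by
  obtain ⟨x, hx, hx'⟩ := SetLike.not_le_iff_exists.1 (hX i)
  obtain ⟨j, -, hj⟩ : ∃ j, j ≠ i ∧ h.pr j x ≠ 0 := by simpa using mt h.mem_of_pr hx'
  obtain ⟨y, y1, y2, y3⟩ := exists_notMem_two (L := LinearMap.ker (h.pr j)) (fun k => hj (k hx)) (hX j)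
  obtain ⟨k, h1, h2⟩ : ∃ k, k ≠ j ∧ h.pr k y ≠ 0 := by simpa using mt h.mem_of_pr y3
  exact ⟨y, y1, k, j, h1, h2, y2⟩

include h

/-- change one component -/
theorem exists_change {i : τ} {u w : V} (hu : u ∈ D i) (hw : w ∈ D i) (hu0 : u ≠ 0) (hw0 : w ≠ 0)
    (hN : Φ.N u = Φ.N w) : ∃ g ∈ Φ.Isom, g u = w ∧ (∀ x ∈ D i, g x ∈ D i) ∧ ∀ x ∈ Φ.perp (D i), g x = x := by
  obtain ⟨g, hg, g0⟩ := (h.nd i).exists_isom_vec (u := ⟨u, hu⟩) (u' := ⟨w, hw⟩) (by simpa) (by simpa) hN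
  obtain ⟨g', g1, g2, g3⟩ := exists_ext (h.nd i) hg
  exact ⟨g', g1, by rw [g2 ⟨u, hu⟩, g0], fun x hx => by rw [g2 ⟨x, hx⟩]; exact Subtype.prop _, g3⟩

theorem perm_of {i : τ} {g : V ≃ₗ[F] V} (h1 : ∀ x ∈ D i, g x ∈ D i) (h2 : ∀ x ∈ Φ.perp (D i), g x = x) (j : τ) :
    ∃ k, ∀ v ∈ D j, g v ∈ D k := by
  by_cases e : j = i
  · exact ⟨i, e ▸ h1⟩
  · exact ⟨j, fun v hv => by rwa [h2 v (h.orth j i e hv)]⟩

theorem exists_swap (hΦ : Φ.Nondeg) {i j : τ} (hij : i ≠ j) (hi : (Φ.restrict (D i)).Iso (Φ.restrict (D j))) :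
    ∃ s ∈ Φ.Isom, (∀ x ∈ D i, s x ∈ D j) ∧ (∀ x ∈ Φ.perp (D i) ⊓ Φ.perp (D j), s x = x) ∧
      ∀ k, ∃ l, ∀ v ∈ D k, s v ∈ D l := by
  obtain ⟨s, hs, s1, s2, s3⟩ := exists_swap_iso hΦ (h.nd i) (h.nd j) (h.orth j i hij.symm) hi
  refine ⟨s, hs, s1, s3, fun k => ?_⟩
  by_cases a : k = i
  · exact ⟨j, a ▸ s1⟩
  by_cases b : k = j
  · exact ⟨i, b ▸ s2⟩
  exact ⟨k, fun v hv => by rwa [s3 v ⟨h.orth k i a hv, h.orth k j b hv⟩]⟩

end ODec

theorem InT.line {Φ : Form (Kind.symp F) V} (h2 : H ≤ Φ.Isom) {x y : V} (hx : Φ.InT H x) (hy : Φ.InT H y)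
    (h : Φ.B y x ≠ 0) (c : F) : Φ.InT H (y + c • x) := by
  have k : Φ.IsEich x 0 (c / Φ.B y x) := ⟨Φ.symp_N x, by simp, by simp⟩
  have := hy.map (hx _ k) (Φ.eich_mem _ _ _ _)
  rw [eich_apply] at this
  simpa [h] using this

theorem symp_le_of_inT {Φ : Form (Kind.symp F) V} (hΦ : Φ.Nondeg) (h : ∀ x, Φ.InT H x) : Φ.Isom ≤ H :=
  symp_closure_transvSet hΦ ▸ closure_transvSet_le hΦ fun e _ _ => h e

theorem max_symp_dec {Φ : Form (Kind.symp F) V} (hΦ : Φ.Nondeg) {τ : Type} [Fintype τ] {D : τ → Submodule F V}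
    (h : Φ.ODec D) {k : ℕ} (hk : ∀ i, finrank F (D i) = k) (hex : 3 ≤ k ∨ ∃ c : F, c ≠ 0 ∧ c ≠ 1)
    (h1 : ∀ g ∈ Φ.Isom, (∀ i, ∃ j, ∀ v ∈ D i, g v ∈ D j) → g ∈ H) (h2 : H ≤ Φ.Isom) {g : V ≃ₗ[F] V} (hg : g ∈ H)
    (hg' : ¬ ∀ i, ∃ j, ∀ v ∈ D i, g v ∈ D j) : Φ.Isom ≤ H := by
  classical
  have k1 : ∀ i, ∀ u ∈ D i, Φ.InT H u := fun i u hu a k => h1 _ (Φ.eich_mem _ _ _ _) (h.perm_of (i := i)
    (fun x hx => by rw [eich_apply]; simpa using add_mem hx ((D i).smul_mem _ hu))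
    fun x hx => eich_fix k (hx u hu) (by simp))
  have k3 : ∀ i, ∀ u ∈ D i, ∀ w ∈ D i, u ≠ 0 → w ≠ 0 → ∀ y ∈ Φ.perp (D i), Φ.InT H (u + y) → Φ.InT H (w + y) :=
    fun i u hu w hw hu0 hw0 y hy k => by
    obtain ⟨g, g1, g2, g3, g4⟩ := h.exists_change hu hw hu0 hw0 (by simp [symp_N])
    simpa [g2, g4 y hy] using k.map (h1 g g1 (h.perm_of g3 g4)) g1
  have k4 : ∀ i, ∀ u ∈ D i, u ≠ 0 → ∃ w ∈ D i, Φ.B u w ≠ 0 := fun i u hu hu0 => by
    by_contra hc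
    push Not at hc
    exact hu0 ((h.nd i).of_mem hu fun x hx => Φ.B_symm_zero (hc x hx))
  have k5 : ∀ i, ∀ u ∈ D i, u ≠ 0 → ∃ w ∈ D i, w ≠ 0 ∧ u ≠ w ∧ Φ.B u w = 0 := fun i u hu hu0 => by
    rcases hex with hex | ⟨c, c0, c1⟩
    · have := hΦ.finrank_inf_perp (D i) (F ∙ u)
      have := finrank_span_one_le (F := F) u
      have := hk i
      obtain ⟨w, w1, w2⟩ := exists_notMem_of_lt (X := D i ⊓ Φ.perp (F ∙ u)) (L := F ∙ u) (by omega)
      exact ⟨w, w1.1, by rintro rfl; simp at w2, by rintro rfl; simp at w2,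
        Φ.B_symm_zero (Φ.mem_perp_singleton.1 w1.2)⟩
    · exact ⟨c • u, (D i).smul_mem _ hu, smul_ne_zero c0 hu0, fun e => c1 (smul_left_injective F hu0
        (by simpa using e.symm)), by simp [Φ.B_self_of_N (Φ.symp_N u)]⟩
  push Not at hg'
  obtain ⟨i₀, hi⟩ := hg'
  obtain ⟨_, ⟨x, hx, rfl⟩, i, j, hij, x1, x2⟩ := h.exists_two (X := (D i₀).map (g : V →ₗ[F] V)) i₀ fun j k => by
    obtain ⟨v, v1, v2⟩ := hi j
    exact v2 (k ⟨v, v1, rfl⟩)
  have k6 := (k1 _ x hx).map hg (h2 hg)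
  simp only [LinearEquiv.coe_coe] at x1 x2
  generalize g x = y at x1 x2 k6
  obtain ⟨a, ha, b, hb, a0, b0, z, z1, z2, rfl⟩ : ∃ a ∈ D i, ∃ b ∈ D j, a ≠ 0 ∧ b ≠ 0 ∧
      ∃ z, z ∈ Φ.perp (D i) ∧ z ∈ Φ.perp (D j) ∧ y = a + (b + z) :=
    ⟨_, h.pr_mem i y, _, h.pr_mem j y, x1, x2, y - h.pr i y - h.pr j y,
      sub_mem (h.sub_pr i y) (h.orth j i hij.symm (h.pr_mem _ _)),
      sub_right_comm y _ _ ▸ sub_mem (h.sub_pr j y) (h.orth i j hij (h.pr_mem _ _)), by abel⟩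
  obtain ⟨a', ha', a1⟩ := k4 i a ha a0
  obtain ⟨b', hb', b1, b2, b3⟩ := k5 j b hb b0
  have o := h.orth i j hij
  have o' := h.orth j i hij.symm
  have k7 := k3 i a ha a' ha' a0 (by rintro rfl; simp at a1) _ (add_mem (o' hb) z1) k6
  rw [add_left_comm] at k7
  have k8 := InT.line h2 (k3 j b hb b' hb' b0 b1 _ (add_mem (o ha') z2) k7) k6 (by
    simpa [o ha b' hb', o' hb a' ha', b3, z1 a' ha', z2 b' hb', Φ.mem_perp'.1 z1 a ha, Φ.mem_perp'.1 z2 b hb,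
      Φ.B_self_of_N (Φ.symp_N z)] using a1) (-1)
  rw [show a + (b + z) + (-1 : F) • (b' + (a' + z)) = a - a' + (b - b') by module] at k8
  have k9 : ∀ u ∈ D i, ∀ v ∈ D j, Φ.InT H (u + v) := fun u hu v hv => by
    by_cases c1 : u = 0
    · simpa [c1] using k1 j v hv
    by_cases c2 : v = 0
    · simpa [c2] using k1 i u hu
    have := k3 i _ (sub_mem ha ha') u hu
      (sub_ne_zero.2 (by rintro rfl; exact a1 (Φ.B_self_of_N (Φ.symp_N a)))) c1 _ (o' (sub_mem hb hb')) k8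
    rw [add_comm] at this ⊢
    exact k3 j _ (sub_mem hb hb') v hv (sub_ne_zero.2 b2) c2 _ (o hu) this
  have k10 : ∀ i j l, i ≠ j → i ≠ l → (∀ u ∈ D i, ∀ v ∈ D j, Φ.InT H (u + v)) →
      ∀ u ∈ D i, ∀ v ∈ D l, Φ.InT H (u + v) := fun i j l hij hil k u hu v hv => by
    by_cases c : l = j
    · exact k u hu v (c ▸ hv)
    obtain ⟨s, s1, s2, s3, s4⟩ := h.exists_swap hΦ c (symp_iso _ _ _ (h.nd l) (h.nd j) (hk l) (hk j))
    have := (k u hu _ (s2 v hv)).map (H.inv_mem (h1 s s1 s4)) (Φ.Isom.inv_mem s1)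
    rw [← s3 u ⟨h.orth i l hil hu, h.orth i j hij hu⟩, ← map_add] at this
    simpa using this
  have k11 : ∀ l m, l ≠ m → ∀ u ∈ D l, ∀ v ∈ D m, Φ.InT H (u + v) := fun l m hlm => by
    by_cases c : l = i
    · subst c; exact k10 _ _ _ hij hlm k9
    · exact k10 l i m c hlm fun u hu v hv => add_comm u v ▸ k10 i j l hij (Ne.symm c) k9 v hv u hu
  have k12 : ∀ (S : Finset τ) (x : τ → V), (∀ i, x i ∈ D i) → Φ.InT H (∑ i ∈ S, x i) := fun S => by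
    induction S using Finset.induction_on with
    | empty => exact fun _ _ => k1 i _ (by simp)
    | insert l S hl ih =>
      intro x hx
      rw [Finset.sum_insert hl]
      by_cases c : ∀ m ∈ S, x m = 0
      · simpa [Finset.sum_eq_zero c] using k1 l _ (hx l)
      push Not at c
      obtain ⟨m, m1, m2⟩ := c
      obtain ⟨u, u1, u2⟩ := k4 m _ (hx m) m2
      have c1 : m ≠ l := by rintro rfl; exact hl m1
      have c2 := ih (Function.update x m (x m - u)) fun i => by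
        by_cases e : i = m
        · subst e; simpa using sub_mem (hx i) u1
        · simpa [e] using hx i
      rw [Finset.sum_update_of_mem m1] at c2
      have := InT.line h2 (k11 m l c1 u u1 _ (hx l)) c2 (by
        have c3 : ∀ i ∈ S \ {m}, Φ.B (x i) (u + x l) = 0 := fun i hi => by
          rw [Finset.mem_sdiff, Finset.mem_singleton] at hi
          simp [h.orth i m hi.2 (hx i) u u1, h.orth i l (by rintro rfl; exact hl hi.1) (hx i) _ (hx l)]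
        rw [map_add Φ.B, LinearMap.add_apply, map_sum Φ.B, LinearMap.sum_apply, Finset.sum_eq_zero c3]
        simpa [h.orth m l c1 (hx m) _ (hx l), h.orth m l c1 u1 _ (hx l), Φ.B_self_of_N (Φ.symp_N u)] using u2) 1
      convert this using 1
      rw [← Finset.add_sum_erase S x m1, Finset.sdiff_singleton_eq_erase]
      module
  exact symp_le_of_inT hΦ fun x => h.sum_pr x ▸ k12 _ _ fun i => h.pr_mem i x

end Form

end Cfsg.Agent.Classical
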