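import Cfsg.Agent.Lib.Classical.Max3
import Cfsg.Agent.Lib.Classical.Max5

/-! Maximal subgroups of the special linear and symplectic groups: matrix versions. -/

set_option autoImplicit false

namespace Cfsg.Agent.Classical.Asch
open Matrix Cfsg.Geo Module Cfsg.Agent.Comp
open scoped MatrixGroups

variable {ι : Type} [Fintype ι] [DecidableEq ι] {F : Type*} [Field F] {σ : F →+* F}

local notation "σ₀" => RingHom.id F

theorem mem_mp_SL {g : (ι → F) ≃ₗ[F] (ι → F)} : g ∈ mp (specialLinear ι F) ↔ LinearEquiv.det g = 1 := by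
  obtain ⟨g, rfl⟩ := glEquiv.surjective g
  rw [mem_mp, det_glEquiv]; rfl

theorem SL_le_of_elem [Nontrivial ι] {H : Subgroup ((ι → F) ≃ₗ[F] (ι → F))}
    (h : ∀ i j : ι, i ≠ j → ∀ a : F, HasT H (Pi.single i a) (LinearMap.proj j)) : mp (specialLinear ι F) ≤ H := by
  intro x hx
  obtain ⟨g, rfl⟩ := glEquiv.surjective x
  obtain ⟨g, hg⟩ := slEquiv.surjective ⟨g, mem_mp.1 hx⟩
  obtain rfl := congrArg Subtype.val hg
  refine Lin.transvection_induction (fun g => glEquiv (slEquiv g).1 ∈ H) (fun i j hij a => ?_)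
    (fun A B hA hB => by simpa only [map_mul, Subgroup.coe_mul] using H.mul_mem hA hB) g
  obtain ⟨-, t, h1, h2⟩ := h i j hij a
  convert h1
  ext x : 1
  rw [h2, glEquiv_apply]
  show (1 + single i j a) *ᵥ x = _
  rw [add_mulVec, one_mulVec, single_mulVec]
  ext k; simp [Pi.single_apply, Function.update_apply, mul_comm]

theorem SL_le_of_fullT [Nontrivial ι] {H : Subgroup ((ι → F) ≃ₗ[F] (ι → F))} (h : ∀ u, FullT H u) :
    mp (specialLinear ι F) ≤ H := SL_le_of_elem fun i j hij a => h _ _ (by simp [hij.symm])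

theorem max_SL_stab (hι : 3 ≤ Fintype.card ι) {W : Submodule F (ι → F)} (h0 : W ≠ ⊥) (h1 : W ≠ ⊤) :
    IsMaximalIn (specialLinear ι F) (subspaceStabilizer W ⊓ specialLinear ι F) := by
  have : Nontrivial ι := Fintype.one_lt_card_iff_nontrivial.1 (by omega)
  refine isMaximalIn_of_mp ((amb_SL hι).not_le_stab h0 h1) fun H a _ g hg hg' => ?_
  rw [mp_stab] at a hg'
  exact SL_le_of_fullT (fullT_of_stab (fun g b c => a ⟨b, mem_mp_SL.2 c⟩) hg hg')

theorem Cl.max_SL {K : Kind F} {Φ : Form K (ι → F)} {X : Subgroup (GL ι F)} (h : Cl Φ X) (hι : 11 ≤ Fintype.card ι)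
    {B : GL ι F} (hB : ∀ u v, Φ.B u v = gf σ B.val u v) :
    IsMaximalIn (specialLinear ι F) (Sim σ B.val ⊓ specialLinear ι F) := by
  have : Nontrivial ι := Fintype.one_lt_card_iff_nontrivial.1 (by omega)
  have k : X ≤ Iso σ B.val := fun x hx => mem_Iso'.2 fun u v => by
    rw [← hB, ← hB]; exact (Φ.E_le (h.eq ▸ mem_mp.2 hx)).1 u v
  refine isMaximalIn_of_mp (not_SL_le_Sim (by omega) B) fun H a _ g hg hg' => ?_
  obtain ⟨g, rfl⟩ := glEquiv.surjective g
  refine SL_le_of_fullT (Form.fullT_of_conj h.nd h.rich h.sg (by simpa using hι) (fun x hx => a ⟨?_,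
    mem_mp_SL.2 (Φ.E_le_SIsom hx).2⟩) hg fun c => hg' (mem_mp.2 ?_))
  · exact Subgroup.map_mono (k.trans Iso_le_Sim) (show x ∈ mp X from h.eq ▸ hx)
  · obtain ⟨l, hl⟩ := schur_Iso (C := g.valᵀ * B.val * g.val.map σ) h.amb.top k fun x hx => mem_Iso'.2 fun u v => by
      rw [← gf_mulVec, ← gf_mulVec, ← hB, ← hB]
      exact c _ (h.eq ▸ mem_mp.2 hx) u v
    exact mem_Sim_of hl

theorem max_Sp_O [Fintype F] {B : GL ι F} (hB : Alt B.val) (hι : 5 ≤ Fintype.card ι) (h2 : (2 : F) = 0)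
    {Q : (ι → F) → F} (hQ : QF Q B.val) :
    IsMaximalIn (Iso σ₀ B.val) (quadSimilarityGroup Q ⊓ Iso σ₀ B.val) := by
  have : Nonempty ι := Fintype.card_pos_iff.1 (by omega)
  have k : ∀ g, glEquiv g ∈ hQ.form.Isom ↔ g ∈ Cfsg.isometryGroup F Q := fun g => hQ.isoF ▸ Iff.rfl
  refine (cl_Sp hB hι).max (fun a => ?_) fun H a b g hg hg' => ?_
  · obtain ⟨e, f, hh⟩ := orth_exists_hyp hQ.nondeg (by simp; omega)
    obtain ⟨g, g1, g2⟩ := hB.exists_transv e 1
    have := mem_isometryGroup.1 (hQ.quadSim_inf.le ⟨a g1, g1⟩) f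
    have e1 : gf σ₀ B.val f e = 1 := hh.Bfe
    rw [g2, hQ.add, hQ.smul, gf_smul_right, show Q e = 0 from hh.he] at this
    simp [Alt.form_B, e1] at this
  · rw [Form.symp_E_eq hB.nondeg] at a b ⊢
    refine Form.symp_le_of_orth hQ.nondeg (fun _ _ => rfl) h2 (by simp; omega) (fun x hx => a ⟨?_, ?_⟩) b hg
      fun c => hg' (le_mp (fun g c => isom_le_quadSim ((k g).1 c)) c)
    · exact le_mp (fun g c => isom_le_quadSim ((k g).1 c)) hx
    · exact Form.mem_Isom_symp.2 hx.1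

theorem odec_of {K : Kind F} {Φ : Form K (ι → F)} {t k : ℕ} {D : Fin t → Submodule F (ι → F)}
    (hD : IsNondegenerateMDecomposition (fun u v => Φ.B u v) k D) : Φ.ODec D :=
  ⟨fun i => restrict_nondeg_of (hD.2 i), fun i j hij => hD.3 i j hij, hD.1.iSup_eq_top⟩

theorem mem_mp_dec {t k : ℕ} {D : Fin t → Submodule F (ι → F)} (hD : IsMDecomposition k D)
    {g : (ι → F) ≃ₗ[F] (ι → F)} (h : ∀ i, ∃ j, ∀ v ∈ D i, g v ∈ D j) : g ∈ mp (decompositionStabilizer D) := by
  obtain ⟨g, rfl⟩ := glEquiv.surjective g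
  exact mem_mp.2 (IsMDecomposition.mem_stab hD h)

theorem max_Sp_dec [Fintype F] {B : GL ι F} (hB : Alt B.val) (hι : 5 ≤ Fintype.card ι) {t k : ℕ}
    {D : Fin t → Submodule F (ι → F)} (hD : IsNondegenerateMDecomposition (gf σ₀ B.val) k D)
    (hex : ¬ (k = 2 ∧ Fintype.card F = 2)) :
    IsMaximalIn (Iso σ₀ B.val) (decompositionStabilizer D ⊓ Iso σ₀ B.val) := by
  have h := cl_Sp hB hι
  refine h.max (h.amb.not_le_nd h.nd (hasRf_symp _) hD) fun H a b g hg hg' => ?_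
  rw [Form.symp_E_eq hB.nondeg] at a b ⊢
  refine Form.max_symp_dec h.nd (odec_of hD) hD.1.finrank_eq ?_ (fun g c d => a ⟨mem_mp_dec hD.1 d, c⟩) b hg
    (mt (mem_mp_dec hD.1) hg')
  obtain ⟨l, hl⟩ := hD.1.finrank_eq ⟨0, by have := hD.1.two_le; omega⟩ ▸ hB.even_of_nondeg (hD.2 _)
  have := hD.1.pos
  refine or_iff_not_imp_left.2 fun c => ?_
  classical
  obtain ⟨c, hc⟩ : (Finset.univ \ {0, 1} : Finset F).Nonempty := Finset.card_pos.1 (by
    have := Finset.card_le_two (a := (0 : F)) (b := 1)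
    have := Fintype.one_lt_card (α := F)
    rw [Finset.card_univ_sdiff]; omega)
  exact ⟨c, by simpa using hc⟩

theorem exists_US [Fintype F] (h2 : ∀ a, σ (σ a) = a) (hne : σ ≠ σ₀) : ∃ q, US σ q := by
  let F₀ : Subfield F := σ.eqLocusField σ₀
  obtain ⟨θ, hθ⟩ : ∃ θ, σ θ ≠ θ := by
    by_contra hc
    push Not at hc
    exact hne (RingHom.ext hc)
  have h0 := sub_ne_zero.2 hθ
  have h0' := sub_ne_zero.2 hθ.symm
  have h1 : finrank F₀ F = 2 := by
    have := finrank_eq_card_basis (Basis.mk (li_one_of_not_mem (F := F₀) (θ := θ) (by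
      rintro ⟨a, rfl⟩; exact hθ a.2)) fun x _ => (Submodule.mem_span_range_iff_exists_fun _).2
        ⟨![⟨(θ * σ x - σ θ * x) / (θ - σ θ), ?_⟩, ⟨(x - σ x) / (θ - σ θ), ?_⟩], ?_⟩)
    · simpa using this
    · show σ _ = _
      simp only [map_div₀, map_sub, map_mul, h2, RingHom.id_apply]; field_simp; ring
    · show σ _ = _
      simp only [map_div₀, map_sub, h2, RingHom.id_apply]; field_simp; ring
    · simp [Subfield.smul_def]; field_simp; ring
  refine ⟨Nat.card F₀, by rw [← Nat.card_eq_fintype_card, card_of_finrank_two h1], fun x => ?_⟩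
  rw [← frobA_apply]
  by_cases k : frobA F₀ F x = x
  · obtain ⟨a, rfl⟩ := mem_range_of_frobA h1 k
    exact a.2.trans k.symm
  have a1 := (frobA F₀ F).commutes ⟨x + σ x, show σ _ = _ by simp [h2, add_comm]⟩
  have a2 := (frobA F₀ F).commutes ⟨x * σ x, show σ _ = _ by simp [h2, mul_comm]⟩
  refine mul_left_cancel₀ (sub_ne_zero.2 k) ?_
  change frobA F₀ F (x + σ x) = x + σ x at a1
  change frobA F₀ F (x * σ x) = x * σ x at a2
  rw [map_add] at a1
  rw [map_mul] at a2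
  linear_combination (-frobA F₀ F x) * a1 + a2

end Cfsg.Agent.Classical.Asch
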