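import Cfsg.Agent.Lib.Classical.Sub3
import Cfsg.Agent.Lib.Classical.Max6

/-! Orthogonal decompositions in odd dimension. -/

set_option autoImplicit false

namespace Cfsg.Agent.Classical

open Module

namespace Form
variable {F : Type*} [Field F] {V : Type*} [AddCommGroup V] [Module F V] {H : Subgroup (V ≃ₗ[F] V)}
  [FiniteDimensional F V]

section
variable {K : Kind F} {Φ : Form K V}

theorem nondeg_inf_perp {W : Submodule F V} (hW : (Φ.restrict W).Nondeg) {x : V} (hx : x ∈ W) (h0 : Φ.B x x ≠ 0) :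
    (Φ.restrict (W ⊓ Φ.perp (F ∙ x))).Nondeg := nondeg_of_inf fun u hu k => hW.of_mem hu.1 fun y hy => by
  have := k (y - (Φ.B y x / Φ.B x x) • x) ⟨sub_mem hy (W.smul_mem _ hx), Φ.mem_perp_singleton.2 (by simp [h0])⟩
  simpa [Φ.B_symm_zero (Φ.mem_perp_singleton.1 hu.2)] using this

theorem ODec.stab_of_fix (hΦ : Φ.Nondeg) {U : Submodule F V} {c : V ≃ₗ[F] V} (hc : c ∈ Φ.Isom)
    (k : ∀ x ∈ Φ.perp U, c x = x) : ∀ x ∈ U, c x ∈ U := fun x hx => hΦ.perp_perp U ▸ fun y hy => by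
  rw [← k y hy, hc.1]; exact Φ.B_symm_zero (hy x hx)

theorem ODec.adjust (hΦ : Φ.Nondeg) (hC : Φ.Comp2) {τ : Type} {D : τ → Submodule F V} (h : Φ.ODec D)
    (h1 : ∀ g ∈ Φ.E, (∀ i, ∃ j, ∀ v ∈ D i, g v ∈ D j) → g ∈ H) {g : V ≃ₗ[F] V} (hg : g ∈ Φ.Isom)
    (hg' : ∀ i, ∃ j, ∀ v ∈ D i, g v ∈ D j) {U : Submodule F V} {i : τ} (hU : U ≤ D i) (hU' : (Φ.restrict U).Nondeg)
    (h2 : 2 ≤ finrank F U) : ∃ g' ∈ H, g' ∈ Φ.Isom ∧ ∀ x ∈ Φ.perp U, g' x = g x := by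
  obtain ⟨c, c1, c2, c3⟩ := hC U hU' h2 g hg
  have c4 := fun x hx => c2 x (Φ.perp_anti hU hx)
  refine ⟨g * c, h1 _ c3 fun j => ?_, Φ.E_le c3, fun x hx => by rw [LinearEquiv.mul_apply, c2 x hx]⟩
  obtain ⟨k, hk⟩ := h.perm_of (ODec.stab_of_fix hΦ c1 c4) c4 j
  obtain ⟨l, hl⟩ := hg' k
  exact ⟨l, fun v hv => hl _ (hk v hv)⟩

theorem ODec.N_sum {τ : Type} [Fintype τ] {D : τ → Submodule F V} (h : Φ.ODec D) (x : V) :
    Φ.N x = ∑ i, Φ.N (h.pr i x) := by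
  classical
  have : ∀ s : Finset τ, Φ.N (∑ i ∈ s, h.pr i x) = ∑ i ∈ s, Φ.N (h.pr i x) := fun s => by
    induction s using Finset.induction_on with
    | empty => simp
    | insert a s ha ih =>
      rw [Finset.sum_insert ha, Finset.sum_insert ha, Φ.N_add_of_orth, ih]
      rw [map_sum]
      exact Finset.sum_eq_zero fun j hj => h.orth a j (by rintro rfl; exact ha hj) (h.pr_mem _ _) _ (h.pr_mem _ _)
  rw [← this, h.sum_pr]

theorem eich_perm {τ : Type} {D : τ → Submodule F V} (h : Φ.ODec D) {i : τ} {e y : V} {a : F} (he : e ∈ D i)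
    (hy : y ∈ D i) (k : Φ.IsEich e y a) : ∀ j, ∃ l, ∀ v ∈ D j, Φ.eich e y a k v ∈ D l :=
  h.perm_of (i := i) (fun x hx => by simpa using add_mem hx (eich_imSub k he hy x))
    fun x hx => eich_fix k (hx e he) (hx y hy)

end

variable {Φ : Form (Kind.orth F) V} [Finite F]

theorem exists_same_N (hΦ : Φ.Nondeg) (h2 : (2 : F) ≠ 0) {W : Submodule F V} (hW : (Φ.restrict W).Nondeg)
    (h3 : 3 ≤ finrank F W) {x : V} (hx : x ∈ W) (h0 : x ≠ 0) (β : F) :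
    ∃ x' ∈ W, x' ≠ 0 ∧ Φ.N x' = Φ.N x ∧ Φ.B x x' = β := by
  by_cases k : Φ.N x = 0
  · rcases eq_or_ne β 0 with rfl | hβ
    · exact ⟨x, hx, h0, rfl, Φ.B_self_of_N k⟩
    obtain ⟨f, hf, hh⟩ := exists_hyp_in hW hx ⟨h0, k⟩
    exact ⟨β • f, W.smul_mem _ hf, smul_ne_zero hβ hh.f_ne, by simp [N_smul, hh.hf, k], by simp [hh.hef]⟩
  have k1 : Φ.B x x ≠ 0 := by rw [Φ.orth_B_self]; exact mul_ne_zero h2 k
  have := hΦ.finrank_inf_perp W (F ∙ x)
  have := finrank_span_one_le (F := F) x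
  obtain ⟨w, hw⟩ := orth_represents (nondeg_inf_perp hW hx k1) (by omega) ((1 - (β / Φ.B x x) ^ 2) * Φ.N x)
  have k2 := Φ.B_symm_zero (Φ.mem_perp_singleton.1 w.2.2)
  have k3 : Φ.N ((β / Φ.B x x) • x + w) = Φ.N x := by
    rw [Φ.N_add_of_orth (by simp [k2]), N_smul, show Φ.N w.1 = _ from hw]; simp; ring
  exact ⟨_, add_mem (W.smul_mem _ hx) w.2.1, fun e => k (by rw [← k3, e, N_zero]), k3, by simp [k2, k1]⟩

theorem exists_neg_refl (hΦ : Φ.Nondeg) (h2 : (2 : F) ≠ 0) (ho : Odd (finrank F V)) (h3 : 3 ≤ finrank F V) :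
    ∃ c : F, c ≠ 0 ∧ ∀ v h, Φ.N v = c → LinearEquiv.neg F * Φ.refl v h ∈ Φ.E := by
  have hG := good_of_two hΦ h2
  obtain ⟨c, hc⟩ := hG.exists_spin hΦ ⟨_, neg_mem_Isom Φ⟩
  refine ⟨c, c.ne_zero, fun v h k => (hG.mem_E_iff hΦ h3 (g := ⟨_, neg_mem_Isom Φ⟩ * Φ.reflI v h)).2
    ((hG.mem_commutator_iff hΦ).2 ⟨(hG.dick_eq_one_iff hΦ h2).2 (Units.ext ?_), ?_⟩)⟩
  · rw [Subgroup.coe_mul, map_mul, Units.val_mul, reflI_coe, det_refl, LinearEquiv.coe_det]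
    have : ((LinearEquiv.neg F : V ≃ₗ[F] V) : V →ₗ[F] V) = (-1 : F) • LinearMap.id := by ext; simp
    rw [this, LinearMap.det_smul, ho.neg_one_pow]; simp
  · rw [map_mul, hc, hG.spin_reflI, show Units.mk0 _ h = c from Units.ext k, Int.units_mul_self]

theorem ODec.exists_not_mem (hΦ : Φ.Nondeg) (h2 : (2 : F) ≠ 0) {τ : Type} {D : τ → Submodule F V} (h : Φ.ODec D)
    {X : Submodule F V} (hX : (Φ.restrict X).Nondeg) (h3 : 3 ≤ finrank F X)
    (hex : 4 ≤ finrank F X ∨ ∃ l : F, l ≠ 0 ∧ l * l ≠ 1) (h0 : ∀ j, ¬ X ≤ D j) {c : F} (hc : c ≠ 0) :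
    ∃ v ∈ X, Φ.N v = c ∧ ∀ j, v ∉ D j := by
  classical
  cases nonempty_fintype F
  by_contra k
  push Not at k
  have k0 : ∀ v ∈ X, Φ.N v = c → ∀ u j, u ∈ D j → Φ.B v u ≠ 0 → v ∈ D j := fun v a b u j d e => by
    obtain ⟨l, hl⟩ := k v a b
    by_contra k1
    exact e (h.orth l j (by rintro rfl; exact k1 hl) hl u d)
  obtain ⟨v, hv⟩ := orth_represents hX (by omega) c
  obtain ⟨j, hj⟩ := k v v.2 hv
  have v0 : Φ.B v v ≠ 0 := by rw [Φ.orth_B_self, show Φ.N v = c from hv]; exact mul_ne_zero h2 hc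
  obtain ⟨w, w1, w2⟩ : ∃ w : X, Φ.N w = c ∧ w.1 ∉ D j := by
    by_contra k1
    push Not at k1
    rcases orth_irrI hX (by omega) (Submodule.span F {w : X | Φ.N w = c}) (fun g hg x hx => by
      have : (Submodule.span F {w : X | Φ.N w = c}).map (g : X →ₗ[F] X) ≤ Submodule.span F {w : X | Φ.N w = c} :=
        Submodule.map_span_le _ _ _ |>.2 fun y hy => Submodule.subset_span (show Φ.N _ = c from (hg.2 y).trans hy)
      exact this ⟨x, hx, rfl⟩) with k2 | k2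
    · have : v ∈ Submodule.span F {w : X | Φ.N w = c} := Submodule.subset_span hv
      rw [k2, Submodule.mem_bot] at this
      simp [this] at v0
    · exact h0 j fun x hx => (Submodule.span_le (p := (D j).comap X.subtype)).2 k1 (k2 ▸ trivial : (⟨x, hx⟩ : X) ∈ _)
  obtain ⟨j', hj'⟩ := k w w.2 w1
  have jj : j ≠ j' := by rintro rfl; exact w2 hj'
  have vw := h.orth j j' jj hj _ hj'
  have wv := Φ.B_symm_zero vw
  have w0 : Φ.B w w ≠ 0 := by rw [Φ.orth_B_self, w1]; exact mul_ne_zero h2 hc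
  rcases hex with hex | ⟨l, l0, l1⟩
  · have := hΦ.finrank_inf_perp X (F ∙ v.1)
    have := hΦ.finrank_inf_perp (X ⊓ Φ.perp (F ∙ v.1)) (F ∙ w.1)
    have := finrank_span_one_le (F := F) v.1
    have := finrank_span_one_le (F := F) w.1
    obtain ⟨z, hz⟩ := orth_represents (nondeg_inf_perp (nondeg_inf_perp hX v.2 v0)
      ⟨w.2, Φ.mem_perp_singleton.2 wv⟩ w0) (by omega) (-c)
    have z1 := Φ.mem_perp_singleton.1 z.2.1.2
    have z2 := Φ.mem_perp_singleton.1 z.2.2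
    have q : Φ.N (v + w + z) = c := by
      rw [Φ.N_add_of_orth (by simp [Φ.B_symm_zero z1, Φ.B_symm_zero z2]), Φ.N_add_of_orth vw, show Φ.N v = c from hv,
        w1, show Φ.N z.1 = _ from hz]; ring
    have q' := add_mem (add_mem v.2 w.2) z.2.1.1
    simpa [vw, z2, w0] using h.orth j j' jj (k0 _ q' q _ _ hj (by simpa [wv, z1])) _ hj'
  obtain ⟨x, x1, -, x2, x3⟩ := exists_same_N hΦ h2 hX h3 v.2 (by rintro e; simp [e] at v0) (l * Φ.B v v)
  have x4 := k0 x x1 (x2.trans hv) _ _ hj fun e => mul_ne_zero l0 v0 (x3 ▸ Φ.B_symm_zero e)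
  have x5 := h.orth j j' jj x4 _ hj'
  have s : ∀ u v, Φ.B v u = Φ.B u v := fun u v => by simpa using Φ.symm u v
  have x6 : Φ.N (x - l • v) = (1 - l * l) * c := by
    rw [N_sub, N_smul, x2, B_smul_right, s, x3, Φ.orth_B_self, show Φ.N v = c from hv]; simp; ring
  have x7 := k0 (l • w + (x - l • v)) (add_mem (X.smul_mem _ w.2) (sub_mem x1 (X.smul_mem _ v.2))) (by
    rw [Φ.N_add_of_orth (by simp [wv, Φ.B_symm_zero x5]), x6, N_smul, w1]; simp; ring) _ _ hj'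
    (by simp [x5, vw, l0, w0])
  have := h.orth j j' jj x4 _ x7
  simp only [map_add, map_sub, B_smul_right, x5, s v x, x3, Φ.orth_B_self, x2, show Φ.N v = c from hv,
    Kind.orth_σ] at this
  exact mul_ne_zero (mul_ne_zero h2 hc) (sub_ne_zero.2 l1) (by linear_combination -this)

theorem ODec.E_le_of_inA (hΦ : Φ.Nondeg) (hn : 5 ≤ finrank F V) {τ : Type} [Fintype τ] {D : τ → Submodule F V}
    (h : Φ.ODec D) (hi : ∀ i j, (Φ.restrict (D i)).Iso (Φ.restrict (D j))) (hk : ∀ i, 3 ≤ finrank F (D i))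
    (h1 : ∀ g ∈ Φ.E, (∀ i, ∃ j, ∀ v ∈ D i, g v ∈ D j) → g ∈ H) {i j l : τ} (ij : i ≠ j) (li : l ≠ i) (lj : l ≠ j)
    {e x : V} (he : e ∈ D i) (hs : Φ.Sing e) (hx : x ∈ D j) (h0 : x ≠ 0) (k : Φ.InA H e x) : Φ.E ≤ H := by
  cases nonempty_fintype F
  have ad := fun g a b m => h.adjust hΦ (orth_comp2 hΦ hn) h1 (g := g) a b (i := m) le_rfl (h.nd m)
    ((hk m).trans' (by norm_num))
  obtain ⟨f, hf, hh⟩ := exists_hyp_in (h.nd i) he hs
  let A : Submodule F V :=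
    { carrier := {y | ∀ c : F, Φ.InA H e (c • y)}
      zero_mem' := fun c => by simpa using InA.zero hs.2
      add_mem' := fun {a b} ha hb c => smul_add c a b ▸ (ha c).add (hb c)
      smul_mem' := fun a x hx c => smul_smul c a x ▸ hx _ }
  have k1 : x ∈ A := fun c => by
    rcases eq_or_ne c 0 with rfl | hc
    · simpa using InA.zero hs.2
    obtain ⟨g, g1, g2, g3⟩ := ad _ (Φ.dil_mem e f hh (Units.mk0 c hc)) (h.perm_of (i := i)
      (fun y hy => by rw [dil_apply]; exact add_mem (add_mem hy (Submodule.smul_mem _ _ he)) (Submodule.smul_mem _ _ hf))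
      fun y hy => Φ.dil_of_perp _ _ _ _ (hy e he) (hy f hf)) l
    have := k.map g1 g2
    rw [g3 e (h.orth i l li.symm he), g3 x (h.orth j l lj.symm hx), dil_e, Φ.dil_of_perp _ _ _ _
      (h.orth j i ij.symm hx e he) (h.orth j i ij.symm hx f hf)] at this
    exact this.of_smul hc
  have k2 : A.comap (D j).subtype = ⊤ := (orth_irrI (h.nd j) (by have := hk j; omega) (A.comap (D j).subtype)
      fun g hg y hy c => by
    obtain ⟨g', p1, p2, p3⟩ := exists_ext (h.nd j) hg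
    obtain ⟨s, s1, s2, s3⟩ := ad _ p1 (h.perm_of (i := j) (fun x hx => by rw [p2 ⟨x, hx⟩]; exact Subtype.prop _) p3) l
    have := (hy c).fix s1 s2 (by rw [s3 e (h.orth i l li.symm he), p3 e (h.orth i j ij he)])
    rwa [map_smul, Submodule.subtype_apply, s3 _ (h.orth j l lj.symm y.2), p2] at this).resolve_left fun k => by
    have : (⟨x, hx⟩ : D j) ∈ A.comap (D j).subtype := k1
    rw [k, Submodule.mem_bot] at this
    exact h0 (congrArg Subtype.val this)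
  have k3 : ∀ y ∈ D j, Φ.InA H e y := fun y hy => by
    simpa using (show y ∈ A from (k2 ▸ trivial : (⟨y, hy⟩ : D j) ∈ A.comap (D j).subtype)) 1
  have k4 : Φ.Full H e := full_of (orth_inT H e) fun y hy => by
    rw [← h.sum_pr y]
    refine Finset.sum_induction _ _ (fun _ _ => InA.add) (InA.zero hs.2) fun m _ => ?_
    by_cases mi : m = i
    · subst mi
      have q : Φ.IsEich e (h.pr m y) (Φ.N (h.pr m y)) := ⟨hs.2, by rw [h.B_pr he, hy], rfl⟩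
      exact ⟨_, q, h1 _ (Φ.eich_mem_E _ _ _ _) (eich_perm h he (h.pr_mem _ _) q)⟩
    by_cases mj : m = j
    · exact k3 _ (mj ▸ h.pr_mem _ _)
    obtain ⟨s, s1, s2, s3, s4⟩ := h.exists_swap hΦ mj (hi m j)
    obtain ⟨g, g1, g2, g3⟩ := ad _ s1 s4 j
    have := (k3 _ (s2 _ (h.pr_mem m y))).fix (H.inv_mem g1) (Φ.Isom.inv_mem g2) (by
      rw [LinearEquiv.coe_inv, LinearEquiv.symm_apply_eq, g3 e (h.orth i j ij he),
        s3 e ⟨h.orth i m (Ne.symm mi) he, h.orth i j ij he⟩])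
    rwa [← g3 _ (h.orth m j mj (h.pr_mem _ _)), LinearEquiv.coe_inv, LinearEquiv.symm_apply_apply] at this
  obtain ⟨s, s1, s2, s3, s4⟩ := h.exists_change he hf hs.1 hh.f_ne (hs.2.trans hh.hf.symm)
  obtain ⟨g, g1, g2, g3⟩ := ad _ s1 (h.perm_of s3 s4) j
  have := k4.map g1 g2
  rw [g3 e (h.orth i j ij he), s2] at this
  exact E_le_of_full hΦ (orth_rich0 hΦ (by omega)) hs.2 hh.hf k4 this (by simp [hh.hef])

theorem max_orth_dec (hΦ : Φ.Nondeg) (h2 : (2 : F) ≠ 0) (ho : Odd (finrank F V)) (hn : 5 ≤ finrank F V)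
    {τ : Type} [Fintype τ] {D : τ → Submodule F V} (h : Φ.ODec D)
    (hi : ∀ i j, (Φ.restrict (D i)).Iso (Φ.restrict (D j))) (hk : ∀ i, 3 ≤ finrank F (D i))
    (hex : (∀ i, 4 ≤ finrank F (D i)) ∨ ∃ l : F, l ≠ 0 ∧ l * l ≠ 1) (h3 : ∀ i j : τ, ∃ l, l ≠ i ∧ l ≠ j)
    (h1 : ∀ g ∈ Φ.E, (∀ i, ∃ j, ∀ v ∈ D i, g v ∈ D j) → g ∈ H) (hH : H ≤ Φ.Isom) {g : V ≃ₗ[F] V} (hg : g ∈ H)
    (hg' : ¬ ∀ i, ∃ j, ∀ v ∈ D i, g v ∈ D j) : Φ.E ≤ H := by
  obtain ⟨c, c0, hc⟩ := exists_neg_refl hΦ h2 ho (by omega)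
  have s : ∀ u v, Φ.B v u = Φ.B u v := fun u v => by simpa using Φ.symm u v
  let U : V → Prop := fun v => Φ.N v = c ∧ ∃ h, LinearEquiv.neg F * Φ.refl v h ∈ H
  have U1 : ∀ v, U v → ∀ t ∈ H, U (t v) := fun v ⟨a, b, k⟩ t ht => ⟨by rw [(hH ht).2, a], _, by
    rw [← Φ.refl_conj (hH ht) v b]
    convert H.mul_mem (H.mul_mem ht k) (H.inv_mem ht) using 1
    ext; simp⟩
  push Not at hg'
  obtain ⟨i₀, h0⟩ := hg'
  have e0 := LinearEquiv.finrank_map_eq g (D i₀)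
  obtain ⟨_, ⟨v, v1, rfl⟩, u1, u2⟩ := h.exists_not_mem hΦ h2 (X := (D i₀).map (g : V →ₗ[F] V))
    (nondeg_of_inf (by
      rintro _ ⟨x, hx, rfl⟩ k
      rw [(h.nd i₀).of_mem hx fun y hy => ((hH hg).1 y x).symm.trans (k _ ⟨y, hy, rfl⟩), map_zero]))
    (e0 ▸ hk i₀) (hex.imp_left fun k => e0 ▸ k i₀)
    (fun j k => by obtain ⟨v, a, b⟩ := h0 j; exact b (k ⟨v, a, rfl⟩)) c0
  have v2 : Φ.N v = c := ((hH hg).2 v).symm.trans u1
  have hu : U (g v) := U1 v ⟨v2, v2 ▸ c0, h1 _ (hc v _ v2) fun j => by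
    obtain ⟨l, hl⟩ := h.perm_of (i := i₀) (g := Φ.refl v (v2 ▸ c0))
      (fun x hx => by rw [refl_apply]; exact sub_mem hx (Submodule.smul_mem _ _ v1))
      (fun x hx => Φ.refl_of_perp _ _ (hx v v1)) j
    exact ⟨l, fun x hx => neg_mem (hl x hx)⟩⟩ g hg
  change ∀ j, g v ∉ D j at u2
  generalize g v = u at hu u2
  obtain ⟨i, -, a0⟩ := Finset.exists_ne_zero_of_sum_ne_zero (h.N_sum u ▸ hu.1 ▸ c0)
  obtain ⟨j, ji, b0⟩ : ∃ j, j ≠ i ∧ h.pr j u ≠ 0 := by simpa using mt h.mem_of_pr (u2 i)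
  obtain ⟨e, e1, e2⟩ := orth_sg3 Φ _ (hk i)
  obtain ⟨f, f1, hh⟩ := exists_hyp_in (h.nd i) e1 e2
  have d1 := finrank_inf_hperp hΦ (D i) e f
  have d2 := hk i
  obtain ⟨y, y1, y2, y3⟩ : ∃ y ∈ D i ⊓ Φ.hperp e f, Φ.N y ≠ 0 ∧ Φ.N y ≠ c := by
    rcases hex with hex | ⟨l, l0, l1⟩
    · obtain ⟨y, hy⟩ := orth_represents (hh.nondeg_inf (h.nd i) e1 f1) (by have := hex i; omega) (-c)
      replace hy : Φ.N y = -c := hy
      exact ⟨y, y.2, by simpa [hy], fun k => mul_ne_zero h2 c0 (by linear_combination hy - k)⟩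
    haveI : Nontrivial (D i ⊓ Φ.hperp e f : Submodule F V) := Module.nontrivial_of_finrank_pos (R := F) (by omega)
    obtain ⟨y, hy⟩ := (hh.nondeg_inf (h.nd i) e1 f1).orth_exists_N_ne
    by_cases k : Φ.N y = c
    · refine ⟨l • y, Submodule.smul_mem _ _ y.2, by simp [N_smul, l0, k, c0], fun k' => l1 (mul_right_cancel₀ c0 ?_)⟩
      simpa [N_smul, k] using k'
    · exact ⟨y, y.2, hy, k⟩
  have a1 := h.pr_mem i u
  have b1 := h.pr_mem j u
  have r1 : u - h.pr i u - h.pr j u ∈ Φ.perp (D i) := sub_mem (h.sub_pr i u) (h.orth j i ji b1)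
  have r2 : u - h.pr i u - h.pr j u ∈ Φ.perp (D j) :=
    sub_right_comm u _ _ ▸ sub_mem (h.sub_pr j u) (h.orth i j ji.symm a1)
  obtain ⟨ρ, hρ⟩ : ∃ ρ, u = h.pr i u + h.pr j u + ρ := ⟨u - h.pr i u - h.pr j u, by abel⟩
  rw [show u - h.pr i u - h.pr j u = ρ by rw [sub_sub, sub_eq_iff_eq_add', ← hρ]] at r1 r2
  generalize h.pr i u = a, h.pr j u = b at *
  subst hρ
  have a2 : a ≠ 0 := by rintro rfl; simp at a0
  obtain ⟨a', p1, p2, p3, p4⟩ := exists_same_N hΦ h2 (h.nd i) d2 a1 a2 (2 * Φ.N a - Φ.N y)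
  obtain ⟨b', q1, q2, q3, q4⟩ := exists_same_N hΦ h2 (h.nd j) (hk j) b1 b0 (c - Φ.B a a' - Φ.B ρ ρ)
  obtain ⟨s₁, s1, s2, s3, s4⟩ := h.exists_change a1 p1 a2 p2 p3.symm
  obtain ⟨s₂, t1, t2, t3, t4⟩ := h.exists_change b1 q1 b0 q2 q3.symm
  have := hΦ.finrank_inf_perp (D i) (F ∙ a)
  have := finrank_span_one_le (F := F) a
  have o1 := h.orth i j ji.symm
  have o2 := h.orth j i ji
  obtain ⟨g', g1, g2, g3⟩ := h.adjust hΦ (orth_comp2 hΦ hn) h1 (Φ.Isom.mul_mem s1 t1) (fun m => by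
    obtain ⟨k, hk⟩ := h.perm_of t3 t4 m
    obtain ⟨l, hl⟩ := h.perm_of s3 s4 k
    exact ⟨l, fun v hv => hl _ (hk v hv)⟩) inf_le_left (nondeg_inf_perp (h.nd i) a1
      (by rw [Φ.orth_B_self]; exact mul_ne_zero h2 a0)) (by omega)
  have k1 := U1 _ hu g' g1
  rw [g3 _ fun x hx => by simp [o2 b1 x hx.1, r1 x hx.1, Φ.B_symm_zero (Φ.mem_perp_singleton.1 hx.2)],
    LinearEquiv.mul_apply, map_add s₂, map_add s₂, t2, t4 a (o1 a1), t4 ρ r2, map_add s₁, map_add s₁, s2, s4 b' (o2 q1),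
    s4 ρ r1] at k1
  obtain ⟨n1, n2, n3⟩ := hu
  have k2 := U1 _ k1 _ n3
  have k3 : Φ.B (a' + b' + ρ) (a + b + ρ) = c := by
    simp only [map_add, LinearMap.add_apply, o1 p1 b b1, o2 q1 a a1, r1 a a1, r2 b b1, s ρ a', s ρ b', r1 a' p1,
      r2 b' q1, s a a', s b b', q4]
    ring
  rw [LinearEquiv.mul_apply, refl_apply, k3, n1, inv_mul_cancel₀ c0, one_smul, LinearEquiv.neg_apply,
    show -(a' + b' + ρ - (a + b + ρ)) = (a - a') + (b - b') by abel] at k2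
  have k4 : Φ.N (a - a') = Φ.N y := by rw [N_sub, p3, p4]; simp; ring
  have k5 := sub_mem a1 p1
  have k6 := sub_mem b1 q1
  generalize a - a' = w₁, b - b' = w₂ at *
  obtain ⟨m1, m2, m3⟩ := k2
  obtain ⟨z, z1, z2, z3, -⟩ := h.exists_change y1.1 k5 (by rintro rfl; simp at y2)
    (by rintro rfl; exact y2 (by simpa using k4.symm)) k4.symm
  have z4 : Φ.B w₁ (z e) = 0 := by rw [← z2, z1.1, (Φ.mem_hperp.1 y1.2).1]
  have z5 : ∀ t : F, Φ.InA H (z e) (t • w₁) := fun t => by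
    have q : Φ.IsEich (z e) (t • w₁) (Φ.N (t • w₁)) := ⟨(e2.map z1).2, by simp [z4], rfl⟩
    exact ⟨_, q, h1 _ (Φ.eich_mem_E _ _ _ _) (eich_perm h (z3 e e1) (Submodule.smul_mem _ _ k5) q)⟩
  have k7 := (z5 1).map m3 (hH m3)
  rw [LinearEquiv.mul_apply, Φ.refl_of_perp _ _ (by simp [s w₁, z4, o1 (z3 e e1) _ k6]), LinearEquiv.neg_apply,
    ← neg_one_smul F (z e)] at k7
  obtain ⟨l, li, lj⟩ := h3 i j
  refine h.E_le_of_inA hΦ hn hi hk h1 ji.symm li lj (z3 e e1) (e2.map z1)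
    (Submodule.smul_mem _ (c⁻¹ * (2 * Φ.N y)) k6) (smul_ne_zero (by simp [c0, h2, y2]) ?_) ?_
  · rintro rfl
    exact y3 (by rw [← k4, ← m1, add_zero])
  · convert (z5 (1 - c⁻¹ * (2 * Φ.N y))).sub (k7.of_smul (by simp)) using 1
    simp only [one_smul, LinearEquiv.mul_apply, refl_apply, map_add, o1 k5 _ k6, Φ.orth_B_self, k4, m1,
      LinearEquiv.neg_apply, Kind.orth_σ]
    module

end Form

namespace Asch
open Cfsg.Geo
variable {ι : Type} [Fintype ι] [DecidableEq ι] {F : Type*} [Field F] [Fintype F]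

theorem max_O_dec {Q : (ι → F) → F} {B : GL ι F} (hQ : QF Q B.val) (h2 : (2 : F) ≠ 0) (ho : Odd (Fintype.card ι))
    (hι : 5 ≤ Fintype.card ι) {t k : ℕ} (hk : 1 < k) {D : Fin t → Submodule F (ι → F)}
    (hD : IsOrthogonalMDecomposition Q k D) (hex : ¬ (Fintype.card F = 3 ∧ k = 3)) :
    IsMaximalIn (omegaGL Q) (decompositionStabilizer D ⊓ omegaGL Q) := by
  have h := cl_O hQ hι
  have hD' := hD.1.1
  have hd : IsNondegenerateMDecomposition (gf (RingHom.id F) B.val) k D := hQ.polar ▸ hD.1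
  have k1 := IsMDecomposition.card_eq hD'
  obtain ⟨⟨a, ha⟩, b, hb⟩ := Nat.odd_mul.1 (k1 ▸ ho)
  have := hD'.two_le
  refine h.max (hQ.not_le_nd hι hd) fun H a b g hg hg' => Form.max_orth_dec h.nd h2 (by simpa using ho)
    (by simpa using hι) (odec_of hd) (fun i j => ?_) (fun i => by rw [hD'.finrank_eq]; omega) ?_ (fun i j => ?_)
    (fun g c d => a ⟨mem_mp_dec hD' d, c⟩) (b.trans (Form.E_le _)) hg (mt (mem_mp_dec hD') hg')
  · obtain ⟨e, he⟩ := hD.2 i j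
    refine ⟨e, fun u v => ?_, he⟩
    have k := he (u + v)
    rw [map_add, Submodule.coe_add, Submodule.coe_add, hQ.add, hQ.add, he, he] at k
    exact add_left_cancel k
  · refine or_iff_not_imp_left.2 fun c => ?_
    have c1 : Fintype.card F ≠ 3 := fun e => hex ⟨e, by
      simp only [hD'.finrank_eq, not_forall] at c
      obtain ⟨-, c⟩ := c; omega⟩
    obtain ⟨r, hr⟩ := two_ne_zero_iff_odd.1 h2
    classical
    obtain ⟨l, hl⟩ : (Finset.univ \ {0, 1, -1} : Finset F).Nonempty := Finset.card_pos.1 (by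
      have := Finset.card_le_three (a := (0 : F)) (b := 1) (c := -1)
      have := Fintype.one_lt_card (α := F)
      rw [Finset.card_univ_sdiff]; omega)
    exact ⟨l, by simpa [mul_self_eq_one_iff] using hl⟩
  · obtain ⟨l, hl⟩ : (Finset.univ \ {i, j} : Finset (Fin t)).Nonempty := Finset.card_pos.1 (by
      have := Finset.card_le_two (a := i) (b := j)
      rw [Finset.card_univ_sdiff, Fintype.card_fin]; omega)
    exact ⟨l, by simpa using hl⟩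

end Asch

end Cfsg.Agent.Classical
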