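import Cfsg.Agent.Lib.Classical.Witt

/-! Orthogonal decompositions, hyperbolic complements, counting. -/

set_option autoImplicit false

namespace Cfsg.Agent.Classical

open Module

section Lin
variable {F : Type*} [Field F] {V : Type*} [AddCommGroup V] [Module F V]

/-- glue automorphisms of complementary subspaces -/
noncomputable def glue {U W : Submodule F V} (hc : IsCompl U W) :
    (U ≃ₗ[F] U) × (W ≃ₗ[F] W) →* (V ≃ₗ[F] V) where
  toFun g := (U.prodEquivOfIsCompl W hc).symm ≪≫ₗ (g.1.prodCongr g.2) ≪≫ₗ U.prodEquivOfIsCompl W hc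
  map_one' := by
    ext x
    exact (U.prodEquivOfIsCompl W hc).apply_symm_apply x
  map_mul' a b := by ext x; simp [LinearEquiv.prodCongr_apply]

theorem glue_add {U W : Submodule F V} (hc : IsCompl U W) (g : (U ≃ₗ[F] U) × (W ≃ₗ[F] W))
    (u : U) (w : W) : glue hc g (u + w) = g.1 u + g.2 w := by
  have : (U.prodEquivOfIsCompl W hc).symm (u + w) = (u, w) := by
    rw [LinearEquiv.symm_apply_eq]; rfl
  show U.prodEquivOfIsCompl W hc (g.1.prodCongr g.2 ((U.prodEquivOfIsCompl W hc).symm (u + w))) = _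
  rw [this]; rfl

theorem glue_left {U W : Submodule F V} (hc : IsCompl U W) (g : (U ≃ₗ[F] U) × (W ≃ₗ[F] W))
    (u : U) : glue hc g u = g.1 u := by simpa using glue_add hc g u 0

theorem glue_right {U W : Submodule F V} (hc : IsCompl U W) (g : (U ≃ₗ[F] U) × (W ≃ₗ[F] W))
    (w : W) : glue hc g w = g.2 w := by simpa using glue_add hc g 0 w

theorem exists_add_of_isCompl {U W : Submodule F V} (hc : IsCompl U W) (x : V) :
    ∃ (u : U) (w : W), x = u + w := by
  obtain ⟨⟨u, w⟩, h⟩ := (U.prodEquivOfIsCompl W hc).surjective x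
  exact ⟨u, w, h.symm⟩

theorem glue_injective {U W : Submodule F V} (hc : IsCompl U W) : Function.Injective (glue hc) := by
  rw [injective_iff_map_eq_one]
  rintro ⟨a, b⟩ h
  ext x
  · have := glue_left hc (a, b) x
    rw [h] at this; exact this.symm
  · have := glue_right hc (a, b) x
    rw [h] at this; exact this.symm

theorem det_glue [FiniteDimensional F V] {U W : Submodule F V} (hc : IsCompl U W)
    (g : (U ≃ₗ[F] U) × (W ≃ₗ[F] W)) :
    LinearEquiv.det (glue hc g) = LinearEquiv.det g.1 * LinearEquiv.det g.2 := by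
  ext
  rw [Units.val_mul, LinearEquiv.coe_det, LinearEquiv.coe_det, LinearEquiv.coe_det,
    ← LinearMap.det_prodMap, ← LinearMap.det_conj _ (U.prodEquivOfIsCompl W hc)]
  rfl

/-- restriction of an automorphism to an invariant subspace -/
def res (g : V ≃ₗ[F] V) (U : Submodule F V) (h : ∀ v, v ∈ U ↔ g v ∈ U) : U ≃ₗ[F] U where
  toFun u := ⟨g u, (h _).1 u.2⟩
  invFun u := ⟨g.symm u, (h _).2 (by simp)⟩
  map_add' := by intros; ext; simp
  map_smul' := by intros; ext; simp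
  left_inv u := by ext; simp
  right_inv u := by ext; simp

@[simp] theorem res_apply (g : V ≃ₗ[F] V) (U : Submodule F V) (h) (u : U) :
    (res g U h u : V) = g u := rfl

theorem stab_iff_map_eq {g : V ≃ₗ[F] V} {U : Submodule F V} :
    (∀ v, v ∈ U ↔ g v ∈ U) ↔ U.map (g : V →ₗ[F] V) = U := by
  constructor
  · intro h; ext v
    rw [Submodule.mem_map_equiv, h]; simp
  · intro h v
    conv_rhs => rw [← h, Submodule.mem_map_equiv]
    simp

theorem stab_of_le [FiniteDimensional F V] {g : V ≃ₗ[F] V} {U : Submodule F V}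
    (h : ∀ v ∈ U, g v ∈ U) : ∀ v, v ∈ U ↔ g v ∈ U := by
  rw [stab_iff_map_eq]
  apply Submodule.eq_of_le_of_finrank_eq
  · rintro _ ⟨v, hv, rfl⟩; exact h v hv
  · exact LinearEquiv.finrank_map_eq g U

theorem glue_res {U W : Submodule F V} (hc : IsCompl U W) (g : V ≃ₗ[F] V) (h1 h2) :
    glue hc (res g U h1, res g W h2) = g := by
  ext x
  obtain ⟨u, w, rfl⟩ := exists_add_of_isCompl hc x
  rw [glue_add]; simp

theorem glue_stab_left {U W : Submodule F V} (hc : IsCompl U W) (g : (U ≃ₗ[F] U) × (W ≃ₗ[F] W))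
    (v : V) : v ∈ U ↔ glue hc g v ∈ U := by
  constructor
  · intro h; rw [show v = (⟨v, h⟩ : U) from rfl, glue_left]; exact Subtype.mem _
  · intro h
    have := glue_left hc g⁻¹ ⟨_, h⟩
    rw [← LinearEquiv.mul_apply, ← map_mul, inv_mul_cancel, map_one] at this
    rw [show v = _ from this]; exact Subtype.mem _

theorem glue_stab_right {U W : Submodule F V} (hc : IsCompl U W) (g : (U ≃ₗ[F] U) × (W ≃ₗ[F] W))
    (v : V) : v ∈ W ↔ glue hc g v ∈ W := by
  constructor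
  · intro h; rw [show v = (⟨v, h⟩ : W) from rfl, glue_right]; exact Subtype.mem _
  · intro h
    have := glue_right hc g⁻¹ ⟨_, h⟩
    rw [← LinearEquiv.mul_apply, ← map_mul, inv_mul_cancel, map_one] at this
    rw [show v = _ from this]; exact Subtype.mem _

/-- the stabiliser of a subspace -/
def stab (U : Submodule F V) : Subgroup (V ≃ₗ[F] V) where
  carrier := {g | ∀ v, v ∈ U ↔ g v ∈ U}
  one_mem' := fun _ => Iff.rfl
  mul_mem' {a b} ha hb := fun v => (hb v).trans (ha _)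
  inv_mem' {a} ha := fun v => by rw [ha (a⁻¹ v)]; simp [LinearEquiv.coe_inv]

theorem mem_stab {U : Submodule F V} {g : V ≃ₗ[F] V} : g ∈ stab U ↔ ∀ v, v ∈ U ↔ g v ∈ U := Iff.rfl

theorem mem_stab_iff_map {U : Submodule F V} {g : V ≃ₗ[F] V} :
    g ∈ stab U ↔ U.map (g : V →ₗ[F] V) = U := stab_iff_map_eq

end Lin

namespace Form
variable {F : Type*} [Field F] {K : Kind F} {V : Type*} [AddCommGroup V] [Module F V]
  (Φ : Form K V)

theorem glue_mem {U W : Submodule F V} (hc : IsCompl U W) (ho : W ≤ Φ.perp U)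
    {g₁ : U ≃ₗ[F] U} {g₂ : W ≃ₗ[F] W} (h₁ : g₁ ∈ (Φ.restrict U).Isom) (h₂ : g₂ ∈ (Φ.restrict W).Isom) :
    glue hc (g₁, g₂) ∈ Φ.Isom := by
  have o1 : ∀ (u : U) (w : W), Φ.B w u = 0 := fun u w => ho w.2 u u.2
  have o2 : ∀ (u : U) (w : W), Φ.B u w = 0 := fun u w => Φ.B_symm_zero (o1 u w)
  refine ⟨fun x y => ?_, fun x => ?_⟩
  · obtain ⟨u, w, rfl⟩ := exists_add_of_isCompl hc x
    obtain ⟨u', w', rfl⟩ := exists_add_of_isCompl hc y
    have e1 := h₁.1 u u'
    have e2 := h₂.1 w w'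
    simp only [comap_B, Submodule.subtype_apply] at e1 e2
    simp only [glue_add]
    simp only [map_add, LinearMap.add_apply, o1, o2, e1, e2]
  · obtain ⟨u, w, rfl⟩ := exists_add_of_isCompl hc x
    have e1 := h₁.2 u
    have e2 := h₂.2 w
    simp only [comap_N, Submodule.subtype_apply] at e1 e2
    rw [glue_add, Φ.N_add_of_orth (o2 _ _), Φ.N_add_of_orth (o2 _ _), e1, e2]

theorem res_mem {g : V ≃ₗ[F] V} (hg : g ∈ Φ.Isom) (U : Submodule F V) (h) :
    res g U h ∈ (Φ.restrict U).Isom := ⟨fun u v => hg.1 u v, fun v => hg.2 v⟩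

theorem stab_perp {g : V ≃ₗ[F] V} (hg : g ∈ Φ.Isom) {U : Submodule F V} (h : g ∈ stab U) :
    g ∈ stab (Φ.perp U) := by
  rw [mem_stab_iff_map] at h ⊢
  rw [Φ.map_perp hg, h]

/-- the stabiliser of a nondegenerate subspace -/
noncomputable def stabEquiv {U : Submodule F V} (hc : IsCompl U (Φ.perp U)) :
    (Φ.restrict U).Isom × (Φ.restrict (Φ.perp U)).Isom ≃* (Φ.Isom ⊓ stab U : Subgroup _) where
  toFun g := ⟨glue hc (g.1, g.2), Φ.glue_mem hc le_rfl g.1.2 g.2.2, glue_stab_left hc _⟩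
  invFun g := (⟨res g.1 U g.2.2, Φ.res_mem g.2.1 _ _⟩,
    ⟨res g.1 _ (Φ.stab_perp g.2.1 g.2.2), Φ.res_mem g.2.1 _ _⟩)
  left_inv g := by
    ext x
    · exact glue_left hc _ x
    · exact glue_right hc _ x
  right_inv g := Subtype.ext (glue_res hc _ g.2.2 (Φ.stab_perp g.2.1 g.2.2))
  map_mul' a b := Subtype.ext (by
    show glue hc _ = glue hc _ * glue hc _
    rw [← map_mul]; rfl)

/-- transport of isometry groups along an isometry -/
def isomCongr {W : Type*} [AddCommGroup W] [Module F W] (Ψ : Form K W) (e : V ≃ₗ[F] W)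
    (hB : ∀ u v, Ψ.B (e u) (e v) = Φ.B u v) (hN : ∀ v, Ψ.N (e v) = Φ.N v) : Φ.Isom ≃* Ψ.Isom where
  toFun g := ⟨e.symm ≪≫ₗ g.1 ≪≫ₗ e, fun u v => by
      simp only [LinearEquiv.trans_apply, hB, g.2.1]
      rw [← hB]; simp,
    fun v => by
      simp only [LinearEquiv.trans_apply, hN, g.2.2]
      rw [← hN]; simp⟩
  invFun g := ⟨e ≪≫ₗ g.1 ≪≫ₗ e.symm, fun u v => by
      simp only [LinearEquiv.trans_apply]
      rw [← hB]; simp [g.2.1, hB],
    fun v => by
      simp only [LinearEquiv.trans_apply]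
      rw [← hN]; simp [g.2.2, hN]⟩
  left_inv g := by ext; simp
  right_inv g := by ext; simp
  map_mul' a b := by ext; simp

theorem isomCongr_apply {W : Type*} [AddCommGroup W] [Module F W] (Ψ : Form K W) (e : V ≃ₗ[F] W)
    (hB hN) (g : Φ.Isom) (w : W) : (Φ.isomCongr Ψ e hB hN g).1 w = e (g.1 (e.symm w)) := rfl

/-! ### hyperbolic complement -/

/-- perp of a hyperbolic pair -/
def hperp (e f : V) : Submodule F V := Φ.perp (Submodule.span F {e, f})

theorem mem_hperp {e f v : V} : v ∈ Φ.hperp e f ↔ Φ.B v e = 0 ∧ Φ.B v f = 0 := by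
  rw [hperp, mem_perp_span]; simp

theorem IsHyp.proj_mem {Φ : Form K V} {e f : V} (h : Φ.IsHyp e f) (x : V) :
    x - Φ.B x f • e - (K.ε * Φ.B x e) • f ∈ Φ.hperp e f := by
  have h4 := K.εε
  rw [mem_hperp]
  simp only [map_sub, LinearMap.sub_apply, Φ.B_smul_left, h.Bee, h.Bff, h.hef, h.Bfe]
  constructor
  · linear_combination (-Φ.B x e) * h4
  · ring

theorem IsHyp.decomp {Φ : Form K V} {e f : V} (h : Φ.IsHyp e f) (x : V) :
    ∃ (a b : F) (y : V), y ∈ Φ.hperp e f ∧ x = a • e + b • f + y :=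
  ⟨Φ.B x f, K.ε * Φ.B x e, _, h.proj_mem x, by module⟩

theorem IsHyp.B_f {Φ : Form K V} {e f : V} (h : Φ.IsHyp e f) (a b : F) {y : V} (hy : y ∈ Φ.hperp e f) :
    Φ.B (a • e + b • f + y) f = a := by
  simp [h.hef, h.Bff, (Φ.mem_hperp.1 hy).2]

theorem IsHyp.B_e {Φ : Form K V} {e f : V} (h : Φ.IsHyp e f) (a b : F) {y : V} (hy : y ∈ Φ.hperp e f) :
    Φ.B (a • e + b • f + y) e = b * K.ε := by
  simp [h.Bfe, h.Bee, (Φ.mem_hperp.1 hy).1]

theorem IsHyp.N_decomp {Φ : Form K V} {e f : V} (h : Φ.IsHyp e f) (a b : F) {y : V}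
    (hy : y ∈ Φ.hperp e f) : Φ.N (a • e + b • f + y) = K.T (a * K.σ b) + Φ.N y := by
  have h1 := Φ.B_symm_zero (Φ.mem_hperp.1 hy).1
  have h2 := Φ.B_symm_zero (Φ.mem_hperp.1 hy).2
  rw [Φ.N_add_of_orth (by simp [h1, h2]), Φ.N_add, Φ.N_smul, Φ.N_smul, h.he, h.hf, Φ.B_smul_left,
    Φ.B_smul_right, h.hef]
  simp

theorem IsHyp.B_decomp {Φ : Form K V} {e f : V} (h : Φ.IsHyp e f) (a b a' b' : F) {y y' : V}
    (hy : y ∈ Φ.hperp e f) (hy' : y' ∈ Φ.hperp e f) :
    Φ.B (a • e + b • f + y) (a' • e + b' • f + y') = a * K.σ b' + K.ε * b * K.σ a' + Φ.B y y' := by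
  have h1 := Φ.B_symm_zero (Φ.mem_hperp.1 hy').1
  have h2 := Φ.B_symm_zero (Φ.mem_hperp.1 hy').2
  simp only [map_add, LinearMap.add_apply, Φ.B_smul_left, Φ.B_smul_right, h.Bee, h.Bff, h.hef,
    h.Bfe, h1, h2, (Φ.mem_hperp.1 hy).1, (Φ.mem_hperp.1 hy).2]
  ring

theorem IsHyp.isCompl {Φ : Form K V} {e f : V} (h : Φ.IsHyp e f) :
    IsCompl (Submodule.span F {e, f}) (Φ.hperp e f) := by
  constructor
  · rw [Submodule.disjoint_def]
    intro x hx hx'
    obtain ⟨a, b, rfl⟩ := Submodule.mem_span_pair.1 hx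
    have h1 := h.B_f a b (zero_mem _)
    have h2 := h.B_e a b (zero_mem _)
    rw [add_zero] at h1 h2
    rw [(Φ.mem_hperp.1 hx').2] at h1
    rw [(Φ.mem_hperp.1 hx').1] at h2
    have : b = 0 := by simpa [K.ε_ne] using h2.symm
    simp [← h1, this]
  · rw [codisjoint_iff, Submodule.eq_top_iff']
    intro x
    obtain ⟨a, b, y, hy, rfl⟩ := h.decomp x
    exact Submodule.add_mem_sup (Submodule.mem_span_pair.2 ⟨a, b, rfl⟩) hy

theorem IsHyp.nondeg_span {Φ : Form K V} {e f : V} (h : Φ.IsHyp e f) :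
    (Φ.restrict (Submodule.span F {e, f})).Nondeg :=
  (Φ.restrict_nondeg_iff _).2 h.isCompl.inf_eq_bot

theorem IsHyp.nondeg_hperp {Φ : Form K V} (hΦ : Φ.Nondeg) {e f : V} (h : Φ.IsHyp e f) :
    (Φ.restrict (Φ.hperp e f)).Nondeg := by
  intro v hv
  ext
  apply hΦ
  intro u
  obtain ⟨a, b, y, hy, rfl⟩ := h.decomp u
  have := hv ⟨y, hy⟩
  have h1 := Φ.B_symm_zero (Φ.mem_hperp.1 v.2).1
  have h2 := Φ.B_symm_zero (Φ.mem_hperp.1 v.2).2
  simp at this
  simp [h1, h2, this]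

/-- coordinates for a hyperbolic pair -/
def IsHyp.coord {Φ : Form K V} {e f : V} (h : Φ.IsHyp e f) : (F × F × Φ.hperp e f) ≃ₗ[F] V where
  toFun p := p.1 • e + p.2.1 • f + p.2.2
  invFun x := (Φ.B x f, K.ε * Φ.B x e, ⟨_, h.proj_mem x⟩)
  map_add' p p' := by simp; module
  map_smul' c p := by simp; module
  left_inv p := by
    have h4 := K.εε
    have e1 := h.B_f p.1 p.2.1 p.2.2.2
    have e2 : K.ε * Φ.B (p.1 • e + p.2.1 • f + p.2.2) e = p.2.1 := by
      rw [h.B_e p.1 p.2.1 p.2.2.2]; linear_combination p.2.1 * h4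
    ext
    · exact e1
    · exact e2
    · simp only [e1, e2]; module
  right_inv x := by simp

theorem IsHyp.coord_apply {Φ : Form K V} {e f : V} (h : Φ.IsHyp e f) (p : F × F × Φ.hperp e f) :
    h.coord p = p.1 • e + p.2.1 • f + p.2.2 := rfl

theorem IsHyp.finrank_hperp [FiniteDimensional F V] {Φ : Form K V} {e f : V} (h : Φ.IsHyp e f) :
    finrank F (Φ.hperp e f) + 2 = finrank F V := by
  rw [← h.coord.finrank_eq]; simp; omega

theorem IsHyp.card_eq {Φ : Form K V} {e f : V} (h : Φ.IsHyp e f) :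
    Nat.card V = Nat.card F ^ 2 * Nat.card (Φ.hperp e f) := by
  rw [← Nat.card_congr h.coord.toEquiv]; simp; ring

/-- extend an isometry of the hyperbolic complement -/
noncomputable def IsHyp.ext {Φ : Form K V} {e f : V} (h : Φ.IsHyp e f) :
    (Φ.hperp e f ≃ₗ[F] Φ.hperp e f) →* (V ≃ₗ[F] V) :=
  (glue h.isCompl).comp (MonoidHom.inr _ _)

theorem IsHyp.ext_e {Φ : Form K V} {e f : V} (h : Φ.IsHyp e f) (g) : h.ext g e = e :=
  glue_left h.isCompl (1, g) ⟨e, Submodule.subset_span (by simp)⟩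
theorem IsHyp.ext_f {Φ : Form K V} {e f : V} (h : Φ.IsHyp e f) (g) : h.ext g f = f :=
  glue_left h.isCompl (1, g) ⟨f, Submodule.subset_span (by simp)⟩
theorem IsHyp.ext_perp {Φ : Form K V} {e f : V} (h : Φ.IsHyp e f) (g) (y : Φ.hperp e f) :
    h.ext g y = g y := glue_right h.isCompl (1, g) y
theorem IsHyp.ext_mem {Φ : Form K V} {e f : V} (h : Φ.IsHyp e f) {g}
    (hg : g ∈ (Φ.restrict (Φ.hperp e f)).Isom) : h.ext g ∈ Φ.Isom :=
  Φ.glue_mem h.isCompl le_rfl (one_mem _) hg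
theorem IsHyp.ext_injective {Φ : Form K V} {e f : V} (h : Φ.IsHyp e f) : Function.Injective h.ext :=
  fun _ _ hab => (Prod.ext_iff.1 (glue_injective h.isCompl hab)).2
theorem IsHyp.det_ext [FiniteDimensional F V] {Φ : Form K V} {e f : V} (h : Φ.IsHyp e f) (g) :
    LinearEquiv.det (h.ext g) = LinearEquiv.det g := by
  have := det_glue h.isCompl (1, g)
  rw [map_one, one_mul] at this
  exact this

theorem IsHyp.stab_hperp {Φ : Form K V} {e f : V} {g : V ≃ₗ[F] V} (hg : g ∈ Φ.Isom)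
    (he : g e = e) (hf : g f = f) : g ∈ stab (Φ.hperp e f) := by
  intro v
  rw [mem_hperp, mem_hperp, ← hg.1 v e, ← hg.1 v f, he, hf]

theorem IsHyp.exists_ext {Φ : Form K V} {e f : V} (h : Φ.IsHyp e f) {g : V ≃ₗ[F] V} (hg : g ∈ Φ.Isom)
    (he : g e = e) (hf : g f = f) : ∃ g' ∈ (Φ.restrict (Φ.hperp e f)).Isom, h.ext g' = g := by
  refine ⟨res g _ (IsHyp.stab_hperp hg he hf), Φ.res_mem hg _ _, ?_⟩
  ext x
  obtain ⟨a, b, y, hy, rfl⟩ := h.decomp x
  have : h.ext (res g _ (IsHyp.stab_hperp hg he hf)) y = g y :=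
    h.ext_perp (res g _ (IsHyp.stab_hperp hg he hf)) ⟨y, hy⟩
  simp [h.ext_e, h.ext_f, he, hf, this]

/-! ### counting -/

/-- number of vectors of norm `c` -/
noncomputable def cnt (c : F) : ℕ := Nat.card {v : V // Φ.N v = c}

theorem card_T_fiber {c : F} (hc : ∃ a, K.T a = c) :
    Nat.card {a : F // K.T a = c} = Nat.card K.T.ker := by
  obtain ⟨a₀, rfl⟩ := hc
  exact Nat.card_congr
    { toFun := fun a => ⟨a - a₀, by simp [a.2]⟩
      invFun := fun a => ⟨a + a₀, by have := a.2; simp [AddMonoidHom.mem_ker.1 a.2]⟩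
      left_inv := by intro a; simp
      right_inv := by intro a; simp }

theorem IsHyp.cnt_eq [Finite F] [Finite V] {Φ : Form K V} {e f : V} (h : Φ.IsHyp e f) {c : F}
    (hc : ∃ a, K.T a = c) :
    Φ.cnt c = Nat.card F * (Φ.restrict (Φ.hperp e f)).cnt c +
      (Nat.card F - 1) * (Nat.card (Φ.hperp e f) * Nat.card K.T.ker) := by
  classical
  have e1 : {v : V // Φ.N v = c} ≃
      (F × {y : Φ.hperp e f // Φ.N y = c}) ⊕
        Σ b : {b : F // b ≠ 0}, Σ y : Φ.hperp e f, {a : F // K.T a = c - Φ.N y} := by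
    refine (Equiv.ofBijective (Sum.elim
      (fun p => ⟨p.1 • e + (0 : F) • f + p.2.1, by
        rw [h.N_decomp _ _ p.2.1.2, p.2.2]; simp⟩)
      (fun p => ⟨(p.2.2.1 / K.σ p.1.1) • e + p.1.1 • f + p.2.1, by
        rw [h.N_decomp _ _ p.2.1.2, div_mul_cancel₀ _ (by simpa using p.1.2), p.2.2.2]; simp⟩))
      ⟨?_, ?_⟩).symm
    · rintro (⟨a, y, hy⟩ | ⟨⟨b, hb⟩, y, a, ha⟩) (⟨a', y', hy'⟩ | ⟨⟨b', hb'⟩, y', a', ha'⟩) hh
      · have := h.coord.injective (a₁ := (a, 0, y)) (a₂ := (a', 0, y')) (congrArg Subtype.val hh)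
        simp only [Prod.mk.injEq] at this
        obtain ⟨rfl, -, rfl⟩ := this; rfl
      · have := h.coord.injective (a₁ := (a, 0, y)) (a₂ := (_, b', y')) (congrArg Subtype.val hh)
        simp only [Prod.mk.injEq] at this
        exact absurd this.2.1.symm hb'
      · have := h.coord.injective (a₁ := (_, b, y)) (a₂ := (a', 0, y')) (congrArg Subtype.val hh)
        simp only [Prod.mk.injEq] at this
        exact absurd this.2.1 hb
      · have := h.coord.injective (a₁ := (_, b, y)) (a₂ := (_, b', y')) (congrArg Subtype.val hh)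
        simp only [Prod.mk.injEq] at this
        obtain ⟨h1, rfl, rfl⟩ := this
        have : a = a' := by
          rwa [div_left_inj' (by simpa using hb)] at h1
        subst this; rfl
    · rintro ⟨v, hv⟩
      obtain ⟨a, b, y, hy, rfl⟩ := h.decomp v
      rw [h.N_decomp _ _ hy] at hv
      by_cases hb : b = 0
      · subst hb
        exact ⟨.inl (a, ⟨⟨y, hy⟩, by simpa using hv⟩), rfl⟩
      · refine ⟨.inr ⟨⟨b, hb⟩, ⟨y, hy⟩, a * K.σ b, by rw [← hv]; simp⟩, ?_⟩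
        simp [hb]
  have := Fintype.ofFinite F
  have := Fintype.ofFinite (Φ.hperp e f)
  rw [cnt, Nat.card_congr e1, Nat.card_sum, Nat.card_prod, Nat.card_sigma]
  congr 1
  have : ∀ y : Φ.hperp e f, Nat.card {a : F // K.T a = c - Φ.N y} = Nat.card K.T.ker := by
    intro y
    apply card_T_fiber
    obtain ⟨a, ha⟩ := hc
    obtain ⟨b, hb⟩ := Φ.N_range y
    exact ⟨a - b, by rw [map_sub, ha, hb]⟩
  simp only [Nat.card_sigma, this]
  simp

theorem IsHyp.card_partners [Finite F] [Finite V] {Φ : Form K V} {e f : V} (h : Φ.IsHyp e f) :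
    Nat.card {f' : V // Φ.IsHyp e f'} = Nat.card (Φ.hperp e f) * Nat.card K.T.ker := by
  classical
  have e1 : {f' : V // Φ.IsHyp e f'} ≃ Σ y : Φ.hperp e f, {a : F // K.T a = - Φ.N y} := by
    refine (Equiv.ofBijective
      (fun p => ⟨p.2.1 • e + (1 : F) • f + p.1, h.he, by
        rw [h.N_decomp _ _ p.1.2]; simp [p.2.2], by
        rw [Φ.symm, h.B_e _ _ p.1.2, one_mul, K.σε, K.εε]⟩) ⟨?_, ?_⟩).symm
    · rintro ⟨y, a, ha⟩ ⟨y', a', ha'⟩ hh
      have := h.coord.injective (a₁ := (a, 1, y)) (a₂ := (a', 1, y')) (congrArg Subtype.val hh)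
      simp only [Prod.mk.injEq] at this
      obtain ⟨rfl, -, rfl⟩ := this; rfl
    · rintro ⟨v, hv⟩
      obtain ⟨a, b, y, hy, rfl⟩ := h.decomp v
      have h1 := hv.hf
      have h2 := hv.Bfe
      rw [h.N_decomp _ _ hy] at h1
      rw [h.B_e _ _ hy] at h2
      have hb : b = 1 := by simpa [K.ε_ne] using h2
      subst hb
      exact ⟨⟨⟨y, hy⟩, a, by simpa [add_eq_zero_iff_eq_neg] using h1⟩, rfl⟩
  have := Fintype.ofFinite (Φ.hperp e f)
  rw [Nat.card_congr e1, Nat.card_sigma]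
  have : ∀ y : Φ.hperp e f, Nat.card {a : F // K.T a = - Φ.N y} = Nat.card K.T.ker := by
    intro y
    apply card_T_fiber
    obtain ⟨b, hb⟩ := Φ.N_range y
    exact ⟨- b, by rw [map_neg, hb]⟩
  simp [this]

theorem card_singular_ne [Finite V] : Nat.card {v : V // v ≠ 0 ∧ Φ.N v = 0} = Φ.cnt 0 - 1 := by
  classical
  have := Fintype.ofFinite V
  simp only [cnt, Nat.card_eq_fintype_card, Fintype.card_subtype]
  rw [← Finset.card_erase_of_mem (a := 0) (by simp)]
  congr 1; ext; simp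

theorem exists_singular_of_cnt [Finite V] (h : 1 < Φ.cnt 0) : ∃ v, v ≠ 0 ∧ Φ.N v = 0 := by
  have := Φ.card_singular_ne
  have h2 : Nat.card {v : V // v ≠ 0 ∧ Φ.N v = 0} ≠ 0 := by omega
  obtain ⟨⟨v, hv⟩⟩ := (Nat.card_ne_zero.1 h2).1
  exact ⟨v, hv⟩

theorem cnt_zero_of_aniso (h : ∀ v, Φ.N v = 0 → v = 0) : Φ.cnt 0 = 1 := by
  rw [cnt, Nat.card_eq_one_iff_unique]
  exact ⟨⟨fun a b => Subtype.ext ((h _ a.2).trans (h _ b.2).symm)⟩, ⟨⟨0, by simp⟩⟩⟩

theorem IsHyp.card_hyp [Finite F] [Finite V] {Φ : Form K V} (hΦ : Φ.Nondeg) {e f : V} (h : Φ.IsHyp e f) :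
    Nat.card {p : V × V // Φ.IsHyp p.1 p.2} =
      (Φ.cnt 0 - 1) * (Nat.card (Φ.hperp e f) * Nat.card K.T.ker) := by
  classical
  have : Module.Finite F V := Module.Finite.of_finite
  have e1 : {p : V × V // Φ.IsHyp p.1 p.2} ≃ Σ x : {v : V // v ≠ 0 ∧ Φ.N v = 0}, {f' // Φ.IsHyp x f'} :=
    { toFun := fun p => ⟨⟨p.1.1, p.2.e_ne, p.2.he⟩, p.1.2, p.2⟩
      invFun := fun p => ⟨(p.1.1, p.2.1), p.2.2⟩
      left_inv := fun p => rfl
      right_inv := fun p => rfl }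
  have := Fintype.ofFinite {v : V // v ≠ 0 ∧ Φ.N v = 0}
  rw [Nat.card_congr e1, Nat.card_sigma, ← card_singular_ne]
  have : ∀ x : {v : V // v ≠ 0 ∧ Φ.N v = 0}, Nat.card {f' // Φ.IsHyp x f'} =
      Nat.card (Φ.hperp e f) * Nat.card K.T.ker := by
    intro x
    obtain ⟨f', hf'⟩ := hΦ.exists_hyp x.2.1 x.2.2
    rw [hf'.card_partners]
    congr 1
    have h1 := hf'.card_eq
    rw [h.card_eq] at h1
    have : 0 < Nat.card F := Nat.card_pos
    exact (Nat.mul_left_cancel (by positivity) h1).symm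
  simp [this]

theorem IsHyp.card_Isom [Finite F] [Finite V] {Φ : Form K V} (hΦ : Φ.Nondeg) {e f : V}
    (h : Φ.IsHyp e f) : Nat.card Φ.Isom = (Φ.cnt 0 - 1) * (Nat.card (Φ.hperp e f) * Nat.card K.T.ker)
      * Nat.card (Φ.restrict (Φ.hperp e f)).Isom := by
  have : Module.Finite F V := Module.Finite.of_finite
  rw [← h.card_hyp hΦ, ← Nat.card_congr (MulAction.orbitProdStabilizerEquivGroup Φ.Isom (e, f)),
    Nat.card_prod]
  congr 1
  · apply Nat.card_congr
    apply Equiv.subtypeEquivRight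
    rintro ⟨e', f'⟩
    constructor
    · rintro ⟨g, hg⟩
      simp only [Prod.smul_mk, Prod.mk.injEq] at hg
      obtain ⟨rfl, rfl⟩ := hg
      exact h.map g.2
    · intro h'
      obtain ⟨g, hg, h1, h2⟩ := hΦ.exists_isom_hyp h h'
      exact ⟨⟨g, hg⟩, Prod.ext h1 h2⟩
  · symm
    apply Nat.card_congr
    refine Equiv.ofBijective (fun g => ⟨⟨h.ext g.1, h.ext_mem g.2⟩, Prod.ext (h.ext_e _) (h.ext_f _)⟩) ⟨?_, ?_⟩
    · intro a b hab
      exact Subtype.ext (h.ext_injective (congrArg (fun x => x.1.1) hab))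
    · rintro ⟨⟨g, hg⟩, hs⟩
      have hs' := Prod.ext_iff.1 (MulAction.mem_stabilizer_iff.1 hs)
      obtain ⟨g', hg', rfl⟩ := h.exists_ext hg hs'.1 hs'.2
      exact ⟨⟨g', hg'⟩, rfl⟩

end Form

end Cfsg.Agent.Classical
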