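import Cfsg.Agent.Lib.Classical.Gen

/-! The group generated by the Eichler transformations: transitivity, primitivity, centre,
simplicity. -/

set_option autoImplicit false

namespace Cfsg.Agent.Classical

open Module
open scoped commutatorElement

section Grp
variable {G : Type*} [Group G]

theorem commutator_eq_top_of_le {H : Subgroup G} (h : H ≤ ⁅H, H⁆) : commutator H = ⊤ := by
  apply Subgroup.map_injective H.subtype_injective
  rw [commutator_def, Subgroup.map_commutator, ← MonoidHom.range_eq_map, H.range_subtype]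
  exact le_antisymm (Subgroup.commutator_le_self H) h

theorem mem_commutator_subtype {H : Subgroup G} {x : H} : x ∈ commutator H ↔ x.1 ∈ ⁅H, H⁆ := by
  have : (commutator H).map H.subtype = ⁅H, H⁆ := by
    rw [commutator_def, Subgroup.map_commutator, ← MonoidHom.range_eq_map, H.range_subtype]
  rw [← this]
  exact (Subgroup.mem_map_iff_mem H.subtype_injective).symm

theorem eq_top_of_metabelian_supp (hG : commutator G = ⊤) {N U Z : Subgroup G} [N.Normal]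
    (h : N ⊔ U = ⊤) (h1 : ⁅U, U⁆ ≤ Z) (h2 : ⁅Z, Z⁆ = ⊥) : N = ⊤ := by
  let π := QuotientGroup.mk' N
  have hs : Function.Surjective π := QuotientGroup.mk'_surjective N
  have hN : N.map π = ⊥ := by rw [Subgroup.map_eq_bot_iff, QuotientGroup.ker_mk']
  have hU : U.map π = ⊤ := by
    have := congrArg (Subgroup.map π) h
    rwa [Subgroup.map_sup, hN, bot_sup_eq, Subgroup.map_top_of_surjective _ hs] at this
  have hp : ⁅(⊤ : Subgroup (G ⧸ N)), (⊤ : Subgroup (G ⧸ N))⁆ = ⊤ := by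
    have := congrArg (Subgroup.map π) hG
    rwa [commutator_def, Subgroup.map_commutator, Subgroup.map_top_of_surjective _ hs] at this
  have hZ : Z.map π = ⊤ := by
    rw [eq_top_iff, ← hp, ← hU, ← Subgroup.map_commutator]
    exact Subgroup.map_mono h1
  rw [← hZ, ← Subgroup.map_commutator, h2, Subgroup.map_bot, hZ] at hp
  rw [eq_top_iff]
  intro x _
  have : π x ∈ (⊥ : Subgroup (G ⧸ N)) := hp ▸ Subgroup.mem_top _
  exact (QuotientGroup.eq_one_iff x).1 (Subgroup.mem_bot.1 this)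

theorem isSimpleGroup_quot_center (hc : Subgroup.center G ≠ ⊤)
    (h : ∀ N : Subgroup G, N.Normal → N ≤ Subgroup.center G ∨ N = ⊤) :
    IsSimpleGroup (G ⧸ Subgroup.center G) := by
  have : Nontrivial (G ⧸ Subgroup.center G) := QuotientGroup.nontrivial_iff.2 hc
  refine ⟨fun M hM => ?_⟩
  have hs := QuotientGroup.mk'_surjective (Subgroup.center G)
  rcases h (M.comap (QuotientGroup.mk' _)) (hM.comap _) with h1 | h1
  · left
    rw [← Subgroup.map_comap_eq_self_of_surjective hs M, Subgroup.map_eq_bot_iff, QuotientGroup.ker_mk']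
    exact h1
  · right
    rw [← Subgroup.map_comap_eq_self_of_surjective hs M, h1, Subgroup.map_top_of_surjective _ hs]

end Grp

namespace Form
variable {F : Type*} [Field F] {V : Type*} [AddCommGroup V] [Module F V] {K : Kind F} (Φ : Form K V)

/-- the group generated by the Eichler transformations -/
def E : Subgroup (V ≃ₗ[F] V) := Subgroup.closure Φ.eichSet

theorem E_le : Φ.E ≤ Φ.Isom := (Subgroup.closure_le _).2 Φ.eichSet_subset

theorem eich_mem_E (e y : V) (a : F) (h) : Φ.eich e y a h ∈ Φ.E :=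
  Subgroup.subset_closure ⟨e, y, a, h, rfl⟩

theorem E_le_SIsom [FiniteDimensional F V] : Φ.E ≤ Φ.SIsom :=
  (Subgroup.closure_le _).2 (by
    rintro _ ⟨e, y, a, h, rfl⟩
    exact ⟨Φ.eich_mem _ _ _ _, Φ.det_eich _ _ _ _⟩)

theorem E_conj {g x : V ≃ₗ[F] V} (hg : g ∈ Φ.Isom) (hx : x ∈ Φ.E) : g * x * g⁻¹ ∈ Φ.E :=
  closure_conj_mem (Φ.eichSet_conj hg) hx

theorem E_le_of {N : Subgroup (V ≃ₗ[F] V)} (h : ∀ e y a h, e ≠ 0 → Φ.eich e y a h ∈ N) : Φ.E ≤ N :=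
  (Subgroup.closure_le _).2 (by
    rintro _ ⟨e, y, a, h', rfl⟩
    by_cases he : e = 0
    · subst he
      have : Φ.eich 0 y a h' = 1 := by ext x; simp [eich_apply]
      rw [this]; exact N.one_mem
    · exact h e y a h' he)

theorem IsEich.smul {Φ : Form K V} {e y : V} {a c : F} (h : Φ.IsEich (c • e) y a) (hc : c ≠ 0) :
    Φ.IsEich e (K.σ c • y) (c * K.σ c * a) := by
  refine ⟨?_, ?_, ?_⟩
  · simpa [Φ.N_smul, hc] using h.he
  · simpa [Φ.B_smul_right, hc] using h.hy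
  · rw [K.T_norm, h.ha, Φ.N_smul, K.σσ, mul_comm c]

theorem eich_smul {e y : V} {a c : F} (h : Φ.IsEich (c • e) y a) (hc : c ≠ 0) :
    Φ.eich (c • e) y a h = Φ.eich e (K.σ c • y) (c * K.σ c * a) (h.smul hc) := by
  ext x
  simp only [eich_apply, Φ.B_smul_right, K.σσ]
  module

theorem eich_congr' {e e' y y' : V} {a a' : F} (h : Φ.IsEich e y a) (he : e = e') (hy : y = y')
    (ha : a = a') : Φ.eich e y a h = Φ.eich e' y' a' (he ▸ hy ▸ ha ▸ h) := by subst he hy ha; rfl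

theorem qrefl_eq_eich {d : V} {c : F} (h) (hd : Φ.N d = 0) :
    ∃ h', Φ.qrefl d c h = Φ.eich d 0 (-(K.ε * c)) h' := by
  refine ⟨⟨hd, by simp, ?_⟩, ?_⟩
  · rw [hd, mul_zero, zero_add] at h
    have := K.T_conj (K.σ c)
    rw [K.σσ, h] at this
    simp [this]
  · ext x
    have := K.εε
    simp only [qrefl_apply, eich_apply, map_zero]
    match_scalars
    · ring
    · linear_combination (-c * Φ.B x d) * this

theorem eich_zero_eq_qrefl {e : V} {a : F} (h : Φ.IsEich e 0 a) :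
    ∃ h', Φ.eich e 0 a h = Φ.qrefl e (-(K.ε * a)) h' := by
  refine ⟨?_, ?_⟩
  · have h1 := h.ha
    have := K.T_conj a
    simp only [h.he, mul_zero, zero_add, map_neg, map_mul, K.σε, this, h1, N_zero, neg_zero]
  · ext x
    simp only [qrefl_apply, eich_apply, map_zero]
    module

theorem transvSet_subset_E : Φ.transvSet ⊆ Φ.E := by
  rintro _ ⟨d, c, h, hd, rfl⟩
  obtain ⟨h', e⟩ := Φ.qrefl_eq_eich h hd
  rw [e]; exact Φ.eich_mem_E _ _ _ _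

theorem eich_smul_self {e : V} {c a : F} (h : Φ.IsEich e (c • e) a) :
    ∃ h', Φ.eich e (c • e) a h = Φ.eich e 0 (a + c - K.ε * K.σ c) h' := by
  refine ⟨⟨h.he, by simp, ?_⟩, ?_⟩
  · rw [map_sub, map_add, K.T_conj, h.ha, Φ.N_smul, h.he]; simp
  · ext x
    have := K.εε
    simp only [eich_apply, Φ.B_smul_right, map_zero]
    match_scalars
    · ring
    · linear_combination (-K.σ c * Φ.B x e) * this

theorem IsHyp.eich_f {Φ : Form K V} {e f y : V} {a : F} (h : Φ.IsHyp e f) (hy : y ∈ Φ.hperp e f)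
    (h') : Φ.eich e y a h' f = f - y - a • e := by
  have := K.εε
  rw [eich_apply, Φ.B_symm_zero (Φ.mem_hperp.1 hy).2, h.Bfe, this, mul_right_comm, this]
  module

theorem IsHyp.eich_e {Φ : Form K V} {e f y : V} {a : F} (h : Φ.IsHyp e f) (hy : y ∈ Φ.hperp e f)
    (h') : Φ.eich f y a h' e = e - K.ε • y - (K.ε * a) • f := by
  rw [eich_apply, Φ.B_symm_zero (Φ.mem_hperp.1 hy).1, h.hef]
  module

theorem IsHyp.exists_eich {Φ : Form K V} {e f f' : V} (h : Φ.IsHyp e f) (h' : Φ.IsHyp e f') :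
    ∃ y a h'', y ∈ Φ.hperp e f ∧ Φ.eich e y a h'' f = f' := by
  obtain ⟨a, b, y, hy, rfl⟩ := h.decomp f'
  have h1 := h'.Bfe
  rw [h.B_e _ _ hy] at h1
  have hb : b = 1 := mul_right_cancel₀ K.ε_ne (by rw [h1, one_mul])
  subst hb
  have h2 := h'.hf
  rw [h.N_decomp _ _ hy, map_one, mul_one] at h2
  refine ⟨-y, -a, ⟨h.he, by simp [(Φ.mem_hperp.1 hy).1], ?_⟩, neg_mem hy, ?_⟩
  · rw [map_neg, N_neg]; linear_combination -h2
  · rw [h.eich_f (neg_mem hy)]; module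

/-- nonzero singular vectors -/
def Sing (v : V) : Prop := v ≠ 0 ∧ Φ.N v = 0

theorem Sing.smul {Φ : Form K V} {v : V} (h : Φ.Sing v) {c : F} (hc : c ≠ 0) : Φ.Sing (c • v) :=
  ⟨smul_ne_zero hc h.1, by rw [Φ.N_smul, h.2, mul_zero]⟩

theorem Sing.map {Φ : Form K V} {v : V} (h : Φ.Sing v) {g : V ≃ₗ[F] V} (hg : g ∈ Φ.Isom) :
    Φ.Sing (g v) := ⟨by simpa using h.1, by rw [hg.2, h.2]⟩

theorem IsHyp.sing_e {Φ : Form K V} {e f : V} (h : Φ.IsHyp e f) : Φ.Sing e := ⟨h.e_ne, h.he⟩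
theorem IsHyp.sing_f {Φ : Form K V} {e f : V} (h : Φ.IsHyp e f) : Φ.Sing f := ⟨h.f_ne, h.hf⟩

theorem isHyp_of_ne {Φ : Form K V} {e v : V} (he : Φ.N e = 0) (hv : Φ.N v = 0) (h : Φ.B e v ≠ 0) :
    Φ.IsHyp e (K.σ (Φ.B e v)⁻¹ • v) :=
  ⟨he, by rw [Φ.N_smul, hv, mul_zero], by rw [Φ.B_smul_right, K.σσ, inv_mul_cancel₀ h]⟩

theorem exists_eich_sing {Φ : Form K V} {e u v : V} (he : Φ.N e = 0) (hu : Φ.N u = 0) (hv : Φ.N v = 0)
    (h1 : Φ.B e u ≠ 0) (h2 : Φ.B e v ≠ 0) :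
    ∃ y a h, Φ.eich e y a h u = K.σ (Φ.B e u / Φ.B e v) • v := by
  obtain ⟨y, a, h, -, h3⟩ := (isHyp_of_ne he hu h1).exists_eich (isHyp_of_ne he hv h2)
  refine ⟨y, a, h, ?_⟩
  rw [map_smul] at h3
  have h4 : K.σ (Φ.B e u) ≠ 0 := by simpa using h1
  have := congrArg (fun x => K.σ (Φ.B e u) • x) h3
  simp only [smul_smul, map_inv₀, mul_inv_cancel₀ h4, one_smul] at this
  rw [this, map_div₀, div_eq_mul_inv]

/-- move a vector into the hyperbolic plane -/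
theorem IsHyp.exists_move {Φ : Form K V} {e f : V} (h : Φ.IsHyp e f) {v : V} (hv : Φ.B v e ≠ 0) :
    ∃ y a h', ∃ α : F, Φ.eich e y a h' v = α • e + (K.ε * Φ.B v e) • f := by
  obtain ⟨α, β, y, hy, rfl⟩ := h.decomp v
  have h4 := K.εε
  rw [h.B_e _ _ hy] at hv ⊢
  have hβ : β ≠ 0 := by rintro rfl; simp at hv
  obtain ⟨a, ha⟩ := Φ.N_range (β⁻¹ • y)
  refine ⟨β⁻¹ • y, a, ⟨h.he, by simp [(Φ.mem_hperp.1 hy).1], ha⟩,
    α + Φ.B (α • e + β • f + y) (β⁻¹ • y) - a * β, ?_⟩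
  rw [eich_apply, h.B_e _ _ hy]
  match_scalars
  · linear_combination (-a * β) * h4
  · linear_combination (-β) * h4
  · field_simp; linear_combination -h4

/-- the condition needed for primitivity on singular points -/
def Rich : Prop := ∀ e f u, Φ.IsHyp e f → u ∈ Φ.hperp e f → Φ.N u = 0 →
  ∃ y a, y ∈ Φ.hperp e f ∧ Φ.B y u = 0 ∧ K.T a = Φ.N y ∧ a ≠ 0

/-- the condition needed for transitivity on singular points -/
def Rich0 : Prop := ∀ e f, Φ.IsHyp e f → ∃ y a, y ∈ Φ.hperp e f ∧ K.T a = Φ.N y ∧ a ≠ 0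

theorem Rich.rich0 {Φ : Form K V} (h : Φ.Rich) : Φ.Rich0 := fun e f hh => by
  obtain ⟨y, a, h1, -, h2, h3⟩ := h e f 0 hh (zero_mem _) (by simp)
  exact ⟨y, a, h1, h2, h3⟩

theorem rich_of_ker (h : ∃ a, K.T a = 0 ∧ a ≠ 0) : Φ.Rich := fun _ _ _ _ _ _ => by
  obtain ⟨a, h1, h2⟩ := h
  exact ⟨0, a, zero_mem _, by simp, by simp [h1], h2⟩

theorem symp_rich (Φ : Form (Kind.symp F) V) : Φ.Rich := Φ.rich_of_ker ⟨1, rfl, one_ne_zero⟩

theorem unit_rich {σ : F →+* F} {hσ2} (hσ : σ ≠ RingHom.id F) (Φ : Form (Kind.unit σ hσ2) V) :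
    Φ.Rich := by
  obtain ⟨d, h1, h2⟩ := exists_skew σ hσ hσ2
  exact Φ.rich_of_ker ⟨d, by simp [h2], h1⟩

/-- the subgroup of Eichler transformations at a singular vector -/
def Ugrp (e : V) (he : Φ.N e = 0) : Subgroup (V ≃ₗ[F] V) where
  carrier := {g | ∃ y a h, g = Φ.eich e y a h}
  one_mem' := ⟨0, 0, IsEich.zero he, (Φ.eich_zero _).symm⟩
  mul_mem' := by
    rintro _ _ ⟨y, a, h, rfl⟩ ⟨y', a', h', rfl⟩
    exact ⟨_, _, _, Φ.eich_mul h h'⟩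
  inv_mem' := by
    rintro _ ⟨y, a, h, rfl⟩
    exact ⟨_, _, _, Φ.eich_inv h⟩

/-- the subgroup of transvections at a singular vector -/
def Tgrp (e : V) (he : Φ.N e = 0) : Subgroup (V ≃ₗ[F] V) where
  carrier := {g | ∃ a h, g = Φ.eich e 0 a h}
  one_mem' := ⟨0, IsEich.zero he, (Φ.eich_zero _).symm⟩
  mul_mem' := by
    rintro _ _ ⟨a, h, rfl⟩ ⟨a', h', rfl⟩
    exact ⟨_, _, (Φ.eich_mul h h').trans (Φ.eich_congr _ (add_zero _) rfl)⟩
  inv_mem' := by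
    rintro _ ⟨a, h, rfl⟩
    exact ⟨_, _, (Φ.eich_inv h).trans (Φ.eich_congr _ neg_zero rfl)⟩

theorem Ugrp_le_E (e : V) (he) : Φ.Ugrp e he ≤ Φ.E := by
  rintro _ ⟨y, a, h, rfl⟩; exact Φ.eich_mem_E _ _ _ _

theorem eich_commutator {e y y' : V} {a a' : F} (h : Φ.IsEich e y a) (h' : Φ.IsEich e y' a') :
    ∃ h'', ⁅Φ.eich e y a h, Φ.eich e y' a' h'⁆ = Φ.eich e 0 (Φ.B y' y - Φ.B y y') h'' := by
  rw [commutatorElement_def, eich_inv, eich_inv, eich_mul, eich_mul, eich_mul]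
  refine ⟨_, Φ.eich_congr _ (by abel) ?_⟩
  simp only [map_add, map_neg, LinearMap.neg_apply, h.Byy, h'.Byy]
  ring

theorem commutator_Ugrp (e : V) (he) : ⁅Φ.Ugrp e he, Φ.Ugrp e he⁆ ≤ Φ.Tgrp e he := by
  rw [Subgroup.commutator_le]
  rintro _ ⟨y, a, h, rfl⟩ _ ⟨y', a', h', rfl⟩
  obtain ⟨h'', e⟩ := Φ.eich_commutator h h'
  exact ⟨_, _, e⟩

theorem commutator_Tgrp (e : V) (he) : ⁅Φ.Tgrp e he, Φ.Tgrp e he⁆ = ⊥ := by
  rw [eq_bot_iff, Subgroup.commutator_le]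
  rintro _ ⟨a, h, rfl⟩ _ ⟨a', h', rfl⟩
  obtain ⟨h'', e⟩ := Φ.eich_commutator h h'
  rw [e, Subgroup.mem_bot, ← Φ.eich_zero (IsEich.zero he)]
  exact Φ.eich_congr _ rfl (by simp)

variable [FiniteDimensional F V] {Φ}

theorem Nondeg.exists_hyp_perp (hΦ : Φ.Nondeg) {U : Submodule F V} {v : V} (hv : Φ.N v = 0)
    (hvU : v ∉ U) (h : ∀ u ∈ U, Φ.B u v = 0) : ∃ w, Φ.IsHyp v w ∧ ∀ u ∈ U, Φ.B u w = 0 := by
  obtain ⟨z, h1, h2⟩ := hΦ.exists_perp_one hvU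
  obtain ⟨a, ha⟩ := Φ.exists_hyp_of hv h2
  exact ⟨_, ha, fun u hu => by simp [h1 u hu, h u hu]⟩

theorem Rich0.exists_common (hR : Φ.Rich0) (hΦ : Φ.Nondeg) {u v : V} (hu : Φ.Sing u) (hv : Φ.Sing v) :
    ∃ w, Φ.N w = 0 ∧ Φ.B w u ≠ 0 ∧ Φ.B w v ≠ 0 := by
  by_cases h : Φ.B v u = 0
  · obtain ⟨z, -, h1, h2⟩ := exists_two_ne (U := ⊥) hΦ (u := u) (u' := v) (by simpa using hu.1)
      (by simpa using hv.1)
    obtain ⟨a, ha⟩ := Φ.exists_hyp_of (z := K.σ (Φ.B u z)⁻¹ • z) hu.2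
      (by rw [Φ.B_smul_right, K.σσ, inv_mul_cancel₀ h1])
    refine ⟨_, ha.hf, by rw [ha.Bfe]; exact K.ε_ne, fun h3 => ?_⟩
    have := Φ.B_symm_zero h3
    simp [h, h1, h2] at this
  · have h1 : Φ.B u v ≠ 0 := fun h1 => h (Φ.B_symm_zero h1)
    have hh := isHyp_of_ne hu.2 hv.2 h1
    obtain ⟨y, a, hy, ha, ha0⟩ := hR _ _ hh
    have h2 : Φ.IsEich u y a := ⟨hu.2, (Φ.mem_hperp.1 hy).1, ha⟩
    refine ⟨Φ.eich u y a h2 _, by rw [(Φ.eich_mem _ _ _ _).2, hh.hf], ?_, ?_⟩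
    · rw [hh.eich_f hy]; simp [hh.Bee, (Φ.mem_hperp.1 hy).1, h1, h]
    · have h3 : Φ.B y v = 0 := by simpa [h1] using (Φ.mem_hperp.1 hy).2
      rw [hh.eich_f hy]; simp [h3, Φ.B_self_of_N hv.2, ha0, h1]

theorem Rich0.trans (hR : Φ.Rich0) (hΦ : Φ.Nondeg) {u v : V} (hu : Φ.Sing u) (hv : Φ.Sing v) :
    ∃ g ∈ Φ.E, ∃ c : F, c ≠ 0 ∧ g u = c • v := by
  obtain ⟨w, hw, h1, h2⟩ := hR.exists_common hΦ hu hv
  obtain ⟨y, a, h, h3⟩ := exists_eich_sing hw hu.2 hv.2 h1 h2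
  exact ⟨_, Φ.eich_mem_E _ _ _ _, _, by simp [h1, h2], h3⟩

theorem Rich.prim (hR : Φ.Rich) (hΦ : Φ.Nondeg) (r : V → V → Prop) (hs : ∀ u v, r u v → r v u)
    (ht : ∀ u v w, r u v → r v w → r u w) (hc : ∀ u (c : F), Φ.Sing u → c ≠ 0 → r u (c • u))
    (hg : ∀ g ∈ Φ.E, ∀ u v, r u v → r (g u) (g v)) {u v : V} (hu : Φ.Sing u) (hv : Φ.Sing v)
    (huv : r u v) (hne : v ∉ (F ∙ u)) : ∀ u' v', Φ.Sing u' → Φ.Sing v' → r u' v' := by
  have A : ∀ u v, Φ.N u = 0 → Φ.N v = 0 → r u v → Φ.B u v ≠ 0 → ∀ w, Φ.Sing w → Φ.B u w ≠ 0 → r u w := by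
    intro u v hu hv huv h w hw h'
    obtain ⟨y, a, h1, h2⟩ := exists_eich_sing hu hv hw.2 h h'
    have := hg _ (Φ.eich_mem_E _ _ _ h1) _ _ huv
    rw [h2, eich_self] at this
    exact ht _ _ _ this (hs _ _ (hc _ _ hw (by simp [h, h'])))
  have B : ∀ u v, Φ.Sing u → Φ.N v = 0 → r u v → Φ.B u v ≠ 0 → ∀ w, Φ.Sing w → r u w := by
    intro u v hu hv huv h w hw
    obtain ⟨z, hz, h1, h2⟩ := hR.rich0.exists_common hΦ hu hw
    have h3 : r u z := A u v hu.2 hv huv h z ⟨by rintro rfl; simp at h1, hz⟩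
      fun h => h1 (Φ.B_symm_zero h)
    exact ht _ _ _ h3 (A z u hz hu.2 (hs _ _ h3) h1 w hw h2)
  have C : ∃ u, ∀ w, Φ.Sing w → r u w := by
    by_cases h : Φ.B u v = 0
    swap
    · exact ⟨u, B u v hu hv.2 huv h⟩
    obtain ⟨w, hw, hw'⟩ := hΦ.exists_hyp_perp hv.2 hne (by
      intro x hx
      obtain ⟨c, rfl⟩ := Submodule.mem_span_singleton.1 hx
      simp [h])
    have h1 := hw' u (Submodule.mem_span_singleton_self u)
    obtain ⟨y, a, hy, hyu, ha, ha0⟩ := hR v w u hw (Φ.mem_hperp.2 ⟨h, h1⟩) hu.2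
    have h2 : Φ.IsEich w y a := ⟨hw.hf, (Φ.mem_hperp.1 hy).2, ha⟩
    have h3 := hg _ (Φ.eich_mem_E _ _ _ h2) _ _ huv
    rw [Φ.eich_of_perp _ _ _ _ h1, Φ.B_symm_zero hyu, zero_smul, add_zero] at h3
    refine ⟨v, B v _ hv (by rw [(Φ.eich_mem _ _ _ _).2, hv.2]) (ht _ _ _ (hs _ _ huv) h3) fun h4 => ?_⟩
    have h5 := Φ.B_symm_zero h4
    rw [hw.eich_e hy] at h5
    simp [hw.Bee, (Φ.mem_hperp.1 hy).1, hw.Bfe, K.ε_ne, ha0] at h5
  obtain ⟨x, hx⟩ := C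
  exact fun u' v' hu' hv' => ht _ _ _ (hs _ _ (hx u' hu')) (hx v' hv')

omit [FiniteDimensional F V] in
theorem Rich0.scalar_of_fix (hR : Φ.Rich0) {e f : V} (h : Φ.IsHyp e f) {g : V ≃ₗ[F] V} (hg : g ∈ Φ.Isom)
    (hfix : ∀ v, Φ.Sing v → g v ∈ (F ∙ v)) : ∃ c : F, ∀ v, g v = c • v := by
  obtain ⟨l, hl⟩ := Submodule.mem_span_singleton.1 (hfix e h.sing_e)
  obtain ⟨m, hm⟩ := Submodule.mem_span_singleton.1 (hfix f h.sing_f)
  have key : ∀ f', Φ.IsHyp e f' → g f' = m • f' := by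
    intro f' h'
    obtain ⟨m', hm'⟩ := Submodule.mem_span_singleton.1 (hfix f' h'.sing_f)
    have h1 := (h.map hg).hef
    have h2 := (h'.map hg).hef
    rw [← hl, ← hm, Φ.B_smul_left, Φ.B_smul_right, h.hef] at h1
    rw [← hl, ← hm', Φ.B_smul_left, Φ.B_smul_right, h'.hef] at h2
    have hl0 : l ≠ 0 := by rintro rfl; simp at h1
    have : K.σ m = K.σ m' := by simpa using mul_left_cancel₀ hl0 (h1.trans h2.symm)
    rw [K.σ_inj this, hm']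
  have key2 : ∀ y ∈ Φ.hperp e f, ∀ a, K.T a = Φ.N y → g y + a • l • e = m • y + a • m • e := by
    intro y hy a ha
    have h2 : Φ.IsEich e y a := ⟨h.he, (Φ.mem_hperp.1 hy).1, ha⟩
    have h3 := h.map (Φ.eich_mem _ _ _ h2)
    rw [eich_self, h.eich_f hy] at h3
    have := key _ h3
    rw [map_sub, map_sub, map_smul, ← hl, ← hm] at this
    linear_combination (norm := module) -this
  have hlm : l = m := by
    obtain ⟨y, a, hy, ha, ha0⟩ := hR e f h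
    have h1 := congrArg (fun x => Φ.B x f) (key2 y hy a ha)
    have h2 : Φ.B (g y) (g f) = 0 := by rw [hg.1, (Φ.mem_hperp.1 hy).2]
    have hm0 : m ≠ 0 := by
      rintro rfl
      exact h.f_ne (by simpa using hm.symm)
    rw [← hm, Φ.B_smul_right] at h2
    have h3 : Φ.B (g y) f = 0 := by simpa [hm0] using h2
    simpa [h3, (Φ.mem_hperp.1 hy).2, h.hef, ha0] using h1
  subst hlm
  refine ⟨l, fun v => ?_⟩
  obtain ⟨α, β, y, hy, rfl⟩ := h.decomp v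
  obtain ⟨a, ha⟩ := Φ.N_range y
  have := add_right_cancel (key2 y hy a ha)
  rw [map_add, map_add, map_smul, map_smul, ← hl, ← hm, this]
  module

theorem Rich0.mem_span_of_fix (hR : Φ.Rich0) (hΦ : Φ.Nondeg) {e v : V} (he : Φ.N e = 0) (hv : Φ.N v = 0)
    (he0 : e ≠ 0) (h : ∀ y a h, Φ.eich e y a h v = v) : v ∈ (F ∙ e) := by
  by_contra hc
  by_cases h1 : Φ.B e v = 0
  · obtain ⟨y, h2, h3⟩ := hΦ.exists_perp_one hc
    obtain ⟨a, ha⟩ := Φ.N_range y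
    have := h y a ⟨he, Φ.B_symm_zero (h2 e (Submodule.mem_span_singleton_self e)), ha⟩
    rw [Φ.eich_of_perp _ _ _ _ (Φ.B_symm_zero h1), h3] at this
    exact he0 (by simpa using this)
  · have hh := isHyp_of_ne he hv h1
    obtain ⟨y, a, hy, ha, ha0⟩ := hR _ _ hh
    have h2 := hh.eich_f hy (a := a) ⟨he, (Φ.mem_hperp.1 hy).1, ha⟩
    rw [map_smul, h] at h2
    have h3 := congrArg (fun x => Φ.B x (K.σ (Φ.B e v)⁻¹ • v)) h2
    simp only [map_sub, LinearMap.sub_apply, hh.Bff, (Φ.mem_hperp.1 hy).2, Φ.B_smul_left _ _ a,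
      hh.hef] at h3
    exact ha0 (by simpa using h3)

/-- an isometry commuting with all Eichler transformations is a scalar -/
theorem Rich0.scalar_of_comm (hR : Φ.Rich0) (hΦ : Φ.Nondeg) {e f : V} (h : Φ.IsHyp e f) {g : V ≃ₗ[F] V}
    (hg : g ∈ Φ.Isom) (hc : ∀ x ∈ Φ.E, x * g = g * x) : ∃ c : F, ∀ v, g v = c • v :=
  hR.scalar_of_fix h hg fun v hv => hR.mem_span_of_fix hΦ hv.2 (by rw [hg.2, hv.2]) hv.1 fun y a h' => by
    have := DFunLike.congr_fun (hc _ (Φ.eich_mem_E v y a h')) v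
    rwa [LinearEquiv.mul_apply, LinearEquiv.mul_apply, eich_self] at this

omit [FiniteDimensional F V] in
theorem comm_of_scalar {g : V ≃ₗ[F] V} {c : F} (h : ∀ v, g v = c • v) (x : V ≃ₗ[F] V) :
    x * g = g * x := by
  ext v; simp [h]

theorem Rich0.mem_center_iff (hR : Φ.Rich0) (hΦ : Φ.Nondeg) {e f : V} (h : Φ.IsHyp e f)
    {G : Subgroup (V ≃ₗ[F] V)} (h1 : Φ.E ≤ G) (h2 : G ≤ Φ.Isom) {g : G} :
    g ∈ Subgroup.center G ↔ ∃ c : F, ∀ v, g.1 v = c • v := by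
  rw [Subgroup.mem_center_iff]
  constructor
  · intro hc
    exact hR.scalar_of_comm hΦ h (h2 g.2) fun x hx => congrArg Subtype.val (hc ⟨x, h1 hx⟩)
  · rintro ⟨c, hc⟩ x
    exact Subtype.ext (comm_of_scalar hc _)

/-- a subgroup normalised by `E` is scalar or transitive on singular points -/
theorem Rich.trans_of_normal (hR : Φ.Rich) (hΦ : Φ.Nondeg) {e f : V} (h : Φ.IsHyp e f)
    {N : Subgroup (V ≃ₗ[F] V)} (hN : N ≤ Φ.Isom) (hn : ∀ g ∈ Φ.E, ∀ x ∈ N, g * x * g⁻¹ ∈ N) :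
    (∀ x ∈ N, ∃ c : F, ∀ v, x v = c • v) ∨
      ∀ u v, Φ.Sing u → Φ.Sing v → ∃ x ∈ N, ∃ c : F, c ≠ 0 ∧ x u = c • v := by
  by_cases h1 : ∀ x ∈ N, ∀ v, Φ.Sing v → x v ∈ (F ∙ v)
  · exact Or.inl fun x hx => hR.rich0.scalar_of_fix h (hN hx) (h1 x hx)
  right
  push Not at h1
  obtain ⟨x, hx, v, hv, h2⟩ := h1
  refine hR.prim hΦ (fun u v => ∃ x ∈ N, ∃ c : F, c ≠ 0 ∧ x u = c • v) ?_ ?_ ?_ ?_ hv (hv.map (hN hx))
    ⟨x, hx, 1, one_ne_zero, by simp⟩ h2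
  · rintro u v ⟨x, hx, c, hc, e⟩
    refine ⟨x⁻¹, N.inv_mem hx, c⁻¹, inv_ne_zero hc, ?_⟩
    rw [LinearEquiv.coe_inv, LinearEquiv.symm_apply_eq, map_smul, e, smul_smul, inv_mul_cancel₀ hc,
      one_smul]
  · rintro u v w ⟨x, hx, c, hc, e⟩ ⟨x', hx', c', hc', e'⟩
    exact ⟨x' * x, N.mul_mem hx' hx, c * c', mul_ne_zero hc hc', by simp [e, e', smul_smul]⟩
  · intro u c _ hc
    exact ⟨1, N.one_mem, c⁻¹, inv_ne_zero hc, by simp [smul_smul, hc]⟩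
  · rintro g hg u v ⟨x, hx, c, hc, e⟩
    exact ⟨_, hn g hg x hx, c, hc, by simp [LinearEquiv.coe_inv, e]⟩

theorem Rich.normal_E (hR : Φ.Rich) (hΦ : Φ.Nondeg) {e f : V} (h : Φ.IsHyp e f)
    (hp : commutator Φ.E = ⊤) (N : Subgroup Φ.E) (hN : N.Normal) :
    N ≤ Subgroup.center Φ.E ∨ N = ⊤ := by
  rcases hR.trans_of_normal hΦ h (N := N.map Φ.E.subtype)
    ((Subgroup.map_subtype_le _).trans Φ.E_le) (by
      rintro g hg _ ⟨x, hx, rfl⟩
      exact ⟨_, hN.conj_mem x hx ⟨g, hg⟩, rfl⟩) with h1 | h1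
  · exact Or.inl fun x hx => (hR.rich0.mem_center_iff hΦ h le_rfl Φ.E_le).2 (h1 _ ⟨x, hx, rfl⟩)
  right
  refine eq_top_of_metabelian_supp hp (U := (Φ.Ugrp e h.he).subgroupOf Φ.E)
    (Z := (Φ.Tgrp e h.he).subgroupOf Φ.E) ?_ ?_ ?_
  · apply Subgroup.map_injective Φ.E.subtype_injective
    rw [← MonoidHom.range_eq_map, Subgroup.range_subtype]
    refine le_antisymm (Subgroup.map_subtype_le _) (Φ.E_le_of fun e' y a h' he' => ?_)
    rw [Subgroup.map_sup, Subgroup.map_subgroupOf_eq_of_le (Φ.Ugrp_le_E _ _)]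
    obtain ⟨x, hx, c, hc, h2⟩ := h1 e' e ⟨he', h'.he⟩ h.sing_e
    have h3 := Φ.eich_conj (Φ.E_le (Subgroup.map_subtype_le _ hx)) h'
    rw [Φ.eich_congr' _ h2 rfl rfl, Φ.eich_smul _ hc] at h3
    have h4 : x⁻¹ * (x * Φ.eich e' y a h' * x⁻¹) * x ∈ N.map Φ.E.subtype ⊔ Φ.Ugrp e h.he :=
      mul_mem (mul_mem (inv_mem (Subgroup.mem_sup_left hx))
        (Subgroup.mem_sup_right ⟨_, _, _, h3⟩)) (Subgroup.mem_sup_left hx)
    simpa [mul_assoc] using h4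
  · rw [Subgroup.commutator_le]
    intro x hx y hy
    exact Φ.commutator_Ugrp e h.he (Subgroup.commutator_mem_commutator hx hy)
  · rw [eq_bot_iff, Subgroup.commutator_le]
    intro x hx y hy
    have := Subgroup.commutator_mem_commutator (Subgroup.mem_subgroupOf.1 hx) (Subgroup.mem_subgroupOf.1 hy)
    rw [commutator_Tgrp, Subgroup.mem_bot] at this
    exact Subgroup.mem_bot.2 (Subtype.ext this)

theorem Rich0.center_ne_top (hR : Φ.Rich0) (hΦ : Φ.Nondeg) {e f : V} (h : Φ.IsHyp e f)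
    {G : Subgroup (V ≃ₗ[F] V)} (h1 : Φ.E ≤ G) (h2 : G ≤ Φ.Isom) : Subgroup.center G ≠ ⊤ := by
  intro hc
  obtain ⟨y, a, hy, ha, ha0⟩ := hR _ _ h
  have h3 : Φ.IsEich e y a := ⟨h.he, (Φ.mem_hperp.1 hy).1, ha⟩
  obtain ⟨c, hc⟩ := (hR.mem_center_iff hΦ h h1 h2 (g := ⟨_, h1 (Φ.eich_mem_E _ _ _ h3)⟩)).1
    (hc ▸ Subgroup.mem_top _)
  have h4 := congrArg (fun x => Φ.B x f) (hc f)
  simp [h.eich_f hy, h.Bff, (Φ.mem_hperp.1 hy).2, h.hef, ha0] at h4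

theorem Rich.simple_E (hR : Φ.Rich) (hΦ : Φ.Nondeg) {e f : V} (h : Φ.IsHyp e f)
    (hp : commutator Φ.E = ⊤) : IsSimpleGroup (Φ.E ⧸ Subgroup.center Φ.E) :=
  isSimpleGroup_quot_center (hR.rich0.center_ne_top hΦ h le_rfl Φ.E_le) (hR.normal_E hΦ h hp)

/-! ### tools for perfectness -/

theorem E_le_of_hperp (hΦ : Φ.Nondeg) {N : Subgroup (V ≃ₗ[F] V)}
    (hT : ∀ e f, Φ.IsHyp e f → ∀ a h, Φ.eich e 0 a h ∈ N)
    (hY : ∀ e f, Φ.IsHyp e f → ∀ y ∈ Φ.hperp e f, ∃ a h, Φ.eich e y a h ∈ N) : Φ.E ≤ N := by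
  refine Φ.E_le_of fun e y a h he => ?_
  obtain ⟨f, hf⟩ := hΦ.exists_hyp he h.he
  obtain ⟨α, β, y', hy', rfl⟩ := hf.decomp y
  have h1 := h.hy
  rw [hf.B_e _ _ hy'] at h1
  have hβ : β = 0 := by simpa [K.ε_ne] using h1
  subst hβ
  obtain ⟨a', h', h2⟩ := hY e f hf y' hy'
  have h3 := h.add h'.neg
  have h4 := Φ.eich_mul h h'.neg
  rw [Φ.eich_congr h3 (y' := α • e) (by module) rfl] at h4
  obtain ⟨h5, h6⟩ := Φ.eich_smul_self (e := e) (c := α) (by convert h3 using 1; module)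
  rw [h6, ← Φ.eich_inv h'] at h4
  have := mul_mem (h4 ▸ hT e f hf _ h5) h2
  simpa using this

omit [FiniteDimensional F V] in
theorem IsHyp.exists_add_sing {u u' : V} (h : Φ.IsHyp u u') (x : V) :
    ∃ (α β : F), Φ.N (x - α • u - β • u') = 0 := by
  obtain ⟨α, β, y, hy, rfl⟩ := h.decomp x
  obtain ⟨a, ha⟩ := Φ.N_range y
  refine ⟨α + a, β - 1, ?_⟩
  rw [show α • u + β • u' + y - (α + a) • u - (β - 1) • u' = (-a) • u + (1 : F) • u' + y by module,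
    h.N_decomp _ _ hy]
  simp [ha]

omit [FiniteDimensional F V] in
theorem exists_eich_mem_of_sing {N : Subgroup (V ≃ₗ[F] V)} {e f u u' : V} (h' : Φ.IsHyp u u')
    (hu : u ∈ Φ.hperp e f) (hu' : u' ∈ Φ.hperp e f)
    (hY : ∀ y ∈ Φ.hperp e f, Φ.N y = 0 → ∃ a h, Φ.eich e y a h ∈ N) :
    ∀ y ∈ Φ.hperp e f, ∃ a h, Φ.eich e y a h ∈ N := by
  intro y hy
  obtain ⟨α, β, h1⟩ := h'.exists_add_sing y
  obtain ⟨a1, h1, m1⟩ := hY _ (sub_mem (sub_mem hy (Submodule.smul_mem _ α hu)) (Submodule.smul_mem _ β hu')) h1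
  obtain ⟨a2, h2, m2⟩ := hY _ (Submodule.smul_mem _ α hu) (by rw [Φ.N_smul, h'.he, mul_zero])
  obtain ⟨a3, h3, m3⟩ := hY _ (Submodule.smul_mem _ β hu') (by rw [Φ.N_smul, h'.hf, mul_zero])
  have := mul_mem (mul_mem m1 m2) m3
  rw [eich_mul, eich_mul, Φ.eich_congr _ (y' := y) (by module) rfl] at this
  exact ⟨_, _, this⟩

omit [FiniteDimensional F V] in
theorem commutator_eich {g : V ≃ₗ[F] V} (hg : g ∈ Φ.Isom) {e y : V} {a l : F} (h : Φ.IsEich e y a)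
    (he : g e = l • e) (hl : l ≠ 0) :
    ∃ h', ⁅g, Φ.eich e y a h⁆ = Φ.eich e (K.σ l • g y - y)
      (l * K.σ l * a + K.ε * K.σ a - l * Φ.B y (g y)) h' := by
  rw [commutatorElement_def, Φ.eich_conj hg, Φ.eich_congr' _ he rfl rfl, Φ.eich_smul _ hl, eich_inv,
    eich_mul]
  refine ⟨_, Φ.eich_congr _ (by abel) ?_⟩
  simp only [map_neg, LinearMap.neg_apply, Φ.B_smul_right, K.σσ]
  ring

omit [FiniteDimensional F V] in
theorem IsHyp.hperp_of {e f : V} {u u' : Φ.hperp e f} (h : (Φ.restrict (Φ.hperp e f)).IsHyp u u') :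
    Φ.IsHyp u u' := ⟨h.he, h.hf, h.hef⟩

/-- in dimension at least five with Witt index at least two, `E` is perfect -/
theorem E_le_commutator (hΦ : Φ.Nondeg) (h5 : 5 ≤ finrank F V)
    (h2 : ∀ e f, Φ.IsHyp e f → ∃ u u', (Φ.restrict (Φ.hperp e f)).IsHyp u u') :
    Φ.E ≤ ⁅Φ.E, Φ.E⁆ := by
  have key : ∀ e f, Φ.IsHyp e f → ∀ u ∈ Φ.hperp e f, Φ.N u = 0 → ∃ h, Φ.eich e u 0 h ∈ ⁅Φ.E, Φ.E⁆ := by
    intro e f h u hu hN
    by_cases hu0 : u = 0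
    · subst hu0
      exact ⟨IsEich.zero h.he, by rw [eich_zero]; exact one_mem _⟩
    have hW := h.nondeg_hperp hΦ
    obtain ⟨u', hh⟩ := hW.exists_hyp (e := ⟨u, hu⟩) (by simpa using hu0) hN
    have hW' := hh.nondeg_hperp hW
    have h3 := h.finrank_hperp
    have h4 := hh.finrank_hperp
    have : Nontrivial ((Φ.restrict (Φ.hperp e f)).hperp ⟨u, hu⟩ u') :=
      Module.nontrivial_of_finrank_pos (R := F) (by omega)
    obtain ⟨y, hy⟩ := exists_ne (0 : (Φ.restrict (Φ.hperp e f)).hperp ⟨u, hu⟩ u')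
    obtain ⟨x, -, hx⟩ := hW'.exists_perp_one (U := ⊥) (u := y) (by simpa using hy)
    have hx' : Φ.B y.1.1 x.1.1 = 1 := hx
    have hxu : Φ.B x.1.1 u = 0 := ((Form.mem_hperp _).1 x.2).1
    have hyu : Φ.B y.1.1 u = 0 := ((Form.mem_hperp _).1 y.2).1
    obtain ⟨a, ha⟩ := Φ.N_range y.1.1
    obtain ⟨b, hb⟩ := Φ.N_range x.1.1
    have e1 : Φ.IsEich e y.1.1 a := ⟨h.he, (Φ.mem_hperp.1 y.1.2).1, ha⟩
    have e2 : Φ.IsEich u x.1.1 b := ⟨hN, hxu, hb⟩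
    obtain ⟨h', h6⟩ := commutator_eich (Φ.eich_mem _ _ _ e2) e1 (l := 1) (by
      rw [Φ.eich_of_perp _ _ _ _ (Φ.B_symm_zero (Φ.mem_hperp.1 hu).1),
        Φ.B_symm_zero (Φ.mem_hperp.1 x.1.2).1]; simp) one_ne_zero
    have h7 := Subgroup.commutator_mem_commutator (Φ.eich_mem_E _ _ _ e2) (Φ.eich_mem_E _ _ _ e1)
    rw [h6, Φ.eich_congr h' (y' := u) (a' := 0)
      (by rw [Φ.eich_of_perp _ _ _ _ hyu, hx']; simp)
      (by rw [Φ.eich_of_perp _ _ _ _ hyu, hx']; simp [e1.Byy, hyu])] at h7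
    exact ⟨_, h7⟩
  refine E_le_of_hperp hΦ (fun e f h a ha => ?_) fun e f h => ?_
  · obtain ⟨u, u', hh⟩ := h2 e f h
    have hh := hh.hperp_of
    have hT : K.T a = 0 := by simpa using ha.ha
    obtain ⟨h1, m1⟩ := key e f h _ u'.2 hh.hf
    obtain ⟨h2, m2⟩ := key e f h _ (Submodule.smul_mem _ a u.2) (by rw [Φ.N_smul, hh.he, mul_zero])
    have hN : Φ.N (-(u'.1 + a • u.1)) = 0 := by
      rw [N_neg, add_comm, Φ.N_add, Φ.N_smul, hh.he, hh.hf, Φ.B_smul_left, hh.hef]; simp [hT]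
    obtain ⟨h3, m3⟩ := key e f h _ (neg_mem (add_mem u'.2 (Submodule.smul_mem _ a u.2))) hN
    have := mul_mem (mul_mem m1 m2) m3
    have h5 := Φ.B_self_of_N hN
    rw [map_neg (Φ.B _), neg_eq_zero] at h5
    rwa [eich_mul, eich_mul, Φ.eich_congr _ (y' := 0) (a' := a) (by abel)
      (by rw [h5, Φ.B_smul_left, hh.hef]; simp)] at this
  · obtain ⟨u, u', hh⟩ := h2 e f h
    exact exists_eich_mem_of_sing hh.hperp_of u.2 u'.2 fun y hy hN => ⟨0, key e f h y hy hN⟩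

omit [FiniteDimensional F V] in
theorem IsHyp.ext_eich {e f : V} (h : Φ.IsHyp e f) {u y : Φ.hperp e f} {a : F} (h') :
    h.ext ((Φ.restrict (Φ.hperp e f)).eich u y a h') = Φ.eich u y a ⟨h'.he, h'.hy, h'.ha⟩ := by
  ext x
  obtain ⟨α, β, z, hz, rfl⟩ := h.decomp x
  have hu := Φ.mem_hperp.1 u.2
  have hy := Φ.mem_hperp.1 y.2
  rw [map_add, map_add, map_smul, map_smul, h.ext_e, h.ext_f, h.ext_perp _ ⟨z, hz⟩]
  simp [eich_apply, Φ.B_symm_zero hu.1, Φ.B_symm_zero hu.2, Φ.B_symm_zero hy.1, Φ.B_symm_zero hy.2]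
  abel

omit [FiniteDimensional F V] in
theorem IsHyp.ext_mem_E {e f : V} (h : Φ.IsHyp e f) {g} (hg : g ∈ (Φ.restrict (Φ.hperp e f)).E) :
    h.ext g ∈ Φ.E := by
  have : (Φ.restrict (Φ.hperp e f)).E ≤ Φ.E.comap h.ext :=
    E_le_of _ fun u y a h' _ => by
      rw [Subgroup.mem_comap, h.ext_eich]; exact Φ.eich_mem_E _ _ _ _
  exact this hg

end Form

end Cfsg.Agent.Classical
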