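import Cfsg.Agent.Lib.Classical.Sub3

/-! Overgroups of unitary groups over a quadratic extension. -/

set_option autoImplicit false

namespace Cfsg.Agent.Classical

open Module

namespace Form

section
variable {F : Type*} [Field F] {K : Kind F} {V : Type*} [AddCommGroup V] [Module F V]
  {Φ : Form K V} {e : V} [FiniteDimensional F V]

theorem exists_sing_two (hΦ : Φ.Nondeg) (h3 : Φ.Sg3) (hn : 7 ≤ finrank F V) (a b : V) :
    ∃ v, Φ.Sing v ∧ Φ.B a v = 0 ∧ Φ.B b v = 0 ∧ v ∉ (F ∙ a) ⊔ F ∙ b := by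
  have := finrank_two_le (F := F) a b
  obtain ⟨v, v1, v2, v3⟩ := exists_sing_perp hΦ h3 (L := (F ∙ a) ⊔ F ∙ b) (L' := (F ∙ a) ⊔ F ∙ b) (by omega)
  exact ⟨v, v1, v2 _ (self_mem_sup _ _), v2 _ (mem_sup_self _ _), v3⟩

theorem sing_connect7 (hΦ : Φ.Nondeg) (h3 : Φ.Sg3) (hn : 7 ≤ finrank F V) {P : V → Prop}
    (hs : ∀ u v, Φ.Sing u → Φ.Sing v → Φ.B u v = 0 → v ∉ (F ∙ u) → P u → P v) (he : Φ.Sing e) (h : P e)
    {v : V} (hv : Φ.Sing v) : P v := by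
  obtain ⟨w, w1, w2, w3, w5⟩ := exists_sing_two hΦ h3 hn e v
  exact hs w v w1 hv (Φ.B_symm_zero w3) (notMem_span_of hv.1 (mem_sup_self _ _) w5)
    (hs e w he w1 w2 (fun k => w5 (Submodule.mem_sup_left k)) h)

end

variable {F L : Type*} [Field F] [Field L] [Algebra F L] {V : Type*} [AddCommGroup V] [Module F V] [Module L V]
  [IsScalarTower F L V] {K : Kind F} {τ : L →+* L} {hτ : ∀ a, τ (τ a) = a}

variable (F) in
/-- restriction of scalars -/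
def rsc : (V ≃ₗ[L] V) →* (V ≃ₗ[F] V) where
  toFun g := g.restrictScalars F
  map_one' := rfl
  map_mul' _ _ := rfl

@[simp] theorem rsc_apply (g : V ≃ₗ[L] V) (v : V) : rsc F g v = g v := rfl

/-- quadratic extensions with their involution -/
structure QF2 (F : Type*) [Field F] [Algebra F L] (τ : L →+* L) (θ : L) : Prop where
  fix : ∀ a : F, τ (algebraMap F L a) = algebraMap F L a
  ne : τ θ ≠ θ
  gen : ∀ c : L, ∃ a b : F, c = algebraMap F L a + algebraMap F L b * θ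

namespace QF2
variable {θ : L} (h : QF2 F τ θ)
include h

theorem ne_id : τ ≠ RingHom.id L := fun k => h.ne (by rw [k]; rfl)

theorem sq : ∃ a b : F, algebraMap F L b = θ + τ θ ∧ algebraMap F L a = -(θ * τ θ) := by
  obtain ⟨a, b, k⟩ := h.gen (θ * θ)
  have k' := congrArg τ k
  rw [map_add, map_mul, map_mul, h.fix, h.fix] at k'
  have : algebraMap F L b = θ + τ θ := mul_left_cancel₀ (sub_ne_zero.2 h.ne) (by linear_combination k - k')
  exact ⟨a, b, this, by linear_combination -k - θ * this⟩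

theorem lin {W : Type*} [AddCommGroup W] [Module F W] [Module L W] [IsScalarTower F L W] {f : V →ₗ[F] W}
    (k : ∀ v, f (θ • v) = θ • f v) (c : L) (v : V) : f (c • v) = c • f v := by
  obtain ⟨a, b, rfl⟩ := h.gen c
  simp only [add_smul, mul_smul, algebraMap_smul, map_add, map_smul, k]

theorem exists_split (f : V →ₗ[F] L) : ∃ f₁ f₂ : V →ₗ[L] L, ∀ x, f x = f₁ x + τ (f₂ x) ∨ ¬ ∀ a, τ (τ a) = a := by
  by_cases hτ : ∀ a, τ (τ a) = a
  swap
  · exact ⟨0, 0, fun _ => Or.inr hτ⟩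
  obtain ⟨a, b, h1, h2⟩ := h.sq
  have h0 := sub_ne_zero.2 h.ne.symm
  have k : ∀ g : V →ₗ[F] L, ∃ g₁ : V →ₗ[L] L, ∀ x, g₁ x = (g (θ • x) - τ θ * g x) / (θ - τ θ) := fun g => by
    let g' : V →ₗ[F] L := (θ - τ θ)⁻¹ • (g ∘ₗ (LinearMap.lsmul L V θ).restrictScalars F - τ θ • g)
    have e : ∀ x, g' x = (g (θ • x) - τ θ * g x) / (θ - τ θ) := fun x => by simp [g', div_eq_inv_mul]
    refine ⟨⟨g', h.lin (f := g') fun v => ?_⟩, e⟩
    have : θ • θ • v = a • v + b • θ • v := by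
      rw [← algebraMap_smul L a, ← algebraMap_smul L b, h1, h2]; module
    rw [e, e, this, map_add, map_smul, map_smul, Algebra.smul_def, Algebra.smul_def, h1, h2, smul_eq_mul]
    field_simp; ring
  obtain ⟨f₁, k1⟩ := k f
  obtain ⟨f₂, k2⟩ := k
    { toFun := fun x => τ (f x)
      map_add' := by simp
      map_smul' := fun c x => by simp [Algebra.smul_def, h.fix] }
  refine ⟨f₁, f₂, fun x => Or.inl ?_⟩
  have h0' := sub_ne_zero.2 h.ne
  simp only [k1, k2, LinearMap.coe_mk, AddHom.coe_mk, map_div₀, map_sub, map_mul, hτ]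
  field_simp; ring

end QF2

/-- `Φ` is the trace of the hermitian form `Ψ` -/
structure QE (Φ : Form K V) (Ψ : Form (Kind.unit τ hτ) V) (ζ θ : L) : Prop extends QF2 F τ θ where
  B : ∀ u v, algebraMap F L (Φ.B u v) = ζ * Ψ.B u v + τ (ζ * Ψ.B u v)
  ζ0 : ζ ≠ 0
  N : ∀ v, Ψ.N v = 0 → Φ.N v = 0
  nd : Ψ.Nondeg
  dim : 7 ≤ finrank L V
  E : ∀ g ∈ Ψ.E, rsc F g ∈ Φ.E

variable {Φ : Form K V} {Ψ : Form (Kind.unit τ hτ) V} {ζ θ : L} {H : Subgroup (V ≃ₗ[F] V)}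

/-- antilinear root elements -/
def An (Ψ : Form (Kind.unit τ hτ) V) (H : Subgroup (V ≃ₗ[F] V)) (e y : V) : Prop :=
  Ψ.B y e = 0 ∧ ∃ w ∈ H, ∀ x, Ψ.B x e = 0 → w x = x + Ψ.B y x • e

omit [Algebra F L] [IsScalarTower F L V] in
theorem An.add {e y y' : V} (he : Ψ.N e = 0) (h : Ψ.An H e y) (h' : Ψ.An H e y') : Ψ.An H e (y + y') := by
  obtain ⟨a, w, hw, b⟩ := h
  obtain ⟨a', w', hw', b'⟩ := h'
  have := Ψ.B_self_of_N he
  refine ⟨by simp [a, a'], _, H.mul_mem hw hw', fun x hx => ?_⟩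
  rw [LinearEquiv.mul_apply, b' x hx, b _ (by simp [hx, this])]
  simp [a, add_smul]; abel

omit [Algebra F L] [IsScalarTower F L V] in
theorem An.neg {e y : V} (he : Ψ.N e = 0) (h : Ψ.An H e y) : Ψ.An H e (-y) := by
  obtain ⟨a, w, hw, b⟩ := h
  have := Ψ.B_self_of_N he
  refine ⟨by simp [a], _, H.inv_mem hw, fun x hx => w.injective ?_⟩
  rw [b (x + _) (by simp [hx, this])]
  simp [a]

omit [Algebra F L] [IsScalarTower F L V] in
theorem An.self {e : V} (he : Ψ.N e = 0) (c : L) : Ψ.An H e (c • e) :=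
  ⟨by simp [Ψ.B_self_of_N he], 1, H.one_mem, fun x hx => by simp [Ψ.B_symm_zero hx]⟩

theorem An.map {e y : V} (h : Ψ.An H e y) {g : V ≃ₗ[L] V} (hg : g ∈ Ψ.Isom) (hg' : rsc F g ∈ H) :
    Ψ.An H (g e) (g y) := by
  obtain ⟨a, w, hw, b⟩ := h
  refine ⟨by rw [hg.1, a], _, H.mul_mem (H.mul_mem hg' hw) (H.inv_mem hg'), fun x hx => ?_⟩
  obtain ⟨x, rfl⟩ := g.surjective x
  rw [hg.1] at hx
  have : (rsc F g)⁻¹ (g x) = x := (rsc F g).symm_apply_apply x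
  rw [LinearEquiv.mul_apply, LinearEquiv.mul_apply, this, b x hx, rsc_apply, map_add, map_smul, hg.1]

omit [Algebra F L] [IsScalarTower F L V] in
theorem An.of_smul {e y : V} {c : L} (h : Ψ.An H (c • e) y) (hc : c ≠ 0) : Ψ.An H e (c • y) := by
  obtain ⟨a, w, hw, b⟩ := h
  refine ⟨by simpa [hc] using a, w, hw, fun x hx => ?_⟩
  rw [b x (by simp [hx]), Ψ.B_smul_left, smul_smul, mul_comm]

namespace QE
variable (h : QE Φ Ψ ζ θ)
include h

theorem B0 {u v : V} (k : Ψ.B u v = 0) : Φ.B u v = 0 :=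
  (algebraMap F L).injective (by rw [h.B, k]; simp)

theorem perp {u v : V} (k : ∀ c : L, Φ.B (c • u) v = 0) : Ψ.B u v = 0 := by
  by_contra k0
  have e : ∀ c : L, c + τ c = 0 := fun c => by
    have := h.B ((c / (ζ * Ψ.B u v)) • u) v
    rwa [k, map_zero, Ψ.B_smul_left, mul_left_comm, div_mul_cancel₀ _ (mul_ne_zero h.ζ0 k0), eq_comm] at this
  have e1 := e 1
  rw [map_one] at e1
  exact h.ne (by linear_combination e θ - θ * e1)

theorem perp2 {u v : V} (k : Φ.B u v = 0) (k' : Φ.B (θ • u) v = 0) : Ψ.B u v = 0 := h.perp fun c => by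
  obtain ⟨a, b, rfl⟩ := h.gen c
  simp [add_smul, mul_smul, k, k']

theorem adj (c : L) (u v : V) : Φ.B (c • u) v = Φ.B u (τ c • v) :=
  (algebraMap F L).injective (by rw [h.B, h.B, Ψ.B_smul_left, Ψ.B_smul_right, Kind.unit_σ, hτ])

theorem ndΦ : Φ.Nondeg := fun v hv => h.nd v fun u => h.perp fun _ => hv _

variable [Finite L] [FiniteDimensional L V]

theorem sg : Ψ.Sg3 := unit_sg3 h.ne_id Ψ

theorem exists_B_one {e f : V} (k : f ∉ L ∙ e) : ∃ y, Ψ.B y e = 0 ∧ Φ.B y f = 1 := by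
  obtain ⟨z, z1, z2⟩ := h.nd.exists_perp_one k
  obtain ⟨c, hc⟩ : ∃ c : L, Φ.B (c • z) f ≠ 0 := by
    by_contra k1
    push Not at k1
    simpa [z2] using Ψ.B_symm_zero (h.perp k1)
  refine ⟨(Φ.B (c • z) f)⁻¹ • c • z, ?_, by rw [Φ.B_smul_left, inv_mul_cancel₀ hc]⟩
  rw [← algebraMap_smul L, Ψ.B_smul_left, Ψ.B_smul_left, Ψ.B_symm_zero (z1 e (Submodule.mem_span_singleton_self e))]
  simp

variable (h2 : H ≤ Φ.E) (hH : ∀ g ∈ Φ.E, (∀ v, g (θ • v) = θ • g v) → g ∈ H)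
include hH

omit [Finite L] [FiniteDimensional L V] in
theorem rsc_mem {g : V ≃ₗ[L] V} (hg : g ∈ Ψ.E) : rsc F g ∈ H := hH _ (h.E g hg) fun v => map_smul g θ v

theorem an_all {e y : V} (he : Ψ.Sing e) (h1 : Ψ.An H e y) (hy : y ∉ L ∙ e) {e' y' : V} (he' : Ψ.Sing e')
    (hy' : Ψ.B y' e' = 0) : Ψ.An H e' y' := by
  have hn := h.dim
  obtain ⟨v, v1, v2, v3, v4⟩ := exists_sing_two h.nd h.sg hn e y
  let A : Submodule L V :=
    { carrier := {y | ∀ c : L, Ψ.An H e (c • y)}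
      zero_mem' := fun c => by simpa using An.self he.2 0
      add_mem' := fun {a b} ha hb c => smul_add c a b ▸ (ha c).add he.2 (hb c)
      smul_mem' := fun a x hx c => smul_smul c a x ▸ hx _ }
  have eA : e ∈ A := An.self he.2
  have vA : v ∈ A := fun c => by
    obtain ⟨z, z1, z2⟩ := h.nd.exists_perp_one (notMem_swap hy v4)
    obtain ⟨a, ha⟩ := Ψ.N_range (τ c • z)
    have k : Ψ.IsEich v (τ c • z) a := ⟨v1.2, by simp [Ψ.B_symm_zero (z1 v (mem_sup_self _ _))], ha⟩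
    have := h1.map (Ψ.eich_mem _ _ _ k) (h.rsc_mem hH (Ψ.eich_mem_E _ _ _ k))
    rw [eich_fix k v2 (by simp [z1 e (self_mem_sup _ _)]), Ψ.eich_of_perp _ _ _ _ v3, Ψ.B_smul_right, z2,
      Kind.unit_σ, hτ, mul_one] at this
    simpa using this.add he.2 (h1.neg he.2)
  obtain ⟨f, hf⟩ := h.nd.exists_hyp he.1 he.2
  have := hf.finrank_hperp
  obtain ⟨u, u', hu⟩ := unit_exists_hyp h.ne_id (hf.nondeg_hperp h.nd) (by omega)
  have k : ∀ x, Ψ.B x e = 0 → x - Ψ.B x f • e ∈ Ψ.hperp e f := fun x hx => by simpa [hx] using hf.proj_mem x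
  have hA : A.comap (Ψ.hperp e f).subtype = ⊤ := ((unit_rich h.ne_id _).rich0.irred (hf.nondeg_hperp h.nd) hu
    (W := A.comap (Ψ.hperp e f).subtype) fun g hg w hw c => by
      have := (hw c).map (Ψ.E_le (hf.ext_mem_E hg)) (h.rsc_mem hH (hf.ext_mem_E hg))
      rwa [hf.ext_e, map_smul, Submodule.subtype_apply, hf.ext_perp] at this).resolve_left fun k1 => by
    have : (⟨_, k v (Ψ.B_symm_zero v2)⟩ : Ψ.hperp e f) ∈ A.comap (Ψ.hperp e f).subtype :=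
      sub_mem vA (A.smul_mem _ eA)
    rw [k1, Submodule.mem_bot, Submodule.mk_eq_zero, sub_eq_zero] at this
    exact v4 (this ▸ Submodule.smul_mem _ _ (self_mem_sup _ _))
  obtain ⟨g, hg, c, c0, hc⟩ := (unit_rich h.ne_id Ψ).rich0.trans h.nd he he'
  have k1 : Ψ.B (g.symm (c⁻¹ • y')) e = 0 := by rw [← Isom_B_right (Ψ.E_le hg), hc]; simp [hy']
  have k2 : g.symm (c⁻¹ • y') ∈ A := by
    simpa using add_mem (show _ ∈ A from (hA ▸ trivial : (⟨_, k _ k1⟩ : Ψ.hperp e f) ∈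
      A.comap (Ψ.hperp e f).subtype)) (A.smul_mem (Ψ.B (g.symm (c⁻¹ • y')) f) eA)
  have := (k2 1).map (Ψ.E_le hg) (h.rsc_mem hH hg)
  rw [hc, one_smul, LinearEquiv.apply_symm_apply] at this
  simpa [smul_smul, c0] using this.of_smul c0

include h2

theorem an_of_small {s : V ≃ₗ[F] V} (hs : s ∈ H) {X : Submodule L V} (hX : finrank L X ≤ 2)
    (h1 : ∀ x ∈ Ψ.perp X, s x = x) (h3 : ¬ ∀ v, s (θ • v) = θ • s v) :
    ∃ e y, Ψ.Sing e ∧ y ∉ L ∙ e ∧ Ψ.An H e y := by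
  obtain ⟨x, hx⟩ : ∃ x, s.symm (θ • x) - θ • s.symm x ≠ 0 := by
    by_contra k
    push Not at k
    exact h3 fun v => s.symm.injective (by rw [sub_eq_zero.1 (k _)]; simp)
  have := h.dim
  have := finrank_sup_one_le X x
  have := finrank_span_one_le (F := L) (s.symm (θ • x) - θ • s.symm x)
  obtain ⟨e, e1, e2, e3⟩ := exists_sing_perp h.nd h.sg (L := X ⊔ L ∙ x)
    (L' := L ∙ (s.symm (θ • x) - θ • s.symm x)) (by omega)
  obtain ⟨y, y1, y2⟩ := h.nd.exists_perp_one (notMem_span_of hx (Submodule.mem_span_singleton_self _) e3)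
  have y3 := y1 e (Submodule.mem_span_singleton_self e)
  have e4 : ∀ c : L, s (c • e) = c • e := fun c =>
    h1 _ (Submodule.smul_mem _ _ (Ψ.mem_perp'.2 fun u hu => e2 u (Submodule.mem_sup_left hu)))
  obtain ⟨f₁, f₂, hf⟩ := h.toQF2.exists_split ((Ψ.B.flip y).restrictScalars F ∘ₗ (s.symm : V →ₗ[F] V))
  obtain ⟨y₁, k1⟩ := h.nd.exists_repr f₁
  obtain ⟨y₂, k2⟩ := h.nd.exists_repr f₂
  have k3 : ∀ x, Ψ.B (s.symm x) y = Ψ.B x y₁ + Ψ.B y₂ x := fun x => by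
    rw [Ψ.symm x y₂, k1, k2]; simpa using (hf x).resolve_right (not_not.2 hτ)
  have k4 : ∀ c : L, c * Ψ.B e y₁ + τ c * Ψ.B y₂ e = 0 := fun c => by
    have := k3 (c • e)
    rw [← e4, s.symm_apply_apply, e4] at this
    simpa [y3] using this.symm
  have k5 : Ψ.B y₂ e = 0 := mul_left_cancel₀ (sub_ne_zero.2 h.ne) (by
    have := k4 1
    rw [map_one] at this
    linear_combination k4 θ - θ * this)
  have k6 : Ψ.B e y₁ = 0 := by simpa [k5] using k4 1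
  obtain ⟨a, ha⟩ := Ψ.N_range y
  obtain ⟨b, hb⟩ := Ψ.N_range (-y₁)
  have q1 : Ψ.IsEich e y a := ⟨e1.2, Ψ.B_symm_zero y3, ha⟩
  have q2 : Ψ.IsEich e (-y₁) b := ⟨e1.2, by simp [Ψ.B_symm_zero k6], hb⟩
  have x0 := e2 x (mem_sup_self _ _)
  refine ⟨e, y₂, e1, fun k => ?_, k5, _, H.mul_mem (H.mul_mem (H.mul_mem hs (h.rsc_mem hH (Ψ.eich_mem_E _ _ _ q1)))
    (H.inv_mem hs)) (h.rsc_mem hH (Ψ.eich_mem_E _ _ _ q2)), fun z hz => ?_⟩
  · obtain ⟨c, rfl⟩ := Submodule.mem_span_singleton.1 k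
    simp [k3, Ψ.B_symm_zero x0] at y2
  have q3 : ∀ z, Ψ.B z e = 0 → Ψ.B (s.symm z) e = 0 := fun z hz => Ψ.B_symm_zero (h.perp fun c => by
    rw [← Isom_B_left (Φ.E_le (h2 hs)), e4]
    exact h.B0 (by simp [Ψ.B_symm_zero hz]))
  have q4 : Ψ.B (z + Ψ.B z (-y₁) • e) e = 0 := by simp [hz, Ψ.B_self_of_N e1.2]
  simp only [LinearEquiv.mul_apply, rsc_apply, LinearEquiv.coe_inv]
  rw [Ψ.eich_of_perp _ _ _ q2 hz, Ψ.eich_of_perp _ _ _ _ (q3 _ q4), map_add s, e4, s.apply_symm_apply, k3]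
  simp [k5, k6, add_smul]

theorem exists_w (hA : ∀ e y, Ψ.Sing e → Ψ.B y e = 0 → Ψ.An H e y) {e y : V} (he : Ψ.Sing e)
    (hy : Ψ.B y e = 0) : ∃ a k, ∃ z ∈ Φ.E, Φ.eich e y a k * z ∈ H ∧ (∀ x, Ψ.B x e = 0 → z x = x) ∧
      ∀ x, z x - x ∈ L ∙ e := by
  obtain ⟨-, w, hw, k1⟩ := hA e (τ ζ • y) he (by simp [hy])
  obtain ⟨b, hb⟩ := Ψ.N_range (τ ζ • y)
  have q : Ψ.IsEich e (τ ζ • y) b := ⟨he.2, by simp [hy], hb⟩
  obtain ⟨a, ha⟩ := Φ.N_range y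
  have q' : Φ.IsEich e y a := ⟨h.N _ he.2, h.B0 hy, ha⟩
  have k2 := H.mul_mem hw (h.rsc_mem hH (Ψ.eich_mem_E _ _ _ q))
  have k3 := Φ.E.mul_mem (Φ.E.inv_mem (Φ.eich_mem_E _ _ _ q')) (h2 k2)
  have k4 : ∀ x, Ψ.B x e = 0 → ((Φ.eich e y a q')⁻¹ * (w * rsc F (Ψ.eich e (τ ζ • y) b q))) x = x := fun x hx => by
    rw [LinearEquiv.mul_apply, LinearEquiv.coe_inv, LinearEquiv.symm_apply_eq, LinearEquiv.mul_apply, rsc_apply,
      Ψ.eich_of_perp _ _ _ _ hx, k1 _ (by simp [hx, Ψ.B_self_of_N he.2]), Φ.eich_of_perp _ _ _ _ (h.B0 hx),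
      ← algebraMap_smul L (Φ.B x y), h.B]
    simp [hy, hτ, add_smul, add_assoc, Ψ.symm x y]
  refine ⟨a, q', _, k3, by simpa using k2, k4, fun x => h.nd.perp_perp (L ∙ e) ▸ Ψ.mem_perp'.2 fun u hu =>
    h.perp fun c => ?_⟩
  have := (Φ.E_le k3).1 (c • u) x
  rw [k4 _ (by simp [Ψ.mem_perp_singleton.1 hu])] at this
  rw [map_sub, this, sub_self]

omit hH h2 in
theorem maxP {M : Subgroup (V ≃ₗ[F] V)} (hM : ∀ g (c : L), (∀ v, g (θ • v) = c • g v) → g ∈ M)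
    (hE : ∀ H ≤ Φ.E, (∀ g ∈ Φ.E, (∀ v, g (θ • v) = θ • g v) → g ∈ H) →
      (∀ e y, Ψ.Sing e → Ψ.B y e = 0 → Ψ.An H e y) → Φ.E ≤ H) : MaxP Φ.E M := fun H h1 h2 g hg hg' => by
  have hH : ∀ g ∈ Φ.E, (∀ v, g (θ • v) = θ • g v) → g ∈ H := fun g a b => h1 ⟨hM g θ b, a⟩
  by_contra h3
  have h0 := sub_ne_zero.2 h.ne
  have k : ∀ e, Ψ.Sing e → ∃ c : L, g.symm (θ • g e) = c • e := fun e he => by
    have q : Ψ.IsEich e 0 (τ θ - θ) := ⟨he.2, by simp, by simp [hτ]⟩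
    have q1 : ∀ x, (g * rsc F (Ψ.eich e 0 _ q) * g⁻¹) (g x) = g (x - ((τ θ - θ) * Ψ.B x e) • e) := fun x => by
      simp [eich_apply]
    have q2 : ∀ v, (g * rsc F (Ψ.eich e 0 _ q) * g⁻¹) (θ • v) = θ • (g * rsc F (Ψ.eich e 0 _ q) * g⁻¹) v := by
      by_contra q3
      obtain ⟨e', y, a, b, c⟩ := h.an_of_small h2 hH (H.mul_mem (H.mul_mem hg (h.rsc_mem hH
        (Ψ.eich_mem_E _ _ _ q))) (H.inv_mem hg)) (finrank_two_le (g e) (g (θ • e))) (fun x hx => by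
          obtain ⟨x, rfl⟩ := g.surjective x
          have a := (Φ.E_le (h2 hg)).1 e x ▸ h.B0 (Ψ.B_symm_zero (hx _ (self_mem_sup _ _)))
          have b := (Φ.E_le (h2 hg)).1 (θ • e) x ▸ h.B0 (Ψ.B_symm_zero (hx _ (mem_sup_self _ _)))
          rw [q1, Ψ.B_symm_zero (h.perp2 a b)]; simp) q3
      exact h3 (hE H h2 hH fun _ _ => h.an_all hH a c b)
    obtain ⟨f, hf⟩ := h.nd.exists_hyp he.1 he.2
    have q3 := q2 (g ((τ θ - θ)⁻¹ • f))
    rw [← g.apply_symm_apply (θ • _), q1, q1, Ψ.B_smul_left, hf.Bfe, Kind.unit_ε, mul_one, mul_inv_cancel₀ h0,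
      one_smul, map_sub, map_sub, g.apply_symm_apply, smul_sub, sub_right_inj] at q3
    exact ⟨_, by rw [← q3, g.symm_apply_apply]⟩
  obtain ⟨e, he, -⟩ := exists_sing_two h.nd h.sg h.dim 0 0
  obtain ⟨c, hc⟩ := k e he
  have k1 : ∀ v, Ψ.N v = 0 → g.symm (θ • g v) = c • v := fun v hv => by
    rcases eq_or_ne v 0 with rfl | h0
    · simp
    refine sing_connect7 (P := fun v => g.symm (θ • g v) = c • v) h.nd h.sg h.dim (fun u v a b d e f => ?_) he hc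
      ⟨h0, hv⟩
    obtain ⟨c', k1⟩ := k v b
    obtain ⟨c'', k2⟩ := k (u + v) ⟨fun k => e (by rw [← neg_eq_iff_add_eq_zero] at k; simp [← k]), by
      rw [Ψ.N_add_of_orth d, a.2, b.2, add_zero]⟩
    rw [map_add, smul_add, map_add, f, k1] at k2
    obtain ⟨φ, p1, p2⟩ := exists_dual_one e
    obtain ⟨ψ, p3, p4⟩ := exists_dual_one (notMem_span_of a.1 (Submodule.mem_span_singleton_self _) e)
    have k3 := congrArg φ k2
    have k4 := congrArg ψ k2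
    simp [p1 u (Submodule.mem_span_singleton_self _), p2, p3 v (Submodule.mem_span_singleton_self _), p4] at k3 k4
    rw [k1, k3, k4]
  obtain ⟨f, hf⟩ := h.nd.exists_hyp he.1 he.2
  refine hg' (M.inv_mem_iff.1 (hM _ c fun v => ?_))
  obtain ⟨v, rfl⟩ := g.surjective v
  obtain ⟨α, β, k2⟩ := hf.exists_add_sing v
  have k3 := k1 _ k2
  have k4 := k1 (α • e) (by simp [N_smul, hf.he])
  have k5 := k1 (β • f) (by simp [N_smul, hf.hf])
  simp only [map_sub, smul_sub, k4, k5, sub_left_inj] at k3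
  simpa using k3

end QE

end Form

end Cfsg.Agent.Classical
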