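import Cfsg.Agent.Lib.Classical.Ext1
import Cfsg.Agent.Lib.Classical.Max6

/-! Maximality of the unitary field extension subgroups. -/

set_option autoImplicit false

namespace Cfsg.Agent.Classical

open Module
open scoped commutatorElement

theorem comm_mul_eq {G : Type*} [Group G] {u u' z z' : G} (h1 : Commute z u') (h2 : Commute z' u) (h3 : Commute z z') :
    ⁅u * z, u' * z'⁆ = ⁅u, u'⁆ := by
  have : u * z * (u' * z') * (u * z)⁻¹ = u * u' * u⁻¹ * z' := by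
    rw [mul_assoc u, (h1.mul_right h3).eq, mul_inv_rev, mul_assoc, mul_assoc, mul_inv_cancel_left, mul_assoc,
      (h2.inv_right).eq]
    simp only [mul_assoc]
  rw [commutatorElement_def, this, commutatorElement_def]; group

namespace Form

variable {F L : Type*} [Field F] [Field L] [Algebra F L] {V : Type*} [AddCommGroup V] [Module F V] [Module L V]
  [IsScalarTower F L V] {τ : L →+* L} {hτ : ∀ a, τ (τ a) = a} {Ψ : Form (Kind.unit τ hτ) V} {ζ θ : L}
  {H : Subgroup (V ≃ₗ[F] V)} [Finite L] [FiniteDimensional L V] [FiniteDimensional F V]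

theorem QE.orth_le {Φ : Form (Kind.orth F) V} (h : QE Φ Ψ ζ θ) (hR : Φ.Rich0) (h2 : H ≤ Φ.E)
    (hH : ∀ g ∈ Φ.E, (∀ v, g (θ • v) = θ • g v) → g ∈ H)
    (hA : ∀ e y, Ψ.Sing e → Ψ.B y e = 0 → Ψ.An H e y) : Φ.E ≤ H := by
  have k1 : ∀ e y, Ψ.Sing e → Ψ.B y e = 0 → Φ.InA H e y := fun e y he hy => by
    obtain ⟨a, k, z, z1, z2, z3, z4⟩ := h.exists_w h2 hH hA he hy
    refine ⟨a, k, (H.mul_mem_cancel_right (hH z z1 fun x => ?_)).1 z2⟩
    by_cases hx : Ψ.B x e = 0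
    · rw [z3 x hx, z3 _ (by simp [hx])]
    have s : ∀ u v, Φ.B v u = Φ.B u v := fun u v => by simpa using Φ.symm u v
    have n : ∀ u ∈ L ∙ e, Ψ.N u = 0 := fun u hu => by
      obtain ⟨c, rfl⟩ := Submodule.mem_span_singleton.1 hu
      simp [N_smul, he.2]
    have q1 : ∀ x, Φ.B x (z x - x) = 0 := fun x => by
      have := Φ.N_add x (z x - x)
      rw [add_sub_cancel, (Φ.E_le z1).2, h.N _ (n _ (z4 x))] at this
      simpa using this
    have q2 : ∀ x y, Φ.B x (z y - y) = -Φ.B y (z x - x) := fun x y => by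
      have := q1 (x + y)
      rw [map_add z, add_sub_add_comm] at this
      simp only [map_add, LinearMap.add_apply, q1] at this
      linear_combination this
    obtain ⟨α, β, r1, r2⟩ := h.sq
    obtain ⟨c, hc⟩ := Submodule.mem_span_singleton.1 (sub_mem (z4 (θ • x)) (Submodule.smul_mem _ θ (z4 x)))
    have r3 : ∀ c u v, Φ.B u (c • v) = Φ.B (τ c • u) v := fun c u v => by rw [h.adj, hτ]
    have r4 : τ θ • x = β • x - θ • x := by rw [← algebraMap_smul L β, r1]; module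
    have r5 : τ θ • θ • x = -(α • x) := by rw [← algebraMap_smul L α, r2]; module
    have := h.perp2 (u := x) (v := c • e) (by rw [hc, map_sub, r3, r4, q2]; simp [q1])
      (by rw [hc, map_sub, r3, r5, q1]; simp [q1])
    rw [show c = 0 by simpa [hx] using this, zero_smul, eq_comm, smul_sub, sub_sub_sub_cancel_right] at hc
    exact sub_eq_zero.1 hc
  have k2 : ∀ e, Ψ.Sing e → Φ.Full H e := fun e he => full_of (orth_inT H e) fun y hy => by
    obtain ⟨f, f1, f2, f3, f4⟩ := exists_sing_two h.nd h.sg h.dim e y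
    obtain ⟨x, x1, x2⟩ := h.exists_B_one fun k => f4 (Submodule.mem_sup_left k)
    obtain ⟨a, k, k'⟩ := k1 f y f1 f3
    have := ((k1 e x he x1).add (k1 e ((Φ.B x y - a) • f) he (by
      rw [← algebraMap_smul L]; simp [Ψ.B_symm_zero f2]))).sub ((k1 e x he x1).fix k' (Φ.eich_mem _ _ _ _)
      (eich_fix _ (h.B0 f2) (Φ.B_symm_zero hy)))
    convert this using 1
    simp only [eich_apply, x2, Kind.orth_ε]; module
  obtain ⟨e, he, -⟩ := exists_sing_two h.nd h.sg h.dim 0 0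
  obtain ⟨f, hf⟩ := h.nd.exists_hyp he.1 he.2
  obtain ⟨c, hc⟩ : ∃ c : L, Φ.B (c • e) f ≠ 0 := by
    by_contra k
    push Not at k
    simpa [hf.hef] using h.perp k
  have := he.smul (c := c) (by rintro rfl; simp at hc)
  exact E_le_of_full h.ndΦ hR (h.N _ this.2) (h.N _ hf.hf) (k2 _ this) (k2 _ hf.sing_f) hc

theorem QE.symp_le {Φ : Form (Kind.symp F) V} (h : QE Φ Ψ ζ θ) (h0 : (2 : F) ≠ 0) (hζ : τ ζ = -ζ) (h2 : H ≤ Φ.E)
    (hH : ∀ g ∈ Φ.E, (∀ v, g (θ • v) = θ • g v) → g ∈ H)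
    (hA : ∀ e y, Ψ.Sing e → Ψ.B y e = 0 → Ψ.An H e y) : Φ.E ≤ H := by
  have k1 : ∀ e, Ψ.N e = 0 → Φ.InT H e := fun e he' a ha => by
    rcases eq_or_ne e 0 with rfl | he
    · convert H.one_mem; ext; simp [eich_apply]
    replace he : Ψ.Sing e := ⟨he, he'⟩
    obtain ⟨y, -, y1, -, y2⟩ := exists_sing_two h.nd h.sg h.dim e e
    obtain ⟨x, x1, x2⟩ := h.exists_B_one fun k => y2 (Submodule.mem_sup_left k)
    obtain ⟨b, k, z, z1, z2, z3, z4⟩ := h.exists_w h2 hH hA he (Ψ.B_symm_zero y1)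
    obtain ⟨b', k', z', z1', z2', z3', z4'⟩ := h.exists_w h2 hH hA he (y := (a / 2) • x)
      (by rw [← algebraMap_smul L]; simp [x1])
    have q1 : z * Φ.eich _ _ _ k' * z⁻¹ = Φ.eich _ _ _ k' := by
      rw [Φ.eich_conj (Φ.E_le z1)]
      exact Φ.eich_congr' _ (z3 _ (Ψ.B_self_of_N he')) (z3 _ (by rw [← algebraMap_smul L]; simp [x1])) rfl
    have q2 : z' * Φ.eich _ _ _ k * z'⁻¹ = Φ.eich _ _ _ k := by
      rw [Φ.eich_conj (Φ.E_le z1')]
      exact Φ.eich_congr' _ (z3' _ (Ψ.B_self_of_N he')) (z3' _ (Ψ.B_symm_zero y1)) rfl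
    have n : ∀ u ∈ L ∙ e, Ψ.B u e = 0 := fun u hu => by
      obtain ⟨c, rfl⟩ := Submodule.mem_span_singleton.1 hu
      simp [Ψ.B_self_of_N he']
    have q3 : z * z' = z' * z := LinearEquiv.ext fun x => by
      have k1 := z3 _ (n _ (z4' x))
      have k2 := z3' _ (n _ (z4 x))
      rw [map_sub, sub_eq_iff_eq_add] at k1 k2
      rw [LinearEquiv.mul_apply, LinearEquiv.mul_apply, k1, k2]; abel
    obtain ⟨k'', q4⟩ := Φ.eich_commutator k k'
    have := H.mul_mem (H.mul_mem (H.mul_mem z2 z2') (H.inv_mem z2)) (H.inv_mem z2')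
    rw [← commutatorElement_def, comm_mul_eq (mul_inv_eq_iff_eq_mul.1 q1) (mul_inv_eq_iff_eq_mul.1 q2) q3, q4] at this
    convert this using 2
    rw [Φ.symm _ y, Φ.B_smul_left, x2]
    simp; field_simp; ring
  rw [symp_E_eq h.ndΦ, ← symp_closure_transvSet h.ndΦ, Subgroup.closure_le]
  rintro _ ⟨d, c, k, hd, rfl⟩
  obtain ⟨k', q⟩ := Φ.qrefl_eq_eich k hd
  rw [q]
  refine (?_ : Φ.InT H d) _ k'
  rcases eq_or_ne d 0 with rfl | h1
  · exact k1 0 (by simp)
  obtain ⟨e, he, -⟩ := exists_sing_two h.nd h.sg h.dim 0 0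
  obtain ⟨f, hf⟩ := h.nd.exists_hyp he.1 he.2
  obtain ⟨u, hu, h3⟩ := hf.exists_sing_ne h.nd h1
  have h4 : (2 : L) ≠ 0 := by rw [← map_ofNat (algebraMap F L) 2]; exact (map_ne_zero _).2 h0
  have h5 : τ 2 = 2 := map_ofNat τ 2
  set v := τ ((Ψ.N d / 2 + ζ) / Ψ.B d u) • u
  have v1 : Ψ.B d v = Ψ.N d / 2 + ζ := by rw [Ψ.B_smul_right, Kind.unit_σ, hτ, div_mul_cancel₀ _ h3]
  have v2 : Ψ.N v = 0 := by simp [v, N_smul, hu.2]
  have v3 : Φ.B d v ≠ 0 := fun k => by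
    have := h.B d v
    rw [k, v1, map_zero, map_mul, map_add, map_div₀, hζ, h5, Ψ.unit_σN] at this
    exact mul_ne_zero h4 (mul_ne_zero h.ζ0 h.ζ0) (by linear_combination -this)
  have := (k1 (d - v) (by
    rw [N_sub, v1, v2, Kind.unit_T, map_add, map_div₀, hζ, h5, Ψ.unit_σN]; field_simp; ring)).map
    (k1 v v2 (Φ.B d v)⁻¹ ⟨h.N _ v2, by simp, by simp⟩) (Φ.eich_mem _ _ _ _)
  simpa [eich_apply, Φ.B_self_of_N (h.N _ v2), v3] using this

omit [Finite L] [FiniteDimensional L V] [FiniteDimensional F V] in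
theorem exists_herm {K : Kind F} {Φ : Form K V} (h : QF2 F τ θ) (hΦ : Φ.Nondeg) (hσ : ∀ a, K.σ a = a)
    (ha : ∀ (c : L) u v, Φ.B (c • u) v = Φ.B u (τ c • v)) (h0 : ζ ≠ 0) (hζ : τ ζ = algebraMap F L K.ε * ζ) :
    ∃ Ψ : Form (Kind.unit τ hτ) V, Ψ.Nondeg ∧ (∀ u v, algebraMap F L (Φ.B u v) = ζ * Ψ.B u v + τ (ζ * Ψ.B u v)) ∧
      ∀ u v, ζ * (θ - τ θ) * Ψ.B u v = algebraMap F L (Φ.B (θ • u) v) - τ θ * algebraMap F L (Φ.B u v) := by
  obtain ⟨a, b, h1, h2⟩ := h.sq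
  have h3 := sub_ne_zero.2 h.ne.symm
  have h3' := sub_ne_zero.2 h.ne
  let f : V → V → L := fun u v => (algebraMap F L (Φ.B (θ • u) v) - τ θ * algebraMap F L (Φ.B u v)) / (ζ * (θ - τ θ))
  have k1 : ∀ v (c : L) u, f (c • u) v = c * f u v := fun v => h.lin (W := L) (f :=
    { toFun := fun u => f u v
      map_add' := fun x y => by simp only [f, smul_add, map_add, LinearMap.add_apply]; ring
      map_smul' := fun c x => by simp only [f, smul_comm θ c, B_smul_left, map_mul, Algebra.smul_def]; simp; ring })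
    fun u => by
      have : θ • θ • u = a • u + b • θ • u := by
        rw [← algebraMap_smul L a, ← algebraMap_smul L b, h1, h2]; module
      simp only [f, LinearMap.coe_mk, AddHom.coe_mk, this, map_add, LinearMap.add_apply, B_smul_left, map_mul, h1,
        h2, smul_eq_mul]
      field_simp; ring
  have e2 : algebraMap F L K.ε * algebraMap F L K.ε = 1 := by rw [← map_mul, K.εε, map_one]
  have k2 : ∀ u v, f v u = τ (f u v) := fun u v => by
    have : Φ.B u (θ • v) = b * Φ.B u v - Φ.B (θ • u) v := by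
      rw [← hτ θ, ← ha, hτ, show τ θ • u = b • u - θ • u by rw [← algebraMap_smul L b, h1]; module]
      simp
    simp only [f, map_div₀, map_sub, map_mul, h.fix, hτ, hζ, Φ.symm u, hσ, this, h1]
    have : algebraMap F L K.ε ≠ 0 := (map_ne_zero _).2 K.ε_ne
    field_simp
    linear_combination (algebraMap F L (Φ.B (θ • u) v) - θ * algebraMap F L (Φ.B u v)) * (θ - τ θ) * e2
  have k3 : ∀ u v, algebraMap F L (Φ.B u v) = ζ * f u v + τ (ζ * f u v) := fun u v => by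
    simp only [f, map_div₀, map_sub, map_mul, h.fix, hτ]
    have : τ ζ ≠ 0 := by simpa
    field_simp; ring
  refine ⟨Form.ofHerm τ h.ne_id hτ (LinearMap.mk₂'ₛₗ (RingHom.id L) τ f
    (fun x y v => by simp only [f, smul_add, map_add, LinearMap.add_apply]; ring) (fun c u v => k1 v c u)
    (fun x y v => by simp only [f, map_add]; ring)
    fun c u v => by rw [k2, k1, map_mul, ← k2]; rfl) k2, fun v hv => hΦ v fun u => (algebraMap F L).injective ?_, k3,
    fun u v => mul_div_cancel₀ _ (mul_ne_zero h0 h3)⟩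
  rw [k3, show f u v = 0 from hv u]; simp

omit [FiniteDimensional F V] in
theorem rsc_mem_E {K : Kind F} {Φ : Form K V} (h : τ ≠ RingHom.id L) (hΨ : Ψ.Nondeg) (hd : 5 ≤ finrank L V)
    (h1 : ∀ g ∈ Ψ.Isom, rsc F g ∈ Φ.Isom) (h2 : ⁅Φ.Isom, Φ.Isom⁆ ≤ Φ.E) : ∀ g ∈ Ψ.E, rsc F g ∈ Φ.E := fun g hg => by
  have k : Ψ.E.map (rsc F) ≤ Φ.Isom := by rintro _ ⟨g, hg, rfl⟩; exact h1 g (Ψ.E_le hg)
  refine h2 (Subgroup.commutator_mono k k ?_)
  rw [← Subgroup.map_commutator]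
  exact ⟨g, E_le_commutator hΨ hd (fun e f hh => unit_exists_hyp h (hh.nondeg_hperp hΨ)
    (by have := hh.finrank_hperp; omega)) hg, rfl⟩

include hτ in
theorem maxP_symp {Φ : Form (Kind.symp F) V} (h : QF2 F τ θ) (hΦ : Φ.Nondeg)
    (ha : ∀ (c : L) u v, Φ.B (c • u) v = Φ.B u (τ c • v)) (h0 : (2 : F) ≠ 0) (hd : 7 ≤ finrank L V)
    {M : Subgroup (V ≃ₗ[F] V)} (hM : ∀ g (c : L), (∀ v, g (θ • v) = c • g v) → g ∈ M) : MaxP Φ.E M := by
  obtain ⟨Ψ, k1, k2, -⟩ := exists_herm (hτ := hτ) (ζ := θ - τ θ) h hΦ (fun _ => rfl) ha (sub_ne_zero.2 h.ne.symm)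
    (by simp [hτ])
  have k : QE Φ Ψ (θ - τ θ) θ := ⟨h, k2, sub_ne_zero.2 h.ne.symm, fun _ _ => Φ.symp_N _, k1, hd, fun g hg =>
    (symp_E_eq hΦ).ge (Form.mem_Isom_symp.2 fun u v => (algebraMap F L).injective (by
      rw [k2, k2, rsc_apply, rsc_apply, (Ψ.E_le hg).1]))⟩
  exact k.maxP hM fun H => k.symp_le h0 (by simp [hτ])

include hτ in
theorem maxP_orth [Finite F] {Φ : Form (Kind.orth F) V} (h : QF2 F τ θ) (hΦ : Φ.Nondeg)
    (ha : ∀ (c : L) u v, Φ.B (c • u) v = Φ.B u (τ c • v)) (hN : ∀ k : L, ∃ c : F, ∀ v, Φ.N (k • v) = c * Φ.N v)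
    (hd : 7 ≤ finrank L V) (hd' : 5 ≤ finrank F V)
    {M : Subgroup (V ≃ₗ[F] V)} (hM : ∀ g (c : L), (∀ v, g (θ • v) = c • g v) → g ∈ M) : MaxP Φ.E M := by
  obtain ⟨Ψ, k1, k2, k3⟩ := exists_herm (hτ := hτ) (ζ := 1) h hΦ (fun _ => rfl) ha one_ne_zero (by simp)
  have k4 : ∀ (k : L) v, algebraMap F L (Φ.N (k • v)) = k * τ k * algebraMap F L (Φ.N v) := fun k v => by
    rcases eq_or_ne v 0 with rfl | h0
    · simp
    obtain ⟨c, hc⟩ := hN k
    have : τ k • k • v = c • v := hΦ.ext fun u => by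
      rw [← ha, Φ.B_smul_right, Φ.orth_B, Φ.orth_B, ← smul_add, hc, hc, hc, Kind.orth_σ]; ring
    rw [smul_smul, ← algebraMap_smul L c] at this
    rw [hc, map_mul, ← smul_left_injective L h0 this, mul_comm k]
  have k5 : ∀ v, Ψ.N v = algebraMap F L (Φ.N v) := fun v => mul_left_cancel₀ (sub_ne_zero.2 h.ne.symm) (by
    have := k4 (θ + 1) v
    rw [Ψ.unit_N, ← one_mul (θ - τ θ), k3, Φ.orth_B_self, Φ.orth_B, map_sub, map_sub, k4, map_mul, map_ofNat]
    rw [add_smul, one_smul, map_add τ, map_one] at this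
    linear_combination this)
  have k : QE Φ Ψ 1 θ := ⟨h, k2, one_ne_zero, fun v hv => (algebraMap F L).injective (by rw [← k5, hv, map_zero]),
    k1, hd, rsc_mem_E h.ne_id k1 (by omega) (fun g hg => Form.mem_Isom_orth.2 fun v => (algebraMap F L).injective (by
      rw [← k5, ← k5, rsc_apply, hg.2])) ((good_of_finrank hΦ (by omega)).E_eq hΦ (by omega)).ge⟩
  exact k.maxP hM fun H => k.orth_le (orth_rich0 hΦ (by omega))

end Form

namespace Asch
open Matrix Cfsg.Geo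
universe u
variable {ι : Type} [Fintype ι] [DecidableEq ι] {F : Type u} [Field F] [Fintype F]

local notation "σ₀" => RingHom.id F

theorem mem_subalgebraNormalizer_of {K : Subalgebra F (Matrix ι ι F)} {g : GL ι F} (h : ∀ k ∈ K, cjm g k ∈ K) :
    g ∈ subalgebraNormalizer K := nrm_iff.1 (fun x hx => by
  obtain ⟨n, rfl⟩ := (mem_powers_iff_mem_zpowers (x := g)).2 hx
  clear hx
  induction n with
  | zero => simp [cjm_one]
  | succ n ih => exact fun k hk => by simpa only [pow_succ', cjm_mul] using h _ (ih k hk)) (Subgroup.mem_zpowers g)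

theorem exists_QF2 {ε : F} {B : GL ι F} (hB : RF σ₀ ε B) (hι : 13 ≤ Fintype.card ι) {K : Subalgebra F (Matrix ι ι F)}
    (hK : IsFieldSubalgebra 2 K) (h1 : IsAdjointClosedFor (gf σ₀ B.val) K) (h2 : ¬ IsSelfAdjointFor (gf σ₀ B.val) K)
    {P : Prop} (hP : ∀ (L : Type u) [Field L] [Algebra F L] [Module L (ι → F)] [IsScalarTower F L (ι → F)] [Finite L]
      (τ : L →+* L) (θ : L), (∀ a, τ (τ a) = a) → Form.QF2 F τ θ → 7 ≤ finrank L (ι → F) →
      (∀ (c : L) (u v : ι → F), gf σ₀ B.val (c • u) v = gf σ₀ B.val u (τ c • v)) →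
      (∀ c : L, ∃ k ∈ K, ∀ v : ι → F, c • v = k *ᵥ v) →
      (∀ g (c : L), (∀ v, g (θ • v) = c • g v) → g ∈ mp (subalgebraNormalizer K)) → P) : P := by
  haveI : Nonempty ι := Fintype.card_pos_iff.1 (by omega)
  letI := (IsFieldSubalgebra.isField hK).toField
  letI M : Module K (ι → F) := Module.compHom (ι → F)
    ((Matrix.toLinAlgEquiv' (R := F) (n := ι)).toRingEquiv.toRingHom.comp K.val.toRingHom)
  haveI : @IsScalarTower F K (ι → F) Algebra.toSMul M.toSMul _ := ⟨fun a c v => smul_mulVec a c.1 v⟩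
  have h3 : StCl σ₀ B K := fun x hx => by
    obtain ⟨y, hy, k⟩ := h1 x hx
    exact eq_adj (fun _ => rfl) k ▸ hy
  let τ : K →+* K :=
    { toFun := fun c => ⟨adj σ₀ B c, h3 _ c.2⟩
      map_one' := Subtype.ext (adj_one B)
      map_mul' := fun a b => Subtype.ext ((adj_mul B _ _).trans (hK.comm _ (h3 _ b.2) _ (h3 _ a.2)))
      map_zero' := Subtype.ext (adj_zero B)
      map_add' := fun a b => Subtype.ext (adj_add B _ _) }
  obtain ⟨θ, hθ, h4⟩ : ∃ θ ∈ K, adj σ₀ B θ ≠ θ := by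
    by_contra k
    push Not at k
    exact h2 fun x hx u v => by rw [hB.gf_adj, k x hx]
  have t1 : ∀ a : F, τ (algebraMap F K a) = algebraMap F K a := fun a => Subtype.ext (by
    change adj σ₀ B (algebraMap F _ a) = algebraMap F _ a
    rw [Algebra.algebraMap_eq_smul_one, adj_smul, adj_one]; rfl)
  have t2 : τ ⟨θ, hθ⟩ ≠ ⟨θ, hθ⟩ := fun k => h4 (congrArg Subtype.val k)
  have t3 : ∀ c : K, ∃ a b : F, c = algebraMap F K a + algebraMap F K b * ⟨θ, hθ⟩ := fun c => by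
    have h1 : LinearIndependent F ![(1 : K), ⟨θ, hθ⟩] := LinearIndependent.pair_iff' one_ne_zero |>.2 fun a e =>
      t2 (by rw [← e, ← Algebra.algebraMap_eq_smul_one, t1])
    have := (h1.span_eq_top_of_card_eq_finrank' (by rw [hK.finrank_eq]; rfl)).ge (Submodule.mem_top (x := c))
    rw [Matrix.range_cons_cons_empty, Submodule.mem_span_pair] at this
    obtain ⟨α, β, e⟩ := this
    exact ⟨α, β, by rw [← e, Algebra.algebraMap_eq_smul_one, Algebra.smul_def β]⟩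
  have := Module.finrank_mul_finrank F K (ι → F)
  rw [hK.finrank_eq, finrank_fintype_fun_eq_card] at this
  refine hP K τ ⟨θ, hθ⟩ (fun a => Subtype.ext (hB.adj_adj _)) ⟨t1, t2, t3⟩ (by omega)
    (fun c u v => hB.gf_adj _ _ _) (fun c => ⟨c, c.2, fun _ => rfl⟩) fun g c hg => ?_
  obtain ⟨g, rfl⟩ := glEquiv.surjective g
  have k : cjm g θ = c := matrix_ext_mulVec fun v => by
    rw [← mulVec_inv_mulVec g v, cjm_mulVec]; exact hg _
  refine mem_mp.2 (mem_subalgebraNormalizer_of fun x hx => ?_)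
  obtain ⟨a, b, e⟩ := t3 ⟨x, hx⟩
  obtain rfl : x = algebraMap F _ a + algebraMap F _ b * θ := congrArg Subtype.val e
  rw [map_add, map_mul, AlgEquiv.commutes, AlgEquiv.commutes, k]
  exact add_mem (K.algebraMap_mem a) (mul_mem (K.algebraMap_mem b) c.2)

theorem max_Sp_U {B : GL ι F} (hB : Alt B.val) (hι : 13 ≤ Fintype.card ι) (h0 : (2 : F) ≠ 0)
    {K : Subalgebra F (Matrix ι ι F)} (hK : IsFieldSubalgebra 2 K) (h1 : IsAdjointClosedFor (gf σ₀ B.val) K)
    (h2 : ¬ IsSelfAdjointFor (gf σ₀ B.val) K) :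
    IsMaximalIn (Iso σ₀ B.val) (subalgebraNormalizer K ⊓ Iso σ₀ B.val) := by
  have h := cl_Sp hB (by omega)
  refine h.max (h.amb.not_le_fld Nat.prime_two hK) (exists_QF2 hB.rf hι hK h1 h2 fun L _ _ _ _ _ τ θ a b c d _ f => ?_)
  haveI : Module.Finite L (ι → F) := Module.Finite.of_finite
  exact Form.maxP_symp (hτ := a) b h.nd d h0 c f

theorem max_O_U {Q : (ι → F) → F} {B : GL ι F} (hQ : QF Q B.val) (hι : 13 ≤ Fintype.card ι)
    {K : Subalgebra F (Matrix ι ι F)} (hK : IsFieldSubalgebra 2 K) (h1 : IsAdjointClosedFor (gf σ₀ B.val) K)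
    (h2 : ¬ IsSelfAdjointFor (gf σ₀ B.val) K) (h3 : ∀ k ∈ K, ∃ c : F, ∀ v, Q (k *ᵥ v) = c * Q v) :
    IsMaximalIn (omegaGL Q) (subalgebraNormalizer K ⊓ omegaGL Q) := by
  have h := cl_O hQ (by omega)
  refine h.max (h.amb.not_le_fld Nat.prime_two hK) (exists_QF2 hQ.rf hι hK h1 h2 fun L _ _ _ _ _ τ θ a b c d e f => ?_)
  haveI : Module.Finite L (ι → F) := Module.Finite.of_finite
  refine Form.maxP_orth (hτ := a) b h.nd d (fun k => ?_) c (by simp; omega) f
  obtain ⟨k', a, b⟩ := e k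
  simp only [b]
  exact h3 k' a

end Asch

end Cfsg.Agent.Classical
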