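import Cfsg.Agent.Lib.Classical.Heart

/-! Quadratic forms over the field of two elements: Gauss sums and types. -/
set_option autoImplicit false
open Module

namespace Cfsg.Agent.Classical.F2
variable {V W : Type*} [AddCommGroup V] [Module (ZMod 2) V] [AddCommGroup W] [Module (ZMod 2) W]

def chi (x : ZMod 2) : ℤ := if x = 0 then 1 else -1

theorem chi_add (x y : ZMod 2) : chi (x + y) = chi x * chi y := by revert x y; decide

theorem chi_eq_one {x : ZMod 2} : chi x = 1 ↔ x = 0 := by revert x; decide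

theorem chi_cases (x : ZMod 2) : (x = 0 ∧ chi x = 1) ∨ (x = 1 ∧ chi x = -1) := by revert x; decide

def gs {X : Type*} [Fintype X] (q : X → ZMod 2) : ℤ := ∑ v, chi (q v)

theorem two_cnt {X : Type*} [Fintype X] (q : X → ZMod 2) :
    2 * (Nat.card {v // q v = 0} : ℤ) = Nat.card X + gs q := by
  classical
  rw [Nat.card_eq_fintype_card, Nat.card_eq_fintype_card, Fintype.card_subtype, Finset.card_filter, gs,
    ← Finset.card_univ, Finset.card_eq_sum_ones]
  push_cast
  rw [Finset.mul_sum, ← Finset.sum_add_distrib]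
  refine Finset.sum_congr rfl fun v _ => ?_
  unfold chi; split_ifs <;> rfl

theorem isType_iff [Fintype V] (Φ : Form (Kind.orth (ZMod 2)) V) (m : ℕ) (η : ℤ) :
    Φ.IsType m η ↔ finrank (ZMod 2) V = 2 * m ∧ gs Φ.N = η * 2 ^ m := by
  unfold Form.IsType
  refine and_congr_right fun h => ?_
  have h1 := two_cnt Φ.N
  rw [Module.natCard_eq_pow_finrank (K := ZMod 2) (V := V), h] at h1
  simp only [Nat.card_zmod] at h1 ⊢
  unfold Form.cnt
  push_cast at h1 ⊢
  rw [h1, pow_succ]
  constructor <;> intro h2 <;> linarith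

theorem zero_of_add {q : V → ZMod 2} {B : V →ₗ[ZMod 2] V →ₗ[ZMod 2] ZMod 2}
    (hq : ∀ u v, q (u + v) = q u + q v + B u v) : q 0 = 0 := by
  have := hq 0 0
  simpa using this

/-- a form from its polarization identity -/
def mkF (q : V → ZMod 2) (B : V →ₗ[ZMod 2] V →ₗ[ZMod 2] ZMod 2)
    (hq : ∀ u v, q (u + v) = q u + q v + B u v) : Form (Kind.orth (ZMod 2)) V :=
  Form.ofQuadFun q B hq fun c v => by
    rcases chi_cases c with ⟨rfl, -⟩ | ⟨rfl, -⟩
    · simp [zero_of_add hq]
    · simp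

theorem iso_iff (Φ : Form (Kind.orth (ZMod 2)) V) (Ψ : Form (Kind.orth (ZMod 2)) W) :
    (∃ g : V ≃ₗ[ZMod 2] W, ∀ v, Φ.N v = Ψ.N (g v)) ↔ Φ.Iso Ψ := by
  refine ⟨fun ⟨g, h⟩ => ⟨g, fun u v => ?_, fun v => (h v).symm⟩, fun ⟨g, _, h⟩ => ⟨g, fun v => (h v).symm⟩⟩
  rw [Ψ.orth_B, Φ.orth_B, ← map_add, h, h, h]

/-- the shifted form -/
def shift (Φ : Form (Kind.orth (ZMod 2)) V) (w : V) : Form (Kind.orth (ZMod 2)) V :=
  mkF (fun v => Φ.N v + Φ.B v w) Φ.B fun u v => by
    rw [Φ.orth_N_add, map_add, LinearMap.add_apply]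
    exact (by intros; ring : ∀ a b c d e : ZMod 2, a + b + c + (d + e) = a + d + (b + e) + c) _ _ _ _ _

theorem shift_N (Φ : Form (Kind.orth (ZMod 2)) V) (w v : V) : (shift Φ w).N v = Φ.N v + Φ.B v w := rfl

theorem shift_nondeg {Φ : Form (Kind.orth (ZMod 2)) V} (h : Φ.Nondeg) (w : V) : (shift Φ w).Nondeg := h

theorem gs_shift [Fintype V] (Φ : Form (Kind.orth (ZMod 2)) V) (w : V) :
    gs (shift Φ w).N = chi (Φ.N w) * gs Φ.N := by
  unfold gs
  rw [Finset.mul_sum, ← Equiv.sum_comp (Equiv.addRight w) (fun v => chi (Φ.N w) * chi (Φ.N v))]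
  refine Finset.sum_congr rfl fun v _ => ?_
  rw [← chi_add, shift_N, Equiv.coe_addRight, Φ.orth_N_add]
  congr 1
  generalize Φ.N w = a; generalize Φ.N v = b; generalize Φ.B v w = c
  revert a b c; decide

theorem shift_isType [Fintype V] {Φ : Form (Kind.orth (ZMod 2)) V} {m : ℕ} {η : ℤ} (h : Φ.IsType m η) (w : V) :
    (shift Φ w).IsType m (chi (Φ.N w) * η) := by
  rw [isType_iff] at h ⊢
  exact ⟨h.1, by rw [gs_shift, h.2, mul_assoc]⟩

theorem exists_shift [FiniteDimensional (ZMod 2) V] {Φ : Form (Kind.orth (ZMod 2)) V} (h : Φ.Nondeg)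
    {q : V → ZMod 2} (hq : ∀ u v, q (u + v) = q u + q v + Φ.B u v) : ∃ w, q = (shift Φ w).N := by
  let f : V →+ ZMod 2 := AddMonoidHom.mk' (fun v => q v - Φ.N v) fun u v => by
    rw [hq, Φ.orth_N_add]; ring
  obtain ⟨w, hw⟩ := h.exists_repr (f.toZModLinearMap 2)
  refine ⟨w, funext fun v => ?_⟩
  rw [shift_N, hw]
  show q v = Φ.N v + (q v - Φ.N v)
  ring

theorem shift_inj {Φ : Form (Kind.orth (ZMod 2)) V} (h : Φ.Nondeg) {w w' : V}
    (e : (shift Φ w).N = (shift Φ w').N) : w = w' :=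
  h.ext fun u => add_left_cancel (congrFun e u)

theorem card_shift [FiniteDimensional (ZMod 2) V] {Φ : Form (Kind.orth (ZMod 2)) V} (h : Φ.Nondeg)
    (P : (V → ZMod 2) → Prop) :
    Nat.card {q : V → ZMod 2 // (∀ u v, q (u + v) = q u + q v + Φ.B u v) ∧ P q} =
      Nat.card {w : V // P (shift Φ w).N} := by
  symm
  refine Nat.card_congr (Equiv.ofBijective (fun w => ⟨(shift Φ w.1).N, (shift Φ w.1).orth_N_add, w.2⟩) ⟨?_, ?_⟩)
  · intro w w' e
    exact Subtype.ext (shift_inj h (congrArg Subtype.val e))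
  · rintro ⟨q, h1, h2⟩
    obtain ⟨w, rfl⟩ := exists_shift h h1
    exact ⟨⟨w, h2⟩, rfl⟩

theorem aniso11 : ∀ z₁ z₂ : ZMod 2, z₁ ^ 2 + 1 * z₁ * z₂ + 1 * z₂ ^ 2 = 0 → z₁ = 0 ∧ z₂ = 0 := by decide

theorem iso_iff_type [Fintype V] [Fintype W] {Φ : Form (Kind.orth (ZMod 2)) V} {Ψ : Form (Kind.orth (ZMod 2)) W}
    (hΦ : Φ.Nondeg) (hΨ : Ψ.Nondeg) {m : ℕ} {η η' : ℤ} (h : Φ.IsType m η) (h' : Ψ.IsType m η') :
    Φ.Iso Ψ ↔ η = η' :=
  ⟨fun e => (e.isType h).unique h', fun e => orth_iso_even η m _ _ hΦ hΨ h (e ▸ h')⟩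

/-! the second elementary symmetric function -/

theorem esymm2_cons {R : Type*} [CommRing R] (a : R) (s : Multiset R) :
    (a ::ₘ s).esymm 2 = s.esymm 2 + a * s.sum := by
  unfold Multiset.esymm
  rw [Multiset.powersetCard_cons, Multiset.map_add, Multiset.sum_add, Multiset.map_map,
    Multiset.powersetCard_one, Multiset.map_map]
  congr 1
  conv_rhs => rw [← Multiset.map_id s, ← Multiset.sum_map_mul_left]
  simp

theorem esymm2_zero {R : Type*} [CommRing R] : (0 : Multiset R).esymm 2 = 0 := by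
  unfold Multiset.esymm
  rw [Multiset.powersetCard_zero_right]; simp

theorem esymm2_add {R ι : Type*} [CommRing R] (u v : ι → R) (s : Multiset ι) :
    (s.map (u + v)).esymm 2 = (s.map u).esymm 2 + (s.map v).esymm 2 +
      ((s.map u).sum * (s.map v).sum - (s.map fun i => u i * v i).sum) := by
  induction s using Multiset.induction_on with
  | empty => simp [esymm2_zero]
  | cons a s ih =>
    simp only [Multiset.map_cons, esymm2_cons, Multiset.sum_cons]
    rw [ih, show s.map (u + v) = s.map (fun i => u i + v i) from rfl, Multiset.sum_map_add, Pi.add_apply]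
    ring

/-- the form `e₂` on the permutation module -/
def eForm (ι : Type*) [Fintype ι] : Form (Kind.orth (ZMod 2)) (ι → ZMod 2) :=
  mkF (fun u => (Finset.univ.val.map u).esymm 2)
    (LinearMap.mk₂ (ZMod 2) (fun u v => (∑ i, u i) * (∑ i, v i) - ∑ i, u i * v i)
      (by intros; simp [Finset.sum_add_distrib, add_mul]; ring)
      (by intros; simp [← Finset.mul_sum, mul_assoc, mul_sub])
      (by intros; simp [Finset.sum_add_distrib, mul_add]; ring)
      (by intros; simp [← Finset.mul_sum, mul_left_comm, mul_sub]))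
    fun u v => esymm2_add u v _

theorem eForm_N {ι : Type*} [Fintype ι] (u : ι → ZMod 2) :
    (eForm ι).N u = (Finset.univ.val.map u).esymm 2 := rfl

theorem eForm_B {ι : Type*} [Fintype ι] (u v : ι → ZMod 2) :
    (eForm ι).B u v = (∑ i, u i) * (∑ i, v i) - ∑ i, u i * v i := rfl

def psi (x : ZMod 2) : GaussianInt := if x = 0 then 1 else ⟨0, 1⟩

theorem prod_psi (s : Multiset (ZMod 2)) : (s.map psi).prod = (chi (s.esymm 2) : GaussianInt) * psi s.sum := by
  induction s using Multiset.induction_on with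
  | empty => simp [esymm2_zero, chi, psi]
  | cons a s ih =>
    rw [Multiset.map_cons, Multiset.prod_cons, ih, esymm2_cons, Multiset.sum_cons]
    generalize s.esymm 2 = b; generalize s.sum = c
    revert a b c; decide

theorem gs_eForm (ι : Type*) [Fintype ι] [DecidableEq ι] [Fintype (sumZero (ZMod 2) ι)] :
    gs ((eForm ι).restrict (sumZero (ZMod 2) ι)).N = ((⟨1, 1⟩ : GaussianInt) ^ Fintype.card ι).re := by
  classical
  have h1 : (⟨1, 1⟩ : GaussianInt) ^ Fintype.card ι = ∑ u : ι → ZMod 2, ∏ i, psi (u i) := by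
    rw [← Fintype.piFinset_univ, ← Finset.prod_univ_sum, Finset.prod_const, Finset.card_univ]
    congr 1
  have h2 : ∀ u : ι → ZMod 2, (∏ i, psi (u i)).re =
      if u ∈ sumZero (ZMod 2) ι then chi ((eForm ι).N u) else 0 := fun u => by
    have := prod_psi (Finset.univ.val.map u)
    rw [Multiset.map_map] at this
    rw [show ∏ i, psi (u i) = _ from this, eForm_N]
    simp only [mem_sumZero]
    rw [show (Finset.univ.val.map u).sum = ∑ i, u i from rfl]
    generalize (Finset.univ.val.map u).esymm 2 = b; generalize ∑ i, u i = c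
    revert b c; decide
  let re : GaussianInt →+ ℤ := AddMonoidHom.mk' Zsqrtd.re fun _ _ => rfl
  rw [h1, show Zsqrtd.re (∑ u : ι → ZMod 2, ∏ i, psi (u i)) = re _ from rfl, map_sum]
  simp only [re, AddMonoidHom.mk'_apply, h2]
  rw [← Finset.sum_filter, gs]
  symm
  exact Finset.sum_subtype _ (by simp) fun u => chi ((eForm ι).N u)

theorem finrank_sumZero (F ι : Type*) [Field F] [Fintype ι] [Nonempty ι] :
    finrank F (sumZero F ι) + 1 = Fintype.card ι := by
  classical
  have h := LinearMap.finrank_range_add_finrank_ker (∑ i, LinearMap.proj i : (ι → F) →ₗ[F] F)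
  have h2 : LinearMap.range (∑ i, LinearMap.proj i : (ι → F) →ₗ[F] F) = ⊤ := by
    rw [LinearMap.range_eq_top]
    intro c
    exact ⟨Pi.single (Classical.arbitrary ι) c, by simp⟩
  rw [h2] at h
  simp only [finrank_top, finrank_self, finrank_fintype_fun_eq_card] at h
  unfold sumZero; omega

theorem eForm_nondeg (ι : Type*) [Fintype ι] (h : Odd (Fintype.card ι)) :
    ((eForm ι).restrict (sumZero (ZMod 2) ι)).Nondeg := by
  classical
  rintro ⟨v, hv⟩ h1
  have h2 : ∀ i j, v i = v j := fun i j => by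
    have := h1 ⟨Pi.single i 1 - Pi.single j 1, mem_sumZero.2 (by simp [Finset.sum_sub_distrib])⟩
    simp only [Form.comap_B, Submodule.subtype_apply, eForm_B, mem_sumZero.1 hv, Pi.sub_apply, sub_mul,
      Finset.sum_sub_distrib, Pi.single_apply, ite_mul, one_mul, zero_mul, Finset.sum_ite_eq',
      Finset.mem_univ, if_true] at this
    linear_combination -this
  ext i
  have h3 := mem_sumZero.1 hv
  rw [Finset.sum_congr rfl fun j _ => h2 j i, Finset.sum_const, Finset.card_univ, nsmul_eq_mul,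
    (ZMod.natCast_eq_one_iff_odd).2 h, one_mul] at h3
  simpa using h3

end Cfsg.Agent.Classical.F2
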