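import Mathlib

/-! Unified treatment of symplectic, orthogonal and unitary geometry. -/

set_option autoImplicit false

namespace Cfsg.Agent.Classical

open Module

/-- Scalar data of a classical geometry. -/
structure Kind (F : Type*) [Field F] where
  σ : F →+* F
  ε : F
  κ : F
  T : F →+ F
  σσ : ∀ a, σ (σ a) = a
  εε : ε * ε = 1
  σε : σ ε = ε
  T_norm : ∀ c a, T (c * σ c * a) = c * σ c * T a
  T_conj : ∀ a, T (ε * σ a) = T a
  κT : ∀ a, κ * T a = a + ε * σ a

/-- A form of kind `K` on `V`: a sesquilinear form `B` with a norm function `N`. -/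
structure Form {F : Type*} [Field F] (K : Kind F) (V : Type*) [AddCommGroup V] [Module F V] where
  B : V →ₗ[F] V →ₛₗ[K.σ] F
  N : V → F
  symm : ∀ u v, B v u = K.ε * K.σ (B u v)
  N_add : ∀ u v, N (u + v) = N u + N v + K.T (B u v)
  N_smul : ∀ c v, N (c • v) = c * K.σ c * N v
  N_range : ∀ v, ∃ a, K.T a = N v
  B_self : ∀ v, B v v = K.κ * N v

namespace Kind
variable {F : Type*} [Field F] (K : Kind F)

theorem ε_ne : K.ε ≠ 0 := fun h => by have := K.εε; rw [h] at this; simp at this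

theorem σ_eq_zero {a : F} : K.σ a = 0 ↔ a = 0 := by simp

theorem σ_inj : Function.Injective K.σ := K.σ.injective

theorem σ_surj : Function.Surjective K.σ := fun a => ⟨K.σ a, K.σσ a⟩

/-- the symplectic kind -/
def symp (F : Type*) [Field F] : Kind F where
  σ := RingHom.id F
  ε := -1
  κ := 0
  T := 0
  σσ _ := rfl
  εε := by simp
  σε := rfl
  T_norm := by simp
  T_conj := by simp
  κT := by simp

/-- the orthogonal kind -/
def orth (F : Type*) [Field F] : Kind F where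
  σ := RingHom.id F
  ε := 1
  κ := 2
  T := AddMonoidHom.id F
  σσ _ := rfl
  εε := by simp
  σε := rfl
  T_norm := by simp
  T_conj := by simp
  κT := by intro a; simp [two_mul]

/-- the unitary kind -/
def unit (σ : F →+* F) (hσ : ∀ a, σ (σ a) = a) : Kind F where
  σ := σ
  ε := 1
  κ := 1
  T := AddMonoidHom.id F + σ.toAddMonoidHom
  σσ := hσ
  εε := by simp
  σε := by simp
  T_norm := by intro c a; simp [hσ]; ring
  T_conj := by intro a; simp [hσ]; ring
  κT := by intro a; simp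

@[simp] theorem symp_σ (a : F) : (symp F).σ a = a := rfl
@[simp] theorem symp_ε : (symp F).ε = -1 := rfl
@[simp] theorem symp_κ : (symp F).κ = 0 := rfl
@[simp] theorem symp_T (a : F) : (symp F).T a = 0 := rfl
@[simp] theorem orth_σ (a : F) : (orth F).σ a = a := rfl
@[simp] theorem orth_ε : (orth F).ε = 1 := rfl
@[simp] theorem orth_κ : (orth F).κ = 2 := rfl
@[simp] theorem orth_T (a : F) : (orth F).T a = a := rfl
@[simp] theorem unit_σ (σ : F →+* F) (h) (a : F) : (unit σ h).σ a = σ a := rfl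
@[simp] theorem unit_ε (σ : F →+* F) (h) : (unit σ h).ε = 1 := rfl
@[simp] theorem unit_κ (σ : F →+* F) (h) : (unit σ h).κ = 1 := rfl
@[simp] theorem unit_T (σ : F →+* F) (h) (a : F) : (unit σ h).T a = a + σ a := rfl

end Kind

namespace Form
variable {F : Type*} [Field F] {K : Kind F} {V : Type*} [AddCommGroup V] [Module F V]
  (Φ : Form K V)

theorem B_eq_zero_comm {u v : V} : Φ.B u v = 0 ↔ Φ.B v u = 0 := by
  rw [Φ.symm u v]; simp [K.ε_ne]

theorem B_symm_zero {u v : V} (h : Φ.B u v = 0) : Φ.B v u = 0 := Φ.B_eq_zero_comm.1 h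

@[simp] theorem N_zero : Φ.N 0 = 0 := by
  have := Φ.N_smul 0 0
  simpa using this

@[simp] theorem N_neg (v : V) : Φ.N (-v) = Φ.N v := by
  have := Φ.N_smul (-1) v
  simpa using this

theorem N_sub (u v : V) : Φ.N (u - v) = Φ.N u + Φ.N v - K.T (Φ.B u v) := by
  rw [sub_eq_add_neg, Φ.N_add]; simp [sub_eq_add_neg]

theorem B_self_of_N {v : V} (h : Φ.N v = 0) : Φ.B v v = 0 := by rw [Φ.B_self, h, mul_zero]

theorem B_smul_right (u v : V) (c : F) : Φ.B u (c • v) = K.σ c * Φ.B u v := by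
  rw [LinearMap.map_smulₛₗ]; rfl

theorem B_smul_left (u v : V) (c : F) : Φ.B (c • u) v = c * Φ.B u v := by
  rw [LinearMap.map_smul]; rfl

theorem N_add_of_orth {u v : V} (h : Φ.B u v = 0) : Φ.N (u + v) = Φ.N u + Φ.N v := by
  rw [Φ.N_add, h]; simp

/-- nondegeneracy -/
def Nondeg : Prop := ∀ v, (∀ u, Φ.B u v = 0) → v = 0

theorem Nondeg.left {Φ : Form K V} (h : Φ.Nondeg) {v : V} (hv : ∀ u, Φ.B v u = 0) : v = 0 :=
  h v fun u => Φ.B_symm_zero (hv u)

theorem Nondeg.exists_ne {Φ : Form K V} (h : Φ.Nondeg) {v : V} (hv : v ≠ 0) : ∃ u, Φ.B u v ≠ 0 := by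
  by_contra hc
  push Not at hc
  exact hv (h v hc)

theorem Nondeg.ext {Φ : Form K V} (h : Φ.Nondeg) {v w : V} (hv : ∀ u, Φ.B u v = Φ.B u w) : v = w := by
  rw [← sub_eq_zero]
  exact h _ fun u => by rw [map_sub, hv, sub_self]

theorem Nondeg.ext_left {Φ : Form K V} (h : Φ.Nondeg) {v w : V} (hv : ∀ u, Φ.B v u = Φ.B w u) : v = w := by
  rw [← sub_eq_zero]
  exact h.left fun u => by rw [map_sub, LinearMap.sub_apply, hv, sub_self]

/-- the isometry group -/
def Isom : Subgroup (V ≃ₗ[F] V) where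
  carrier := {g | (∀ u v, Φ.B (g u) (g v) = Φ.B u v) ∧ ∀ v, Φ.N (g v) = Φ.N v}
  one_mem' := ⟨fun _ _ => rfl, fun _ => rfl⟩
  mul_mem' {a b} ha hb := ⟨fun u v => by
      rw [LinearEquiv.mul_apply, LinearEquiv.mul_apply, ha.1, hb.1],
    fun v => by rw [LinearEquiv.mul_apply, ha.2, hb.2]⟩
  inv_mem' {a} ha := ⟨fun u v => by
      rw [← ha.1]; simp [LinearEquiv.coe_inv],
    fun v => by rw [← ha.2]; simp [LinearEquiv.coe_inv]⟩

theorem mem_Isom {g : V ≃ₗ[F] V} :
    g ∈ Φ.Isom ↔ (∀ u v, Φ.B (g u) (g v) = Φ.B u v) ∧ ∀ v, Φ.N (g v) = Φ.N v := Iff.rfl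

theorem Isom_B {Φ : Form K V} {g : V ≃ₗ[F] V} (h : g ∈ Φ.Isom) (u v : V) :
    Φ.B (g u) (g v) = Φ.B u v := h.1 u v

theorem Isom_N {Φ : Form K V} {g : V ≃ₗ[F] V} (h : g ∈ Φ.Isom) (v : V) :
    Φ.N (g v) = Φ.N v := h.2 v

theorem Isom_B_left {Φ : Form K V} {g : V ≃ₗ[F] V} (h : g ∈ Φ.Isom) (u v : V) :
    Φ.B (g u) v = Φ.B u (g.symm v) := by
  rw [← h.1 u (g.symm v)]; simp

theorem Isom_B_right {Φ : Form K V} {g : V ≃ₗ[F] V} (h : g ∈ Φ.Isom) (u v : V) :
    Φ.B u (g v) = Φ.B (g.symm u) v := by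
  rw [← h.1 (g.symm u) v]; simp

/-- pull back along a linear map -/
def comap {W : Type*} [AddCommGroup W] [Module F W] (f : W →ₗ[F] V) : Form K W where
  B := LinearMap.mk₂'ₛₗ (RingHom.id F) K.σ (fun u v => Φ.B (f u) (f v))
    (by intros; simp) (by intros; simp) (by intros; simp)
    (by intros; simp [Φ.B_smul_right])
  N v := Φ.N (f v)
  symm u v := Φ.symm _ _
  N_add u v := by simp [Φ.N_add]
  N_smul c v := by simp [Φ.N_smul]
  N_range v := Φ.N_range _
  B_self v := Φ.B_self _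

@[simp] theorem comap_B {W : Type*} [AddCommGroup W] [Module F W] (f : W →ₗ[F] V) (u v : W) :
    (Φ.comap f).B u v = Φ.B (f u) (f v) := rfl

@[simp] theorem comap_N {W : Type*} [AddCommGroup W] [Module F W] (f : W →ₗ[F] V) (v : W) :
    (Φ.comap f).N v = Φ.N (f v) := rfl

/-- restriction to a subspace -/
abbrev restrict (U : Submodule F V) : Form K U := Φ.comap U.subtype

/-- orthogonal complement -/
def perp (U : Submodule F V) : Submodule F V where
  carrier := {v | ∀ u ∈ U, Φ.B v u = 0}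
  zero_mem' := by simp
  add_mem' {a b} ha hb := fun u hu => by simp [ha u hu, hb u hu]
  smul_mem' c v hv := fun u hu => by simp [hv u hu]

theorem mem_perp {U : Submodule F V} {v : V} : v ∈ Φ.perp U ↔ ∀ u ∈ U, Φ.B v u = 0 := Iff.rfl

theorem mem_perp' {U : Submodule F V} {v : V} : v ∈ Φ.perp U ↔ ∀ u ∈ U, Φ.B u v = 0 :=
  ⟨fun h u hu => Φ.B_symm_zero (h u hu), fun h u hu => Φ.B_symm_zero (h u hu)⟩

theorem mem_perp_span {s : Set V} {v : V} : v ∈ Φ.perp (Submodule.span F s) ↔ ∀ u ∈ s, Φ.B v u = 0 := by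
  refine ⟨fun h u hu => h u (Submodule.subset_span hu), fun h u hu => ?_⟩
  induction hu using Submodule.span_induction with
  | mem x hx => exact h x hx
  | zero => simp
  | add x y _ _ hx hy => simp [hx, hy]
  | smul c x _ hx => simp [hx]

theorem mem_perp_singleton {u v : V} : v ∈ Φ.perp (F ∙ u) ↔ Φ.B v u = 0 := by
  rw [mem_perp_span]; simp

theorem perp_anti {U W : Submodule F V} (h : U ≤ W) : Φ.perp W ≤ Φ.perp U :=
  fun _ hv u hu => hv u (h hu)

theorem le_perp_perp (U : Submodule F V) : U ≤ Φ.perp (Φ.perp U) :=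
  fun _ hv _ hu => Φ.B_symm_zero (hu _ hv)

theorem le_perp_comm {U W : Submodule F V} : U ≤ Φ.perp W ↔ W ≤ Φ.perp U :=
  ⟨fun h _ hw _ hu => Φ.B_symm_zero (h hu _ hw), fun h _ hw _ hu => Φ.B_symm_zero (h hu _ hw)⟩

theorem perp_sup (U W : Submodule F V) : Φ.perp (U ⊔ W) = Φ.perp U ⊓ Φ.perp W := by
  refine le_antisymm (le_inf (Φ.perp_anti le_sup_left) (Φ.perp_anti le_sup_right)) ?_
  rintro v ⟨h1, h2⟩ u hu
  obtain ⟨a, ha, b, hb, rfl⟩ := Submodule.mem_sup.1 hu
  simp [h1 a ha, h2 b hb]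

@[simp] theorem perp_bot : Φ.perp ⊥ = ⊤ := by
  ext v; simp [mem_perp]

theorem Nondeg.perp_top {Φ : Form K V} (h : Φ.Nondeg) : Φ.perp ⊤ = ⊥ := by
  ext v; simp only [mem_perp, Submodule.mem_top, true_implies, Submodule.mem_bot]
  exact ⟨fun hv => h.left hv, fun hv => by simp [hv]⟩

theorem map_perp {g : V ≃ₗ[F] V} (hg : g ∈ Φ.Isom) (U : Submodule F V) :
    (Φ.perp U).map (g : V →ₗ[F] V) = Φ.perp (U.map (g : V →ₗ[F] V)) := by
  ext v
  rw [Submodule.mem_map_equiv]
  simp only [mem_perp, Submodule.mem_map, LinearEquiv.coe_coe]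
  constructor
  · rintro h _ ⟨u, hu, rfl⟩
    rw [Isom_B_right hg]; exact h u hu
  · intro h u hu
    rw [← Isom_B_right hg]; exact h _ ⟨u, hu, rfl⟩

section FD
variable [FiniteDimensional F V]

/-- every functional is represented -/
theorem Nondeg.exists_repr {Φ : Form K V} (h : Φ.Nondeg) (φ : V →ₗ[F] F) :
    ∃ v, ∀ x, Φ.B x v = φ x := by
  classical
  let b := Module.finBasis F V
  let L : V →ₗ[F] (Fin (finrank F V) → F) := LinearMap.pi fun i => Φ.B.flip (b i)
  have hinj : Function.Injective L := by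
    rw [← LinearMap.ker_eq_bot, Submodule.eq_bot_iff]
    intro x hx
    apply h.left
    intro u
    have hx' : ∀ i, Φ.B x (b i) = 0 := fun i => congrFun hx i
    rw [← b.sum_repr u, map_sum]
    exact Finset.sum_eq_zero fun i _ => by rw [Φ.B_smul_right, hx', mul_zero]
  have hsurj : Function.Surjective L :=
    (LinearMap.injective_iff_surjective_of_finrank_eq_finrank (by simp)).1 hinj
  obtain ⟨v, hv⟩ := hsurj fun i => K.σ (K.ε * φ (b i))
  refine ⟨v, fun x => ?_⟩
  have : Φ.B.flip v = φ := b.ext fun i => by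
    have h1 : Φ.B v (b i) = K.σ (K.ε * φ (b i)) := congrFun hv i
    simp only [LinearMap.flip_apply]
    rw [Φ.symm v, h1, K.σσ, ← mul_assoc, K.εε, one_mul]
  exact LinearMap.congr_fun this x

theorem Nondeg.exists_perp_one {Φ : Form K V} (h : Φ.Nondeg) {U : Submodule F V} {u : V} (hu : u ∉ U) :
    ∃ z, (∀ x ∈ U, Φ.B x z = 0) ∧ Φ.B u z = 1 := by
  obtain ⟨φ, hφ1, hφ2⟩ := U.exists_dual_map_eq_bot_of_notMem hu inferInstance
  obtain ⟨z, hz⟩ := h.exists_repr ((φ u)⁻¹ • φ)
  refine ⟨z, fun x hx => ?_, ?_⟩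
  · have : φ x = 0 := by
      have : φ x ∈ U.map φ := ⟨x, hx, rfl⟩
      rw [hφ2] at this; simpa using this
    simp [hz, this]
  · simp [hz, hφ1]

theorem Nondeg.perp_perp {Φ : Form K V} (h : Φ.Nondeg) (U : Submodule F V) :
    Φ.perp (Φ.perp U) = U := by
  refine le_antisymm (fun v hv => ?_) (Φ.le_perp_perp U)
  by_contra hc
  obtain ⟨z, hz1, hz2⟩ := h.exists_perp_one hc
  have := hv z (Φ.mem_perp'.2 hz1)
  simp [hz2] at this

theorem Nondeg.perp_inj {Φ : Form K V} (h : Φ.Nondeg) {U W : Submodule F V}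
    (e : Φ.perp U = Φ.perp W) : U = W := by
  rw [← h.perp_perp U, e, h.perp_perp]

theorem Nondeg.perp_inf {Φ : Form K V} (h : Φ.Nondeg) (U W : Submodule F V) :
    Φ.perp (U ⊓ W) = Φ.perp U ⊔ Φ.perp W := by
  apply h.perp_inj
  rw [h.perp_perp, perp_sup, h.perp_perp, h.perp_perp]

/-- prescribed values against a linearly independent family -/
theorem Nondeg.exists_values {Φ : Form K V} (h : Φ.Nondeg) {ι : Type*} {v : ι → V}
    (hv : LinearIndependent F v) (c : ι → F) : ∃ z, ∀ i, Φ.B (v i) z = c i := by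
  obtain ⟨φ, hφ⟩ := LinearMap.exists_extend ((Basis.span hv).constr F c)
  obtain ⟨z, hz⟩ := h.exists_repr φ
  refine ⟨z, fun i => ?_⟩
  rw [hz]
  have := LinearMap.congr_fun hφ (Basis.span hv i)
  rw [Basis.constr_basis] at this
  simpa using this

theorem Nondeg.finrank_perp {Φ : Form K V} (h : Φ.Nondeg) (U : Submodule F V) :
    finrank F (Φ.perp U) + finrank F U = finrank F V := by
  let b := Module.finBasis F U
  let L : V →ₗ[F] (Fin (finrank F U) → F) := LinearMap.pi fun i => Φ.B.flip (b i)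
  have hker : LinearMap.ker L = Φ.perp U := by
    ext x
    simp only [LinearMap.mem_ker, mem_perp]
    constructor
    · intro hx u hu
      have hx' : ∀ i, Φ.B x (b i) = 0 := fun i => congrFun hx i
      have : u = ∑ i, b.repr ⟨u, hu⟩ i • (b i : V) := by
        have := congrArg Subtype.val (b.sum_repr ⟨u, hu⟩)
        rw [Submodule.coe_sum] at this
        exact this.symm
      rw [this, map_sum]
      exact Finset.sum_eq_zero fun i _ => by rw [Φ.B_smul_right, hx', mul_zero]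
    · intro hx
      ext i
      exact hx _ (b i).2
  have hsurj : LinearMap.range L = ⊤ := by
    rw [LinearMap.range_eq_top]
    intro c
    have hli : LinearIndependent F fun i => (b i : V) :=
      b.linearIndependent.map' U.subtype (by simp)
    obtain ⟨z, hz⟩ := h.exists_values hli fun i => K.ε * K.σ (c i)
    refine ⟨z, funext fun i => ?_⟩
    show Φ.B z (b i) = c i
    rw [Φ.symm, hz, map_mul, K.σε, K.σσ, ← mul_assoc, K.εε, one_mul]
  have := L.finrank_range_add_finrank_ker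
  rw [hker, hsurj] at this
  simp at this
  omega

omit [FiniteDimensional F V] in
theorem restrict_nondeg_iff (U : Submodule F V) :
    (Φ.restrict U).Nondeg ↔ U ⊓ Φ.perp U = ⊥ := by
  rw [Submodule.eq_bot_iff]
  constructor
  · rintro h x ⟨hx1, hx2⟩
    have := h ⟨x, hx1⟩ fun u => Φ.B_symm_zero (hx2 u u.2)
    simpa using this
  · intro h v hv
    have := h v ⟨v.2, Φ.mem_perp'.2 fun u hu => hv ⟨u, hu⟩⟩
    simpa using this

/-- a nondegenerate subspace has the perp as a complement (no hypothesis on `V`) -/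
theorem isCompl_perp {U : Submodule F V} (hU : (Φ.restrict U).Nondeg) : IsCompl U (Φ.perp U) := by
  refine ⟨disjoint_iff.2 ((Φ.restrict_nondeg_iff U).1 hU), ?_⟩
  rw [codisjoint_iff, Submodule.eq_top_iff']
  intro v
  obtain ⟨u, hu⟩ := hU.exists_repr ((Φ.B.flip v).domRestrict U)
  refine Submodule.mem_sup.2 ⟨u, u.2, v - u, ?_, by simp⟩
  rw [mem_perp']
  intro x hx
  have := hu ⟨x, hx⟩
  simp at this
  simp [this]

theorem Nondeg.restrict_perp {Φ : Form K V} (h : Φ.Nondeg) {U : Submodule F V}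
    (hU : (Φ.restrict U).Nondeg) : (Φ.restrict (Φ.perp U)).Nondeg := by
  rw [restrict_nondeg_iff] at hU ⊢
  rw [h.perp_perp, inf_comm, hU]

/-- a linear map preserving a nondegenerate form is an isometry -/
theorem Nondeg.exists_isom_of_linear {Φ : Form K V} (h : Φ.Nondeg) (f : V →ₗ[F] V)
    (hB : ∀ u v, Φ.B (f u) (f v) = Φ.B u v) (hN : ∀ v, Φ.N (f v) = Φ.N v) :
    ∃ g ∈ Φ.Isom, ∀ v, g v = f v := by
  have hinj : Function.Injective f := by
    rw [← LinearMap.ker_eq_bot, Submodule.eq_bot_iff]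
    intro x hx
    apply h
    intro u
    rw [← hB, LinearMap.mem_ker.1 hx]; simp
  exact ⟨LinearEquiv.ofInjectiveEndo f hinj, ⟨hB, hN⟩, fun _ => rfl⟩

end FD

end Form

end Cfsg.Agent.Classical
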