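import Cfsg.Agent.Lib.Classical.SpUE

/-! Matrix description and order of `GU_n(q)`. -/
set_option autoImplicit false
open Matrix

namespace Cfsg.Agent.Classical
variable {F : Type*} [Field F] [Fintype F] {q : ℕ}

theorem mem_GU_mat (hF : Fintype.card F = q ^ 2) {n : ℕ} {g : GL (Fin n) F} :
    g ∈ Cfsg.GU n F q ↔ ∀ i j, ∑ k, g.val k i * g.val k j ^ q = if i = j then 1 else 0 := by
  have hq := two_le_of_card_sq hF
  constructor
  · intro h i j
    have := h (Pi.single i 1) (Pi.single j 1)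
    simp only [Cfsg.hermForm, Units.coeHom_apply, mulVec_single_one, col_apply] at this
    rw [this, Finset.sum_eq_single i (fun k _ hk => by simp [hk]) (by simp)]
    by_cases hij : i = j
    · simp [hij]
    · simp [hij, show q ≠ 0 by omega]
  · intro h u v
    simp only [Cfsg.hermForm, Units.coeHom_apply, mulVec, dotProduct, ← frobq_apply hF, map_sum,
      map_mul, Finset.sum_mul_sum] at h ⊢
    rw [Finset.sum_comm]
    refine Finset.sum_congr rfl fun i _ => ?_
    rw [Finset.sum_comm]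
    calc ∑ j, ∑ k, g.val k i * u i * (frobq hF (g.val k j) * frobq hF (v j))
        = ∑ j, (u i * frobq hF (v j)) * ∑ k, g.val k i * frobq hF (g.val k j) := by
          refine Finset.sum_congr rfl fun j _ => ?_
          rw [Finset.mul_sum]
          exact Finset.sum_congr rfl fun k _ => by ring
      _ = _ := by simp only [h]; simp

theorem unit_prod_cast (hq : 1 ≤ q) (n : ℕ) :
    ((q ^ (n * (n - 1) / 2) *
      ∏ i ∈ Finset.range n, (if Even i then q ^ (i + 1) + 1 else q ^ (i + 1) - 1) : ℕ) : ℤ) =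
      (q : ℤ) ^ (n * (n - 1) / 2) * ∏ i : Fin n, ((q : ℤ) ^ ((i : ℕ) + 1) - (-1) ^ ((i : ℕ) + 1)) := by
  rw [Fin.prod_univ_eq_prod_range (fun i => (q : ℤ) ^ (i + 1) - (-1) ^ (i + 1))]
  push_cast
  congr 1
  refine Finset.prod_congr rfl fun i _ => ?_
  split_ifs with h
  · rw [h.add_one.neg_one_pow]; ring
  · rw [(Nat.not_even_iff_odd.1 h).add_one.neg_one_pow, Nat.cast_sub (Nat.one_le_pow _ _ hq)]
    simp

theorem card_GU_int (hF : Fintype.card F = q ^ 2) (n : ℕ) : (Nat.card (Cfsg.GU n F q) : ℤ) =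
    (q : ℤ) ^ (n * (n - 1) / 2) * ∏ i : Fin n, ((q : ℤ) ^ ((i : ℕ) + 1) - (-1) ^ ((i : ℕ) + 1)) := by
  rw [Nat.card_congr (guEquiv hF n).toEquiv, card_unit hF n _ (uForm_nondeg hF n) (by simp),
    unit_prod_cast (by have := two_le_of_card_sq hF; omega)]

end Cfsg.Agent.Classical
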