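import Cfsg.Agent.Lib.Classical.Orth2

/-! Generation by transvections and reflections. -/

set_option autoImplicit false

namespace Cfsg.Agent.Classical

open Module

namespace Form
variable {F : Type*} [Field F] {V : Type*} [AddCommGroup V] [Module F V]

section General
variable {K : Kind F} (Φ : Form K V)

theorem exists_two_ne {U : Submodule F V} [FiniteDimensional F V] {Φ : Form K V} (hΦ : Φ.Nondeg)
    {u u' : V} (hu : u ∉ U) (hu' : u' ∉ U) :
    ∃ z, (∀ x ∈ U, Φ.B x z = 0) ∧ Φ.B u z ≠ 0 ∧ Φ.B u' z ≠ 0 := by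
  obtain ⟨z, h1, h2⟩ := hΦ.exists_perp_one hu
  obtain ⟨z', h1', h2'⟩ := hΦ.exists_perp_one hu'
  by_cases h3 : Φ.B u' z = 0
  · by_cases h4 : Φ.B u z' = 0
    · exact ⟨z + z', fun x hx => by simp [h1 x hx, h1' x hx], by simp [h2, h4], by simp [h3, h2']⟩
    · exact ⟨z', h1', h4, by simp [h2']⟩
  · exact ⟨z, h1, by simp [h2], h3⟩

theorem family_of_step {Φ : Form K V} (S : Subgroup (V ≃ₗ[F] V)) (hS : S ≤ Φ.Isom)
    (step : ∀ (H : Submodule F V) (u u' : V), u ∉ H → u' ∉ H → (∀ x ∈ H, Φ.B x u = Φ.B x u') →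
      Φ.N u = Φ.N u' → ∃ g ∈ S, (∀ x ∈ H, g x = x) ∧ g u = u')
    {k : ℕ} (v w : Fin k → V) (hv : LinearIndependent F v) (hw : LinearIndependent F w)
    (hB : ∀ i j, Φ.B (v i) (v j) = Φ.B (w i) (w j)) (hN : ∀ i, Φ.N (v i) = Φ.N (w i)) :
    ∃ g ∈ S, ∀ i, g (v i) = w i := by
  induction k with
  | zero => exact ⟨1, Subgroup.one_mem _, fun i => i.elim0⟩
  | succ k ih =>
    rw [linearIndependent_finSucc] at hv hw
    obtain ⟨g, hg, hgv⟩ := ih (Fin.tail v) (Fin.tail w) hv.1 hw.1 (fun i j => hB _ _) (fun i => hN _)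
    have hgI : g ∈ Φ.Isom := hS hg
    have h1 : g (v 0) ∉ Submodule.span F (Set.range (Fin.tail w)) := by
      intro h
      apply hv.2
      have : Set.range (Fin.tail w) = (g : V →ₗ[F] V) '' Set.range (Fin.tail v) := by
        rw [← Set.range_comp]; congr 1; ext i; simp [hgv]
      rw [this, ← Submodule.map_span, Submodule.mem_map_equiv] at h
      simpa using h
    obtain ⟨t, ht, ht1, ht2⟩ := step _ _ _ h1 hw.2 (by
      intro x hx
      induction hx using Submodule.span_induction with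
      | mem x hx => obtain ⟨i, rfl⟩ := hx; rw [← hgv, hgI.1, hgv]; exact hB _ _
      | zero => simp
      | add x y _ _ hx hy => simp [hx, hy]
      | smul c x _ hx => simp [hx]) (by rw [hgI.2, hN])
    refine ⟨t * g, Subgroup.mul_mem _ ht hg, fun i => ?_⟩
    refine Fin.cases ht2 (fun i => ?_) i
    have := hgv i
    simp only [Fin.tail] at this
    rw [LinearEquiv.mul_apply, this]
    exact ht1 _ (Submodule.subset_span ⟨i, rfl⟩)

theorem eq_Isom_of_step [FiniteDimensional F V] {Φ : Form K V} (S : Subgroup (V ≃ₗ[F] V))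
    (hS : S ≤ Φ.Isom)
    (step : ∀ (H : Submodule F V) (u u' : V), u ∉ H → u' ∉ H → (∀ x ∈ H, Φ.B x u = Φ.B x u') →
      Φ.N u = Φ.N u' → ∃ g ∈ S, (∀ x ∈ H, g x = x) ∧ g u = u') : S = Φ.Isom := by
  refine le_antisymm hS fun g hg => ?_
  let b := Module.finBasis F V
  obtain ⟨t, ht, h⟩ := family_of_step S hS step b (g ∘ b) b.linearIndependent
    (b.linearIndependent.map' (g : V →ₗ[F] V) g.ker) (fun i j => (hg.1 _ _).symm)
    (fun i => (hg.2 _).symm)
  have : t = g := b.ext' h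
  exact this ▸ ht

theorem closure_preimage_top {G : Type*} [Group G] {S : Set G} {H : Subgroup G}
    (h : Subgroup.closure S = H) : Subgroup.closure {g : H | g.1 ∈ S} = ⊤ := by
  subst h
  exact Subgroup.closure_preimage_eq_top S

theorem mem_closure_subtype {G : Type*} [Group G] {S : Set G} {H : Subgroup G} (hS : S ⊆ H) {g : H} :
    g ∈ Subgroup.closure {g : H | g.1 ∈ S} ↔ g.1 ∈ Subgroup.closure S := by
  have : (Subgroup.closure {g : H | g.1 ∈ S}).map H.subtype = Subgroup.closure S := by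
    rw [MonoidHom.map_closure]; congr 1
    ext x
    exact ⟨by rintro ⟨y, hy, rfl⟩; exact hy, fun hx => ⟨⟨x, hS hx⟩, hx, rfl⟩⟩
  rw [← this]
  exact (Subgroup.mem_map_iff_mem H.subtype_injective).symm

/-- the transvections `x ↦ x + c B(x,d) d` with `d` singular -/
def transvSet : Set (V ≃ₗ[F] V) := {g | ∃ d c h, Φ.N d = 0 ∧ g = Φ.qrefl d c h}

theorem transvSet_subset : Φ.transvSet ⊆ Φ.Isom := by
  rintro g ⟨d, c, h, -, rfl⟩; exact Φ.qrefl_mem _ _ _

/-- the Eichler transformations -/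
def eichSet : Set (V ≃ₗ[F] V) := {g | ∃ e y a h, g = Φ.eich e y a h}

theorem eichSet_subset : Φ.eichSet ⊆ Φ.Isom := by
  rintro g ⟨e, y, a, h, rfl⟩; exact Φ.eich_mem _ _ _ _

theorem closure_conj_mem {G : Type*} [Group G] {S : Set G} {g : G} (h : ∀ s ∈ S, g * s * g⁻¹ ∈ S) {x : G}
    (hx : x ∈ Subgroup.closure S) : g * x * g⁻¹ ∈ Subgroup.closure S := by
  induction hx using Subgroup.closure_induction with
  | mem x hx => exact Subgroup.subset_closure (h x hx)
  | one => simp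
  | mul x y _ _ hx hy => convert mul_mem hx hy using 1; group
  | inv x _ hx => convert inv_mem hx using 1; group

theorem eichSet_conj {g : V ≃ₗ[F] V} (hg : g ∈ Φ.Isom) : ∀ s ∈ Φ.eichSet, g * s * g⁻¹ ∈ Φ.eichSet := by
  rintro _ ⟨e, y, a, h, rfl⟩
  exact ⟨_, _, _, _, Φ.eich_conj hg h⟩

theorem transvSet_conj {g : V ≃ₗ[F] V} (hg : g ∈ Φ.Isom) :
    ∀ s ∈ Φ.transvSet, g * s * g⁻¹ ∈ Φ.transvSet := by
  rintro _ ⟨d, c, h, hd, rfl⟩
  exact ⟨_, _, _, by rw [hg.2, hd], Φ.qrefl_conj hg d c h⟩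

theorem det_qrefl [FiniteDimensional F V] (d : V) (c : F) (h) :
    (LinearEquiv.det (Φ.qrefl d c h) : F) = 1 + c * Φ.B d d := by
  rw [LinearEquiv.coe_det]
  have : (Φ.qrefl d c h : V →ₗ[F] V) = LinearMap.transvection (c • Φ.B.flip d) d := by
    ext x; simp [qrefl_apply, LinearMap.transvection.apply]
  rw [this, LinearMap.transvection.det]; simp

theorem det_eich [FiniteDimensional F V] (e y : V) (a : F) (h) :
    LinearEquiv.det (Φ.eich e y a h) = 1 := by
  ext
  rw [LinearEquiv.coe_det]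
  have h1 := Φ.B_self_of_N h.he
  have h2 := Φ.B_symm_zero h.hy
  have : (Φ.eich e y a h : V →ₗ[F] V) = LinearMap.transvection (-K.ε • Φ.B.flip e) y ∘ₗ
      LinearMap.transvection (Φ.B.flip y - (K.ε * a) • Φ.B.flip e) e := by
    ext x
    simp only [LinearEquiv.coe_coe, eich_apply, LinearMap.comp_apply, LinearMap.transvection.apply,
      LinearMap.smul_apply, LinearMap.flip_apply, LinearMap.sub_apply, map_add, map_smul,
      smul_eq_mul, h1]
    module
  rw [this, LinearMap.det_comp, LinearMap.transvection.det, LinearMap.transvection.det]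
  simp [h1, h2, h.hy]

theorem det_dil [FiniteDimensional F V] (e f : V) (h) (l : Fˣ) :
    (LinearEquiv.det (Φ.dil e f h l) : F) = l * (K.σ l)⁻¹ := by
  rw [LinearEquiv.coe_det]
  have h4 := K.εε
  have : (Φ.dil e f h l : V →ₗ[F] V) = LinearMap.transvection (((l : F) - 1) • Φ.B.flip f) e ∘ₗ
      LinearMap.transvection ((((K.σ l)⁻¹ - 1) * K.ε) • Φ.B.flip e) f := by
    ext x
    simp only [LinearEquiv.coe_coe, dil_apply, LinearMap.comp_apply, LinearMap.transvection.apply,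
      LinearMap.smul_apply, LinearMap.flip_apply, map_add, map_smul,
      smul_eq_mul, h.Bff]
    module
  rw [this, LinearMap.det_comp, LinearMap.transvection.det, LinearMap.transvection.det]
  simp only [LinearMap.smul_apply, LinearMap.flip_apply, h.hef, h.Bfe, smul_eq_mul]
  linear_combination (l * ((K.σ l)⁻¹ - 1)) * h4

end General

/-! ### symplectic transvections -/

theorem symp_closure_transvSet [FiniteDimensional F V] {Φ : Form (Kind.symp F) V} (hΦ : Φ.Nondeg) :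
    Subgroup.closure Φ.transvSet = Φ.Isom := by
  refine eq_Isom_of_step _ ((Subgroup.closure_le _).2 Φ.transvSet_subset) ?_
  have key : ∀ (H : Submodule F V) (u u' : V), (∀ x ∈ H, Φ.B x u = Φ.B x u') → Φ.B u (u' - u) ≠ 0 →
      ∃ g ∈ Subgroup.closure Φ.transvSet, (∀ x ∈ H, g x = x) ∧ g u = u' := by
    intro H u u' hB h1
    have hN : Φ.N u = Φ.N u' := by rw [Φ.symp_N, Φ.symp_N]
    exact ⟨_, Subgroup.subset_closure ⟨_, _, Φ.qrefl_cond hN h1, Φ.symp_N _, rfl⟩,
      fun x hx => by rw [qrefl_apply, show Φ.B x (u' - u) = 0 by rw [map_sub, hB x hx, sub_self]]; simp,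
      Φ.qrefl_map hN h1⟩
  intro H u u' hu hu' hB _
  by_cases h1 : Φ.B u (u' - u) = 0
  swap
  · exact key H u u' hB h1
  obtain ⟨z, hz, h2, h3⟩ := exists_two_ne hΦ hu hu'
  have h0 : ∀ x, Φ.B x x = 0 := fun x => Φ.B_self_of_N (Φ.symp_N x)
  obtain ⟨g, hg, hg1, hg2⟩ := key H u (u + z) (fun x hx => by simp [hz x hx]) (by simpa using h2)
  obtain ⟨g', hg', hg1', hg2'⟩ := key H (u + z) u' (fun x hx => by simp [hz x hx, hB x hx]) (by
    rw [map_sub, h0, sub_zero] at h1 ⊢
    rw [map_add, LinearMap.add_apply, h1, zero_add]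
    exact fun h => h3 (Φ.B_symm_zero h))
  exact ⟨g' * g, mul_mem hg' hg, fun x hx => by simp [hg1 x hx, hg1' x hx], by simp [hg2, hg2']⟩

/-! ### reflections -/
section Orth
variable (Φ : Form (Kind.orth F) V)

/-- reflection in a nonsingular vector -/
def refl (v : V) (h : Φ.N v ≠ 0) : V ≃ₗ[F] V :=
  Φ.qrefl v (-(Φ.N v)⁻¹) (by simp only [Kind.orth_σ, Kind.orth_T]; field_simp; ring)

theorem refl_apply (v : V) (h) (x : V) : Φ.refl v h x = x - ((Φ.N v)⁻¹ * Φ.B x v) • v := by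
  rw [refl, qrefl_apply]; module

theorem refl_mem (v : V) (h) : Φ.refl v h ∈ Φ.Isom := Φ.qrefl_mem _ _ _

theorem refl_self (v : V) (h) : Φ.refl v h v = -v := by
  rw [refl_apply, Φ.orth_B_self]; match_scalars; field_simp; ring

theorem refl_of_perp (v : V) (h) {x : V} (hx : Φ.B x v = 0) : Φ.refl v h x = x := by
  simp [refl_apply, hx]

theorem refl_mul_self (v : V) (h) : Φ.refl v h * Φ.refl v h = 1 := by
  ext x
  rw [LinearEquiv.mul_apply]
  conv_lhs => rw [Φ.refl_apply v h x, map_sub, map_smul, refl_self, refl_apply]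
  simp

theorem refl_refl (v : V) (h) (x : V) : Φ.refl v h (Φ.refl v h x) = x :=
  DFunLike.congr_fun (Φ.refl_mul_self v h) x

theorem refl_inv (v : V) (h) : (Φ.refl v h)⁻¹ = Φ.refl v h :=
  inv_eq_of_mul_eq_one_right (Φ.refl_mul_self v h)

theorem refl_conj {g : V ≃ₗ[F] V} (hg : g ∈ Φ.Isom) (v : V) (h) :
    g * Φ.refl v h * g⁻¹ = Φ.refl (g v) (by rw [hg.2]; exact h) := by
  ext x
  simp [refl_apply, LinearEquiv.coe_inv, Isom_B_right hg, hg.2]

theorem refl_smul (v : V) (h) {c : F} (hc : c ≠ 0) (h') : Φ.refl (c • v) h' = Φ.refl v h := by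
  ext x
  rw [refl_apply, refl_apply, Φ.orth_N_smul, Φ.orth_B_smul]
  match_scalars <;> field_simp

theorem refl_congr {v w : V} (h) (e : v = w) : Φ.refl v h = Φ.refl w (e ▸ h) := by subst e; rfl

theorem det_refl [FiniteDimensional F V] (v : V) (h) : (LinearEquiv.det (Φ.refl v h) : F) = -1 := by
  rw [refl, det_qrefl, Φ.orth_B_self]; field_simp; ring

/-- the reflections -/
def reflSet : Set (V ≃ₗ[F] V) := {g | ∃ v h, g = Φ.refl v h}

/-- products of two reflections -/
def refl2Set : Set (V ≃ₗ[F] V) := {g | ∃ u h v h', g = Φ.refl u h * Φ.refl v h'}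

theorem reflSet_subset : Φ.reflSet ⊆ Φ.Isom := by
  rintro g ⟨v, h, rfl⟩; exact Φ.refl_mem _ _

theorem refl2Set_subset : Φ.refl2Set ⊆ Φ.Isom := by
  rintro g ⟨v, h, w, h', rfl⟩; exact mul_mem (Φ.refl_mem _ _) (Φ.refl_mem _ _)

theorem closure_refl2Set_le : Subgroup.closure Φ.refl2Set ≤ Subgroup.closure Φ.reflSet := by
  rw [Subgroup.closure_le]
  rintro g ⟨v, h, w, h', rfl⟩
  exact mul_mem (Subgroup.subset_closure ⟨_, _, rfl⟩) (Subgroup.subset_closure ⟨_, _, rfl⟩)

theorem IsHyp.N_add_smul {Φ : Form (Kind.orth F) V} {e f : V} (h : Φ.IsHyp e f) (a : F) :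
    Φ.N (e + a • f) = a := by
  have := h.orth_N 1 a
  simpa using this

theorem IsHyp.refl_mul_refl {Φ : Form (Kind.orth F) V} {e f : V} (h : Φ.IsHyp e f) {a b : F}
    (ha : a ≠ 0) (hb : b ≠ 0) :
    Φ.refl (e + a • f) (by rwa [h.N_add_smul]) * Φ.refl (e + b • f) (by rwa [h.N_add_smul]) =
      Φ.dil e f h (Units.mk0 (b / a) (div_ne_zero hb ha)) := by
  ext x
  have h1 := h.Bfe
  simp only [LinearEquiv.mul_apply, refl_apply, dil_apply, h.N_add_smul, map_add, map_sub,
    LinearMap.add_apply, LinearMap.sub_apply, Φ.B_smul_left, Φ.orth_B_smul, h.Bee, h.Bff, h.hef,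
    h.Bfe, Kind.orth_ε, Kind.orth_σ, Units.val_mk0]
  match_scalars <;> field_simp <;> ring

theorem eich_eq_refl_mul {e y : V} {a : F} (h : Φ.IsEich e y a) (hy : Φ.N y ≠ 0) :
    ∃ h', Φ.eich e y a h = Φ.refl y hy * Φ.refl (y - a • e) h' := by
  have ha : a = Φ.N y := h.ha
  have h1 := Φ.B_self_of_N h.he
  have h2 := Φ.B_symm_zero h.hy
  have h3 : Φ.N (y - a • e) = Φ.N y := by
    rw [Φ.N_sub, Φ.orth_N_smul, h.he, Φ.orth_B_smul, h.hy]; simp
  refine ⟨by rwa [h3], ?_⟩
  ext x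
  simp only [LinearEquiv.mul_apply, refl_apply, eich_apply, h3, map_sub,
    LinearMap.sub_apply, Φ.B_smul_left, Φ.orth_B_smul, h1, h2, Φ.orth_B_self y, Kind.orth_ε]
  rw [ha]
  match_scalars <;> field_simp <;> ring

theorem eich_of_mem_span {e : V} (c : F) {a : F} (h : Φ.IsEich e (c • e) a) : Φ.eich e (c • e) a h = 1 := by
  have ha : a = 0 := by
    have : a = Φ.N (c • e) := h.ha
    rw [this, Φ.orth_N_smul, h.he, mul_zero]
  ext x
  simp only [eich_apply, Φ.orth_B_smul, ha, Kind.orth_ε, LinearEquiv.coe_one, id]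
  module

/-- the condition that excludes the hyperbolic 4-space over the field with two elements -/
def Good : Prop := ∀ e y, Φ.N e = 0 → Φ.N y = 0 → Φ.B y e = 0 → e ≠ 0 → y ∉ (F ∙ e) →
  ∃ z, Φ.B z e = 0 ∧ Φ.N z ≠ 0 ∧ Φ.N (y - z) ≠ 0

theorem TS_pair {K : Kind F} {Φ : Form K V} {e y : V} (he : Φ.N e = 0) (hy : Φ.N y = 0)
    (h : Φ.B y e = 0) : Φ.TS (Submodule.span F {e, y}) := by
  have h' := Φ.B_symm_zero h
  constructor
  · intro w hw
    obtain ⟨a, b, rfl⟩ := Submodule.mem_span_pair.1 hw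
    rw [Φ.N_add_of_orth (by simp [h']), Φ.N_smul, Φ.N_smul, he, hy]; simp
  · intro w hw w' hw'
    obtain ⟨a, b, rfl⟩ := Submodule.mem_span_pair.1 hw
    obtain ⟨a', b', rfl⟩ := Submodule.mem_span_pair.1 hw'
    simp [h, h', Φ.B_self_of_N he, Φ.B_self_of_N hy]

theorem finrank_span_pair [FiniteDimensional F V] {e y : V} (he : e ≠ 0) (hy : y ∉ (F ∙ e)) :
    finrank F (Submodule.span F {e, y}) = 2 := by
  rw [Submodule.span_insert, Submodule.finrank_sup_span_singleton hy, finrank_span_singleton he]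

theorem good_of_field [FiniteDimensional F V] {Φ : Form (Kind.orth F) V} (hΦ : Φ.Nondeg)
    (h : ∃ t : F, t ≠ 0 ∧ t ≠ 1) : Φ.Good := by
  intro e y he hy hye _ hy'
  obtain ⟨t, ht0, ht1⟩ := h
  obtain ⟨z, hz1, hz2⟩ := hΦ.exists_perp_one hy'
  have hz3 := hz1 e (Submodule.mem_span_singleton_self e)
  refine ⟨(t - Φ.N z) • y + (1 : F) • z, by simp [hye, Φ.B_symm_zero hz3], ?_, ?_⟩
  · rw [Φ.orth_N_comb, hy, hz2]; simpa using ht0
  · rw [show y - ((t - Φ.N z) • y + (1 : F) • z) = (1 - t + Φ.N z) • y + (-1 : F) • z by module,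
      Φ.orth_N_comb, hy, hz2]
    intro h; apply ht1; linear_combination h

theorem good_of_finrank [FiniteDimensional F V] {Φ : Form (Kind.orth F) V} (hΦ : Φ.Nondeg)
    (h : finrank F V ≠ 4) : Φ.Good := by
  intro e y he hy hye he0 hy'
  have hT := TS_pair he hy hye
  have h2 := finrank_span_pair he0 hy'
  have h3 := hT.two_finrank_le hΦ
  have h4 := hΦ.finrank_perp (Submodule.span F {e, y})
  by_contra hc
  push Not at hc
  have : Φ.TS (Φ.perp (Submodule.span F {e, y})) := TS_orth fun w hw => by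
    rw [mem_perp_span] at hw
    by_contra h0
    have := hc w (hw e (by simp)) h0
    rw [Φ.N_sub, hy, Φ.B_symm_zero (hw y (by simp))] at this
    exact h0 (by simpa using this)
  have := this.two_finrank_le hΦ
  omega

theorem good_of_no_TS [FiniteDimensional F V] {Φ : Form (Kind.orth F) V}
    (h : ∀ W : Submodule F V, Φ.TS W → finrank F W ≠ 2) : Φ.Good :=
  fun _ _ he hy hye he0 hy' => absurd (finrank_span_pair he0 hy') (h _ (TS_pair he hy hye))

theorem good_of_card [Fintype F] [FiniteDimensional F V] {Φ : Form (Kind.orth F) V} (hΦ : Φ.Nondeg)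
    (h : Fintype.card F ≠ 2 ∨ finrank F V ≠ 4) : Φ.Good := by
  rcases h with h | h
  · apply good_of_field hΦ
    by_contra hc
    push Not at hc
    apply h
    classical
    rw [← Finset.card_univ, show (Finset.univ : Finset F) = {0, 1} from ?_]
    · simp
    · ext x; by_cases hx : x = 0 <;> simp [hx, hc x]
  · exact good_of_finrank hΦ h

theorem good_of_two [FiniteDimensional F V] {Φ : Form (Kind.orth F) V} (hΦ : Φ.Nondeg)
    (h : (2 : F) ≠ 0) : Φ.Good :=
  good_of_field hΦ ⟨-1, by simp, fun h1 => h (by linear_combination -h1)⟩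

theorem Good.eich_mem {Φ : Form (Kind.orth F) V} (hG : Φ.Good) {e y : V} {a : F} (h : Φ.IsEich e y a) :
    Φ.eich e y a h ∈ Subgroup.closure Φ.refl2Set := by
  have key : ∀ {y a} (h : Φ.IsEich e y a), Φ.N y ≠ 0 →
      Φ.eich e y a h ∈ Subgroup.closure Φ.refl2Set := by
    intro y a h hy
    obtain ⟨h', h2⟩ := Φ.eich_eq_refl_mul h hy
    exact Subgroup.subset_closure ⟨_, _, _, _, h2⟩
  by_cases hy : Φ.N y = 0
  swap
  · exact key h hy
  by_cases he0 : e = 0
  · subst he0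
    have : Φ.eich 0 y a h = 1 := by ext x; simp [eich_apply]
    rw [this]; exact one_mem _
  by_cases hy' : y ∈ (F ∙ e)
  · obtain ⟨c, rfl⟩ := Submodule.mem_span_singleton.1 hy'
    rw [eich_of_mem_span]; exact one_mem _
  obtain ⟨z, h1, h2, h3⟩ := hG e y h.he hy h.hy he0 hy'
  have e1 : Φ.IsEich e z (Φ.N z) := ⟨h.he, h1, rfl⟩
  have e2 : Φ.IsEich e (y - z) (Φ.N (y - z)) := ⟨h.he, by simp [h.hy, h1], rfl⟩
  have := mul_mem (key e1 h2) (key e2 h3)
  rw [eich_mul] at this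
  convert this using 1
  apply eich_congr
  · simp
  · have h4 : a = Φ.N y := h.ha
    have h5 : Φ.N z + Φ.N (y - z) + Φ.B (y - z) z = Φ.N (z + (y - z)) := (e1.add e2).ha
    rw [h4, h5]; simp

theorem dil_mem_refl2 {e f : V} (h : Φ.IsHyp e f) (l : Fˣ) : Φ.dil e f h l ∈ Φ.refl2Set :=
  ⟨_, _, _, _, by
    rw [h.refl_mul_refl one_ne_zero l.ne_zero]; congr; ext; simp⟩

theorem qrefl_orth_cases (d : V) (c : F) (h) : Φ.qrefl d c h = 1 ∨ Φ.qrefl d c h ∈ Φ.reflSet := by
  by_cases hc : c = 0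
  · left; ext x; simp [qrefl_apply, hc]
  · right
    have h1 : c * Φ.N d = -1 := by
      simp only [Kind.orth_σ, Kind.orth_T] at h
      apply mul_left_cancel₀ hc; linear_combination h
    have h2 : Φ.N d ≠ 0 := by rintro h0; simp [h0] at h1
    refine ⟨d, h2, ?_⟩
    have : c = -(Φ.N d)⁻¹ := by field_simp; exact h1
    subst this; rfl

theorem Good.closure_reflSet [FiniteDimensional F V] {Φ : Form (Kind.orth F) V} (hG : Φ.Good)
    (hΦ : Φ.Nondeg) : Subgroup.closure Φ.reflSet = Φ.Isom := by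
  refine le_antisymm ((Subgroup.closure_le _).2 Φ.reflSet_subset) ?_
  rw [← hΦ.closure_elemSet, Subgroup.closure_le]
  rintro g (⟨d, c, h, rfl⟩ | ⟨e, y, a, h, rfl⟩ | ⟨e, f, h, l, rfl⟩)
  · rcases Φ.qrefl_orth_cases d c h with h1 | h1
    · rw [h1]; exact one_mem _
    · exact Subgroup.subset_closure h1
  · exact Φ.closure_refl2Set_le (hG.eich_mem h)
  · exact Φ.closure_refl2Set_le (Subgroup.subset_closure (Φ.dil_mem_refl2 h l))

/-- left induction on products of reflections -/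
theorem Good.induction [FiniteDimensional F V] {Φ : Form (Kind.orth F) V} (hG : Φ.Good)
    (hΦ : Φ.Nondeg) {P : (V ≃ₗ[F] V) → Prop} (h1 : P 1)
    (hs : ∀ v h, ∀ g ∈ Φ.Isom, P g → P (Φ.refl v h * g)) : ∀ g ∈ Φ.Isom, P g := by
  intro g hg
  rw [← hG.closure_reflSet hΦ] at hg
  induction hg using Subgroup.closure_induction_left with
  | one => exact h1
  | mul_left x hx y hy ih =>
    obtain ⟨v, h, rfl⟩ := hx
    exact hs v h y (hG.closure_reflSet hΦ ▸ hy) ih
  | inv_mul_cancel x hx y hy ih =>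
    obtain ⟨v, h, rfl⟩ := hx
    rw [refl_inv]
    exact hs v h y (hG.closure_reflSet hΦ ▸ hy) ih

theorem Good.mem_refl2_or [FiniteDimensional F V] {Φ : Form (Kind.orth F) V} (hG : Φ.Good)
    (hΦ : Φ.Nondeg) : ∀ g ∈ Φ.Isom, g ∈ Subgroup.closure Φ.refl2Set ∨
      ∃ v h, Φ.refl v h * g ∈ Subgroup.closure Φ.refl2Set := by
  refine hG.induction hΦ (Or.inl (one_mem _)) ?_
  rintro v h g - (hg | ⟨w, h', hg⟩)
  · exact Or.inr ⟨v, h, by rwa [← mul_assoc, refl_mul_self, one_mul]⟩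
  · left
    have := mul_mem (Subgroup.subset_closure (show _ ∈ Φ.refl2Set from ⟨v, h, w, h', rfl⟩)) hg
    rwa [mul_assoc, ← mul_assoc (Φ.refl w h'), refl_mul_self, one_mul] at this

end Orth

end Form

end Cfsg.Agent.Classical
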