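import Cfsg.Agent.Lib.Classical.OrthStm
import Cfsg.Agent.Lib.Classical.SpUE

/-! Isometric actions on subquotients; the heart of the permutation module. -/
set_option autoImplicit false
open Module

namespace Cfsg.Agent.Classical
variable {F : Type*} [Field F] {V W : Type*} [AddCommGroup V] [Module F V] [AddCommGroup W] [Module F W]
  {G : Type*} [Group G]

theorem Form.Nondeg.exists_heart {K : Kind F} {Ψ : Form K W} (hΨ : Ψ.Nondeg) (U : Submodule F V) (π : V →ₗ[F] W)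
    (hπ : ∀ w, ∃ u ∈ U, π u = w) (ρ : G →* V ≃ₗ[F] V) (hU : ∀ g, ∀ u ∈ U, ρ g u ∈ U)
    (hB : ∀ g, ∀ u ∈ U, ∀ v ∈ U, Ψ.B (π (ρ g u)) (π (ρ g v)) = Ψ.B (π u) (π v))
    (hN : ∀ g, ∀ u ∈ U, Ψ.N (π (ρ g u)) = Ψ.N (π u)) :
    ∃ φ : G →* Ψ.Isom, ∀ g, ∀ u ∈ U, (φ g).1 (π u) = π (ρ g u) := by
  obtain ⟨s, hs⟩ := (π ∘ₗ U.subtype).exists_rightInverse_of_surjective (LinearMap.range_eq_top.2 fun w =>
    let ⟨u, h, e⟩ := hπ w; ⟨⟨u, h⟩, e⟩)
  have hs' : ∀ w, π (s w) = w := LinearMap.congr_fun hs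
  let a : G → W →ₗ[F] W := fun g => π ∘ₗ (ρ g : V →ₗ[F] V) ∘ₗ U.subtype ∘ₗ s
  have k : ∀ g, ∀ u ∈ U, a g (π u) = π (ρ g u) := fun g u hu => hΨ.ext fun w => by
    obtain ⟨v, hv, rfl⟩ := hπ w
    have e : v = ρ g (ρ g⁻¹ v) := by rw [← LinearEquiv.mul_apply, ← map_mul]; simp
    rw [e]
    exact (hB g _ (hU _ _ hv) _ (s _).2).trans (by rw [hB g _ (hU _ _ hv) _ hu, hs'])
  have k1 : ∀ g h w, a g (a h w) = a (g * h) w := fun g h w => (k g _ (hU _ _ (s w).2)).trans (by simp [a])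
  have k2 : ∀ w, a 1 w = w := fun w => by simp [a, hs']
  refine ⟨MonoidHom.mk' (fun g => ⟨LinearEquiv.ofLinearMap (a g) (a g⁻¹) (by ext; simp [k1, k2]) (by ext; simp [k1, k2]),
    fun u v => (hB g _ (s u).2 _ (s v).2).trans (by rw [hs', hs']), fun u => (hN g _ (s u).2).trans (by rw [hs'])⟩)
    fun g h => Subtype.ext (LinearEquiv.ext fun w => (k1 g h w).symm), k⟩

theorem Form.Nondeg.exists_heart_orth {Ψ : Form (Kind.orth F) W} (hΨ : Ψ.Nondeg) (U : Submodule F V) (π : V →ₗ[F] W)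
    (hπ : ∀ w, ∃ u ∈ U, π u = w) (ρ : G →* V ≃ₗ[F] V) (hU : ∀ g, ∀ u ∈ U, ρ g u ∈ U)
    (hN : ∀ g, ∀ u ∈ U, Ψ.N (π (ρ g u)) = Ψ.N (π u)) :
    ∃ φ : G →* Ψ.Isom, ∀ g, ∀ u ∈ U, (φ g).1 (π u) = π (ρ g u) :=
  hΨ.exists_heart U π hπ ρ hU (fun g u hu v hv => by
    rw [Ψ.orth_B, Ψ.orth_B, ← map_add, ← map_add, ← map_add, hN g _ (U.add_mem hu hv), hN g _ hu, hN g _ hv]) hN

/-- the permutation module -/
def permRep (F : Type*) [Field F] (ι : Type*) : Equiv.Perm ι →* (ι → F) ≃ₗ[F] (ι → F) :=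
  MonoidHom.mk' (fun g => LinearEquiv.funCongrLeft F F g⁻¹) fun _ _ => rfl

theorem permRep_apply {ι : Type*} (g : Equiv.Perm ι) (u : ι → F) : permRep F ι g u = u ∘ ⇑g⁻¹ := rfl

/-- vectors with coordinate sum zero -/
def sumZero (F : Type*) [Field F] (ι : Type*) [Fintype ι] : Submodule F (ι → F) :=
  LinearMap.ker (∑ i, LinearMap.proj i : (ι → F) →ₗ[F] F)

theorem mem_sumZero {ι : Type*} [Fintype ι] {u : ι → F} : u ∈ sumZero F ι ↔ ∑ i, u i = 0 := by simp [sumZero]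

theorem permRep_mem {ι : Type*} [Fintype ι] (g : Equiv.Perm ι) (u : ι → F) (h : u ∈ sumZero F ι) :
    permRep F ι g u ∈ sumZero F ι := mem_sumZero.2 ((Equiv.sum_comp g⁻¹ u).trans (mem_sumZero.1 h))

theorem perm_eq_one {ι : Type*} [Fintype ι] (h5 : 5 ≤ Fintype.card ι) {g : Equiv.Perm ι}
    (h : ∀ u ∈ sumZero F ι, ∃ c, permRep F ι g u - u = fun _ => c) : g = 1 := by
  classical
  refine Equiv.ext fun i => by_contra fun hi => ?_
  have ex : ∀ s : Finset ι, s.card < 5 → ∃ x, x ∉ s := fun s hs =>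
    Finset.exists_mem_notMem_of_card_lt_card (t := Finset.univ) (by simpa using hs.trans_le h5) |>.imp fun _ h => h.2
  obtain ⟨j, hj⟩ := ex {i, g i} (Finset.card_le_two.trans_lt (by decide))
  obtain ⟨x, hx⟩ := ex {i, j, g i, g j} (Finset.card_le_four.trans_lt (by decide))
  obtain ⟨c, hc⟩ := h (Pi.single i 1 - Pi.single j 1) (by simp [mem_sumZero])
  have a := congrFun hc x
  have b := congrFun hc (g i)
  simp only [Finset.mem_insert, Finset.mem_singleton, not_or] at hj hx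
  simp [permRep_apply, Pi.single_apply, Equiv.symm_apply_eq, hx, Ne.symm hj.1, Ne.symm hj.2,
    show g i ≠ i from hi] at a b
  simp [← a] at b

theorem esymm_perm {ι : Type*} [Fintype ι] (g : Equiv.Perm ι) (u : ι → F) (n : ℕ) :
    (Finset.univ.val.map (permRep F ι g u)).esymm n = (Finset.univ.val.map u).esymm n := by
  rw [permRep_apply, ← Multiset.map_map, Multiset.map_univ_val_equiv]

/-- the symmetric group acts on a quadratic space that is a subquotient of the permutation module -/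
theorem exists_perm_hom {ι : Type*} [Fintype ι] {Ψ : Form (Kind.orth F) W} (hΨ : Ψ.Nondeg) (π : (ι → F) →ₗ[F] W)
    (hπ : ∀ w, ∃ u ∈ sumZero F ι, π u = w) (c : F)
    (hN : ∀ u ∈ sumZero F ι, Ψ.N (π u) = c * (Finset.univ.val.map u).esymm 2) :
    ∃ φ : Equiv.Perm ι →* Ψ.Isom, ∀ g, ∀ u ∈ sumZero F ι, (φ g).1 (π u) = π (permRep F ι g u) :=
  hΨ.exists_heart_orth _ π hπ _ permRep_mem fun g u hu => by rw [hN _ hu, hN _ (permRep_mem g u hu), esymm_perm]

theorem nonempty_perm_equiv {ι : Type*} [Fintype ι] [DecidableEq ι] {Ψ : Form (Kind.orth F) W} (hΨ : Ψ.Nondeg)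
    (π : (ι → F) →ₗ[F] W) (hπ : ∀ w, ∃ u ∈ sumZero F ι, π u = w) (c : F)
    (hN : ∀ u ∈ sumZero F ι, Ψ.N (π u) = c * (Finset.univ.val.map u).esymm 2) (h5 : 5 ≤ Fintype.card ι)
    (hk : ∀ u ∈ sumZero F ι, π u = 0 → ∃ c, u = fun _ => c) (hc : Nat.card Ψ.Isom = (Fintype.card ι).factorial) :
    Nonempty (Ψ.Isom ≃* Equiv.Perm ι) := by
  obtain ⟨φ, h⟩ := exists_perm_hom hΨ π hπ c hN
  have : Finite Ψ.Isom := Nat.finite_of_card_ne_zero (hc ▸ Nat.factorial_ne_zero _)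
  refine ⟨(MulEquiv.ofBijective φ ((Nat.bijective_iff_injective_and_card _).2
    ⟨(injective_iff_map_eq_one _).2 fun g e => perm_eq_one (F := F) h5 fun u hu =>
      hk _ (sub_mem (permRep_mem g u hu) hu) ?_, by rw [hc, Nat.card_perm, Nat.card_eq_fintype_card]⟩)).symm⟩
  rw [map_sub, ← h g u hu, e]; simp

theorem exists_proj_ker (d : G →* ℤˣ) {n : G} (hn : n ∈ Subgroup.center G) (h2 : n * n = 1) (hd : d n = -1) :
    ∃ ψ : G →* d.ker, ∀ g, (ψ g : G) = if d g = 1 then g else g * n := by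
  have c := Subgroup.mem_center_iff.1 hn
  refine ⟨MonoidHom.mk' (fun g => ⟨if d g = 1 then g else g * n, ?_⟩) fun a b => Subtype.ext ?_, fun _ => rfl⟩
  · rcases Int.units_eq_one_or (d g) with h | h <;> simp [h, hd]
  · rcases Int.units_eq_one_or (d a) with h | h <;> rcases Int.units_eq_one_or (d b) with h' | h' <;>
      simp [h, h', mul_assoc, c b]
    rw [← mul_assoc, h2, one_mul]

theorem dick_neg [FiniteDimensional F V] {Φ : Form (Kind.orth F) V} (hΦ : Φ.Nondeg) (hG : Φ.Good)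
    (h : Odd (finrank F V)) : hG.dick hΦ ⟨LinearEquiv.neg F, neg_mem_Isom Φ⟩ = -1 := by
  have h2 := two_ne_of_odd hΦ h
  refine (Int.units_eq_one_or _).resolve_left fun h1 => ?_
  have := congrArg Units.val ((hG.dick_eq_one_iff hΦ h2).1 h1)
  rw [LinearEquiv.coe_det, show ((LinearEquiv.neg F : V ≃ₗ[F] V) : V →ₗ[F] V) = (-1 : F) • LinearMap.id
      by ext; simp, LinearMap.det_smul, h.neg_one_pow] at this
  apply h2
  simp at this
  linear_combination -this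

/-- in odd dimension, projection of the orthogonal group onto the special orthogonal group -/
theorem exists_proj_SO [FiniteDimensional F V] {Φ : Form (Kind.orth F) V} (hΦ : Φ.Nondeg) (hG : Φ.Good)
    (h : Odd (finrank F V)) : ∃ ψ : Φ.Isom →* (hG.dick hΦ).ker, ∀ g, ∃ c : F, (c = 1 ∨ c = -1) ∧
      ∀ v, (ψ g).1.1 v = c • g.1 v := by
  obtain ⟨ψ, k⟩ := exists_proj_ker (hG.dick hΦ) (n := ⟨LinearEquiv.neg F, neg_mem_Isom Φ⟩)
    (Subgroup.mem_center_iff.2 fun g => Subtype.ext (by ext; simp)) (Subtype.ext (by ext; simp)) (dick_neg hΦ hG h)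
  refine ⟨ψ, fun g => ?_⟩
  rw [k]
  split_ifs
  · exact ⟨1, .inl rfl, by simp⟩
  · exact ⟨-1, .inr rfl, by simp⟩

end Cfsg.Agent.Classical
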