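import Cfsg.Agent.Lib.Classical.Wt4

/-! Orbits of hermitian matrices. -/
set_option autoImplicit false
open Matrix Module

namespace Cfsg.Agent.Classical.Herm
variable {F : Type*} [Field F] {ι : Type*} [Fintype ι] [DecidableEq ι]

theorem exists_mat' {u w : ι → F} (hu : u ≠ 0) (hw : w ≠ 0) :
    ∃ g : Matrix ι ι F, g.det ≠ 0 ∧ (2 ≤ Fintype.card ι → g.det = 1) ∧ g *ᵥ u = w := by
  by_cases h : 2 ≤ Fintype.card ι
  · obtain ⟨g, hg⟩ := Wt.exists_SL_of_li (u := fun _ : Unit => u) (w := fun _ => w) (by rw [Fintype.card_unit]; exact h)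
      (linearIndependent_unique_iff.2 hu) (linearIndependent_unique_iff.2 hw)
    exact ⟨g.1, by rw [g.2]; exact one_ne_zero, fun _ => g.2, hg ()⟩
  · obtain ⟨g, h1, h2⟩ := Weil.exists_mat hu hw
    exact ⟨g, h1, fun h' => absurd h' h, h2⟩

variable {σ : F →+* F}

theorem exists_aniso (hσ : σ ≠ RingHom.id F) (hσ2 : ∀ a, σ (σ a) = a) {A : Matrix ι ι F} (hA : ∀ i j, σ (A i j) = A j i)
    (h0 : A ≠ 0) : ∃ v, (σ ∘ v) ⬝ᵥ A *ᵥ v ≠ 0 := by
  by_contra! h
  obtain ⟨t, ht⟩ : ∃ a, σ a ≠ a := by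
    by_contra! h; exact hσ (RingHom.ext h)
  have k : ∀ (c : F) i j, c * A i j + σ c * A j i = 0 := fun c i j => by
    have a := h (Pi.single i 1 + Pi.single j c)
    have e : ∀ (i : ι) (c : F), σ ∘ (Pi.single i c : ι → F) = Pi.single i (σ c) := fun i c => by
      ext l; simp [Pi.single_apply, apply_ite σ]
    have b := h (Pi.single i 1)
    have d := h (Pi.single j c)
    rw [show σ ∘ (Pi.single i 1 + Pi.single j c : ι → F) = σ ∘ (Pi.single i 1 : ι → F) + σ ∘ (Pi.single j c : ι → F) by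
      ext; simp, mulVec_add, add_dotProduct, dotProduct_add, dotProduct_add, b, d, e, e] at a
    simp at a
    linear_combination a
  refine h0 (Matrix.ext fun i j => mul_left_cancel₀ (sub_ne_zero.2 ht) ?_)
  have a := k 1 i j
  have b := k t i j
  rw [map_one] at a
  simp only [Matrix.zero_apply]
  linear_combination σ t * a - b

theorem sig_dot (u v : ι → F) : σ (u ⬝ᵥ v) = (σ ∘ u) ⬝ᵥ (σ ∘ v) := by simp [dotProduct]

theorem sig_sig (hσ2 : ∀ a, σ (σ a) = a) (u : ι → F) : σ ∘ σ ∘ u = u := funext fun _ => hσ2 _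

theorem sy (hσ2 : ∀ a, σ (σ a) = a) {A : Matrix ι ι F} (hA : ∀ i j, σ (A i j) = A j i) (u v : ι → F) :
    σ ((σ ∘ u) ⬝ᵥ A *ᵥ v) = (σ ∘ v) ⬝ᵥ A *ᵥ u := by
  simp only [dotProduct, mulVec, map_sum, map_mul, hσ2, hA, Function.comp_apply, Finset.mul_sum]
  rw [Finset.sum_comm]
  exact Finset.sum_congr rfl fun _ _ => Finset.sum_congr rfl fun _ _ => by ring

theorem col {m : ℕ} (hσ2 : ∀ a, σ (σ a) = a) (A : Matrix (Fin (m + 1)) (Fin (m + 1)) F) {φ : Fin (m + 1) → F}
    (hφ : φ ≠ 0) : ∃ g : Matrix (Fin (m + 1)) (Fin (m + 1)) F, g.det ≠ 0 ∧ (1 ≤ m → g.det = 1) ∧ (g *ᵥ A *ᵥ φ) 0 = (σ ∘ φ) ⬝ᵥ A *ᵥ φ ∧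
      ∀ (h : Matrix (Fin (m + 1)) (Fin (m + 1)) F) (c : F), (h.map σ)ᵀ *ᵥ Pi.single 0 1 = c • Pi.single 0 1 →
        (h * g * A * ((h * g).map σ)ᵀ) *ᵥ Pi.single 0 1 = c • h *ᵥ g *ᵥ A *ᵥ φ := by
  obtain ⟨g, h1, h2, h3⟩ := exists_mat' (u := Pi.single 0 1) (w := φ) (by simp) hφ
  have e : ((g.map σ)ᵀ.map σ)ᵀ = g := by ext; simp [hσ2]
  have e' : ((g.map σ)ᵀ).det = σ g.det := by rw [det_transpose, σ.map_det]; rfl
  refine ⟨(g.map σ)ᵀ, by rwa [e', map_ne_zero], fun h => by rw [e', h2 (by simpa using h), map_one], ?_,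
    fun h c hc => ?_⟩
  · rw [← h3]; simp [mulVec, dotProduct]
  · simp only [Matrix.map_mul, transpose_mul, e, ← mulVec_mulVec, hc, mulVec_smul, h3]

theorem orbit [Fintype F] {q : ℕ} (hF : Fintype.card F = q ^ 2) {m : ℕ} {A : Matrix (Fin (m + 1)) (Fin (m + 1)) F}
    (hA : ∀ i j, frobq hF (A i j) = A j i) (h0 : A 0 0 = 1) (O : Finset (Matrix (Fin (m + 1)) (Fin (m + 1)) F))
    (hO : ∀ g, det g ≠ 0 → (1 ≤ m → det g = 1) → g * A * (g.map (frobq hF))ᵀ ∈ O) :
    (q ^ 2) ^ (m + 1) - 1 ≤ (q + 1) * O.card := by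
  classical
  have hσ := frobq_ne_id hF
  have hσ2 := frobq_frobq hF
  have hq := two_le_of_card_sq hF
  have cN : (Finset.univ.filter fun x : F => x * frobq hF x = 1).card = q + 1 := by
    rw [← card_pow_eq_one hF, Nat.card_eq_fintype_card, Fintype.card_subtype]
    simp only [pow_succ', frobq_apply]; congr
  have cF : (Finset.univ.filter fun x : F => frobq hF x = x).card = q := by
    refine Eq.trans ?_ (card_fixed_eq hF).2
    rw [Nat.card_eq_fintype_card, Fintype.card_subtype]; congr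
  generalize frobq hF = σ at *
  let w := A *ᵥ Pi.single 0 1
  have w0 : w 0 = 1 := by simpa [w] using h0
  by_cases h1 : A - vecMulVec w (σ ∘ w) = 0
  · have : (Finset.univ.erase (0 : Fin (m + 1) → F)).card ≤ (q + 1) * O.card := by
      refine Finset.card_le_mul_card_image_of_maps_to (f := fun u => vecMulVec u (σ ∘ u)) (fun u hu => ?_) _
        fun B _ => ?_
      · obtain ⟨g, hg, hg', e⟩ := exists_mat' (u := w) (fun e => by simp [e] at w0) (Finset.ne_of_mem_erase hu)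
        convert hO g hg (fun h => hg' (by simpa using h)) using 1
        rw [sub_eq_zero.1 h1, mul_vecMulVec, vecMulVec_mul, vecMul_transpose, ← e]
        congr 1; ext; simp [mulVec, dotProduct]
      · rcases Finset.eq_empty_or_nonempty ((Finset.univ.erase (0 : Fin (m + 1) → F)).filter
          fun u => vecMulVec u (σ ∘ u) = B) with e | ⟨u, hu⟩
        · rw [e]; simp
        simp only [Finset.mem_filter, Finset.mem_erase] at hu
        obtain ⟨i, hi⟩ := Function.ne_iff.1 hu.1.1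
        have hi' : σ (u i) ≠ 0 := (map_ne_zero σ).2 hi
        have k : ∀ v, vecMulVec v (σ ∘ v) = B → ∀ j, v j * σ (v i) = u j * σ (u i) := fun v hv j =>
          congrFun (congrFun (hv.trans hu.2.symm) j) i
        rw [← cN]
        refine Finset.card_le_card_of_injOn (fun v => v i / u i) (fun v hv => ?_) fun v hv v' hv' e => ?_
        · simp only [Finset.coe_filter, Set.mem_setOf_eq, Finset.mem_univ, true_and] at hv ⊢
          rw [map_div₀, div_mul_div_comm, k v hv.2, div_self (mul_ne_zero hi hi')]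
        · simp only [Finset.coe_filter, Set.mem_setOf_eq] at hv hv'
          have e' : v i = v' i := (div_left_inj' hi).1 e
          have : σ (v i) ≠ 0 := fun h => mul_ne_zero hi hi' (by rw [← k v hv.2, h, mul_zero])
          exact funext fun j => mul_right_cancel₀ this (by rw [k v hv.2, e', k v' hv'.2])
    simpa [Finset.card_erase_of_mem, hF] using this
  obtain ⟨χ, hχ⟩ := exists_aniso hσ hσ2 (fun i j => by simp [hA, vecMulVec_apply, hσ2, mul_comm]) h1
  have s0 : σ ∘ (Pi.single 0 1 : Fin (m + 1) → F) = Pi.single 0 1 := by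
    ext l; simp [Pi.single_apply, apply_ite σ]
  obtain ⟨φ, hφ, hφ'⟩ : ∃ φ, (σ ∘ φ) ⬝ᵥ A *ᵥ φ = 0 ∧ A *ᵥ φ ≠ 0 := by
    set b := (σ ∘ χ) ⬝ᵥ (A - vecMulVec w (σ ∘ w)) *ᵥ χ with hb
    have e1 : (A *ᵥ χ) 0 = σ ((σ ∘ χ) ⬝ᵥ w) := by rw [sy hσ2 hA, s0]; simp
    have e2 : b = (σ ∘ χ) ⬝ᵥ A *ᵥ χ - (σ ∘ χ) ⬝ᵥ w * σ ((σ ∘ χ) ⬝ᵥ w) := by
      rw [hb, sub_mulVec, vecMulVec_mulVec, dotProduct_sub, sig_dot, sig_sig hσ2, dotProduct_comm χ]; simp [mul_comm]
    obtain ⟨x, hx⟩ := norm_surj_fixed σ hσ hσ2 (-b) (by rw [e2]; simp [sy hσ2 hA, hσ2, mul_comm])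
    refine ⟨(x - σ ((σ ∘ χ) ⬝ᵥ w)) • Pi.single 0 1 + χ, ?_, fun e => ?_⟩
    · rw [show σ ∘ ((x - σ ((σ ∘ χ) ⬝ᵥ w)) • Pi.single 0 1 + χ) = (σ x - (σ ∘ χ) ⬝ᵥ w) • Pi.single 0 1 + σ ∘ χ by
        ext; simp [hσ2, Pi.single_apply, apply_ite σ]]
      simp only [mulVec_add, mulVec_smul, add_dotProduct, dotProduct_add, smul_dotProduct, dotProduct_smul,
        single_dotProduct, smul_eq_mul, one_mul, e1]
      change _ * (_ * w 0 + _ ⬝ᵥ w) + _ = 0
      linear_combination hx - e2 + (σ x - (σ ∘ χ) ⬝ᵥ w) * (x - σ ((σ ∘ χ) ⬝ᵥ w)) * w0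
    · have := congrFun e 0
      simp only [mulVec_add, mulVec_smul, Pi.add_apply, Pi.smul_apply, e1, smul_eq_mul, Pi.zero_apply] at this
      change _ * w 0 + _ = 0 at this
      rw [w0, mul_one, sub_add_cancel] at this
      exact hχ (by rw [this] at hx; simpa using hx)
  obtain ⟨g, g1, g2, g3, g4⟩ := col hσ2 A (φ := φ) fun e => hφ' (by simp [e])
  set l := g *ᵥ A *ᵥ φ
  obtain ⟨i, hi⟩ := Function.ne_iff.1 (show l ≠ 0 from fun e => hφ' (eq_zero_of_mulVec_eq_zero g1 e))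
  have i0 : i ≠ 0 := fun e => hi (by rw [e, g3, hφ]; rfl)
  obtain ⟨m, rfl⟩ : ∃ k, m = k + 1 := ⟨m - 1, by have := i.2; have : i.1 ≠ 0 := fun e => i0 (Fin.ext e); omega⟩
  let W1 := Fintype.piFinset (Function.update (fun _ : Fin (m + 2) => (Finset.univ : Finset F)) 0
    ((Finset.univ.filter fun x : F => σ x = x).erase 0))
  let W2 := Fintype.piFinset (Function.update (Function.update (fun _ : Fin (m + 2) => (Finset.univ : Finset F)) i
    ((Finset.univ.filter fun x : F => x * σ x = 1).image (· * l i))) 0 {0})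
  have c1 : W1.card = (q - 1) * (q ^ 2) ^ (m + 1) := by
    rw [Fintype.card_piFinset, Fin.prod_univ_succ]
    simp [Finset.card_erase_of_mem, cF, hF]
  have c2 : W2.card = (q + 1) * (q ^ 2) ^ m := by
    obtain ⟨i, rfl⟩ := Fin.exists_succ_eq.2 i0
    rw [Fintype.card_piFinset, Fin.prod_univ_succ, Fin.prod_univ_succAbove _ i]
    simp [Finset.card_image_of_injective _ (mul_left_injective₀ hi), cN, hF]
  have : (W1 ∪ W2).card ≤ O.card := by
    refine Finset.card_le_card_of_surjOn (fun B => B *ᵥ Pi.single 0 1) fun v hv => ?_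
    rcases Finset.mem_union.1 hv with hv | hv
    · have hv0 := Fintype.mem_piFinset.1 hv 0
      simp only [Function.update_self, Finset.mem_erase, Finset.mem_filter, Finset.mem_univ, true_and] at hv0
      obtain ⟨x, hx⟩ := norm_surj_fixed σ hσ hσ2 _ hv0.2
      obtain ⟨g, g1, g2, g3, g4⟩ := col hσ2 A (φ := Pi.single 0 x) fun e => hv0.1 (by
        rw [← hx, show x = 0 by simpa using congrFun e 0, zero_mul])
      have e0 : (g *ᵥ A *ᵥ Pi.single 0 x) 0 = v 0 := by
        rw [g3, ← hx]; simp [dotProduct, Pi.single_apply, apply_ite σ, h0, mul_comm]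
      let y : Fin (m + 2) → F := (v 0)⁻¹ • (v - g *ᵥ A *ᵥ Pi.single 0 x)
      have y0 : y 0 = 0 := by simp only [y, Pi.smul_apply, Pi.sub_apply, e0]; simp
      have hd : (1 + vecMulVec y (Pi.single 0 1)).det = 1 := by simp [Wt.det_one_add_vv, y0]
      refine ⟨_, hO ((1 + vecMulVec y (Pi.single 0 1)) * g) (by rwa [det_mul, hd, one_mul])
        (fun h => by rw [det_mul, hd, g2 h, one_mul]), (g4 _ 1 ?_).trans ?_⟩
      · ext j; simp [vecMulVec_apply, y0, one_apply, Pi.single_apply, apply_ite σ, eq_comm]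
      · simp only [add_mulVec, one_mulVec, vecMulVec_mulVec, single_dotProduct, one_mul, e0, op_smul_eq_smul, one_smul]
        simp [y, smul_smul, hv0.1]
    · have hv0 := Fintype.mem_piFinset.1 hv 0
      have hv1 := Fintype.mem_piFinset.1 hv i
      simp only [Function.update_self, Function.update_of_ne i0, Finset.mem_singleton, Finset.mem_image,
        Finset.mem_filter, Finset.mem_univ, true_and] at hv0 hv1
      obtain ⟨ν, h1, h2⟩ := hv1
      obtain ⟨d, d0, rfl⟩ := hilbert90 σ hσ hσ2 h1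
      have d1 : σ d ≠ 0 := (map_ne_zero σ).2 d0
      let D : Matrix (Fin (m + 2)) (Fin (m + 2)) F := diagonal (Function.update (Function.update 1 i d) 0 d⁻¹)
      have hD : D.det = 1 := by
        rw [det_diagonal, Finset.prod_update_of_mem (Finset.mem_univ _), Finset.prod_update_of_mem (by simp [i0])]
        simp [d0]
      let y : Fin (m + 2) → F := (d * l i)⁻¹ • (σ d • v - D *ᵥ l)
      have l0 : l 0 = 0 := g3.trans hφ
      have y0 : y 0 = 0 := by simp [y, D, mulVec_diagonal, l0, hv0]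
      have yi : y i = 0 := by simp [y, D, mulVec_diagonal, i0, ← h2]; field_simp; simp
      have hd : (1 + vecMulVec y (Pi.single i 1)).det = 1 := by simp [Wt.det_one_add_vv, yi]
      refine ⟨_, hO ((1 + vecMulVec y (Pi.single i 1)) * D * g) (by rwa [det_mul, det_mul, hd, hD, one_mul, one_mul])
        (fun h => by rw [det_mul, det_mul, hd, hD, g2 h, one_mul, one_mul]), (g4 _ (σ d)⁻¹ ?_).trans ?_⟩
      · ext j
        by_cases hj : j = 0
        · simp [D, vecMulVec_apply, y0, hj]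
        · simp [D, vecMulVec_apply, y0, hj, Ne.symm hj]
      · have : (D *ᵥ l) i = d * l i := by simp [D, mulVec_diagonal, i0]
        simp only [← mulVec_mulVec, add_mulVec, one_mulVec, vecMulVec_mulVec, single_dotProduct, one_mul, this,
          op_smul_eq_smul, y, smul_smul, mul_inv_cancel₀ (mul_ne_zero d0 hi), one_smul, add_sub_cancel,
          inv_mul_cancel₀ d1]
  rw [Finset.card_union_of_disjoint (Finset.disjoint_left.2 fun v a b => by
    have a := Fintype.mem_piFinset.1 a 0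
    have b := Fintype.mem_piFinset.1 b 0
    simp only [Function.update_self, Finset.mem_erase, Finset.mem_singleton] at a b
    exact a.1 b), c1, c2] at this
  refine le_trans ?_ (Nat.mul_le_mul_left _ this)
  obtain ⟨k, rfl⟩ : ∃ k, q = k + 1 := ⟨q - 1, by omega⟩
  rw [pow_succ, pow_succ, Nat.add_sub_cancel]
  generalize ((k + 1) ^ 2) ^ m = t
  refine (Nat.sub_le _ _).trans ?_
  nlinarith [Nat.zero_le (k * t)]

end Cfsg.Agent.Classical.Herm
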