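import Cfsg.Agent.Lib.Classical.Herm1

/-! Lower bounds for complex representations of `SU_n(q)`. -/
set_option autoImplicit false
open Matrix Module

namespace Cfsg.Agent.Classical.Herm
variable {F : Type*} [Field F] (σ : F →+* F) {e m : ℕ}

abbrev VV (F : Type*) (e m : ℕ) := (Fin e → F) × (Fin (m + 1) → F) × (Fin (m + 1) → F)

def BB (u v : VV F e m) : F := u.1 ⬝ᵥ σ ∘ v.1 + u.2.1 ⬝ᵥ σ ∘ v.2.2 + u.2.2 ⬝ᵥ σ ∘ v.2.1

variable (e m) in
def MM : Submonoid (End F (VV F e m)) where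
  carrier := {f | LinearMap.det f = 1 ∧ ∀ u v, BB σ (f u) (f v) = BB σ u v}
  one_mem' := ⟨map_one _, fun _ _ => rfl⟩
  mul_mem' {a b} ha hb := ⟨by rw [map_mul, ha.1, hb.1, mul_one], fun u v => by
    rw [End.mul_apply, End.mul_apply, ha.2, hb.2]⟩

def SS (l : Fin (m + 1) × Fin (m + 1) → F) : Matrix (Fin (m + 1)) (Fin (m + 1)) F :=
  of fun i j => l (i, j) - σ (l (j, i))

def zz (l : Fin (m + 1) × Fin (m + 1) → F) : End F (VV F e m) where
  toFun v := (v.1, v.2.1, v.2.2 + SS σ l *ᵥ v.2.1)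
  map_add' u v := by simp [mulVec_add]; abel
  map_smul' c v := by simp [mulVec_smul]

def yy (t : Fin e → F) (s : F) : End F (VV F e m) where
  toFun v := (v.1 + v.2.1 0 • t, v.2.1, v.2.2 - Pi.single 0 (v.1 ⬝ᵥ σ ∘ t + s * v.2.1 0))
  map_add' u v := by
    simp only [Prod.fst_add, Prod.snd_add, Pi.add_apply, add_smul, add_dotProduct, mul_add, Pi.single_add,
      Prod.mk_add_mk]
    refine Prod.ext ?_ (Prod.ext rfl ?_) <;> simp only [] <;> abel
  map_smul' c v := by simp [smul_smul, smul_sub, ← Pi.single_smul, mul_add, mul_left_comm]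

def lv (d : F) (g g' : Matrix (Fin (m + 1)) (Fin (m + 1)) F) : End F (VV F e m) :=
  (d • LinearMap.id).prodMap ((toLin' g).prodMap (toLin' g'))

def sw : End F (VV F e m) := LinearMap.id.prodMap (LinearEquiv.prodComm F _ _).toLinearMap

variable {σ}

theorem zz_apply (l) (v : VV F e m) : zz σ l v = (v.1, v.2.1, v.2.2 + SS σ l *ᵥ v.2.1) := rfl
theorem yy_apply (t s) (v : VV F e m) :
    yy σ t s v = (v.1 + v.2.1 0 • t, v.2.1, v.2.2 - Pi.single 0 (v.1 ⬝ᵥ σ ∘ t + s * v.2.1 0)) := rfl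
theorem lv_apply (d g g') (v : VV F e m) : lv d g g' v = (d • v.1, g *ᵥ v.2.1, g' *ᵥ v.2.2) := rfl
theorem sw_apply (v : VV F e m) : sw v = (v.1, v.2.2, v.2.1) := rfl

theorem sig_add {ι : Type*} (u v : ι → F) : σ ∘ (u + v) = σ ∘ u + σ ∘ v := by ext; simp
theorem sig_sub {ι : Type*} (u v : ι → F) : σ ∘ (u - v) = σ ∘ u - σ ∘ v := by ext; simp
theorem sig_smul {ι : Type*} (c : F) (v : ι → F) : σ ∘ (c • v) = σ c • σ ∘ v := by ext; simp
theorem sig_single {ι : Type*} [DecidableEq ι] (i : ι) (c : F) : σ ∘ (Pi.single i c : ι → F) = Pi.single i (σ c) := by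
  ext; simp [Pi.single_apply, apply_ite σ]
theorem sig_mulVec {ι : Type*} [Fintype ι] (A : Matrix ι ι F) (v : ι → F) : σ ∘ (A *ᵥ v) = A.map σ *ᵥ σ ∘ v := by
  ext; simp [mulVec, dotProduct]

theorem SS_add (l l' : Fin (m + 1) × Fin (m + 1) → F) : SS σ (l + l') = SS σ l + SS σ l' := by
  ext; simp [SS]; ring

theorem zz_mul (l l' : Fin (m + 1) × Fin (m + 1) → F) : (zz σ l * zz σ l' : End F (VV F e m)) = zz σ (l + l') :=
  LinearMap.ext fun v => by simp [zz_apply, SS_add, add_mulVec]; abel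

theorem zz_mem (hσ2 : ∀ a, σ (σ a) = a) (l) : zz σ l ∈ MM σ e m := by
  refine ⟨Wt.det_one_add ⟨2, LinearMap.ext fun v => by ext <;> simp [sq, zz_apply]⟩, fun u v => ?_⟩
  have : (SS σ l).map σ = -(SS σ l)ᵀ := by ext; simp [SS, hσ2]
  simp only [BB, zz_apply, sig_add, sig_mulVec, this, dotProduct_add, add_dotProduct, neg_mulVec, dotProduct_neg,
    dotProduct_mulVec, vecMul_transpose]
  ring

theorem yy_mem (hσ2 : ∀ a, σ (σ a) = a) {t : Fin e → F} {s : F} (h : s + σ s = t ⬝ᵥ σ ∘ t) : yy σ t s ∈ MM σ e m := by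
  refine ⟨Wt.det_one_add ⟨3, LinearMap.ext fun v => by ext <;> simp [pow_succ, yy_apply, Pi.single_apply] <;> split_ifs <;> ring⟩, fun u v => ?_⟩
  simp only [BB, yy_apply, sig_add, sig_sub, sig_smul, sig_single, dotProduct_add, add_dotProduct, dotProduct_sub,
    sub_dotProduct, smul_dotProduct, dotProduct_smul, dotProduct_single, single_dotProduct, map_add, map_mul, sig_dot,
    sig_sig hσ2, smul_eq_mul, Function.comp_apply, dotProduct_comm (σ ∘ v.1) t]
  linear_combination (-u.2.1 0 * σ (v.2.1 0)) * h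

theorem lv_mem (hσ2 : ∀ a, σ (σ a) = a) {h : Matrix (Fin (m + 1)) (Fin (m + 1)) F} (h0 : h.det ≠ 0)
    (he : e = 1 ∨ h.det = 1) : lv (h.det / σ h.det) (h.map σ) hᵀ⁻¹ ∈ MM σ e m := by
  have h1 : σ h.det ≠ 0 := (map_ne_zero σ).2 h0
  refine ⟨?_, fun u v => ?_⟩
  · rw [lv, LinearMap.det_prodMap, LinearMap.det_prodMap, LinearMap.det_smul, LinearMap.det_toLin', LinearMap.det_toLin',
      det_nonsing_inv, det_transpose, show (h.map σ).det = σ h.det from (σ.map_det h).symm]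
    rcases he with rfl | he
    · simp; field_simp
    · simp [he]
  · have a : (h.map σ).map σ = h := by ext; simp [hσ2]
    have b : hᵀ * hᵀ⁻¹ = 1 := mul_nonsing_inv _ (by simpa using h0)
    have c : (h.map σ)ᵀ * hᵀ⁻¹.map σ = 1 := by rw [← transpose_map, ← Matrix.map_mul, b]; simp
    have d : hᵀ⁻¹ᵀ * h = 1 := by rw [← transpose_transpose h, ← transpose_mul, transpose_transpose, b, transpose_one]
    simp only [BB, lv_apply, sig_smul, sig_mulVec, a]
    have k : ∀ (M N : Matrix (Fin (m + 1)) (Fin (m + 1)) F) u w, Mᵀ * N = 1 → M *ᵥ u ⬝ᵥ N *ᵥ w = u ⬝ᵥ w :=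
      fun M N u w h => by rw [dotProduct_mulVec, ← vecMul_transpose, vecMul_vecMul, h, vecMul_one]
    simp only [k _ _ _ _ c, k _ _ _ _ d, smul_dotProduct, dotProduct_smul, map_div₀, hσ2, smul_eq_mul]
    field_simp

theorem zz_lv {h : Matrix (Fin (m + 1)) (Fin (m + 1)) F} (hσ2 : ∀ a, σ (σ a) = a) (h0 : h.det ≠ 0) (d : F) (l) :
    (zz σ l * lv d (h.map σ) hᵀ⁻¹ : End F (VV F e m)) =
      lv d (h.map σ) hᵀ⁻¹ * zz σ fun p => (hᵀ * (of fun i j => l (i, j)) * h.map σ) p.1 p.2 := by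
  have : SS σ (fun p => (hᵀ * (of fun i j => l (i, j)) * h.map σ) p.1 p.2) = hᵀ * (SS σ l * h.map σ) := by
    rw [show SS σ l = (of fun i j => l (i, j)) - ((of fun i j => l (i, j)).map σ)ᵀ from rfl]
    show _ - ((hᵀ * (of fun i j => l (i, j)) * h.map σ).map σ)ᵀ = _
    rw [Matrix.map_mul, Matrix.map_mul, show (h.map σ).map σ = h by ext; simp [hσ2]]
    simp [mul_sub, sub_mul, Matrix.mul_assoc, transpose_map]
  refine LinearMap.ext fun v => ?_
  simp only [End.mul_apply, zz_apply, lv_apply, this, mulVec_add, mulVec_mulVec,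
    nonsing_inv_mul_cancel_left _ _ (show IsUnit hᵀ.det by simpa using h0)]

theorem zy_comm (hσ2 : ∀ a, σ (σ a) = a) (l) (t t' : Fin e → F) (s s' : F) :
    (zz σ l * yy σ t s * yy σ t' s' : End F (VV F e m)) =
      yy σ t' s' * (zz σ (l + Pi.single (0, 0) (t ⬝ᵥ σ ∘ t')) * yy σ t s) := by
  have : ∀ (c : F) (a : Fin (m + 1) → F), SS σ (Pi.single (0, 0) c) *ᵥ a = Pi.single 0 ((c - σ c) * a 0) := fun c a => by
    ext i
    by_cases h : i = 0
    · simp [SS, h, mulVec, dotProduct, Pi.single_apply, apply_ite σ, sub_mul]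
    · simp [SS, h, mulVec, dotProduct, Pi.single_apply, apply_ite σ]
  refine LinearMap.ext fun v => ?_
  simp only [End.mul_apply, zz_apply, yy_apply, SS_add, add_mulVec, this, Prod.mk.injEq, true_and]
  refine ⟨by abel, funext fun i => ?_⟩
  by_cases h : i = 0
  · simp [h, sig_dot, sig_sig hσ2, dotProduct_comm (σ ∘ t) t']; ring
  · simp [h]

theorem zy_comm' (l l') (t : Fin e → F) (s : F) :
    (zz σ l' * yy σ t s * zz σ l : End F (VV F e m)) = zz σ l * (zz σ l' * yy σ t s) :=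
  LinearMap.ext fun v => by simp [zz_apply, yy_apply]; abel

theorem yy_zero : (yy σ 0 0 : End F (VV F e m)) = 1 := LinearMap.ext fun v => by simp [yy_apply]

theorem exists_theta [Fintype F] {q n : ℕ} (hF : Fintype.card F = q ^ 2) (hn : n = e + 2 * (m + 1)) :
    ∃ θ : MM (frobq hF) e m →* SU n F q, Function.Injective θ := by
  let Φ : Form (unitKind hF) (VV F e m) := Form.ofHerm _ (frobq_ne_id hF) (frobq_frobq hF)
    (LinearMap.mk₂'ₛₗ (RingHom.id F) (frobq hF) (BB (frobq hF))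
      (by intros; simp only [BB, Prod.fst_add, Prod.snd_add, add_dotProduct]; ring)
      (by intros; simp only [BB, Prod.smul_fst, Prod.smul_snd, smul_dotProduct, smul_add, RingHom.id_apply])
      (by intros; simp only [BB, Prod.fst_add, Prod.snd_add, sig_add, dotProduct_add]; ring)
      (by intros; simp only [BB, Prod.smul_fst, Prod.smul_snd, sig_smul, dotProduct_smul, smul_add]))
    (fun u v => by
      simp only [LinearMap.mk₂'ₛₗ_apply, BB, map_add, sig_dot, sig_sig (frobq_frobq hF), dotProduct_comm (_ ∘ _)]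
      ring)
  obtain ⟨E, hE, -⟩ := unit_iso_std hF Φ (fun v hv => by
    have hv : ∀ u, BB (frobq hF) u v = 0 := hv
    generalize frobq hF = σ at hv
    ext i
    · simpa [BB] using hv (Pi.single i 1, 0, 0)
    · simpa [BB] using hv (0, 0, Pi.single i 1)
    · simpa [BB] using hv (0, Pi.single i 1, 0)) (n := n) (by simp [hn]; omega)
  have hE : ∀ u v, hermForm n F q (E u) (E v) = BB (frobq hF) u v := hE
  let ψ := (E.conjAlgEquiv F).trans LinearMap.toMatrixAlgEquiv'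
  have hψ : ∀ f v, ψ f *ᵥ v = E (f (E.symm v)) := fun f v => by
    rw [← toLin'_apply]; exact LinearMap.congr_fun (toLin'_toMatrix' (E.conj f)) v
  refine ⟨⟨⟨fun f => ⟨⟨ψ f.1, ?_⟩, fun u v => ?_⟩, Subtype.ext (Subtype.ext (map_one ψ))⟩,
    fun a b => Subtype.ext (Subtype.ext (map_mul ψ _ _))⟩, fun a b h => Subtype.ext (ψ.injective
      (congrArg (fun z : SU n F q => z.1.1) h))⟩
  · exact (LinearMap.det_toMatrix' _).trans ((LinearMap.det_conj _ E).trans f.2.1)
  · show hermForm n F q (ψ f.1 *ᵥ u) (ψ f.1 *ᵥ v) = _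
    rw [hψ, hψ, hE, f.2.2, ← hE]; simp

theorem main [Fintype F] {q n k r : ℕ} (hF : Fintype.card F = q ^ 2) (hn : n = e + 2 * (m + 1))
    (he : e = 1 ∧ r = q ∨ 1 ≤ m ∧ e = 0 ∧ r = 1) (hex : (n, q) ≠ (3, 2))
    (ρ : Representation ℂ (SU n F q) (Fin k → ℂ)) (hρ : ρ.IsIrreducible) (hk : 2 ≤ k) :
    ((q ^ 2) ^ (m + 1) - 1) * r ≤ (q + 1) * k := by
  classical
  obtain ⟨θ, hθ⟩ := exists_theta hF hn
  have hσ := frobq_ne_id hF
  have hσ2 := frobq_frobq hF
  have cF : (Finset.univ.filter fun x : F => frobq hF x = x).card = q := by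
    refine Eq.trans ?_ (card_fixed_eq hF).2
    rw [Nat.card_eq_fintype_card, Fintype.card_subtype]; congr
  have hO := @orbit F _ _ q hF m
  haveI := unit_simple hF (uForm_nondeg hF n) (by simp; omega) (by simpa using hex)
  have hne := fun x y => Wt.ne_one_of (suEquiv hF n) (unit_perfect hF (uForm_nondeg hF n) (by simp; omega)
    (by simpa using hex)) ρ hρ hk (x := x) (y := y)
  generalize frobq hF = σ at *
  let x : (Fin (m + 1) × Fin (m + 1) → F) → SU n F q := fun l => θ ⟨zz σ l, zz_mem hσ2 l⟩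
  have xm : ∀ a b, x a * x b = x (a + b) := fun a b => (θ.map_mul _ _).symm.trans (congrArg θ (Subtype.ext (zz_mul a b)))
  let β := {p : (Fin e → F) × F // σ ∘ p.1 = p.1 ∧ p.2 + σ p.2 = p.1 ⬝ᵥ σ ∘ p.1}
  let o : β := ⟨0, by ext; simp, by simp⟩
  let x' : (Fin (m + 1) × Fin (m + 1) → F) × β → SU n F q := fun p =>
    θ ⟨zz σ p.1 * yy σ p.2.1.1 p.2.1.2, mul_mem (zz_mem hσ2 _) (yy_mem hσ2 p.2.2.2)⟩
  have xo : ∀ l, x' (l, o) = x l := fun l => congrArg θ (Subtype.ext (by simp [o, yy_zero]))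
  have hc : ∀ a b, Commute (x a) (x b) := fun a b => by rw [Commute, SemiconjBy, xm, xm, add_comm]
  have hc' : ∀ a b, Commute (x' a) (x' b) := fun a b => (θ.map_mul _ _).symm.trans ((congrArg θ (Subtype.ext (by
    show _ * (_ * _) = _ * _ * (_ * _)
    rw [← mul_assoc, zy_comm', mul_assoc, zy_comm hσ2, mul_assoc]
    rw [show zz σ (a.1 + Pi.single (0, 0) (a.2.1.1 ⬝ᵥ σ ∘ b.2.1.1)) = (zz σ a.1 : End F (VV F e m)) from
      LinearMap.ext fun v => by
        rw [zz_apply, zz_apply, SS_add, show SS σ (Pi.single (0, 0) (a.2.1.1 ⬝ᵥ σ ∘ b.2.1.1)) = 0 by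
          ext i j
          simp [SS, Pi.single_apply, apply_ite σ, sig_dot, a.2.2.1, b.2.2.1, and_comm], add_zero]]))).trans (θ.map_mul _ _))
  obtain ⟨t0, ht0⟩ : ∃ a, σ a ≠ a := by
    by_contra! h; exact hσ (RingHom.ext h)
  obtain ⟨χ', h1, h2⟩ := Wt.WS.exists (ρ := ρ) hc' (a := (Pi.single (0, 0) t0, o)) (by
    rw [xo]
    refine hne _ (θ ⟨sw * zz σ (Pi.single (0, 0) t0) * sw, by
      rw [map_mul, map_mul, (zz_mem hσ2 _).1, mul_one, ← map_mul, show (sw * sw : End F (VV F e m)) = 1 from rfl,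
        map_one], fun u v => ?_⟩) fun h => ?_
    · have := (zz_mem (e := e) hσ2 (Pi.single ((0 : Fin (m + 1)), (0 : Fin (m + 1))) t0)).2 (sw u) (sw v)
      simp only [BB, End.mul_apply, sw_apply] at this ⊢
      linear_combination this
    · have := congrArg (fun f : MM σ e m => (f.1 (0, 0, Pi.single 0 1)).2.2 0)
        (hθ ((θ.map_mul _ _).trans (h.trans (θ.map_mul _ _).symm)))
      simp [zz_apply, sw_apply, SS, mulVec, dotProduct, Pi.single_apply, apply_ite σ, Fin.sum_univ_succ] at this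
      exact ht0 (sub_eq_zero.1 this).symm)
  let χ : _ → ℂ := fun l => χ' (l, o)
  have hle : ∀ ξ : _ → ℂ, (∀ l, ξ (l, o) = χ l) → Wt.WS ρ x' ξ ≤ Wt.WS ρ x χ := fun ξ h v hv =>
    Wt.mem_WS.2 fun l => by rw [← xo, Wt.mem_WS.1 hv, h]
  have h3 : Wt.WS ρ x χ ≠ ⊥ := fun h => h1 (le_bot_iff.1 (h ▸ hle χ' fun _ => rfl))
  have hχm : ∀ a b, χ a * χ b = χ (a + b) := fun a b => Wt.WS.mul h3 (xm a b)
  let ψ : F → ℂ := fun t => χ (Pi.single (0, 0) t)
  have hψm : ∀ a b, ψ a * ψ b = ψ (a + b) := fun a b => by simp only [ψ, hχm, Pi.single_add]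
  have hψ0 : ∀ a, ψ a ≠ 0 := fun a => Wt.WS.ne h3 _
  have hψ1 : ∃ t, ψ t ≠ 1 := ⟨t0, h2⟩
  have hr : r ≤ finrank ℂ (Wt.WS ρ x χ) := by
    rcases he with ⟨rfl, rfl⟩ | ⟨-, -, rfl⟩
    swap; · exact Submodule.one_le_finrank_iff.2 h3
    have ex : ∀ t : Fin 1 → F, ∃ s, s + σ s = t ⬝ᵥ σ ∘ t := fun t => trace_surj_fixed σ hσ hσ2 _ (by
      rw [sig_dot, sig_sig hσ2, dotProduct_comm])
    choose s hs using ex
    let ξ : F → _ → ℂ := fun b => χ' ∘ fun p : (_ → F) × β => (p.1 + Pi.single (0, 0) (p.2.1.1 ⬝ᵥ σ ∘ fun _ => σ (b * t0)), p.2)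
    have := Wt.WS.sum_le (ρ := ρ) hc' ((Finset.univ.filter fun x : F => σ x = x).image ξ) (Wt.WS ρ x χ) (r := 1)
      (fun _ h => by
        obtain ⟨b, -, rfl⟩ := Finset.mem_image.1 h
        exact hle _ fun l => by simp [ξ, o, χ])
      (fun _ h => by
        obtain ⟨b, -, rfl⟩ := Finset.mem_image.1 h
        exact (Submodule.one_le_finrank_iff.2 h1).trans (Wt.WS.act (θ ⟨_, yy_mem hσ2 (hs _)⟩) _ (fun a =>
          (θ.map_mul _ _).symm.trans ((congrArg θ (Subtype.ext (zy_comm hσ2 _ _ _ _ _))).trans (θ.map_mul _ _))) χ'))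
    rwa [Finset.card_image_of_injOn fun b hb b' hb' h => ?_, cF, mul_one] at this
    by_contra hbb
    have hb : σ b = b := by simpa using hb
    have hb' : σ b' = b' := by simpa using hb'
    have hd : b - b' ≠ 0 := sub_ne_zero.2 hbb
    let p : β := ⟨(fun _ => (b - b')⁻¹, s _), by ext; simp [hb, hb'], hs _⟩
    have k1 : ∀ c, χ' (Pi.single (0, 0) c, p) = ψ c * χ' (0, p) := fun c => (Wt.WS.mul h1 (by
      rw [xo]; exact (θ.map_mul _ _).symm.trans (congrArg θ (Subtype.ext (by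
        show _ * (_ * _) = _ * _
        rw [← mul_assoc, zz_mul, add_zero]))))).symm
    have k2 := congrFun h (0, p)
    simp only [ξ, Function.comp_apply, zero_add, k1] at k2
    have k3 := Wt.psi_sub hψm hψ0 (mul_right_cancel₀ (Wt.WS.ne h1 _) k2)
    refine h2 (Eq.trans (congrArg ψ ?_) k3)
    simp [p, dotProduct, hσ2]
    field_simp
  obtain ⟨a, ha⟩ := Wt.char_dual hψm hψ0 hψ1 hχm (Wt.WS.ne h3)
  let A : Matrix (Fin (m + 1)) (Fin (m + 1)) F := of fun i j => a (i, j)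
  let f : Matrix (Fin (m + 1)) (Fin (m + 1)) F → (_ → F) → ℂ := fun B v => ψ ((fun p : _ × _ => B p.1 p.2) ⬝ᵥ v)
  have hf : Function.Injective f := fun B B' h => by
    have := Wt.psi_inj hψm hψ0 hψ1 (congrFun h)
    exact Matrix.ext fun i j => congrFun this (i, j)
  have sy : ∀ l, χ (fun p => -σ (l p.swap)) = χ l := fun l => by
    have := Wt.WS.mul h3 (a := fun p => -σ (l p.swap)) (b := 0) (c := l) (by
      rw [xm, add_zero]
      refine congrArg θ (Subtype.ext (LinearMap.ext fun v => ?_))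
      simp only [zz_apply]; congr 4; ext; simp [SS, hσ2]; ring)
    rwa [Wt.psi_zero hχm (Wt.WS.ne h3), mul_one] at this
  have hA : ∀ i j, σ (A i j) = A j i := fun i j => Wt.psi_scal hψm hψ0 hψ1 fun t => by
    have a1 := sy (Pi.single (j, i) t)
    have a2 := sy (Pi.single (0, 0) (σ (a (i, j)) * t))
    rw [show (fun p : _ × _ => -σ ((Pi.single (j, i) t : _ → F) p.swap)) = Pi.single (i, j) (-σ t) by
      ext p; simp [Pi.single_apply, apply_ite σ, Prod.ext_iff, and_comm]; split_ifs <;> simp, ha, ha] at a1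
    rw [show (fun p : Fin (m + 1) × Fin (m + 1) => -σ ((Pi.single (0, 0) (σ (a (i, j)) * t) : _ → F) p.swap)) =
      Pi.single (0, 0) (a (i, j) * -σ t) by
      ext p; simp [Pi.single_apply, apply_ite σ, Prod.ext_iff, and_comm, hσ2]; split_ifs <;> simp] at a2
    simp only [dotProduct_single] at a1
    exact a2.symm.trans a1
  have h0 : A 0 0 = 1 := Wt.psi_scal hψm hψ0 hψ1 fun t => by
    have := ha (Pi.single (0, 0) t)
    rw [dotProduct_single] at this
    rw [one_mul]; exact this.symm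
  have b1 := hO hA h0 (Finset.univ.filter fun B => r ≤ finrank ℂ (Wt.WS ρ x (f B))) fun g hg hg' => by
    have := Wt.WS.act (ρ := ρ) (x := x) (θ ⟨_, lv_mem hσ2 hg (he.imp And.left fun h => hg' h.1)⟩) _ (fun l =>
      (θ.map_mul _ _).symm.trans ((congrArg θ (Subtype.ext (zz_lv hσ2 hg _ l))).trans (θ.map_mul _ _))) χ
    rw [Finset.mem_filter]
    refine ⟨Finset.mem_univ _, hr.trans (this.trans_eq ?_)⟩
    refine congrArg (fun ξ => finrank ℂ (Wt.WS ρ x ξ)) (funext fun v => ?_)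
    simp only [Function.comp_apply, ha, f]
    congr 1
    have k : ∀ (B C : Matrix (Fin (m + 1)) (Fin (m + 1)) F),
        (fun p : _ × _ => B p.1 p.2) ⬝ᵥ (fun p : _ × _ => C p.1 p.2) = trace (B * Cᵀ) := fun B C => by
      simp [dotProduct, trace, mul_apply, Fintype.sum_prod_type]
    refine (k A _).trans (Eq.trans ?_ (k _ (of fun i j => v (i, j))).symm)
    simp only [transpose_mul, transpose_transpose, Matrix.mul_assoc]
    rw [trace_mul_comm g]; simp only [Matrix.mul_assoc]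
  have b2 := Wt.WS.sum_le (ρ := ρ) hc ((Finset.univ.filter fun B => r ≤ finrank ℂ (Wt.WS ρ x (f B))).image f) ⊤
    (r := r) (fun _ _ => le_top) fun _ h => by
      obtain ⟨B, hB, rfl⟩ := Finset.mem_image.1 h
      exact (Finset.mem_filter.1 hB).2
  rw [Finset.card_image_of_injective _ hf, finrank_top, finrank_fin_fun] at b2
  exact (Nat.mul_le_mul_right _ b1).trans (by rw [mul_assoc]; exact Nat.mul_le_mul_left _ b2)

end Cfsg.Agent.Classical.Herm
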