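import Mathlib

namespace Cfsg.Agent.Classical.Zsig
open Polynomial

/-- the value of the `n`-th cyclotomic polynomial at `a` -/
noncomputable def Phi (n a : ℕ) : ℕ := ((cyclotomic n ℤ).eval (a : ℤ)).natAbs

theorem Phi_cast (n a : ℕ) (ha : 1 < a) : (Phi n a : ℤ) = (cyclotomic n ℤ).eval (a : ℤ) := by
  unfold Phi
  exact Int.natAbs_of_nonneg (cyclotomic_pos' n (by exact_mod_cast ha : (1 : ℤ) < a)).le

theorem Phi_castR (n a : ℕ) (ha : 1 < a) : (Phi n a : ℝ) = (cyclotomic n ℝ).eval (a : ℝ) := by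
  have h := congrArg (Int.cast : ℤ → ℝ) (Phi_cast n a ha)
  rw [Int.cast_natCast] at h
  rw [h]
  have := cyclotomic.eval_apply (a : ℤ) n (algebraMap ℤ ℝ)
  simpa using this.symm

theorem Phi_pos (n a : ℕ) (ha : 1 < a) : 0 < Phi n a := by
  have := Phi_cast n a ha
  have h2 := cyclotomic_pos' n (by exact_mod_cast ha : (1 : ℤ) < a)
  omega

theorem Phi_dvd (n a : ℕ) (ha : 1 < a) : Phi n a ∣ a ^ n - 1 := by
  have h := eval_dvd (x := (a : ℤ)) (cyclotomic.dvd_X_pow_sub_one n ℤ)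
  rw [← Phi_cast n a ha] at h
  rw [← Int.natCast_dvd_natCast, Nat.cast_sub (Nat.one_le_pow _ _ (by omega))]
  simpa using h

theorem isPrimitiveRoot_of_dvd {r k m a : ℕ} (hr : r.Prime) (ha : 1 < a) (hm : ¬ r ∣ m)
    (h : r ∣ Phi (r ^ k * m) a) : IsPrimitiveRoot (a : ZMod r) m := by
  haveI := Fact.mk hr
  haveI : NeZero (m : ZMod r) := ⟨by rwa [Ne, ZMod.natCast_eq_zero_iff]⟩
  rw [← isRoot_cyclotomic_prime_pow_mul_iff_of_charP (p := r) (k := k), IsRoot.def]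
  have h1 : ((Phi (r ^ k * m) a : ℤ) : ZMod r) = 0 := by
    rw [Int.cast_natCast, ZMod.natCast_eq_zero_iff]; exact h
  rw [Phi_cast _ _ ha] at h1
  have := cyclotomic.eval_apply (a : ℤ) (r ^ k * m) (Int.castRingHom (ZMod r))
  simp only [eq_intCast, Int.cast_natCast] at this
  rw [this, h1]

theorem dvd_sub_one_of_prim {r m : ℕ} (hr : r.Prime) (hm : 0 < m) {x : ZMod r} (h : IsPrimitiveRoot x m) : m ∣ r - 1 := by
  haveI := Fact.mk hr
  have hx : x ≠ 0 := h.ne_zero hm.ne'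
  exact h.dvd_of_pow_eq_one _ (ZMod.pow_card_sub_one_eq_one hx)

theorem dvd_pow_sub_one_iff {r a k : ℕ} (ha : 0 < a) : r ∣ a ^ k - 1 ↔ (a : ZMod r) ^ k = 1 := by
  rw [← ZMod.natCast_eq_zero_iff, Nat.cast_sub (Nat.one_le_pow _ _ ha), sub_eq_zero]
  simp

/-- a prime divisor of `Φ_n(a)` not dividing `n` is a primitive prime divisor -/
theorem ppd_of_not_dvd {r n a : ℕ} (hr : r.Prime) (ha : 1 < a) (hn : ¬ r ∣ n) (h : r ∣ Phi n a) :
    (∀ k : ℕ, 0 < k → k < n → ¬ r ∣ a ^ k - 1) ∧ n ∣ r - 1 := by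
  have h1 : IsPrimitiveRoot (a : ZMod r) n := isPrimitiveRoot_of_dvd (k := 0) hr ha hn (by simpa using h)
  have hn0 : 0 < n := Nat.pos_of_ne_zero (by rintro rfl; exact hn (dvd_zero _))
  refine ⟨fun k hk hkn hd => ?_, dvd_sub_one_of_prim hr hn0 h1⟩
  rw [dvd_pow_sub_one_iff (by omega)] at hd
  exact absurd (Nat.le_of_dvd hk (h1.dvd_of_pow_eq_one _ hd)) (by omega)

theorem struct_of_dvd {r n a : ℕ} (hr : r.Prime) (ha : 1 < a) (hn0 : 0 < n) (hn : r ∣ n) (h : r ∣ Phi n a) :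
    ∃ k m, n = r ^ (k + 1) * m ∧ ¬ r ∣ m ∧ m ∣ r - 1 ∧ IsPrimitiveRoot (a : ZMod r) m := by
  obtain ⟨k, m, hm, rfl⟩ := Nat.exists_eq_pow_mul_and_not_dvd hn0.ne' r hr.ne_one
  have h1 := isPrimitiveRoot_of_dvd hr ha hm h
  have hm0 : 0 < m := Nat.pos_of_ne_zero (by rintro rfl; exact hm (dvd_zero _))
  rcases k with _ | k
  · simp at hn; exact absurd hn hm
  exact ⟨k, m, rfl, hm, dvd_sub_one_of_prim hr hm0 h1, h1⟩

theorem prime_le_of_dvd {r s n a : ℕ} (hr : r.Prime) (hs : s.Prime) (ha : 1 < a) (hn0 : 0 < n) (hn : r ∣ n)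
    (h : r ∣ Phi n a) (hsn : s ∣ n) : s ≤ r := by
  obtain ⟨k, m, rfl, hm, hm2, -⟩ := struct_of_dvd hr ha hn0 hn h
  rcases (Nat.Prime.dvd_mul hs).1 hsn with h1 | h1
  · exact ((Nat.prime_dvd_prime_iff_eq hs hr).1 (hs.dvd_of_dvd_pow h1)).le
  · have := Nat.le_of_dvd (by have := hr.two_le; omega) (h1.trans hm2)
    omega

theorem Phi_dvd_geom {r n a : ℕ} (hr : r.Prime) (ha : 1 < a) (hn0 : 0 < n) :
    (Phi (n * r) a : ℤ) ∣ ∑ i ∈ Finset.range r, ((a : ℤ) ^ n) ^ i := by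
  have h1 : n ∈ (n * r).properDivisors := by
    rw [Nat.mem_properDivisors]
    exact ⟨dvd_mul_right _ _, lt_mul_of_one_lt_right hn0 hr.one_lt⟩
  have h2 := eval_dvd (x := (a : ℤ)) (X_pow_sub_one_mul_cyclotomic_dvd_X_pow_sub_one_of_dvd ℤ h1)
  simp only [eval_mul, eval_sub, eval_pow, eval_X, eval_one] at h2
  rw [← Phi_cast _ _ ha, pow_mul, ← geom_sum_mul ((a : ℤ) ^ n) r, mul_comm (∑ i ∈ _, _)] at h2
  refine (mul_dvd_mul_iff_left ?_).1 h2
  have : (1 : ℤ) < (a : ℤ) ^ n := one_lt_pow₀ (by exact_mod_cast ha) hn0.ne'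
  omega

theorem sq_not_dvd {r n a : ℕ} (hr : r.Prime) (ha : 1 < a) (hn0 : 0 < n) (hn2 : n ≠ 2) (hn : r ∣ n) :
    ¬ r ^ 2 ∣ Phi n a := by
  intro h
  have h0 : r ∣ Phi n a := (dvd_pow_self r two_ne_zero).trans h
  obtain ⟨k, m, hnk, hm, hm2, hprim⟩ := struct_of_dvd hr ha hn0 hn h0
  have hm0 : 0 < m := Nat.pos_of_ne_zero (by rintro rfl; exact hm (dvd_zero _))
  have hn' : n = (r ^ k * m) * r := by rw [hnk]; ring
  have hpos : 0 < r ^ k * m := Nat.mul_pos (pow_pos hr.pos _) hm0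
  have h2 : ((r : ℤ)) ^ 2 ∣ ∑ i ∈ Finset.range r, ((a : ℤ) ^ (r ^ k * m)) ^ i := by
    refine Dvd.dvd.trans ?_ (Phi_dvd_geom hr ha hpos)
    rw [← hn']
    exact_mod_cast h
  have h3 : (r : ℤ) ∣ (a : ℤ) ^ (r ^ k * m) - 1 := by
    have : r ∣ a ^ (r ^ k * m) - 1 := by
      rw [dvd_pow_sub_one_iff (by omega), mul_comm, pow_mul, hprim.pow_eq_one, one_pow]
    rw [← Int.natCast_dvd_natCast, Nat.cast_sub (Nat.one_le_pow _ _ (by omega))] at this
    simpa using this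
  obtain ⟨c, hc⟩ := h3
  have hb : (a : ℤ) ^ (r ^ k * m) = 1 + r * c := by omega
  rcases hr.eq_two_or_odd' with rfl | hodd
  · have hm1 : m = 1 := by simpa using hm2
    subst hm1
    rcases k with _ | k
    · exact hn2 (by simpa using hnk)
    · simp only [Finset.sum_range_succ, Finset.range_zero, Finset.sum_empty, pow_zero, pow_one, mul_one] at h2 hb
      have hodd : Odd ((a : ℤ) ^ (2 ^ k)) := by
        by_contra he
        rw [Int.not_odd_iff_even] at he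
        have : Even ((a : ℤ) ^ (2 ^ (k + 1))) := by
          rw [pow_succ, pow_mul]; exact he.pow_of_ne_zero two_ne_zero
        rw [hb] at this
        obtain ⟨t, ht⟩ := this
        omega
      have := Int.sq_mod_four_eq_one_of_odd hodd
      rw [← pow_mul, ← pow_succ] at this
      omega
  · have h4 := odd_sq_dvd_geom_sum₂_sub (R := ℤ) (a := 1) (b := c) hodd
    simp only [one_pow, mul_one] at h4
    rw [hb] at h2
    have h5 := (dvd_sub_right h2).1 h4
    have h6 : r ^ 2 ∣ r := by exact_mod_cast h5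
    have := Nat.le_of_dvd hr.pos h6
    have := hr.two_le
    nlinarith

theorem Phi_mul_of_dvd {p n : ℕ} (hp : p.Prime) (h : p ∣ n) (a : ℕ) : Phi (n * p) a = Phi n (a ^ p) := by
  unfold Phi
  rw [← cyclotomic_expand_eq_cyclotomic hp h, expand_eval]
  simp

theorem Phi_mul_of_not_dvd {p n : ℕ} (hp : p.Prime) (h : ¬ p ∣ n) (a : ℕ) :
    Phi (n * p) a * Phi n a = Phi n (a ^ p) := by
  unfold Phi
  rw [← Int.natAbs_mul, ← eval_mul, ← cyclotomic_expand_eq_cyclotomic_mul hp h, expand_eval]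
  simp

theorem le_Phi (n a : ℕ) (ha : 1 < a) : (a - 1) ^ n.totient ≤ Phi n a := by
  have := sub_one_pow_totient_le_cyclotomic_eval (q := (a : ℝ)) (by exact_mod_cast ha) n
  rw [← Phi_castR n a ha] at this
  have h2 : ((a - 1 : ℕ) : ℝ) = (a : ℝ) - 1 := by rw [Nat.cast_sub ha.le]; simp
  rw [← h2] at this
  exact_mod_cast this

theorem Phi_le (n a : ℕ) (ha : 1 < a) : Phi n a ≤ (a + 1) ^ n.totient := by
  have := cyclotomic_eval_le_add_one_pow_totient (q := (a : ℝ)) (by exact_mod_cast ha) n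
  rw [← Phi_castR n a ha] at this
  exact_mod_cast this

theorem aux_ineq (p a : ℕ) (ha : 2 ≤ a) (hp : 5 ≤ p ∨ (p = 3 ∧ 3 ≤ a)) : p * (a + 1) + 1 < a ^ p := by
  rcases hp with hp | ⟨rfl, h3⟩
  · induction p, hp using Nat.le_induction with
    | base =>
      have : a ^ 5 = a * (a ^ 2 * a ^ 2) := by ring
      have h2 : 4 ≤ a ^ 2 := by nlinarith
      have h3 : 16 ≤ a ^ 2 * a ^ 2 := by nlinarith
      nlinarith
    | succ p hp ih =>
      rw [pow_succ]
      have h1 : a ^ p * 2 ≤ a ^ p * a := Nat.mul_le_mul_left _ ha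
      have h2 : 1 * (a + 1) ≤ p * (a + 1) := Nat.mul_le_mul_right _ (by omega)
      rw [add_mul]; omega
  · have : a ^ 3 = a * a ^ 2 := by ring
    have h2 : 9 ≤ a ^ 2 := by nlinarith
    nlinarith

/-- Zsigmondy's theorem, with the prime dividing the cyclotomic value -/
theorem exists_ppd (a n : ℕ) (ha : 1 < a) (hn : 1 < n) (h6 : ¬ (a = 2 ∧ n = 6))
    (h2 : ¬ (n = 2 ∧ ∃ m : ℕ, a + 1 = 2 ^ m)) : ∃ r : ℕ, r.Prime ∧ r ∣ Phi n a ∧ ¬ r ∣ n := by
  by_contra hc
  push Not at hc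
  have hgt : a - 1 < Phi n a := sub_one_lt_natAbs_cyclotomic_eval hn (by omega)
  obtain ⟨p, hp, hpd⟩ := Nat.exists_prime_and_dvd (n := Phi n a) (by omega)
  have hpn := hc p hp hpd
  have huniq : ∀ {s : ℕ}, s.Prime → s ∣ Phi n a → s = p := fun hs hsd =>
    le_antisymm (prime_le_of_dvd hp hs ha (by omega) hpn hpd (hc _ hs hsd))
      (prime_le_of_dvd hs hp ha (by omega) (hc _ hs hsd) hsd hpn)
  have hpow := Nat.eq_prime_pow_of_unique_prime_dvd (Phi_pos n a ha).ne' huniq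
  by_cases hn2 : n = 2
  · subst hn2
    have hp2 : p = 2 := (Nat.prime_dvd_prime_iff_eq hp Nat.prime_two).1 hpn
    subst hp2
    refine h2 ⟨rfl, _, Eq.trans ?_ hpow⟩
    have := Phi_cast 2 a ha
    simp at this
    omega
  have hsq := sq_not_dvd hp ha (by omega) hn2 hpn
  have hPp : Phi n a = p := by
    generalize (Phi n a).primeFactorsList.length = j at hpow
    rcases j with _ | _ | j
    · simp at hpow; omega
    · simpa using hpow
    · exact absurd (hpow ▸ pow_dvd_pow p (by omega)) hsq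
  obtain ⟨k, m, hnk, hm, hm2, hprim⟩ := struct_of_dvd hp ha (by omega) hpn hpd
  have hm0 : 0 < m := Nat.pos_of_ne_zero (by rintro rfl; exact hm (dvd_zero _))
  have hn' : n = (p ^ k * m) * p := by rw [hnk]; ring
  have hap : p < a ^ p := Nat.lt_pow_self ha
  rcases k with _ | k
  · simp only [pow_zero, one_mul] at hn'
    have h3 := Phi_mul_of_not_dvd hp hm a
    rw [← hn', hPp] at h3
    have h4 := le_Phi m (a ^ p) (by have := hp.two_le; omega)
    have h5 := Phi_le m a ha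
    have ht : 0 < m.totient := Nat.totient_pos.2 hm0
    have hcase : 5 ≤ p ∨ (p = 3 ∧ 3 ≤ a) := by
      by_cases h5 : 5 ≤ p
      · exact Or.inl h5
      right
      have := hp.two_le
      interval_cases p
      · exfalso; apply hn2
        have : m = 1 := by simpa using hm2
        omega
      · refine ⟨rfl, ?_⟩
        by_contra h3
        have ha2 : a = 2 := by omega
        subst ha2
        have hm3 : m ≤ 2 := Nat.le_of_dvd (by norm_num) hm2
        interval_cases m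
        · have := hprim.pow_eq_one
          revert this; decide
        · exact h6 ⟨rfl, hn'⟩
      · exact absurd hp (by norm_num)
    have h7 := aux_ineq p a ha hcase
    have h8 : (p * (a + 1)) ^ m.totient < (a ^ p - 1) ^ m.totient := Nat.pow_lt_pow_left (by omega) ht.ne'
    rw [mul_pow] at h8
    have h9 : p ≤ p ^ m.totient := Nat.le_self_pow ht.ne' p
    have h10 : p * Phi m a ≤ p ^ m.totient * (a + 1) ^ m.totient := Nat.mul_le_mul h9 h5
    omega
  · have h3 := Phi_mul_of_dvd hp (n := p ^ (k + 1) * m) (Dvd.dvd.mul_right (dvd_pow_self p (by omega)) m) a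
    rw [← hn', hPp] at h3
    have h4 : a ^ p - 1 < Phi (p ^ (k + 1) * m) (a ^ p) := by
      refine sub_one_lt_natAbs_cyclotomic_eval ?_ (by have := hp.two_le; omega)
      have : 1 < p ^ (k + 1) := Nat.one_lt_pow (by omega) hp.one_lt
      nlinarith
    omega

theorem zsigmondy (a n : ℕ) (ha : 1 < a) (hn : 1 < n) (h6 : ¬ (a = 2 ∧ n = 6))
    (h2 : ¬ (n = 2 ∧ ∃ m : ℕ, a + 1 = 2 ^ m)) :
    ∃ r : ℕ, r.Prime ∧ r ∣ a ^ n - 1 ∧ ∀ k : ℕ, 0 < k → k < n → ¬ r ∣ a ^ k - 1 := by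
  obtain ⟨r, hr, h1, h3⟩ := exists_ppd a n ha hn h6 h2
  exact ⟨r, hr, h1.trans (Phi_dvd n a ha), (ppd_of_not_dvd hr ha h3 h1).1⟩

end Cfsg.Agent.Classical.Zsig
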