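import Cfsg.Agent.Lib.Classical.Torus
import Cfsg.Agent.Lib.Classical.Zsig
import Cfsg.Agent.Lib.Classical.SpU

/-! Homocyclic Sylow subgroups. -/
set_option autoImplicit false
open Matrix Polynomial Module

namespace Cfsg.Agent.Classical.Homo
open Zsig

theorem sylow_iso {G H : Type*} [Group G] [Group H] [Finite G] {r : ℕ} [Fact r.Prime] (P : Sylow r G)
    (φ : H →* G) (hφ : Function.Injective φ) (h : Nat.card H = r ^ (Nat.card G).factorization r) :
    Nonempty (P ≃* H) :=
  ⟨(P.equiv (Sylow.ofCard φ.range ((Nat.card_congr (MonoidHom.ofInjective hφ).toEquiv).symm.trans h))).trans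
    (MonoidHom.ofInjective hφ).symm⟩

theorem exists_hom {G : Type*} [Group G] {g : G} {m : ℕ} (h : m ∣ orderOf g) (h0 : orderOf g ≠ 0) :
    ∃ φ : Multiplicative (ZMod m) →* G, Function.Injective φ := by
  have := orderOf_pow_orderOf_div h0 h
  generalize g ^ _ = x at this
  subst this
  rw [← Nat.card_zpowers]
  exact ⟨(Subgroup.subtype _).comp (zmodCyclicMulEquiv inferInstance).toMonoidHom,
    Subtype.val_injective.comp (MulEquiv.injective _)⟩

variable {q r : ℕ} [hr : Fact r.Prime]

theorem ord_pos (hrq : ¬ r ∣ q) : 0 < orderOf (q : ZMod r) :=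
  (isOfFinOrder_iff_pow_eq_one.2 ⟨r - 1, Nat.sub_pos_of_lt hr.out.one_lt,
    ZMod.pow_card_sub_one_eq_one (by rwa [Ne, ZMod.natCast_eq_zero_iff])⟩).orderOf_pos

theorem dvd_iff (hq : 1 < q) (i : ℕ) : r ∣ q ^ i - 1 ↔ orderOf (q : ZMod r) ∣ i := by
  rw [dvd_pow_sub_one_iff (by omega), orderOf_dvd_iff_pow_eq_one]

theorem sub_ne (hq : 1 < q) {i : ℕ} (hi : 0 < i) : q ^ i - 1 ≠ 0 :=
  (Nat.sub_pos_of_lt (Nat.one_lt_pow hi.ne' hq)).ne'

theorem val_phi (hq : 1 < q) (hrq : ¬ r ∣ q) : (q ^ orderOf (q : ZMod r) - 1).factorization r =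
    padicValNat r ((cyclotomic (orderOf (q : ZMod r)) ℤ).eval (q : ℤ)).natAbs := by
  have hd := ord_pos hrq
  have : q ^ orderOf (q : ZMod r) - 1 = ∏ i ∈ (orderOf (q : ZMod r)).divisors, Phi i q := by
    have := congrArg (eval (q : ℤ)) (prod_cyclotomic_eq_X_pow_sub_one hd ℤ)
    rw [eval_prod] at this
    zify [Nat.one_le_pow _ _ (show 0 < q by omega), Phi_cast _ _ hq]
    simpa using this.symm
  rw [this, Nat.factorization_prod_apply fun i _ => (Phi_pos i q hq).ne', Finset.sum_eq_single_of_mem _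
    (Nat.mem_divisors_self _ hd.ne') fun i hi hne => Nat.factorization_eq_zero_of_not_dvd fun h =>
      hne (Nat.dvd_antisymm (Nat.dvd_of_mem_divisors hi) ((dvd_iff hq i).1 (h.trans (Phi_dvd i q hq)))),
    Nat.factorization_def _ hr.out]
  rfl

theorem val_mul (hq : 1 < q) (hrq : ¬ r ∣ q) {i : ℕ} (hi : ¬ r ∣ i) : (q ^ i - 1).factorization r =
    if orderOf (q : ZMod r) ∣ i then (q ^ orderOf (q : ZMod r) - 1).factorization r else 0 := by
  split_ifs with h
  · obtain ⟨k, rfl⟩ := h
    have hd := ord_pos hrq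
    have h0 : 0 < orderOf (q : ZMod r) * k := Nat.pos_of_ne_zero fun e => hi (e ▸ dvd_zero _)
    have h1 : ∀ j, ((q ^ j - 1 : ℕ) : ℤ) = (q : ℤ) ^ j - 1 := fun j => by
      zify [Nat.one_le_pow _ _ (show 0 < q by omega)]
    have := emultiplicity_pow_sub_pow_of_prime (Nat.prime_iff_prime_int.1 hr.out)
      (x := (q : ℤ) ^ orderOf (q : ZMod r)) (y := 1) (n := k)
      (by rw [← h1]; exact_mod_cast (dvd_iff hq _).2 dvd_rfl)
      (fun h => hrq (hr.out.dvd_of_dvd_pow (by exact_mod_cast h))) (fun h => hi (Dvd.dvd.mul_left (by exact_mod_cast h) _))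
    rw [one_pow, ← pow_mul, ← h1, ← h1, Int.natCast_emultiplicity, Int.natCast_emultiplicity,
      ← padicValNat_eq_emultiplicity (sub_ne hq h0), ← padicValNat_eq_emultiplicity (sub_ne hq hd)] at this
    rw [Nat.factorization_def _ hr.out, Nat.factorization_def _ hr.out]
    exact_mod_cast this
  · exact Nat.factorization_eq_zero_of_not_dvd fun e => h ((dvd_iff hq i).1 e)

theorem val_prod (hq : 1 < q) (hrq : ¬ r ∣ q) (S : Finset ℕ) (f : ℕ → ℕ) (hf : ∀ i ∈ S, ¬ r ∣ f i) :
    (∏ i ∈ S, (q ^ f i - 1)).factorization r =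
      (S.filter fun i => orderOf (q : ZMod r) ∣ f i).card * (q ^ orderOf (q : ZMod r) - 1).factorization r := by
  rw [Nat.factorization_prod_apply fun i hi => sub_ne hq (i := f i)
      (Nat.pos_of_ne_zero fun e => hf i hi (e ▸ dvd_zero _)),
    Finset.sum_congr rfl fun i hi => val_mul hq hrq (hf i hi), ← Finset.sum_filter]
  simp

theorem val_GL (hq : 1 < q) (hrq : ¬ r ∣ q) {n : ℕ} (hn : n < r) :
    (∏ i : Fin n, (q ^ n - q ^ (i : ℕ))).factorization r =
      n / orderOf (q : ZMod r) * (q ^ orderOf (q : ZMod r) - 1).factorization r := by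
  have : ∏ i : Fin n, (q ^ n - q ^ (i : ℕ)) = (∏ i ∈ Finset.range n, q ^ i) * ∏ i ∈ Finset.range n, (q ^ (i + 1) - 1) := by
    rw [Fin.prod_univ_eq_prod_range (fun i => q ^ n - q ^ i), ← Finset.prod_range_reflect (fun i => q ^ (i + 1) - 1),
      ← Finset.prod_mul_distrib]
    refine Finset.prod_congr rfl fun j hj => ?_
    have hj' := Finset.mem_range.1 hj
    rw [Nat.mul_sub, ← pow_add, mul_one]
    congr 2; omega
  rw [this, Nat.factorization_mul (Finset.prod_ne_zero_iff.2 fun _ _ => by positivity)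
    (Finset.prod_ne_zero_iff.2 fun _ _ => sub_ne hq (by omega)), Finsupp.add_apply,
    val_prod hq hrq _ (· + 1) fun i hi => Nat.not_dvd_of_pos_of_lt (by omega) (by have := Finset.mem_range.1 hi; omega),
    Nat.card_multiples, Finset.prod_pow_eq_pow_sum,
    Nat.factorization_eq_zero_of_not_dvd fun h => hrq (hr.out.dvd_of_dvd_pow h), zero_add]

theorem card_H (a m : ℕ) : Nat.card (Fin a → Multiplicative (ZMod (r ^ m))) = r ^ (a * m) := by
  simp [Nat.card_pi, ← pow_mul, mul_comm]

variable {F : Type*} [Field F] [Fintype F]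

theorem exists_GL (hrq : ¬ r ∣ q) (hq : Fintype.card F = q) (n : ℕ) :
    ∃ φ : (Fin (n / orderOf (q : ZMod r)) → Multiplicative (ZMod (r ^ (q ^ orderOf (q : ZMod r) - 1).factorization r))) →*
      GL (Fin n) F, Function.Injective φ := by
  obtain ⟨p, hp⟩ := CharP.exists F
  haveI : Fact p.Prime := ⟨CharP.char_is_prime F p⟩
  haveI : NeZero (orderOf (q : ZMod r)) := ⟨(ord_pos hrq).ne'⟩
  obtain ⟨φ, hφ⟩ := Torus.exists_emb (F := F) (FiniteField.Extension F p (orderOf (q : ZMod r))) (n := n) (by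
    rw [FiniteField.finrank_extension]; exact Nat.div_add_mod' _ _)
  obtain ⟨c, hc⟩ := IsCyclic.exists_ofOrder_eq_natCard (α := (FiniteField.Extension F p (orderOf (q : ZMod r)))ˣ)
  obtain ⟨ψ, hψ⟩ := exists_hom (g := c) (m := r ^ (q ^ orderOf (q : ZMod r) - 1).factorization r) (by
    rw [hc, Nat.card_units, FiniteField.natCard_extension, Nat.card_eq_fintype_card, hq]
    exact Nat.ordProj_dvd _ _) (orderOf_pos c).ne'
  exact ⟨φ.comp (ψ.compLeft _), hφ.comp hψ.comp_left⟩

theorem to_SL {H ι : Type*} [Group H] [Fintype ι] [DecidableEq ι] (φ : H →* GL ι F) (hφ : Function.Injective φ)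
    {m : ℕ} (h : ∀ x : H, x ^ m = 1) (hm : m.Coprime (Fintype.card F - 1)) :
    ∃ ψ : H →* SpecialLinearGroup ι F, Function.Injective ψ := by
  classical
  have : ∀ x, GeneralLinearGroup.det (φ x) = 1 := fun x => by
    rw [← orderOf_eq_one_iff]
    refine Nat.eq_one_of_dvd_coprimes hm (orderOf_dvd_of_pow_eq_one ?_) (Fintype.card_units F ▸ orderOf_dvd_card)
    rw [← map_pow, ← map_pow, h, map_one, map_one]
  exact ⟨MonoidHom.mk' (fun x => ⟨(φ x).1, congrArg Units.val (this x)⟩) fun a b =>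
    Subtype.ext (congrArg Units.val (φ.map_mul a b)), fun a b e => hφ (Units.ext (congrArg Subtype.val e))⟩

omit [Fintype F] in
theorem sp_emb {R : Type*} [CommRing R] [Algebra F R] [FiniteDimensional F R] {n : ℕ} (hn : finrank F R = n)
    (l : R →ₗ[F] F) (hl : ∀ x, (∀ y, l (y * x) = 0) → x = 0) :
    ∃ φ : SpecialLinearGroup (Fin 2) R →* symplecticGroup (Fin n) F, Function.Injective φ := by
  let Φ : Form (Kind.symp F) (Fin 2 → R) := Form.ofAlt (LinearMap.mk₂ F (fun u v => l (u 0 * v 1 - u 1 * v 0))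
    (by intros; simp only [Pi.add_apply, ← map_add]; congr 1; ring)
    (by intros; simp only [Pi.smul_apply, ← map_smul, smul_sub, smul_mul_assoc])
    (by intros; simp only [Pi.add_apply, ← map_add]; congr 1; ring)
    (by intros; simp only [Pi.smul_apply, ← map_smul, smul_sub, mul_smul_comm]))
    (fun v => by simp [mul_comm])
  have hB : ∀ u v, Φ.B u v = l (u 0 * v 1 - u 1 * v 0) := fun _ _ => rfl
  obtain ⟨e⟩ := (symp_iso_std Φ (fun v hv => by
    ext i; fin_cases i
    · exact hl _ fun y => by simpa [hB] using hv ![0, y]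
    · exact hl _ fun y => by simpa [hB] using hv ![y, 0]) (m := n) (by
      simp [finrank_pi_fintype, hn])).nonempty_equiv
  let ψ : SpecialLinearGroup (Fin 2) R →* Φ.Isom := MonoidHom.mk' (fun g =>
    ⟨(SpecialLinearGroup.toLin' g).restrictScalars F, Form.mem_Isom_symp.2 fun u v => by
      have := g.2
      rw [det_fin_two] at this
      simp only [hB, LinearEquiv.restrictScalars_apply, SpecialLinearGroup.toLin'_apply, toLin'_apply, mulVec,
        dotProduct, Fin.sum_univ_two]
      congr 1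
      linear_combination (u 0 * v 1 - u 1 * v 0) * this⟩) fun a b => Subtype.ext (LinearEquiv.ext fun v => by
        show SpecialLinearGroup.toLin' (a * b) v = _
        rw [map_mul]; rfl)
  refine ⟨(spEquiv n F).symm.toMonoidHom.comp (e.toMonoidHom.comp ψ), fun a b h =>
    SpecialLinearGroup.toLin'_injective (LinearEquiv.ext fun v => ?_)⟩
  exact congrArg (fun x : Φ.Isom => x.1 v) (e.injective ((spEquiv n F).symm.injective h))

theorem sp_emb2 (K : Type*) [Field K] [Algebra F K] [FiniteDimensional F K] {a e n : ℕ}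
    (h : a * finrank F K + e = n) :
    ∃ φ : (Fin a → SpecialLinearGroup (Fin 2) K) →* symplecticGroup (Fin n) F, Function.Injective φ := by
  obtain ⟨φ, hφ⟩ := sp_emb (F := F) (R := (Fin a → K) × (Fin e → F)) (n := n) (by simp [finrank_pi_fintype, h])
    (LinearMap.coprod (∑ t, Algebra.trace F K ∘ₗ LinearMap.proj t) (∑ t, LinearMap.proj t)) fun x hx => by
      ext t
      · refine (traceForm_nondegenerate F K).1 _ fun y => ?_
        have := hx (Pi.single t y, 0)
        rw [Algebra.traceForm_apply, mul_comm]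
        simpa [Pi.single_apply, apply_ite] using this
      · simpa [Pi.single_apply] using hx (0, Pi.single t 1)
  let ψ : (Fin a → SpecialLinearGroup (Fin 2) K) →* SpecialLinearGroup (Fin 2) ((Fin a → K) × (Fin e → F)) :=
    MonoidHom.mk' (fun x => ⟨of fun i j => (fun t => (x t).1 i j, fun _ => (1 : Matrix _ _ F) i j), by
      rw [det_fin_two]
      ext t
      · exact (det_fin_two _).symm.trans (x t).2
      · simp⟩) fun x y => Subtype.ext (by
      show of _ = of _ * of _
      ext i j t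
      · simp [mul_apply]
      · fin_cases i <;> fin_cases j <;> simp [mul_apply])
  refine ⟨φ.comp ψ, hφ.comp fun x y e => funext fun t => Subtype.ext ?_⟩
  ext i j
  exact congrArg (fun z : SpecialLinearGroup (Fin 2) ((Fin a → K) × (Fin _ → F)) => (z.1 i j).1 t) e

end Cfsg.Agent.Classical.Homo
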