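import Mathlib
import Cfsg.Prelude.Def_GeometricClasses
import Cfsg.Prelude.Def_ClassicalGeometry

/-! Involutions of projective symplectic groups and Lagrangian pairs. -/

set_option autoImplicit false

namespace Cfsg.Agent.Classical.Inv
open Module

variable {F : Type*} [Field F] {V : Type*} [AddCommGroup V] [Module F V] [FiniteDimensional F V]
  {f : LinearMap.BilinForm F V}

theorem skew_of (alt : ∀ x, f x x = 0) (x y : V) : f x y = - f y x := by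
  have := alt (x + y)
  simp only [map_add, LinearMap.add_apply, alt] at this
  linear_combination this

theorem exists_perp (alt : ∀ x, f x x = 0) (nd : ∀ x, x ≠ 0 → ∃ y, f x y ≠ 0) {S : Submodule F V}
    (hS : ∀ x ∈ S, x ≠ 0 → ∃ y ∈ S, f x y ≠ 0) (h : S ≠ ⊤) :
    ∃ x y, (∀ s ∈ S, f s x = 0) ∧ (∀ s ∈ S, f s y = 0) ∧ f x y ≠ 0 := by
  have rf : f.IsRefl := fun x y h => by rw [skew_of alt, h, neg_zero]
  have c : IsCompl S (f.orthogonal S) := (LinearMap.BilinForm.isCompl_orthogonal_iff_disjoint rf).2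
    (Submodule.disjoint_def.2 fun x h1 h2 => by_contra fun k => by
      obtain ⟨y, y1, y2⟩ := hS x h1 k
      exact y2 (rf _ _ (h2 y y1)))
  obtain ⟨x, x1, x2⟩ := Submodule.exists_mem_ne_zero_of_ne_bot (p := f.orthogonal S) fun e => h (by
    have := c.sup_eq_top; rwa [e, sup_bot_eq] at this)
  obtain ⟨y, hy⟩ := nd x x2
  obtain ⟨s, s1, y, y1, rfl⟩ := Submodule.mem_sup.1 (c.sup_eq_top ▸ Submodule.mem_top : y ∈ S ⊔ f.orthogonal S)
  refine ⟨x, y, x1, y1, ?_⟩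
  rwa [map_add, rf _ _ (x1 s s1), zero_add] at hy

theorem lagr [Finite V] (alt : ∀ x, f x x = 0) (nd : ∀ x, x ≠ 0 → ∃ y, f x y ≠ 0)
    (R : Submodule F V → Submodule F V → Prop) (R0 : R ⊥ ⊥)
    (step : ∀ U W x y, R U W → (∀ s ∈ U ⊔ W, f s x = 0) → (∀ s ∈ U ⊔ W, f s y = 0) → f x y ≠ 0 →
      ∃ v w, (∀ s ∈ U ⊔ W, f s v = 0) ∧ (∀ s ∈ U ⊔ W, f s w = 0) ∧ f v w ≠ 0 ∧ R (U ⊔ F ∙ v) (W ⊔ F ∙ w)) :
    ∃ U W, IsCompl U W ∧ (∀ u ∈ U, ∀ v ∈ U, f u v = 0) ∧ (∀ u ∈ W, ∀ v ∈ W, f u v = 0) ∧ R U W := by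
  have sk := skew_of alt
  haveI : Finite (Submodule F V) := Finite.of_injective _ SetLike.coe_injective
  obtain ⟨⟨U, W⟩, ⟨h1, h2, h3, h4, h5⟩, hmax⟩ := Set.exists_max_image
    {p : Submodule F V × Submodule F V | (∀ u ∈ p.1, ∀ v ∈ p.1, f u v = 0) ∧ (∀ u ∈ p.2, ∀ v ∈ p.2, f u v = 0) ∧
      (∀ u ∈ p.1, u ≠ 0 → ∃ w ∈ p.2, f u w ≠ 0) ∧ (∀ w ∈ p.2, w ≠ 0 → ∃ u ∈ p.1, f w u ≠ 0) ∧ R p.1 p.2}
    (fun p => finrank F p.1) (Set.toFinite _) ⟨(⊥, ⊥), by simp [R0]⟩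
  dsimp only at h1 h2 h3 h4 h5 hmax
  refine ⟨U, W, ⟨Submodule.disjoint_def.2 fun x k1 k2 => by_contra fun k => ?_, codisjoint_iff.2 (by_contra fun k => ?_)⟩,
    h1, h2, h5⟩
  · obtain ⟨w, w1, w2⟩ := h3 x k1 k
    exact w2 (h2 x k2 w w1)
  · obtain ⟨x, y, x1, y1, xy⟩ := exists_perp alt nd (fun s hs s0 => by
      obtain ⟨u, u1, w, w1, rfl⟩ := Submodule.mem_sup.1 hs
      by_cases u0 : u = 0
      · obtain ⟨u', k1, k2⟩ := h4 w w1 (by simpa [u0] using s0)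
        exact ⟨u', Submodule.mem_sup_left k1, by simpa [u0] using k2⟩
      · obtain ⟨w', k1, k2⟩ := h3 u u1 u0
        exact ⟨w', Submodule.mem_sup_right k1, by simpa [h2 w w1 w' k1] using k2⟩) k
    obtain ⟨v, w, v1, w1, vw, hR⟩ := step U W x y h5 x1 y1 xy
    have iso : ∀ {A : Submodule F V} {a : V}, (∀ u ∈ A, ∀ v ∈ A, f u v = 0) → (∀ s ∈ A, f s a = 0) →
        ∀ u ∈ A ⊔ F ∙ a, ∀ v ∈ A ⊔ F ∙ a, f u v = 0 := fun {A a} k1 k2 u hu v hv => by
      obtain ⟨u, u1, _, u2, rfl⟩ := Submodule.mem_sup.1 hu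
      obtain ⟨v, v1, _, v2, rfl⟩ := Submodule.mem_sup.1 hv
      obtain ⟨s, rfl⟩ := Submodule.mem_span_singleton.1 u2
      obtain ⟨r, rfl⟩ := Submodule.mem_span_singleton.1 v2
      simp [k1 u u1 v v1, k2 u u1, sk a v, k2 v v1, alt]
    have dual : ∀ {A B : Submodule F V} {a b : V}, (∀ u ∈ A, u ≠ 0 → ∃ w ∈ B, f u w ≠ 0) → (∀ s ∈ A, f s b = 0) →
        f a b ≠ 0 → ∀ u ∈ A ⊔ F ∙ a, u ≠ 0 → ∃ w ∈ B ⊔ F ∙ b, f u w ≠ 0 := fun {A B a b} k1 k2 k3 u hu u0 => by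
      obtain ⟨u, u1, _, u2, rfl⟩ := Submodule.mem_sup.1 hu
      obtain ⟨s, rfl⟩ := Submodule.mem_span_singleton.1 u2
      by_cases s0 : s = 0
      · obtain ⟨w, w1, w2⟩ := k1 u u1 (by simpa [s0] using u0)
        exact ⟨w, Submodule.mem_sup_left w1, by simpa [s0] using w2⟩
      · exact ⟨b, Submodule.mem_sup_right (Submodule.mem_span_singleton_self b), by simp [k2 u u1, s0, k3]⟩
    have := hmax (U ⊔ F ∙ v, W ⊔ F ∙ w) ⟨iso h1 fun s hs => v1 s (Submodule.mem_sup_left hs),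
      iso h2 fun s hs => w1 s (Submodule.mem_sup_right hs),
      dual h3 (fun s hs => w1 s (Submodule.mem_sup_left hs)) vw,
      dual h4 (fun s hs => v1 s (Submodule.mem_sup_right hs)) (by rw [sk]; exact neg_ne_zero.2 vw), hR⟩
    refine absurd this (not_le.2 (Submodule.finrank_lt_finrank_of_lt (left_lt_sup.2 fun e => vw ?_)))
    exact w1 v (Submodule.mem_sup_left (e (Submodule.mem_span_singleton_self v)))

omit [FiniteDimensional F V] in
theorem map_sup_le {g : V →ₗ[F] V} {A B : Submodule F V} {a b : V} (h : A.map g ≤ B) {c : F} (k : g a = c • b) :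
    (A ⊔ F ∙ a).map g ≤ B ⊔ F ∙ b := by
  rw [Submodule.map_sup, Submodule.map_span, Set.image_singleton]
  exact sup_le_sup h (Submodule.span_le.2 (by
    rintro _ rfl; rw [k]; exact Submodule.smul_mem _ _ (Submodule.mem_span_singleton_self b)))

theorem inv_lagr [Finite V] (h2 : (2 : F) ≠ 0) (alt : ∀ x, f x x = 0) (nd : ∀ x, x ≠ 0 → ∃ y, f x y ≠ 0)
    {g : V →ₗ[F] V} (hg : ∀ x y, f (g x) (g y) = f x y) {z : F} (hz : ∀ x, g (g x) = z • x) (zz : z * z = 1) :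
    ∃ U W : Submodule F V, IsCompl U W ∧ (∀ u ∈ U, ∀ v ∈ U, f u v = 0) ∧ (∀ u ∈ W, ∀ v ∈ W, f u v = 0) ∧
      (U.map g = U ∧ W.map g = W ∨ U.map g = W ∧ W.map g = U) := by
  have sk := skew_of alt
  have eq : ∀ {A B : Submodule F V}, A.map g ≤ B → B.map g ≤ A → A.map g = B := fun {A B} h1 h2 =>
    le_antisymm h1 fun b hb => ⟨g (z • b), h2 ⟨_, B.smul_mem z hb, rfl⟩, by rw [hz, smul_smul, zz, one_smul]⟩
  have pg : ∀ {S : Submodule F V} {x : V}, S.map g ≤ S → (∀ s ∈ S, f s x = 0) → ∀ s ∈ S, f s (g x) = 0 :=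
    fun {S x} h1 h2 s hs => by rw [← hg, hz, map_smul, h2 _ (h1 ⟨s, hs, rfl⟩), smul_zero]
  rcases mul_self_eq_one_iff.1 zz with rfl | rfl
  · obtain ⟨U, W, h, k1, k2, k3, k4⟩ := lagr alt nd (fun U W => U.map g ≤ U ∧ W.map g ≤ W) (by simp)
      fun U W x y hR x1 y1 xy => by
        have S : (U ⊔ W).map g ≤ U ⊔ W := by rw [Submodule.map_sup]; exact sup_le_sup hR.1 hR.2
        have key : ∀ a b : F, a * a = 1 → b * b = 1 → f (x + a • g x) (y + b • g y) ≠ 0 →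
            ∃ v w, (∀ s ∈ U ⊔ W, f s v = 0) ∧ (∀ s ∈ U ⊔ W, f s w = 0) ∧ f v w ≠ 0 ∧
              (U ⊔ F ∙ v).map g ≤ U ⊔ F ∙ v ∧ (W ⊔ F ∙ w).map g ≤ W ⊔ F ∙ w := fun a b ha hb h =>
          ⟨_, _, fun s hs => by simp [x1 s hs, pg S x1 s hs], fun s hs => by simp [y1 s hs, pg S y1 s hs], h,
            map_sup_le hR.1 (c := a) (by simp [hz, smul_smul, ha, add_comm]),
            map_sup_le hR.2 (c := b) (by simp [hz, smul_smul, hb, add_comm])⟩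
        by_contra k
        have e := fun a b ha hb => not_not.1 (mt (key a b ha hb) k)
        have e1 := e 1 1 (by simp) (by simp)
        have e2 := e (-1) (-1) (by simp) (by simp)
        simp only [map_add, map_smul, LinearMap.add_apply, LinearMap.smul_apply, smul_eq_mul, hg] at e1 e2
        exact mul_ne_zero h2 (mul_ne_zero h2 xy) (by linear_combination e1 + e2)
    exact ⟨U, W, h, k1, k2, .inl ⟨eq k3 k3, eq k4 k4⟩⟩
  · obtain ⟨U, W, h, k1, k2, k3, k4⟩ := lagr alt nd (fun U W => U.map g ≤ W ∧ W.map g ≤ U) (by simp)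
      fun U W x y hR x1 y1 xy => by
        have S : (U ⊔ W).map g ≤ U ⊔ W := by rw [Submodule.map_sup, sup_comm U]; exact sup_le_sup hR.1 hR.2
        have key : ∀ v, (∀ s ∈ U ⊔ W, f s v = 0) → f v (g v) ≠ 0 →
            ∃ v w, (∀ s ∈ U ⊔ W, f s v = 0) ∧ (∀ s ∈ U ⊔ W, f s w = 0) ∧ f v w ≠ 0 ∧
              (U ⊔ F ∙ v).map g ≤ W ⊔ F ∙ w ∧ (W ⊔ F ∙ w).map g ≤ U ⊔ F ∙ v := fun v hv h =>
          ⟨v, g v, hv, pg S hv, h, map_sup_le hR.1 (one_smul F _).symm, map_sup_le hR.2 (hz v)⟩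
        by_contra k
        have e := fun v hv => not_not.1 (mt (key v hv) k)
        have e1 := e x x1
        have e2 := e _ (pg S y1)
        have e3 := e (x + g y) fun s hs => by simp [x1 s hs, pg S y1 s hs]
        simp only [map_add, LinearMap.add_apply, e1, e2, hg, hz x, hz y, map_smul, smul_eq_mul, sk y x, alt] at e2 e3
        exact mul_ne_zero h2 xy (by linear_combination e2 - e3)
    exact ⟨U, W, h, k1, k2, .inr ⟨eq k3 k4, eq k4 k3⟩⟩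

theorem symp_facts {d : ℕ} (x : Matrix.symplecticGroup (Fin d) F) :
    ∃ f : LinearMap.BilinForm F (Fin d ⊕ Fin d → F), (∀ u v, sympForm d F u v = f u v) ∧ (∀ u, f u u = 0) ∧
      (∀ u, u ≠ 0 → ∃ v, f u v ≠ 0) ∧ ∀ u v, f (Matrix.toLin' x.1 u) (Matrix.toLin' x.1 v) = f u v := by
  refine ⟨Matrix.toBilin' (Matrix.J (Fin d) F), fun x y => (Matrix.toBilin'_apply' _ _ _).symm, fun u => ?_,
    fun u hu => ?_, fun u v => ?_⟩
  · rw [Matrix.toBilin'_apply']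
    simp [Matrix.J, Matrix.fromBlocks_mulVec, dotProduct, Matrix.neg_mulVec, mul_comm]
  · obtain ⟨i, hi⟩ := Function.ne_iff.1 hu
    refine ⟨(Matrix.J (Fin d) F).mulVec (Pi.single i 1), ?_⟩
    rw [Matrix.toBilin'_apply', Matrix.mulVec_mulVec, Matrix.J_squared, Matrix.neg_mulVec, Matrix.one_mulVec]
    simpa using hi
  · rw [Matrix.toBilin'_apply', Matrix.toBilin'_apply', Matrix.toLin'_apply, Matrix.toLin'_apply,
      Matrix.mulVec_mulVec, Matrix.dotProduct_mulVec, Matrix.vecMul_mulVec, ← Matrix.mul_assoc,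
      SymplecticGroup.mem_iff'.1 x.2, Matrix.dotProduct_mulVec]

end Cfsg.Agent.Classical.Inv
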