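import Cfsg.Agent.Lib.Perm.Un5

/-! Unipotent elements and direct sum decompositions. -/

set_option autoImplicit false

namespace Cfsg.Agent.Classical.Inv
open Module Polynomial Cfsg.Agent.Perm.Cj

variable {F : Type*} [Field F] {V : Type*} [AddCommGroup V] [Module F V] [FiniteDimensional F V]

theorem cnt {ι : Type*} [Fintype ι] (d : ι → ℕ) (b : ℕ) : (Finset.univ.val.map d).count b = Nat.card {i // d i = b} := by
  rw [Nat.card_eq_fintype_card, Fintype.card_subtype, Multiset.count_map]
  simp only [eq_comm]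
  rfl

theorem sub_part {ι : Type*} [Fintype ι] {d : ι → ℕ} {N : End F V} (H : Sim (mdl fun i => (X : F[X]) ^ d i) N)
    (h : IsNilpotent N) {A C : Submodule F V} (k : IsCompl A C) (hA : ∀ x ∈ A, N x ∈ A) (hC : ∀ x ∈ C, N x ∈ C) :
    ∃ ν : Multiset ℕ, ν ≤ Finset.univ.val.map d ∧ ν.sum = finrank F A := by
  obtain ⟨ι0, _, e0, H0⟩ := exists_nil_mdl (End.isNilpotent.restrict hA h)
  obtain ⟨ι1, _, e1, H1⟩ := exists_nil_mdl (End.isNilpotent.restrict hC h)
  have S : Sim ((N.restrict hA).prodMap (N.restrict hC)) N := ⟨Submodule.prodEquivOfIsCompl A C k, fun v => by simp⟩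
  have c := card_eq_of_min (a := d) (b := Sum.elim (e0 · + 1) (e1 · + 1)) fun j => by
    rw [← jt_mdl (F := F), H.jt, ← S.jt, jt_prod, H0.jt, H1.jt, jt_mdl, jt_mdl, Fintype.sum_sum_type]; rfl
  refine ⟨Finset.univ.val.map (e0 · + 1), Multiset.le_iff_count.2 fun b => ?_, ?_⟩
  · rcases b with _ | b
    · rw [Multiset.count_eq_zero.2 (by simp)]; exact Nat.zero_le _
    · rw [cnt, cnt, c]
      exact Nat.card_le_card_of_injective (fun i => ⟨.inl i.1, i.2⟩) fun i j e => Subtype.ext (Sum.inl_injective (congrArg Subtype.val e))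
  · rw [H0.finrank_eq, finrank_mdl fun _ => monic_X_pow _]
    simp only [natDegree_X_pow]
    rfl

theorem sum_min {p : ℕ} (hp : 0 < p) (μ : Multiset ℕ) (h : ∀ b ∈ μ, b ≤ p) :
    μ.sum = (μ.map (min (p - 1))).sum + μ.count p := by
  induction μ using Multiset.induction_on with
  | empty => simp
  | cons a s ih =>
    have := h a (Multiset.mem_cons_self _ _)
    rw [Multiset.sum_cons, ih fun b hb => h b (Multiset.mem_cons_of_mem hb), Multiset.map_cons, Multiset.sum_cons,
      Multiset.count_cons]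
    split_ifs <;> omega

theorem free_cyc {p t : ℕ} (hp : p.Prime) {g : End F V} (hg : g ^ p = 1) {D : Fin t → Submodule F V} (hD : iSupIndep D)
    {σ : Equiv.Perm (Fin t)} (h : ∀ j, (D j).map g = D (σ j)) {j : Fin t} (h0 : D j ≠ ⊥) (hj : σ j ≠ j) :
    Disjoint (D j) (LinearMap.ker ((g - 1) ^ (p - 1))) := by
  have it : ∀ i, (D j).map (g ^ i) = D (σ^[i] j) := fun i => by
    induction i with
    | zero => exact Submodule.map_id _
    | succ i ih => rw [pow_succ', End.mul_eq_comp, Submodule.map_comp, ih, h, Function.iterate_succ_apply']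
  have le : ∀ l, l ≠ j → D l ≤ ⨆ (l) (_ : l ≠ j), D l := fun l hl => le_iSup₂_of_le l hl le_rfl
  have pp : Function.IsPeriodicPt σ p j := by_contra fun e => h0 ((hD j).eq_bot_of_le (by
    have := it p
    rw [hg] at this
    exact ((Submodule.map_id _).symm.trans this).le.trans (le _ e)))
  refine Submodule.disjoint_def.2 fun u hu h1 => Submodule.disjoint_def.1 (hD j) u hu ?_
  have e : (g - 1) ^ (p - 1) = aeval g (((X : F[X]) - C 1) ^ (p - 1)) := by simp
  have dg : (((X : F[X]) - C 1) ^ (p - 1)).natDegree < p - 1 + 1 := by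
    rw [(monic_X_sub_C _).natDegree_pow, natDegree_X_sub_C]; omega
  rw [LinearMap.mem_ker, e, aeval_eq_sum_range' dg, Finset.sum_range_succ', LinearMap.add_apply, LinearMap.sum_apply,
    pow_zero, LinearMap.smul_apply, End.one_apply] at h1
  have c0 : (((X : F[X]) - C 1) ^ (p - 1)).coeff 0 ≠ 0 := by simp [coeff_zero_eq_eval_zero]
  rw [← Submodule.smul_mem_iff _ c0, eq_neg_of_add_eq_zero_right h1]
  refine neg_mem (sum_mem fun i hi => Submodule.smul_mem _ _ (le (σ^[i + 1] j) (fun e => hj ?_) (it _ ▸ ⟨u, hu, rfl⟩)))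
  have := pp.gcd (e : Function.IsPeriodicPt σ (i + 1) j)
  rw [(Nat.coprime_of_lt_prime (by omega) (by have := Finset.mem_range.1 hi; omega) hp).gcd_eq_one] at this
  exact this

end Cfsg.Agent.Classical.Inv
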