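import Cfsg.Agent.Lib.Classical.Inv10
import Cfsg.Agent.Lib.Classical.Dec1
import Cfsg.Agent.Lib.Classical.Asch23

/-! Unipotent isometries of prescribed Jordan type. -/

set_option autoImplicit false

namespace Cfsg.Agent.Classical.Inv
open Module Polynomial Cfsg.Agent.Perm.Cj Cfsg.Agent.Perm.Inv Cfsg.Agent.Classical.Form

universe u
variable {F : Type u} [Field F] {V : Type*} [AddCommGroup V] [Module F V] [FiniteDimensional F V]

theorem exists_nd (h2 : (2 : F) ≠ 0) {Φ : Form (Kind.orth F) V} (hΦ : Φ.Nondeg) (k : ℕ) (hk : k ≤ finrank F V) :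
    ∃ W : Submodule F V, (Φ.restrict W).Nondeg ∧ finrank F W + k = finrank F V := by
  induction k with
  | zero => exact ⟨⊤, fun v h => Subtype.ext (hΦ _ fun u => h ⟨u, trivial⟩), by simp⟩
  | succ k ih =>
    obtain ⟨W, h1, h3⟩ := ih (by omega)
    obtain ⟨w, hw, w0⟩ := W.exists_mem_ne_zero_of_ne_bot fun e => by rw [e, finrank_bot] at h3; omega
    obtain ⟨x, hx, x0⟩ : ∃ x ∈ W, Φ.B x x ≠ 0 := by
      by_contra! k
      refine w0 (h1.of_mem hw fun x hx => mul_left_cancel₀ h2 ?_)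
      have := k _ (add_mem hx hw)
      simp only [map_add, LinearMap.add_apply, k x hx, k w hw, Φ.orth_symm w x] at this
      linear_combination this
    have a := Submodule.finrank_sup_add_finrank_inf_eq W (Φ.perp (F ∙ x))
    have b := hΦ.finrank_perp (F ∙ x)
    rw [finrank_span_singleton (by rintro rfl; simp at x0)] at b
    have c := Submodule.finrank_le (W ⊔ Φ.perp (F ∙ x))
    have d := Submodule.finrank_lt_finrank_of_lt (show W ⊓ Φ.perp (F ∙ x) < W from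
      inf_lt_left.2 fun e => x0 (Φ.mem_perp_singleton.1 (e hx)))
    exact ⟨_, nondeg_inf_perp h1 hx x0, by omega⟩

theorem real_mult [Finite F] (h2 : (2 : F) ≠ 0) {μ : Multiset ℕ} (h : ∀ e, Even e → Even (μ.count e)) :
    μ ∈ Real (Kind.orth F) := by
  rw [← Multiset.toFinset_sum_count_nsmul_eq μ]
  refine sum_mem fun j _ => ?_
  rcases Nat.even_or_odd j with e | ⟨k, rfl⟩
  · obtain ⟨c, hc⟩ := h j e
    rw [hc, ← two_mul, mul_nsmul]
    exact nsmul_mem (real_orth2 _) _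
  · exact nsmul_mem (real_odd h2 k) _

theorem dim_of_jt {N : End F V} (h : IsNilpotent N) {μ : Multiset ℕ} (e : ∀ k, jt N k = (μ.map (min k)).sum) :
    finrank F V = μ.sum := by
  have := e (finrank F V + μ.sum)
  rw [Multiset.map_congr rfl fun b hb => min_eq_right ((Multiset.single_le_sum (by simp) b hb).trans (Nat.le_add_left _ _)),
    Multiset.map_id', jt, pow_add, nil_pow h, zero_mul, LinearMap.ker_zero, finrank_top] at this
  exact this

theorem real_sim [Finite F] {Φ : Form (Kind.orth F) V} (hΦ : Φ.Nondeg) {μ : Multiset ℕ} (h : μ ∈ Real (Kind.orth F))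
    (ho : Odd μ.sum) (hd : finrank F V = μ.sum) :
    ∃ t ∈ Φ.Isom, IsNilpotent (dl t : End F V) ∧ ∀ k, jt (dl t) k = (μ.map (min k)).sum := by
  obtain ⟨W, _, _, _, Ψ, h1, t, h3, h4, h5⟩ := h
  obtain ⟨m, hm⟩ := ho
  obtain ⟨c, c0, hc⟩ := orth_iso_odd m Ψ Φ h1 hΦ ((dim_of_jt h4 h5).trans hm) (hd.trans hm)
  obtain ⟨s, s1, s2⟩ := exists_of_iso hc (t := t) (by rwa [Ψ.Isom_scale c0])
  have := (sim_dl.2 s2).jt
  exact ⟨s, s1, nil_iff_jt.2 (by rw [← this, ← s2.finrank_eq]; exact nil_iff_jt.1 h4), this ▸ h5⟩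

theorem real_plus2 [Finite F] (μ : Multiset ℕ) : ∃ (V : Type u) (_ : AddCommGroup V) (_ : Module F V)
    (_ : FiniteDimensional F V) (Ψ : Form (Kind.orth F) V), Ψ.Nondeg ∧ Ψ.IsType μ.sum 1 ∧ ∃ t ∈ Ψ.Isom,
      IsNilpotent (dl t : End F V) ∧ ∀ k, jt (dl t) k = ((2 • μ).map (min k)).sum := by
  induction μ using Multiset.induction_on with
  | empty =>
    obtain ⟨V, _, _, _, Ψ, h1, t, h3, h4, h5⟩ := (Real (Kind.orth F)).zero_mem
    exact ⟨V, _, _, inferInstance, Ψ, h1, isType_zero _ (dim_of_jt h4 h5), t, h3, h4, h5⟩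
  | cons j μ ih =>
    obtain ⟨W, _, _, _, Ψ, h5, h9, s, h6, h7, h8⟩ := ih
    obtain ⟨Φ, h1, h2⟩ : ∃ Φ : Form (Kind.orth F) ((Fin j → F) × Dual F (Fin j → F)),
        (∀ u v, Φ.B u v = v.2 u.1 + u.2 v.1) ∧ ∀ v, Φ.N v = v.2 v.1 :=
      ⟨ofQuadFun (fun v => v.2 v.1) (LinearMap.mk₂ F (fun u v => v.2 u.1 + u.2 v.1) (by simp; intros; ring)
        (by simp [mul_add]) (by simp; intros; ring) (by simp [mul_add])) (by simp; intros; ring) (by simp [mul_assoc]),
        fun _ _ => rfl, fun _ => rfl⟩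
    have nd : Φ.Nondeg := fun v h => Prod.ext ((forall_dual_apply_eq_zero_iff F _).1 fun φ => by
      simpa [h1] using h (0, φ)) (LinearMap.ext fun u => by simpa [h1] using h (u, 0))
    obtain ⟨t, ht⟩ := exists_reg (F := F) (V := Fin j → F)
    have e1 : dl (t.prodCongr t.symm.dualMap) = (dl t).prodMap (dl t.symm.dualMap) := rfl
    have e2 : dl ((t.prodCongr t.symm.dualMap).prodCongr s) = (dl (t.prodCongr t.symm.dualMap)).prodMap (dl s) := rfl
    have ty : Φ.IsType j 1 := isType_of_TS j Φ (LinearMap.range (LinearMap.inl F _ _)) nd (by simp [two_mul])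
      (by rw [LinearMap.finrank_range_of_inj LinearMap.inl_injective]; simp) (by
        constructor
        · rintro _ ⟨x, rfl⟩; simp [h2]
        · rintro _ ⟨x, rfl⟩ _ ⟨y, rfl⟩; simp [h1])
    refine ⟨_, _, _, inferInstance, prodForm Φ Ψ, prodForm_nondeg nd h5, by simpa using isType_prod nd h5 ty h9,
      (t.prodCongr t.symm.dualMap).prodCongr s, prod_mem ⟨by simp [h1], by simp [h2]⟩ h6,
      e2 ▸ nil_prod (e1 ▸ nil_prod ht.1 ht.dual.1) h7, fun k => ?_⟩
    simp [e1, e2, jt_prod, reg_iff.1 ht, reg_iff.1 ht.dual, h8, two_nsmul]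
    ring

theorem exists_unip [Finite F] (h2 : (2 : F) ≠ 0) {Φ : Form (Kind.orth F) V} (hΦ : Φ.Nondeg) {d : ℕ} (ty : Φ.IsType d 1)
    {μ : Multiset ℕ} (h : ∀ e, Even e → Even (μ.count e)) (hs : μ.sum = 2 * d) :
    ∃ t ∈ Φ.Isom, IsNilpotent (dl t : End F V) ∧ ∀ k, jt (dl t) k = (μ.map (min k)).sum := by
  by_cases o : ∃ e ∈ μ, Odd e
  · obtain ⟨e, he, a, rfl⟩ := o
    obtain ⟨ν, rfl⟩ := Multiset.exists_cons_of_mem he
    rw [Multiset.sum_cons] at hs
    have := ty.1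
    obtain ⟨W, h1, h3⟩ := exists_nd h2 hΦ (2 * a + 1) (by omega)
    have b := hΦ.finrank_perp W
    obtain ⟨t, t1, t2, t3⟩ := real_sim h1 (μ := ν) (real_mult h2 fun e he => by
      have := h e he
      rwa [Multiset.count_cons_of_ne (by rintro rfl; obtain ⟨_, _⟩ := he; omega)] at this) ⟨d - a - 1, by omega⟩ (by omega)
    obtain ⟨s, s1, s2, s3⟩ := real_sim (hΦ.restrict_perp h1) (real_odd h2 a) ⟨a, by simp⟩ (by simp; omega)
    have S : Sim ((dl t).prodMap (dl s)) (dl (glue (Φ.isCompl_perp h1) (t, s))) :=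
      ⟨Submodule.prodEquivOfIsCompl _ _ (Φ.isCompl_perp h1), fun v => by simp [dl_apply, glue_add]; abel⟩
    refine ⟨_, Φ.glue_mem (Φ.isCompl_perp h1) le_rfl t1 s1, nil_iff_jt.2 ?_, fun k => ?_⟩
    · rw [← S.jt, ← S.finrank_eq]; exact nil_iff_jt.1 (nil_prod t2 s2)
    · rw [← S.jt, jt_prod, t3, s3]; simp [add_comm]
  · obtain ⟨ν, rfl⟩ : ∃ ν, μ = 2 • ν := (Multiset.exists_smul_of_dvd_count μ fun e he =>
      (h e (Nat.not_odd_iff_even.1 fun k => o ⟨e, he, k⟩)).two_dvd)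
    obtain ⟨W, _, _, _, Ψ, h1, h9, t, h3, h4, h5⟩ := real_plus2 (F := F) ν
    rw [Multiset.sum_nsmul, smul_eq_mul] at hs
    obtain rfl : ν.sum = d := by omega
    obtain ⟨s, s1, s2⟩ := exists_of_iso (orth_iso_even 1 _ Ψ Φ h1 hΦ h9 ty) h3
    have := (sim_dl.2 s2).jt
    exact ⟨s, s1, nil_iff_jt.2 (by rw [← this, ← s2.finrank_eq]; exact nil_iff_jt.1 h4), this ▸ h5⟩

theorem sub_part2 (h2 : (2 : F) ≠ 0) {Φ : Form (Kind.orth F) V} {t : V ≃ₗ[F] V} (ht : t ∈ Φ.Isom)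
    (h : IsNilpotent (dl t : End F V)) {μ : Multiset ℕ} (H : ∀ k, jt (dl t) k = (μ.map (min k)).sum) {A : Submodule F V}
    (hA : (Φ.restrict A).Nondeg) (hs : t ∈ stab A) :
    ∃ ν : Multiset ℕ, ν ≤ μ ∧ ν.sum = finrank F A ∧ ∀ e, Even e → Even (ν.count e) := by
  classical
  obtain ⟨ι, _, d, rfl⟩ : ∃ (ι : Type) (_ : Fintype ι) (d : ι → ℕ), μ = Finset.univ.val.map d :=
    ⟨μ.ToType, inferInstance, (·.1), ((μ.map_univ id).trans μ.map_id).symm⟩
  have a1 : ∀ x ∈ A, dl t x ∈ A := fun x hx => sub_mem ((hs x).1 hx) hx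
  have c1 : ∀ x ∈ Φ.perp A, dl t x ∈ Φ.perp A := fun x hx => sub_mem ((Φ.stab_perp ht hs x).1 hx) hx
  obtain ⟨ι0, _, e0, H0⟩ := exists_nil_mdl (End.isNilpotent.restrict a1 h)
  obtain ⟨ι1, _, e1, H1⟩ := exists_nil_mdl (End.isNilpotent.restrict c1 h)
  have S : Sim (((dl t).restrict a1).prodMap ((dl t).restrict c1)) (dl t) :=
    ⟨Submodule.prodEquivOfIsCompl _ _ (Φ.isCompl_perp hA), fun v => by simp⟩
  have c := card_eq_of_min (a := d) (b := Sum.elim (e0 · + 1) (e1 · + 1)) fun j => by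
    have := H j
    rw [Multiset.map_map, ← S.jt, jt_prod, H0.jt, H1.jt, jt_mdl, jt_mdl] at this
    rw [Fintype.sum_sum_type]; exact this.symm
  refine ⟨Finset.univ.val.map (e0 · + 1), Multiset.le_iff_count.2 fun b => ?_, ?_, fun b hb => ?_⟩
  · rcases b with _ | b
    · rw [Multiset.count_eq_zero.2 (by simp)]; exact Nat.zero_le _
    · rw [cnt, cnt, c]
      exact Nat.card_le_card_of_injective (fun i => ⟨.inl i.1, i.2⟩) fun i j e =>
        Subtype.ext (Sum.inl_injective (congrArg Subtype.val e))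
  · rw [H0.finrank_eq, finrank_mdl fun _ => monic_X_pow _]
    simp only [natDegree_X_pow]
    rfl
  · rcases b with _ | b
    · rw [Multiset.count_eq_zero.2 (by simp)]; exact Even.zero
    · have r := Φ.res_mem ht A hs
      have := even_blocks rfl hA r (d := (e0 · + 1)) H0.symm b
        (sym_blocks r h2 (by obtain ⟨j, hj⟩ := hb; exact ⟨j - 1, by omega⟩))
      rwa [cnt, Nat.card_eq_fintype_card, Fintype.card_subtype]

end Cfsg.Agent.Classical.Inv
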