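import Cfsg.Agent.Lib.Classical.Inv1

/-! Projective involutions act monomially on a basis; block systems for involutions. -/

set_option autoImplicit false

namespace Cfsg.Agent.Classical.Inv
open Module

theorem comb_step {I : Type*} [LinearOrder I] {τ : I → I} (hτ : ∀ i, τ (τ i) = i) {a t : ℕ} (ht : 1 ≤ t)
    {s : Finset I} (hs : ∀ i ∈ s, τ i ∈ s) (hc : s.card = a * t) :
    ∃ A ⊆ s, A.card = a ∧ ((∀ i ∈ A, τ i ∈ A) ∨ ∀ i ∈ A, τ i ∉ A) := by
  have inj : Function.Injective τ := Function.LeftInverse.injective hτ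
  set M := s.filter fun i => i < τ i with hM
  set X := s.filter fun i => τ i = i with hX
  have e : s.card ≤ X.card + M.card + M.card := by
    refine (Finset.card_le_card (t := X ∪ M ∪ M.image τ) fun i hi => ?_).trans
      ((Finset.card_union_le _ _).trans (add_le_add (Finset.card_union_le _ _) Finset.card_image_le))
    rcases lt_trichotomy i (τ i) with h | h | h
    · simp [hM, hi, h]
    · simp [hX, hi, ← h]
    · exact Finset.mem_union_right _ (Finset.mem_image.2 ⟨τ i, by simp [hM, hs i hi, hτ, h], hτ i⟩)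
  have dj : ∀ i ∈ M, τ i ∉ M := fun i hi k => by
    simp only [hM, Finset.mem_filter, hτ] at hi k
    exact lt_asymm hi.2 k.2
  by_cases k : a ≤ M.card
  · obtain ⟨A, h1, h2⟩ := Finset.exists_subset_card_eq k
    exact ⟨A, h1.trans (Finset.filter_subset _ _), h2, .inr fun i hi k => dj i (h1 hi) (h1 k)⟩
  · obtain ⟨A, h1, h2⟩ := Finset.exists_subset_card_eq (min_le_left M.card (a / 2))
    obtain ⟨B, h3, h4⟩ := Finset.exists_subset_card_eq (s := X) (n := a - 2 * min M.card (a / 2)) (by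
      rcases Nat.eq_or_lt_of_le ht with rfl | h
      · have e2 : M.card + M.card ≤ s.card := by
          rw [← Finset.card_image_of_injective M inj, Finset.card_image_of_injective M inj]
          nth_rewrite 2 [← Finset.card_image_of_injective M inj]
          rw [← Finset.card_union_of_disjoint (Finset.disjoint_left.2 fun i hi k => by
            obtain ⟨j, hj, rfl⟩ := Finset.mem_image.1 k
            exact dj j hj hi)]
          exact Finset.card_le_card (Finset.union_subset (Finset.filter_subset _ _) fun i hi => by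
            obtain ⟨j, hj, rfl⟩ := Finset.mem_image.1 hi
            exact hs j (Finset.filter_subset _ _ hj))
        omega
      · have : a * 2 ≤ a * t := Nat.mul_le_mul_left a h
        omega)
    have xB : ∀ i ∈ B, τ i = i := fun i hi => (Finset.mem_filter.1 (h3 hi)).2
    have xA : ∀ i ∈ A, τ i ≠ i := fun i hi => (Finset.mem_filter.1 (h1 hi)).2.ne'
    refine ⟨A ∪ A.image τ ∪ B, Finset.union_subset (Finset.union_subset (h1.trans (Finset.filter_subset _ _))
      fun i hi => ?_) (h3.trans (Finset.filter_subset _ _)), ?_, .inl fun i hi => ?_⟩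
    · obtain ⟨j, hj, rfl⟩ := Finset.mem_image.1 hi
      exact hs j (Finset.filter_subset _ _ (h1 hj))
    · rw [Finset.card_union_of_disjoint, Finset.card_union_of_disjoint, Finset.card_image_of_injective _ inj]
      · omega
      · refine Finset.disjoint_left.2 fun i hi k => ?_
        obtain ⟨j, hj, rfl⟩ := Finset.mem_image.1 k
        exact dj j (h1 hj) (h1 hi)
      · refine Finset.disjoint_left.2 fun i hi k => ?_
        rcases Finset.mem_union.1 hi with hi | hi
        · exact xA i hi (xB i k)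
        · obtain ⟨j, hj, rfl⟩ := Finset.mem_image.1 hi
          exact xA j hj (inj (xB _ k))
    · simp only [Finset.mem_union, Finset.mem_image] at hi ⊢
      rcases hi with (hi | ⟨j, hj, rfl⟩) | hi
      · exact .inl (.inr ⟨i, hi, rfl⟩)
      · exact .inl (.inl (by rwa [hτ]))
      · exact .inr (by rwa [xB i hi])

theorem comb {I : Type*} [LinearOrder I] {τ : I → I} (hτ : ∀ i, τ (τ i) = i) {a : ℕ} (ha : 1 ≤ a) (t : ℕ) :
    ∀ s : Finset I, (∀ i ∈ s, τ i ∈ s) → s.card = a * t → ∃ D : Fin t → Finset I, (∀ j, (D j).card = a) ∧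
      (∀ j, D j ⊆ s) ∧ (∀ i ∈ s, ∃ j, i ∈ D j) ∧ ∀ j, ∃ l, ∀ i ∈ D j, τ i ∈ D l := by
  have inj : Function.Injective τ := Function.LeftInverse.injective hτ
  induction t using Nat.strong_induction_on with
  | _ t ih =>
  intro s hs hc
  rcases t with _ | t
  · exact ⟨Fin.elim0, by simp, by simp, by simp [Finset.card_eq_zero.1 hc], by simp⟩
  obtain ⟨A, h1, h2, h3 | h3⟩ := comb_step hτ (by omega) hs hc
  · obtain ⟨D, d1, d2, d3, d4⟩ := ih t (by omega) (s \ A) (fun i hi => by
      simp only [Finset.mem_sdiff] at hi ⊢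
      exact ⟨hs i hi.1, fun k => hi.2 (hτ i ▸ h3 _ k)⟩) (by
        rw [Finset.card_sdiff_of_subset h1, hc, h2, Nat.mul_succ]; omega)
    refine ⟨Fin.cons A D, Fin.forall_fin_succ.2 ⟨h2, d1⟩,
      Fin.forall_fin_succ.2 ⟨h1, fun j => (d2 j).trans Finset.sdiff_subset⟩, fun i hi => ?_,
      Fin.forall_fin_succ.2 ⟨⟨0, h3⟩, fun j => (d4 j).elim fun l hl => ⟨l.succ, hl⟩⟩⟩
    by_cases k : i ∈ A
    · exact ⟨0, k⟩
    · exact (d3 i (Finset.mem_sdiff.2 ⟨hi, k⟩)).elim fun l hl => ⟨l.succ, hl⟩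
  · have sub : A ∪ A.image τ ⊆ s := Finset.union_subset h1 fun i hi => by
      obtain ⟨j, hj, rfl⟩ := Finset.mem_image.1 hi
      exact hs j (h1 hj)
    have cd : (A ∪ A.image τ).card = a + a := by
      rw [Finset.card_union_of_disjoint, Finset.card_image_of_injective _ inj, h2]
      refine Finset.disjoint_left.2 fun i hi k => ?_
      obtain ⟨j, hj, rfl⟩ := Finset.mem_image.1 k
      exact h3 j hj hi
    have := Finset.card_le_card sub
    rcases t with _ | t
    · omega
    obtain ⟨D, d1, d2, d3, d4⟩ := ih t (by omega) (s \ (A ∪ A.image τ)) (fun i hi => by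
      simp only [Finset.mem_sdiff, Finset.mem_union, Finset.mem_image, not_or] at hi ⊢
      exact ⟨hs i hi.1, fun k => hi.2.2 ⟨_, k, hτ i⟩, fun ⟨j, hj, e⟩ => hi.2.1 (inj e ▸ hj)⟩) (by
        rw [Finset.card_sdiff_of_subset sub, hc, cd, Nat.mul_succ, Nat.mul_succ]; omega)
    refine ⟨Fin.cons A (Fin.cons (A.image τ) D),
      Fin.forall_fin_succ.2 ⟨h2, Fin.forall_fin_succ.2 ⟨(Finset.card_image_of_injective _ inj).trans h2, d1⟩⟩,
      Fin.forall_fin_succ.2 ⟨h1, Fin.forall_fin_succ.2 ⟨Finset.subset_union_right.trans sub,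
        fun j => (d2 j).trans Finset.sdiff_subset⟩⟩, fun i hi => ?_,
      Fin.forall_fin_succ.2 ⟨⟨1, fun i hi => Finset.mem_image_of_mem τ hi⟩, Fin.forall_fin_succ.2 ⟨⟨0, fun i hi => ?_⟩,
        fun j => (d4 j).elim fun l hl => ⟨l.succ.succ, hl⟩⟩⟩⟩
    · by_cases k : i ∈ A ∪ A.image τ
      · rcases Finset.mem_union.1 k with k | k
        · exact ⟨0, k⟩
        · exact ⟨1, k⟩
      · exact (d3 i (Finset.mem_sdiff.2 ⟨hi, k⟩)).elim fun l hl => ⟨l.succ.succ, hl⟩
    · obtain ⟨j, hj, rfl⟩ := Finset.mem_image.1 hi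
      rw [hτ]; exact hj

theorem comb' {I : Type*} [Fintype I] {τ : I → I} (hτ : ∀ i, τ (τ i) = i) {a t : ℕ} (ha : 1 ≤ a)
    (hc : Fintype.card I = a * t) : ∃ (D : Fin t → Finset I) (σ : Equiv.Perm (Fin t)), (∀ j, (D j).card = a) ∧
      (∀ i, ∃ j, i ∈ D j) ∧ (∀ j l, j ≠ l → Disjoint (D j) (D l)) ∧ ∀ j, ∀ i ∈ D j, τ i ∈ D (σ j) := by
  letI : LinearOrder I := LinearOrder.lift' (Fintype.equivFin I) (Fintype.equivFin I).injective
  obtain ⟨D, d1, -, d3, d4⟩ := comb hτ ha t Finset.univ (by simp) hc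
  choose σ hσ using d4
  have dj : ∀ j l, j ≠ l → Disjoint (D j) (D l) := by
    intro j l h
    by_contra k
    obtain ⟨i, hi1, hi2⟩ := Finset.not_disjoint_iff.1 k
    have h1 : Finset.univ ⊆ Finset.univ.biUnion fun x => if x = j then (D x).erase i else D x := fun y _ => by
      obtain ⟨x, hx⟩ := d3 y (by simp)
      by_cases e : y = i
      · exact Finset.mem_biUnion.2 ⟨l, by simp, by simp [h.symm, e, hi2]⟩
      · exact Finset.mem_biUnion.2 ⟨x, by simp, by split_ifs <;> simp [e, hx]⟩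
    have h2 := (Finset.card_le_card h1).trans Finset.card_biUnion_le
    have h3 : ∑ x, (if x = j then (D x).erase i else D x).card < ∑ _x : Fin t, a :=
      Finset.sum_lt_sum (fun x _ => by split_ifs; exacts [Finset.card_erase_le.trans (d1 x).le, (d1 x).le])
        ⟨j, by simp, by simp [Finset.card_erase_of_mem hi1, d1]; omega⟩
    simp only [Finset.card_univ, Finset.sum_const, Fintype.card_fin, smul_eq_mul, hc, mul_comm a] at h2 h3
    omega
  have key : ∀ j, σ (σ j) = j := fun j => by_contra fun k => by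
    obtain ⟨i, hi⟩ := Finset.card_pos.1 (show 0 < (D j).card by rw [d1]; omega)
    exact Finset.disjoint_left.1 (dj _ _ k) (hτ i ▸ hσ _ _ (hσ j i hi)) hi
  exact ⟨D, ⟨σ, σ, key, key⟩, d1, fun i => d3 i (by simp), dj, hσ⟩

variable {F : Type*} [Field F] {V : Type*} [AddCommGroup V] [Module F V] [FiniteDimensional F V]

theorem exists_mono [Finite V] {g : V →ₗ[F] V} {z : F} (z0 : z ≠ 0) (hz : ∀ x, g (g x) = z • x) :
    ∃ (I : Type) (_ : Fintype I) (b : Basis I F V) (τ : I → I), (∀ i, τ (τ i) = i) ∧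
      ∀ i, ∃ c : F, g (b i) = c • b (τ i) := by
  classical
  have inj : Function.Injective g := fun x y h => smul_right_injective V z0 (by simp only [← hz, h])
  haveI : Finite (Submodule F V) := Finite.of_injective _ SetLike.coe_injective
  obtain ⟨U, hU, hmax⟩ := Set.exists_max_image {U : Submodule F V | Disjoint U (U.map g)} (fun U => finrank F U)
    (Set.toFinite _) ⟨⊥, by simp⟩
  have dU : ∀ u ∈ U, g u ∈ U → u = 0 := fun u h1 h2 =>
    inj ((Submodule.disjoint_def.1 hU _ h2 ⟨u, h1, rfl⟩).trans (map_zero g).symm)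
  have gS : ∀ s ∈ U ⊔ U.map g, g s ∈ U ⊔ U.map g := fun s hs => by
    obtain ⟨u, u1, _, ⟨w, w1, rfl⟩, rfl⟩ := Submodule.mem_sup.1 hs
    rw [map_add, hz]
    exact add_mem (Submodule.mem_sup_right ⟨u, u1, rfl⟩) (Submodule.mem_sup_left (U.smul_mem z w1))
  have key : ∀ v, v ∉ U ⊔ U.map g → ∃ u ∈ U, ∃ c : F, g (v - u) = c • (v - u) := fun v hv => by
    have : ¬ Disjoint (U ⊔ F ∙ v) ((U ⊔ F ∙ v).map g) := fun k => absurd (hmax _ k) (not_le.2
      (Submodule.finrank_lt_finrank_of_lt (left_lt_sup.2 fun e =>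
        hv (Submodule.mem_sup_left (e (Submodule.mem_span_singleton_self v))))))
    rw [Submodule.disjoint_def] at this
    push Not at this
    obtain ⟨x, x1, ⟨y, y1, rfl⟩, x0⟩ := this
    obtain ⟨u, u1, _, u2, e⟩ := Submodule.mem_sup.1 x1
    obtain ⟨w, w1, _, w2, rfl⟩ := Submodule.mem_sup.1 y1
    obtain ⟨s, rfl⟩ := Submodule.mem_span_singleton.1 u2
    obtain ⟨r, rfl⟩ := Submodule.mem_span_singleton.1 w2
    have nS : ∀ c : F, c • v ∈ U ⊔ U.map g → c = 0 := fun c h => by_contra fun k =>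
      hv ((Submodule.smul_mem_iff _ k).1 h)
    have r0 : r ≠ 0 := by
      rintro rfl
      simp only [zero_smul, add_zero] at e x0
      have := nS s (by
        rw [eq_sub_of_add_eq' e]
        exact sub_mem (Submodule.mem_sup_right ⟨w, w1, rfl⟩) (Submodule.mem_sup_left u1))
      rw [this, zero_smul, add_zero] at e
      exact x0 (by rw [dU w w1 (e ▸ u1), map_zero])
    have e1 : g v = r⁻¹ • (u + s • v - g w) := by rw [e, map_add, map_smul, add_sub_cancel_left, inv_smul_smul₀ r0]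
    have e2 := hz v
    rw [e1, map_smul, map_sub, map_add, map_smul, hz, e1] at e2
    have e3 : z = r⁻¹ * s * (r⁻¹ * s) := sub_eq_zero.1 (nS _ (by
      have : (z - r⁻¹ * s * (r⁻¹ * s)) • v = (r⁻¹ * s * r⁻¹) • u - (r⁻¹ * z) • w + g (r⁻¹ • u - (r⁻¹ * s * r⁻¹) • w) := by
        rw [sub_smul, ← e2, map_sub, map_smul, map_smul]; module
      rw [this]
      exact add_mem (Submodule.mem_sup_left (sub_mem (U.smul_mem _ u1) (U.smul_mem _ w1)))
        (Submodule.mem_sup_right ⟨_, sub_mem (U.smul_mem _ u1) (U.smul_mem _ w1), rfl⟩)))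
    have e4 : r⁻¹ • u - (r⁻¹ * s * r⁻¹) • w = 0 := dU _ (sub_mem (U.smul_mem _ u1) (U.smul_mem _ w1)) (by
      have : g (r⁻¹ • u - (r⁻¹ * s * r⁻¹) • w) = (r⁻¹ * z) • w - (r⁻¹ * s * r⁻¹) • u := by
        rw [map_sub, map_smul, map_smul]
        have e5 : z • v = (r⁻¹ * s * (r⁻¹ * s)) • v := by rw [← e3]
        linear_combination (norm := module) e2 + e5
      rw [this]
      exact sub_mem (U.smul_mem _ w1) (U.smul_mem _ u1))
    refine ⟨-(r⁻¹ • w), neg_mem (U.smul_mem _ w1), r⁻¹ * s, ?_⟩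
    rw [map_sub, map_neg, map_smul, e1]
    linear_combination (norm := module) e4
  obtain ⟨C, hC⟩ := Submodule.exists_isCompl (U ⊔ U.map g)
  set bU := Module.finBasis F U
  set bC := Module.finBasis F C
  choose u u1 c hc using fun j => key (bC j) fun k =>
    bC.ne_zero j (Subtype.ext (Submodule.disjoint_def.1 hC.disjoint _ k (bC j).2))
  have d1 := Submodule.finrank_sup_add_finrank_inf_eq U (U.map g)
  rw [hU.eq_bot, finrank_bot, ← (Submodule.equivMapOfInjective g inj U).finrank_eq] at d1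
  have d2 := Submodule.finrank_add_eq_of_isCompl hC
  set v : (Fin (finrank F U) ⊕ Fin (finrank F U)) ⊕ Fin (finrank F C) → V :=
    Sum.elim (Sum.elim (fun i => bU i) fun i => g (bU i)) fun j => bC j - u j with hv
  have sU : ∀ (f : V →ₗ[F] V) (T : Submodule F V), (∀ i, f (bU i) ∈ T) → ∀ x ∈ U, f x ∈ T := fun f T h x hx => by
    have := congrArg (fun y : U => f y) (bU.sum_repr ⟨x, hx⟩)
    simp only [Submodule.coe_sum, map_sum, Submodule.coe_smul, map_smul] at this
    rw [← this]
    exact Submodule.sum_mem _ fun i _ => T.smul_mem _ (h i)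
  have s1 : U ≤ Submodule.span F (Set.range v) := sU LinearMap.id _ fun i => Submodule.subset_span ⟨.inl (.inl i), rfl⟩
  have sp : ⊤ ≤ Submodule.span F (Set.range v) := by
    rw [← hC.sup_eq_top]
    refine sup_le (sup_le s1 ?_) fun x hx => ?_
    · rintro _ ⟨x, hx, rfl⟩
      exact sU g _ (fun i => Submodule.subset_span (Set.mem_range_self (f := v) (.inl (.inr i)))) x hx
    · have := congrArg (fun y : C => (y : V)) (bC.sum_repr ⟨x, hx⟩)
      simp only [Submodule.coe_sum, Submodule.coe_smul] at this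
      rw [← this]
      refine Submodule.sum_mem _ fun j _ => Submodule.smul_mem _ _ ?_
      rw [← sub_add_cancel (bC j : V) (u j)]
      exact add_mem (Submodule.subset_span ⟨.inr j, rfl⟩) (s1 (u1 j))
  refine ⟨_, inferInstance, basisOfTopLeSpanOfCardEqFinrank v sp (by simp; omega), Sum.map Sum.swap id,
    by rintro ((i | i) | i) <;> rfl, ?_⟩
  simp only [coe_basisOfTopLeSpanOfCardEqFinrank]
  rintro ((i | i) | i)
  · exact ⟨1, (one_smul F _).symm⟩
  · exact ⟨z, hz _⟩
  · exact ⟨c i, hc i⟩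

omit [FiniteDimensional F V] in
theorem blocks {I : Type*} [Fintype I] (b : Basis I F V) {a t : ℕ} {D : Fin t → Finset I} (h1 : ∀ j, (D j).card = a)
    (h2 : ∀ i, ∃ j, i ∈ D j) (h3 : ∀ j l, j ≠ l → Disjoint (D j) (D l)) :
    (∀ j, finrank F (Submodule.span F (b '' (D j))) = a) ∧ (iSupIndep fun j => Submodule.span F (b '' (D j))) ∧
      ⨆ j, Submodule.span F (b '' (D j)) = ⊤ := by
  classical
  refine ⟨fun j => ?_, fun j => ?_, ?_⟩
  · have := finrank_span_eq_card (b.linearIndependent.comp (fun i : D j => (i : I)) Subtype.val_injective)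
    rw [Set.range_comp, Subtype.range_coe_subtype] at this
    simpa [h1] using this
  · refine (b.linearIndependent.disjoint_span_image (s := D j) (t := (D j : Set I)ᶜ) disjoint_compl_right).mono_right
      (iSup₂_le fun l hl => Submodule.span_mono (Set.image_mono ?_))
    exact fun i hi k => Finset.disjoint_left.1 (h3 l j hl) hi k
  · rw [eq_top_iff, ← b.span_eq]
    refine Submodule.span_le.2 ?_
    rintro _ ⟨i, rfl⟩
    obtain ⟨j, hj⟩ := h2 i
    exact Submodule.mem_iSup_of_mem j (Submodule.subset_span ⟨i, hj, rfl⟩)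

theorem inv_dec [Finite V] {g : V →ₗ[F] V} {z : F} (z0 : z ≠ 0) (hz : ∀ x, g (g x) = z • x) {a t : ℕ} (ha : 1 ≤ a)
    (h : finrank F V = a * t) : ∃ D : Fin t → Submodule F V, (∀ j, finrank F (D j) = a) ∧ iSupIndep D ∧ iSup D = ⊤ ∧
      ∃ σ : Equiv.Perm (Fin t), ∀ j, (D j).map g = D (σ j) := by
  have inj : Function.Injective g := fun x y h => smul_right_injective V z0 (by simp only [← hz, h])
  obtain ⟨I, _, b, τ, h1, h2⟩ := exists_mono z0 hz
  obtain ⟨D, σ, d1, d2, d3, d4⟩ := comb' h1 ha ((finrank_eq_card_basis b).symm.trans h)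
  obtain ⟨k1, k2, k3⟩ := blocks b d1 d2 d3
  refine ⟨_, k1, k2, k3, σ, fun j => Submodule.eq_of_le_of_finrank_eq ?_ ?_⟩
  · rw [Submodule.map_span, Submodule.span_le]
    rintro _ ⟨_, ⟨i, hi, rfl⟩, rfl⟩
    obtain ⟨c, hc⟩ := h2 i
    rw [hc]
    exact Submodule.smul_mem _ _ (Submodule.subset_span ⟨_, d4 j i hi, rfl⟩)
  · rw [← (Submodule.equivMapOfInjective g inj _).finrank_eq, k1, k1]

end Cfsg.Agent.Classical.Inv
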