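import Cfsg.Agent.Lib.Classical.Inv2

/-! Projective symplectic involutions permute an orthogonal decomposition into planes. -/

set_option autoImplicit false

namespace Cfsg.Agent.Classical.Inv
open Module

variable {F : Type*} [Field F] {V : Type*} [AddCommGroup V] [Module F V] [FiniteDimensional F V]
  {f : LinearMap.BilinForm F V}

/-- Non-degenerate subspaces. -/
def ND (f : LinearMap.BilinForm F V) (S : Submodule F V) : Prop := ∀ x ∈ S, x ≠ 0 → ∃ y ∈ S, f x y ≠ 0

/-- Orthogonal subspaces. -/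
def Ort (f : LinearMap.BilinForm F V) (A B : Submodule F V) : Prop := ∀ x ∈ A, ∀ y ∈ B, f x y = 0

omit [FiniteDimensional F V] in
theorem Ort.symm (alt : ∀ x, f x x = 0) {A B : Submodule F V} (h : Ort f A B) : Ort f B A := fun x hx y hy => by
  have := alt (x + y)
  simp only [map_add, LinearMap.add_apply, alt, h y hy x hx] at this
  linear_combination this

omit [FiniteDimensional F V] in
theorem ort_iff {A B : Submodule F V} : Ort f A B ↔ B ≤ f.orthogonal A :=
  ⟨fun h y hy x hx => h x hx y hy, fun h x hx y hy => h hy x hx⟩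

theorem nd_sup (alt : ∀ x, f x x = 0) {A B : Submodule F V} (hA : ND f A) (hB : ND f B) (h : Ort f A B) :
    ND f (A ⊔ B) ∧ finrank F (A ⊔ B : Submodule F V) = finrank F A + finrank F B := by
  refine ⟨fun s hs s0 => ?_, ?_⟩
  · obtain ⟨u, u1, w, w1, rfl⟩ := Submodule.mem_sup.1 hs
    by_cases u0 : u = 0
    · obtain ⟨u', k1, k2⟩ := hB w w1 (by simpa [u0] using s0)
      exact ⟨u', Submodule.mem_sup_right k1, by simpa [u0] using k2⟩
    · obtain ⟨w', k1, k2⟩ := hA u u1 u0
      exact ⟨w', Submodule.mem_sup_left k1, by simpa [h.symm alt w w1 w' k1] using k2⟩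
  · have : A ⊓ B = ⊥ := eq_bot_iff.2 fun x hx => by_contra fun k => by
      obtain ⟨y, y1, y2⟩ := hA x hx.1 k
      exact y2 (h.symm alt x hx.2 y y1)
    rw [← Submodule.finrank_sup_add_finrank_inf_eq, this, finrank_bot, add_zero]

theorem nd_fin (alt : ∀ x, f x x = 0) {I : Type*} {p : I → Submodule F V} (s : Finset I)
    (h1 : ∀ i ∈ s, ND f (p i) ∧ finrank F (p i) = 2) (h2 : ∀ i ∈ s, ∀ j ∈ s, i ≠ j → Ort f (p i) (p j)) :
    ND f (s.sup p) ∧ finrank F (s.sup p : Submodule F V) = 2 * s.card := by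
  classical
  induction s using Finset.induction_on with
  | empty => exact ⟨fun x hx h => absurd (by simpa using hx) h, by simp⟩
  | insert i s hi ih =>
    obtain ⟨k1, k2⟩ := ih (fun j hj => h1 j (by simp [hj])) fun j hj l hl => h2 j (by simp [hj]) l (by simp [hl])
    obtain ⟨k3, k4⟩ := nd_sup alt (h1 i (by simp)).1 k1 (ort_iff.2 (Finset.sup_le fun j hj =>
      ort_iff.1 (h2 i (by simp) j (by simp [hj]) (by rintro rfl; exact hi hj))))
    rw [Finset.sup_insert, Finset.card_insert_of_notMem hi]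
    exact ⟨k3, by rw [k4, k2, (h1 i (by simp)).2]; ring⟩

omit [FiniteDimensional F V] in
theorem plane (alt : ∀ x, f x x = 0) {v w : V} (h : f v w ≠ 0) :
    ND f (Submodule.span F {v, w}) ∧ finrank F (Submodule.span F {v, w}) = 2 := by
  have sk : f w v = - f v w := by
    have := alt (v + w)
    simp only [map_add, LinearMap.add_apply, alt] at this
    linear_combination this
  refine ⟨fun x hx x0 => ?_, ?_⟩
  · obtain ⟨s, r, rfl⟩ := Submodule.mem_span_pair.1 hx
    by_cases s0 : s = 0
    · exact ⟨v, Submodule.subset_span (by simp), by simpa [s0, sk, h] using fun e : r = 0 => x0 (by simp [s0, e])⟩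
    · exact ⟨w, Submodule.subset_span (by simp), by simp [s0, alt, h]⟩
  · have li : LinearIndependent F ![v, w] := LinearIndependent.pair_iff.2 fun s r k => by
      have e1 := congrArg (f · w) k
      have e2 := congrArg (f · v) k
      simp [alt, sk, h] at e1 e2
      exact ⟨e1, e2⟩
    have := finrank_span_eq_card li
    rw [Matrix.range_cons, Matrix.range_cons, Matrix.range_empty, Set.union_empty, Set.singleton_union] at this
    rw [this]; simp

theorem exists_planes [Finite V] (alt : ∀ x, f x x = 0) (nd : ∀ x, x ≠ 0 → ∃ y, f x y ≠ 0)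
    {g : V →ₗ[F] V} (hg : ∀ x y, f (g x) (g y) = f x y) {z : F} (hz : ∀ x, g (g x) = z • x) (zz : z * z = 1) :
    ∃ s : Finset (Submodule F V), (∀ P ∈ s, ND f P ∧ finrank F P = 2) ∧ (∀ P ∈ s, ∀ Q ∈ s, P ≠ Q → Ort f P Q) ∧
      (∀ P ∈ s, P.map g ∈ s) ∧ s.sup id = ⊤ := by
  classical
  have sk := skew_of alt
  have z0 : z ≠ 0 := left_ne_zero_of_mul_eq_one zz
  have inj : Function.Injective g := fun x y h => smul_right_injective V z0 (by simp only [← hz, h])
  haveI : Finite (Submodule F V) := Finite.of_injective _ SetLike.coe_injective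
  obtain ⟨s, ⟨h1, h2, h3⟩, hmax⟩ := Set.exists_max_image {s : Finset (Submodule F V) |
    (∀ P ∈ s, ND f P ∧ finrank F P = 2) ∧ (∀ P ∈ s, ∀ Q ∈ s, P ≠ Q → Ort f P Q) ∧ ∀ P ∈ s, P.map g ∈ s}
    Finset.card (Set.toFinite _) ⟨∅, by simp⟩
  refine ⟨s, h1, h2, h3, by_contra fun k => ?_⟩
  have hS := (nd_fin alt (p := id) s h1 h2).1
  have gS : ∀ x ∈ s.sup id, g x ∈ s.sup id := Submodule.map_le_iff_le_comap.2 (Finset.sup_le fun P hP =>
    Submodule.map_le_iff_le_comap.1 (Finset.le_sup (f := id) (h3 P hP))) |> fun h x hx => h ⟨x, hx, rfl⟩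
  set T := f.orthogonal (s.sup id) with hT
  have pg : ∀ x ∈ T, g x ∈ T := fun x hx y hy => by
    change f y (g x) = 0
    rw [← hg, hz, map_smul, show f (g y) x = 0 from hx _ (gS y hy), smul_zero]
  have mp : ∀ v w, (Submodule.span F {v, w}).map g = Submodule.span F {g v, g w} := fun v w => by
    rw [Submodule.map_span, Set.image_pair]
  have key : ∀ v ∈ T, ∀ w ∈ T, f v w ≠ 0 → ¬ ((g v ∈ Submodule.span F {v, w} ∧ g w ∈ Submodule.span F {v, w}) ∨
      (f v (g v) = 0 ∧ f v (g w) = 0 ∧ f w (g v) = 0 ∧ f w (g w) = 0)) := fun v hv w hw vw h => by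
    have oT : ∀ {a b}, a ∈ T → b ∈ T → ∀ P ∈ s, Ort f P (Submodule.span F {a, b}) := fun ha hb P hP =>
      ort_iff.2 ((Submodule.span_le.2 (Set.insert_subset ha (Set.singleton_subset_iff.2 hb))).trans
        (LinearMap.BilinForm.orthogonal_le (Finset.le_sup (f := id) hP)))
    have nm : Submodule.span F {v, w} ∉ s := fun e =>
      vw (oT hv hw _ e v (Submodule.subset_span (by simp)) w (Submodule.subset_span (by simp)))
    have gg : Submodule.span F {g (g v), g (g w)} = Submodule.span F {v, w} := by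
      rw [hz, hz]
      exact le_antisymm (Submodule.span_le.2 (by
        rintro _ (rfl | rfl) <;> exact Submodule.smul_mem _ _ (Submodule.subset_span (by simp))))
        (Submodule.span_le.2 (by
          rintro _ (rfl | rfl) <;> exact (Submodule.smul_mem_iff _ z0).1 (Submodule.subset_span (by simp))))
    have o : Submodule.span F {v, w} ≠ Submodule.span F {g v, g w} →
        Ort f (Submodule.span F {v, w}) (Submodule.span F {g v, g w}) := fun ne => by
      rcases h with h | h
      · exact absurd (Submodule.eq_of_le_of_finrank_eq (Submodule.span_le.2 (by simp [Set.insert_subset_iff, h]))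
          ((plane alt ((hg v w).trans_ne vw)).2.trans (plane alt vw).2.symm)).symm ne
      · intro x hx y hy
        obtain ⟨a, b, rfl⟩ := Submodule.mem_span_pair.1 hx
        obtain ⟨c, d, rfl⟩ := Submodule.mem_span_pair.1 hy
        simp [h]
    have := hmax (insert (Submodule.span F {v, w}) (insert (Submodule.span F {g v, g w}) s)) ⟨by
      simp only [Finset.forall_mem_insert]
      exact ⟨plane alt vw, plane alt ((hg v w).trans_ne vw), h1⟩, by
      simp only [Finset.forall_mem_insert]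
      exact ⟨⟨fun e => absurd rfl e, o, fun P hP _ => (oT hv hw P hP).symm alt⟩,
        ⟨fun e => (o e.symm).symm alt, fun e => absurd rfl e, fun P hP _ => (oT (pg v hv) (pg w hw) P hP).symm alt⟩,
        fun P hP => ⟨fun _ => oT hv hw P hP, fun _ => oT (pg v hv) (pg w hw) P hP, h2 P hP⟩⟩, by
      simp only [Finset.forall_mem_insert, mp, gg]
      exact ⟨by simp, by simp, fun P hP => by simp [h3 P hP]⟩⟩
    exact absurd this (not_le.2 (Finset.card_lt_card ⟨(Finset.subset_insert _ _).trans (Finset.subset_insert _ _),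
      fun e => nm (e (by simp))⟩))
  have a1 : ∀ v ∈ T, f v (g v) = 0 := fun v hv => by_contra fun e => key v hv _ (pg v hv) e (.inl
    ⟨Submodule.subset_span (by simp), by rw [hz]; exact Submodule.smul_mem _ _ (Submodule.subset_span (by simp))⟩)
  have a2 : ∀ v ∈ T, ∀ w ∈ T, f w (g v) = - f v (g w) := fun v hv w hw => by
    have := a1 _ (T.add_mem hv hw)
    simp only [map_add, LinearMap.add_apply, a1 v hv, a1 w hw] at this
    linear_combination this
  obtain ⟨x, y, x1, y1, xy⟩ := exists_perp alt nd hS k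
  have z1 : z = 1 := by
    have e1 := a2 x x1 _ (pg y y1)
    rw [hg, hz, map_smul, sk y x, smul_eq_mul] at e1
    exact mul_right_cancel₀ xy (by linear_combination e1)
  subst z1
  simp only [one_smul] at hz
  by_cases h2 : (2 : F) = 0
  · have a3 : ∀ v ∈ T, ∀ w ∈ T, f v (g w) = f v w := fun v hv w hw => by_contra fun e => by
      have m : f v w • w - f v (g w) • g w ∈ T := sub_mem (T.smul_mem _ hw) (T.smul_mem _ (pg w hw))
      have e1 : f v (g (f v w • w - f v (g w) • g w)) = 0 := by simp [hz, mul_comm]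
      refine key v hv _ m (fun k => e ?_) (.inr ⟨a1 v hv, e1, by rw [a2 v hv _ m, e1, neg_zero], a1 _ m⟩)
      simp only [map_sub, map_smul, smul_eq_mul] at k
      exact sub_eq_zero.1 (mul_self_eq_zero.1 (by linear_combination -k + (f v w * f v w - f v w * f v (g w)) * h2))
    have a4 : ∀ w ∈ T, g w = w := fun w hw => by_contra fun e => by
      obtain ⟨y, hy⟩ := nd _ (sub_ne_zero.2 e)
      have rf : f.IsRefl := fun x y h => by rw [sk, h, neg_zero]
      have c : IsCompl (s.sup id) T := (LinearMap.BilinForm.isCompl_orthogonal_iff_disjoint rf).2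
        (Submodule.disjoint_def.2 fun x h1 h2 => by_contra fun k => by
          obtain ⟨y, y1, y2⟩ := hS x h1 k
          exact y2 (rf _ _ (h2 y y1)))
      obtain ⟨a, a1, b, b1, rfl⟩ := Submodule.mem_sup.1 (c.sup_eq_top ▸ Submodule.mem_top : y ∈ s.sup id ⊔ T)
      refine hy (rf _ _ ?_)
      rw [map_add, LinearMap.add_apply, show f a (g w - w) = 0 from sub_mem (pg w hw) hw a a1, map_sub, a3 b b1 w hw]
      simp
    exact key x x1 y y1 xy (.inl ⟨by rw [a4 x x1]; exact Submodule.subset_span (by simp),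
      by rw [a4 y y1]; exact Submodule.subset_span (by simp)⟩)
  · have e : ∀ a b : F, a * a = 1 → b * b = 1 → f (x + a • g x) (y + b • g y) = 0 := fun a b ha hb =>
      by_contra fun h => key _ (add_mem x1 (T.smul_mem a (pg x x1))) _ (add_mem y1 (T.smul_mem b (pg y y1))) h (.inl
        ⟨Submodule.mem_span_pair.2 ⟨a, 0, by simp [hz, smul_smul, ha, add_comm]⟩,
          Submodule.mem_span_pair.2 ⟨0, b, by simp [hz, smul_smul, hb, add_comm]⟩⟩)
    have e1 := e 1 1 (by simp) (by simp)
    have e2 := e (-1) (-1) (by simp) (by simp)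
    simp only [map_add, map_smul, LinearMap.add_apply, LinearMap.smul_apply, smul_eq_mul, hg] at e1 e2
    exact mul_ne_zero h2 (mul_ne_zero h2 xy) (by linear_combination e1 + e2)

theorem inv_odec [Finite V] (alt : ∀ x, f x x = 0) (nd : ∀ x, x ≠ 0 → ∃ y, f x y ≠ 0)
    {g : V →ₗ[F] V} (hg : ∀ x y, f (g x) (g y) = f x y) {z : F} (hz : ∀ x, g (g x) = z • x) (zz : z * z = 1)
    {b t : ℕ} (hb : 1 ≤ b) (h : finrank F V = 2 * b * t) :
    ∃ D : Fin t → Submodule F V, (∀ j, finrank F (D j) = 2 * b) ∧ iSupIndep D ∧ iSup D = ⊤ ∧ (∀ j, ND f (D j)) ∧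
      (∀ j l, j ≠ l → Ort f (D j) (D l)) ∧ ∃ σ : Equiv.Perm (Fin t), ∀ j, (D j).map g = D (σ j) := by
  have z0 : z ≠ 0 := left_ne_zero_of_mul_eq_one zz
  have inj : Function.Injective g := fun x y h => smul_right_injective V z0 (by simp only [← hz, h])
  obtain ⟨s, h1, h2, h3, h4⟩ := exists_planes alt nd hg hz zz
  have c := (nd_fin alt (p := id) s h1 h2).2
  rw [h4, finrank_top, h, mul_assoc] at c
  obtain ⟨D, σ, d1, d2, d3, d4⟩ := comb' (I := s) (τ := fun P => ⟨P.1.map g, h3 _ P.2⟩) (fun P => Subtype.ext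
    (le_antisymm (by rintro _ ⟨_, ⟨x, hx, rfl⟩, rfl⟩; rw [hz]; exact Submodule.smul_mem _ _ hx) fun x hx =>
      ⟨_, ⟨z • x, Submodule.smul_mem _ _ hx, rfl⟩, by rw [hz, smul_smul, zz, one_smul]⟩)) hb (t := t)
    (by rw [Fintype.card_coe]; omega)
  have k : ∀ j, ND f ((D j).sup Subtype.val) ∧ finrank F ((D j).sup Subtype.val : Submodule F V) = 2 * b := fun j =>
    d1 j ▸ nd_fin alt (D j) (fun P _ => h1 _ P.2) fun P _ Q _ e => h2 _ P.2 _ Q.2 fun k => e (Subtype.ext k)
  have o : ∀ j l, j ≠ l → Ort f ((D j).sup Subtype.val) ((D l).sup Subtype.val) := fun j l e =>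
    ort_iff.2 (Finset.sup_le fun Q hQ => ort_iff.1 (Ort.symm alt (ort_iff.2 (Finset.sup_le fun P hP =>
      ort_iff.1 (h2 _ Q.2 _ P.2 fun k => Finset.disjoint_left.1 (d3 j l e) hP (Subtype.ext k ▸ hQ))))))
  refine ⟨fun j => (D j).sup Subtype.val, fun j => (k j).2, fun j => ?_, ?_, fun j => (k j).1, o, σ,
    fun j => Submodule.eq_of_le_of_finrank_eq ?_ ?_⟩
  · refine Submodule.disjoint_def.2 fun x x1 x2 => by_contra fun x0 => ?_
    obtain ⟨y, y1, y2⟩ := (k j).1 x x1 x0
    exact y2 ((ort_iff.2 (iSup₂_le fun l hl => ort_iff.1 (o j l (Ne.symm hl)))).symm alt x x2 y y1)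
  · rw [eq_top_iff, ← h4]
    refine Finset.sup_le fun P hP => ?_
    obtain ⟨j, hj⟩ := d2 ⟨P, hP⟩
    exact le_iSup_of_le j (Finset.le_sup (f := Subtype.val) hj)
  · exact Submodule.map_le_iff_le_comap.2 (Finset.sup_le fun P hP =>
      Submodule.map_le_iff_le_comap.1 (Finset.le_sup (f := Subtype.val) (d4 j P hP)))
  · rw [← (Submodule.equivMapOfInjective g inj _).finrank_eq, (k _).2, (k _).2]

end Cfsg.Agent.Classical.Inv
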