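import Cfsg.Agent.Lib.Classical.Inv1

/-! Classes of projective involutions of a vector space in odd characteristic. -/

set_option autoImplicit false

namespace Cfsg.Agent.Classical.Inv
open Module Module.End

variable {F : Type*} [Field F] [Fintype F] {V : Type*} [AddCommGroup V] [Module F V] [FiniteDimensional F V]

/-- The largest dimension of an eigenspace. -/
noncomputable def phi (g : End F V) : ℕ := Finset.univ.sup fun c : F => finrank F (eigenspace g c)

omit [FiniteDimensional F V] in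
theorem le_phi (g : End F V) (c : F) : finrank F (eigenspace g c) ≤ phi g :=
  Finset.le_sup (f := fun c : F => finrank F (eigenspace g c)) (Finset.mem_univ c)

theorem phi_le {g h : End F V} (e : V ≃ₗ[F] V) {l : F} (k : ∀ v, h (e v) = l • e (g v)) : phi g ≤ phi h :=
  Finset.sup_le fun c _ => by
    rw [← LinearEquiv.finrank_map_eq e]
    refine (Submodule.finrank_mono ?_).trans (le_phi h (l * c))
    rintro _ ⟨v, hv, rfl⟩
    exact mem_eigenspace_iff.2 ((k v).trans (by rw [mem_eigenspace_iff.1 hv, map_smul, smul_smul]; rfl))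

omit [Fintype F] [FiniteDimensional F V] in
theorem compl_eig (h2 : (2 : F) ≠ 0) {g : End F V} {c : F} (c0 : c ≠ 0) (hz : ∀ x, g (g x) = (c * c) • x) :
    IsCompl (eigenspace g c) (eigenspace g (-c)) := by
  refine ⟨Submodule.disjoint_def.2 fun x h1 h3 => ?_, codisjoint_iff.2 (eq_top_iff.2 fun x _ => ?_)⟩
  · rw [mem_eigenspace_iff] at h1 h3
    have : (2 * c) • x = 0 := by linear_combination (norm := module) h3 - h1
    exact (smul_eq_zero.1 this).resolve_left (mul_ne_zero h2 c0)
  · refine (Submodule.smul_mem_iff _ (mul_ne_zero h2 c0)).1 (Submodule.mem_sup.2 ⟨c • x + g x, ?_, c • x - g x, ?_, ?_⟩)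
    · rw [mem_eigenspace_iff, map_add, map_smul, hz]; module
    · rw [mem_eigenspace_iff, map_sub, map_smul, hz]; module
    · module

theorem phi_cases (h2 : (2 : F) ≠ 0) (hn : 0 < finrank F V) {g : End F V} {z : F} (z0 : z ≠ 0)
    (hz : ∀ x, g (g x) = z • x) : (phi g = 0 ∧ ¬ IsSquare z) ∨
      ∃ c, z = c * c ∧ phi g = finrank F (eigenspace g c) ∧ finrank F V ≤ 2 * phi g := by
  have k : ∀ c, z = c * c → finrank F V ≤ 2 * phi g := fun c hc => by
    have := Submodule.finrank_add_eq_of_isCompl (compl_eig h2 (left_ne_zero_of_mul (hc ▸ z0)) (hc ▸ hz))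
    have := le_phi g c
    have := le_phi g (-c)
    omega
  by_cases h : phi g = 0
  · exact .inl ⟨h, fun ⟨c, hc⟩ => by have := k c hc; omega⟩
  · obtain ⟨c, -, hc⟩ := Finset.exists_mem_eq_sup (Finset.univ : Finset F) Finset.univ_nonempty
      fun c : F => finrank F (eigenspace g c)
    obtain ⟨v, v1, v2⟩ := Submodule.exists_mem_ne_zero_of_ne_bot (p := eigenspace g c) fun e => h (by
      rw [phi, hc, e, finrank_bot])
    have : z = c * c := smul_left_injective F v2 (by
      simp only [← hz, mem_eigenspace_iff.1 v1, map_smul, smul_smul])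
    exact .inr ⟨c, this, hc, k c this⟩

omit [Fintype F] in
theorem conj_of_compl {A B C D : Submodule F V} (h1 : IsCompl A B) (h2 : IsCompl C D) (a : A ≃ₗ[F] C) (b : B ≃ₗ[F] D) :
    ∃ e : V ≃ₗ[F] V, (∀ x : A, e x = a x) ∧ ∀ x : B, e x = b x :=
  ⟨(Submodule.prodEquivOfIsCompl A B h1).symm ≪≫ₗ a.prodCongr b ≪≫ₗ Submodule.prodEquivOfIsCompl C D h2,
    fun x => by simp, fun x => by simp⟩

omit [Fintype F] [FiniteDimensional F V] in
theorem ext_compl {A B : Submodule F V} (h : IsCompl A B) {p : V → Prop} (h1 : ∀ x y, p x → p y → p (x + y))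
    (h2 : ∀ x : A, p x) (h3 : ∀ x : B, p x) (v : V) : p v := by
  obtain ⟨a, a1, b, b1, rfl⟩ := Submodule.mem_sup.1 (h.sup_eq_top ▸ Submodule.mem_top : v ∈ A ⊔ B)
  exact h1 _ _ (h2 ⟨a, a1⟩) (h3 ⟨b, b1⟩)

omit [Fintype F] in
theorem exists_half [Finite V] {g : End F V} {z : F} (z1 : ¬ IsSquare z) (hz : ∀ x, g (g x) = z • x) :
    ∃ U : Submodule F V, IsCompl U (U.map g) ∧ finrank F V = 2 * finrank F U := by
  have z0 : z ≠ 0 := by rintro rfl; exact z1 ⟨0, by simp⟩
  have inj : Function.Injective g := fun x y h => smul_right_injective V z0 (by simp only [← hz, h])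
  haveI : Finite (Submodule F V) := Finite.of_injective _ SetLike.coe_injective
  obtain ⟨U, hU, hmax⟩ := Set.exists_max_image {U : Submodule F V | Disjoint U (U.map g)} (fun U => finrank F U)
    (Set.toFinite _) ⟨⊥, by simp⟩
  have dU : ∀ u ∈ U, g u ∈ U → u = 0 := fun u h1 h2 =>
    inj ((Submodule.disjoint_def.1 hU _ h2 ⟨u, h1, rfl⟩).trans (map_zero g).symm)
  have c : IsCompl U (U.map g) := ⟨hU, codisjoint_iff.2 (eq_top_iff.2 fun v _ => by_contra fun hv => by
    have : ¬ Disjoint (U ⊔ F ∙ v) ((U ⊔ F ∙ v).map g) := fun k => absurd (hmax _ k) (not_le.2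
      (Submodule.finrank_lt_finrank_of_lt (left_lt_sup.2 fun e =>
        hv (Submodule.mem_sup_left (e (Submodule.mem_span_singleton_self v))))))
    rw [Submodule.disjoint_def] at this
    push Not at this
    obtain ⟨x, x1, ⟨y, y1, rfl⟩, x0⟩ := this
    obtain ⟨u, u1, _, u2, e⟩ := Submodule.mem_sup.1 x1
    obtain ⟨w, w1, _, w2, rfl⟩ := Submodule.mem_sup.1 y1
    obtain ⟨s, rfl⟩ := Submodule.mem_span_singleton.1 u2
    obtain ⟨r, rfl⟩ := Submodule.mem_span_singleton.1 w2
    have nS : ∀ c : F, c • v ∈ U ⊔ U.map g → c = 0 := fun c h => by_contra fun k =>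
      hv ((Submodule.smul_mem_iff _ k).1 h)
    have r0 : r ≠ 0 := by
      rintro rfl
      simp only [zero_smul, add_zero] at e x0
      have := nS s (by
        rw [eq_sub_of_add_eq' e]
        exact sub_mem (Submodule.mem_sup_right ⟨w, w1, rfl⟩) (Submodule.mem_sup_left u1))
      rw [this, zero_smul, add_zero] at e
      exact x0 (by rw [dU w w1 (e ▸ u1), map_zero])
    have e1 : g v = r⁻¹ • (u + s • v - g w) := by rw [e, map_add, map_smul, add_sub_cancel_left, inv_smul_smul₀ r0]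
    have e2 := hz v
    rw [e1, map_smul, map_sub, map_add, map_smul, hz, e1] at e2
    exact z1 ⟨_, sub_eq_zero.1 (nS _ (by
      have : (z - r⁻¹ * s * (r⁻¹ * s)) • v = (r⁻¹ * s * r⁻¹) • u - (r⁻¹ * z) • w + g (r⁻¹ • u - (r⁻¹ * s * r⁻¹) • w) := by
        rw [sub_smul, ← e2, map_sub, map_smul, map_smul]; module
      rw [this]
      exact add_mem (Submodule.mem_sup_left (sub_mem (U.smul_mem _ u1) (U.smul_mem _ w1)))
        (Submodule.mem_sup_right ⟨_, sub_mem (U.smul_mem _ u1) (U.smul_mem _ w1), rfl⟩)))⟩)⟩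
  have := Submodule.finrank_add_eq_of_isCompl c
  rw [← (Submodule.equivMapOfInjective g inj U).finrank_eq] at this
  exact ⟨U, c, by omega⟩

theorem conj_of_phi (h2 : (2 : F) ≠ 0) (hn : 0 < finrank F V) {g h : End F V} {z w : F} (z0 : z ≠ 0) (w0 : w ≠ 0)
    (hz : ∀ x, g (g x) = z • x) (hw : ∀ x, h (h x) = w • x) (k : phi g = phi h) :
    ∃ (e : V ≃ₗ[F] V) (l : F), ∀ v, h (e v) = l • e (g v) := by
  classical
  haveI : Finite V := Module.finite_of_finite F
  rcases phi_cases h2 hn z0 hz with ⟨a1, a2⟩ | ⟨c, rfl, a2, a3⟩ <;>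
    rcases phi_cases h2 hn w0 hw with ⟨b1, b2⟩ | ⟨d, rfl, b2, b3⟩
  · obtain ⟨U, u1, u2⟩ := exists_half a2 hz
    obtain ⟨W, w1, w2⟩ := exists_half b2 hw
    obtain ⟨m, hm⟩ : IsSquare (z * w) := (quadraticChar_one_iff_isSquare (mul_ne_zero z0 w0)).1 (by
      rw [map_mul, quadraticChar_neg_one_iff_not_isSquare.2 a2, quadraticChar_neg_one_iff_not_isSquare.2 b2]; simp)
    have m0 : m ≠ 0 := left_ne_zero_of_mul (hm ▸ mul_ne_zero z0 w0)
    have i1 : Function.Injective g := fun x y h => smul_right_injective V z0 (by simp only [← hz, h])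
    have i2 : Function.Injective h := fun x y h => smul_right_injective V w0 (by simp only [← hw, h])
    have a : U ≃ₗ[F] W := LinearEquiv.ofFinrankEq U W (by omega)
    obtain ⟨e, e1, e2⟩ := conj_of_compl u1 w1 a ((Submodule.equivMapOfInjective g i1 U).symm ≪≫ₗ a ≪≫ₗ
      Submodule.equivMapOfInjective h i2 W ≪≫ₗ LinearEquiv.smulOfNeZero F _ (z / m) (div_ne_zero z0 m0))
    have e3 : ∀ x : U, e (g x) = (z / m) • h (a x) := fun x => by
      have := e2 (Submodule.equivMapOfInjective g i1 U x)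
      simpa using this
    refine ⟨e, m / z, ext_compl u1 (fun x y h1 h3 => by simp only [map_add, smul_add, h1, h3]) (fun x => ?_) ?_⟩
    · rw [e1, e3, smul_smul, show m / z * (z / m) = 1 by field_simp, one_smul]
    · rintro ⟨_, x, hx, rfl⟩
      have := e3 ⟨x, hx⟩
      simp only at this ⊢
      rw [this, hz, map_smul, map_smul, hw, e1 ⟨x, hx⟩, smul_smul, smul_smul]
      congr 1
      field_simp
      linear_combination hm
  · omega
  · omega
  · have c0 := left_ne_zero_of_mul z0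
    have k1 := compl_eig h2 c0 hz
    have k2 := compl_eig h2 (left_ne_zero_of_mul w0) hw
    have f1 := Submodule.finrank_add_eq_of_isCompl k1
    have f2 := Submodule.finrank_add_eq_of_isCompl k2
    obtain ⟨e, e1, e2⟩ := conj_of_compl k1 k2 (LinearEquiv.ofFinrankEq _ _ (by omega))
      (LinearEquiv.ofFinrankEq _ _ (by omega))
    refine ⟨e, d / c, ext_compl k1 (fun x y h1 h3 => by simp only [map_add, smul_add, h1, h3]) (fun x => ?_) fun x => ?_⟩
    · rw [mem_eigenspace_iff.1 x.2, map_smul, e1, mem_eigenspace_iff.1 (Subtype.prop _), smul_smul]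
      congr 1; field_simp
    · rw [mem_eigenspace_iff.1 x.2, map_smul, e2, mem_eigenspace_iff.1 (Subtype.prop _), smul_smul]
      congr 1; field_simp

theorem phi_eq_iff (hn : 0 < finrank F V) {g : End F V} : finrank F V ≤ phi g ↔ ∃ c : F, ∀ v, g v = c • v := by
  refine ⟨fun h => ?_, fun ⟨c, hc⟩ => ?_⟩
  · obtain ⟨c, -, hc⟩ := Finset.exists_mem_eq_sup (Finset.univ : Finset F) Finset.univ_nonempty
      fun c : F => finrank F (eigenspace g c)
    have := Submodule.eq_top_of_finrank_eq (le_antisymm (Submodule.finrank_le _) (h.trans_eq hc))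
    exact ⟨c, fun v => mem_eigenspace_iff.1 (this ▸ Submodule.mem_top)⟩
  · refine le_trans ?_ (le_phi g c)
    rw [show eigenspace g c = ⊤ from eq_top_iff.2 fun v _ => mem_eigenspace_iff.2 (hc v), finrank_top]

theorem exists_sq (h2 : (2 : F) ≠ 0) {a : ℕ} (h1 : finrank F V ≤ 2 * a) (h3 : a < finrank F V) :
    ∃ g : End F V, (∀ x, g (g x) = (1 : F) • x) ∧ phi g = a := by
  obtain ⟨A, hA⟩ : ∃ A : Submodule F V, finrank F A = a := by
    obtain ⟨f, hf⟩ := exists_linearIndependent_of_le_finrank (R := F) (M := V) h3.le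
    exact ⟨_, (finrank_span_eq_card hf).trans (Fintype.card_fin a)⟩
  obtain ⟨B, hB⟩ := Submodule.exists_isCompl A
  obtain ⟨e, e1, e2⟩ := conj_of_compl hB hB (LinearEquiv.refl F A) (LinearEquiv.neg F)
  have hz : ∀ x, (e : End F V) ((e : End F V) x) = (1 : F) • x :=
    ext_compl hB (fun x y h1 h3 => by simp only [map_add, smul_add, h1, h3]) (fun x => by simp [e1]) fun x => by simp [e2]
  have f1 := Submodule.finrank_add_eq_of_isCompl hB
  have f2 := Submodule.finrank_add_eq_of_isCompl (compl_eig (g := (e : End F V)) h2 one_ne_zero (by rw [one_mul]; exact hz))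
  have l1 : finrank F A ≤ finrank F (eigenspace (e : End F V) 1) :=
    Submodule.finrank_mono fun x hx => mem_eigenspace_iff.2 (by simpa using e1 ⟨x, hx⟩)
  have l2 : finrank F B ≤ finrank F (eigenspace (e : End F V) (-1)) :=
    Submodule.finrank_mono fun x hx => mem_eigenspace_iff.2 (by simpa using e2 ⟨x, hx⟩)
  refine ⟨e, hz, ?_⟩
  have l3 := le_phi (e : End F V) 1
  rcases phi_cases h2 (by omega) one_ne_zero hz with ⟨-, k⟩ | ⟨c, k1, k2, -⟩
  · exact absurd IsSquare.one k
  · rcases mul_self_eq_one_iff.1 k1.symm with rfl | rfl <;> omega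

theorem exists_nsq (h2 : (2 : F) ≠ 0) {a : ℕ} (h0 : 0 < a) (h1 : finrank F V = a + a) :
    ∃ (g : End F V) (z : F), z ≠ 0 ∧ (∀ x, g (g x) = z • x) ∧ phi g = 0 := by
  obtain ⟨z, hz⟩ := FiniteField.exists_nonsquare (F := F) (fun e => h2 (by
    have := (ringChar.spec F 2).2 (by rw [e]); exact_mod_cast this))
  have z0 : z ≠ 0 := by rintro rfl; exact hz ⟨0, by simp⟩
  have e : V ≃ₗ[F] (Fin a → F) × (Fin a → F) := LinearEquiv.ofFinrankEq _ _ (by simp [h1])
  have k : ∀ x, (e.symm.toLinearMap ∘ₗ (z • LinearMap.snd F _ _).prod (LinearMap.fst F _ _) ∘ₗ e.toLinearMap)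
      ((e.symm.toLinearMap ∘ₗ (z • LinearMap.snd F _ _).prod (LinearMap.fst F _ _) ∘ₗ e.toLinearMap) x) = z • x :=
    fun x => by simp [LinearEquiv.symm_apply_eq, Prod.ext_iff]
  refine ⟨_, z, z0, k, ?_⟩
  rcases phi_cases h2 (by omega) z0 k with ⟨k, -⟩ | ⟨c, k1, -⟩
  · exact k
  · exact absurd ⟨c, k1⟩ hz

end Cfsg.Agent.Classical.Inv
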