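import Mathlib
import Cfsg.Prelude.Def_GeometricClasses

/-! Tools for non-maximality of decomposition stabilisers: weight function of an adapted basis. -/

set_option autoImplicit false

namespace Cfsg.Agent.Classical.NMax
open Matrix Cfsg.Geo Module

variable {ι : Type} [Fintype ι] [DecidableEq ι] {F : Type*} [Field F]

/-- The matrices leaving a function on vectors invariant. -/
def fstab {β : Sort*} (Φ : (ι → F) → β) : Subgroup (GL ι F) where
  carrier := {g | ∀ v, Φ (g.1 *ᵥ v) = Φ v}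
  mul_mem' {a b} ha hb v := by rw [Units.val_mul, ← mulVec_mulVec, ha, hb]
  one_mem' v := by simp
  inv_mem' {a} ha v := by
    have := ha (a⁻¹.1 *ᵥ v)
    rw [mulVec_mulVec, Units.mul_inv, one_mulVec] at this
    exact this.symm

theorem between {G : Type*} [Group G] {H X K : Subgroup G} (hH : H ⊓ X ≤ K) {k g : G} (hkX : k ∈ X) (hk : k ∈ K)
    (hkH : k ∉ H) (hgX : g ∈ X) (hg : g ∉ K) : ∃ K' : Subgroup G, H ⊓ X < K' ∧ K' < X :=
  ⟨K ⊓ X, lt_of_le_not_ge (le_inf hH inf_le_right) fun h => hkH (h ⟨hk, hkX⟩).1,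
    lt_of_le_not_ge inf_le_right fun h => hg (h hgX).1⟩

theorem exists_tr (f : (ι → F) →ₗ[F] F) (u : ι → F) (h : 1 + f u ≠ 0) :
    ∃ g : GL ι F, g.1.det = 1 + f u ∧ ∀ x, g.1 *ᵥ x = x + f x • u := by
  have e : ∀ x, (fun i => f (Pi.single i 1)) ⬝ᵥ x = f x := fun x => by
    conv_rhs => rw [pi_eq_sum_univ' x]
    simp [dotProduct, map_sum, mul_comm]
  have d : (1 + vecMulVec u fun i => f (Pi.single i 1)).det = 1 + f u := by
    rw [vecMulVec_eq Unit, det_one_add_replicateCol_mul_replicateRow, e]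
  have m : ∀ x, (1 + vecMulVec u fun i => f (Pi.single i 1)) *ᵥ x = x + f x • u := fun x => by
    rw [add_mulVec, one_mulVec, vecMulVec_mulVec, e, op_smul_eq_smul]
  exact ⟨GeneralLinearGroup.mkOfDetNeZero _ (d.trans_ne h), d, m⟩

theorem mem_SL {g : GL ι F} : g ∈ specialLinear ι F ↔ g.1.det = 1 :=
  ⟨fun h => congrArg Units.val (MonoidHom.mem_ker.1 h), fun h => Units.ext h⟩

variable {t m : ℕ} {D : Fin t → Submodule F (ι → F)}

/-- A basis adapted to a decomposition. -/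
structure AB (D : Fin t → Submodule F (ι → F)) (B : Basis (Σ _ : Fin t, Fin m) F (ι → F)) : Prop where
  mem : ∀ i a, B ⟨i, a⟩ ∈ D i
  zero : ∀ {i j} a {x}, i ≠ j → x ∈ D i → B.repr x ⟨j, a⟩ = 0

theorem exists_AB' (hD : IsMDecomposition m D) (v : ∀ i, Basis (Fin m) F (D i)) :
    ∃ B : Basis (Σ _ : Fin t, Fin m) F (ι → F), AB D B ∧ ∀ i a, B ⟨i, a⟩ = v i a := by
  have h := DirectSum.isInternal_submodule_of_iSupIndep_of_iSup_eq_top hD.indep hD.iSup_eq_top
  exact ⟨h.collectedBasis v, ⟨fun i a => h.collectedBasis_mem v ⟨i, a⟩,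
    fun a _ hij hx => h.collectedBasis_repr_of_mem_ne v hij hx⟩, fun i a => by simp⟩

theorem exists_AB (hD : IsMDecomposition m D) :
    ∃ B : Basis (Σ _ : Fin t, Fin m) F (ι → F), AB D B :=
  (exists_AB' hD fun i => Module.finBasisOfFinrankEq F (D i) (hD.finrank_eq i)).imp fun _ h => h.1

theorem card_eq (B : Basis (Σ _ : Fin t, Fin m) F (ι → F)) : Fintype.card ι = t * m := by
  have := Module.finrank_eq_card_basis B
  simpa using this

/-- The block component. -/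
noncomputable def pr (B : Basis (Σ _ : Fin t, Fin m) F (ι → F)) (i : Fin t) (x : ι → F) : ι → F :=
  ∑ a, B.repr x ⟨i, a⟩ • B ⟨i, a⟩

theorem sum_pr (B : Basis (Σ _ : Fin t, Fin m) F (ι → F)) (x : ι → F) : ∑ i, pr B i x = x := by
  conv_rhs => rw [← B.sum_repr x]
  rw [Fintype.sum_sigma]; rfl

theorem repr_pr (B : Basis (Σ _ : Fin t, Fin m) F (ι → F)) (i : Fin t) (x : ι → F) (a : Fin m) :
    B.repr (pr B i x) ⟨i, a⟩ = B.repr x ⟨i, a⟩ := by
  simp [pr, Finsupp.single_apply]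

open _root_.Classical in
/-- The number of non-zero block components, read in the field. -/
noncomputable def wt (B : Basis (Σ _ : Fin t, Fin m) F (ι → F)) (x : ι → F) : F :=
  ∑ i, if ∀ a, B.repr x ⟨i, a⟩ = 0 then 0 else 1

variable {B : Basis (Σ _ : Fin t, Fin m) F (ι → F)}

theorem AB.pr_mem (h : AB D B) (i : Fin t) (x : ι → F) : pr B i x ∈ D i :=
  Submodule.sum_mem _ fun a _ => Submodule.smul_mem _ _ (h.mem i a)

theorem AB.eq_pr (h : AB D B) {i : Fin t} {x : ι → F} (hx : x ∈ D i) : pr B i x = x := by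
  conv_rhs => rw [← sum_pr B x]
  rw [Finset.sum_eq_single i (fun j _ hj => by simp [pr, h.zero _ hj.symm hx]) (by simp)]

theorem AB.le_fstab (h : AB D B) : decompositionStabilizer D ≤ fstab (wt B) := by
  classical
  rintro g ⟨σ, hσ⟩ x
  have hm : ∀ i, ∀ y ∈ D i, g.1 *ᵥ y ∈ D (σ i) := fun i y hy => by
    rw [← hσ i]; exact ⟨y, hy, by simp⟩
  have e : ∀ i a, B.repr (g.1 *ᵥ x) ⟨σ i, a⟩ = B.repr (g.1 *ᵥ pr B i x) ⟨σ i, a⟩ := fun i a => by
    conv_lhs => rw [← sum_pr B x, mulVec_sum, map_sum, Finsupp.finsetSum_apply]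
    exact Finset.sum_eq_single i (fun j _ hj => h.zero _ (σ.injective.ne hj) (hm j _ (h.pr_mem j x))) (by simp)
  unfold wt
  rw [← Equiv.sum_comp σ]
  refine Finset.sum_congr rfl fun i _ => if_congr ⟨fun k a => ?_, fun k a => ?_⟩ rfl rfl
  · have y0 : g.1 *ᵥ pr B i x = 0 := by
      rw [← h.eq_pr (hm i _ (h.pr_mem i x))]
      exact Finset.sum_eq_zero fun b _ => by rw [← e, k, zero_smul]
    have : pr B i x = 0 := mulVec_injective_iff_isUnit.2 g.isUnit (y0.trans (mulVec_zero _).symm)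
    rw [← repr_pr, this]; simp
  · rw [e]; simp [pr, k]

theorem AB.not_mem (h : AB D B) {g : GL ι F} {i j l : Fin t} {a b : Fin m} {x : ι → F} (hx : x ∈ D i) (hjl : j ≠ l)
    (h1 : B.repr (g.1 *ᵥ x) ⟨j, a⟩ ≠ 0) (h2 : B.repr (g.1 *ᵥ x) ⟨l, b⟩ ≠ 0) : g ∉ decompositionStabilizer D := by
  rintro ⟨σ, hσ⟩
  have hm : g.1 *ᵥ x ∈ D (σ i) := by rw [← hσ i]; exact ⟨x, hx, by simp⟩
  by_cases k : σ i = j
  · exact h2 (h.zero _ (k ▸ hjl) hm)
  · exact h1 (h.zero _ k hm)

end Cfsg.Agent.Classical.NMax
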