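import Cfsg.Agent.Lib.Classical.Inv4
import Cfsg.Agent.Lib.Classical.NMax1

/-! Projective involutions and symplectic similarities. -/

set_option autoImplicit false

namespace Cfsg.Agent.Classical.Inv
open Module Module.End

variable {F : Type*} [Field F] {V : Type*} [AddCommGroup V] [Module F V] [FiniteDimensional F V]

theorem exists_mono' [Finite V] {g : V →ₗ[F] V} {z : F} (z0 : z ≠ 0) (hz : ∀ x, g (g x) = z • x) :
    ∃ (k r : ℕ) (b : Basis ((Fin k ⊕ Fin k) ⊕ Fin r) F V), (∀ i, g (b (.inl (.inl i))) = b (.inl (.inr i))) ∧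
      ∀ i, ∃ c : F, g (b (.inr i)) = c • b (.inr i) := by
  classical
  have inj : Function.Injective g := fun x y h => smul_right_injective V z0 (by simp only [← hz, h])
  haveI : Finite (Submodule F V) := Finite.of_injective _ SetLike.coe_injective
  obtain ⟨U, hU, hmax⟩ := Set.exists_max_image {U : Submodule F V | Disjoint U (U.map g)} (fun U => finrank F U)
    (Set.toFinite _) ⟨⊥, by simp⟩
  have dU : ∀ u ∈ U, g u ∈ U → u = 0 := fun u h1 h2 =>
    inj ((Submodule.disjoint_def.1 hU _ h2 ⟨u, h1, rfl⟩).trans (map_zero g).symm)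
  have gS : ∀ s ∈ U ⊔ U.map g, g s ∈ U ⊔ U.map g := fun s hs => by
    obtain ⟨u, u1, _, ⟨w, w1, rfl⟩, rfl⟩ := Submodule.mem_sup.1 hs
    rw [map_add, hz]
    exact add_mem (Submodule.mem_sup_right ⟨u, u1, rfl⟩) (Submodule.mem_sup_left (U.smul_mem z w1))
  have key : ∀ v, v ∉ U ⊔ U.map g → ∃ u ∈ U, ∃ c : F, g (v - u) = c • (v - u) := fun v hv => by
    have : ¬ Disjoint (U ⊔ F ∙ v) ((U ⊔ F ∙ v).map g) := fun k => absurd (hmax _ k) (not_le.2
      (Submodule.finrank_lt_finrank_of_lt (left_lt_sup.2 fun e =>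
        hv (Submodule.mem_sup_left (e (Submodule.mem_span_singleton_self v))))))
    rw [Submodule.disjoint_def] at this
    push Not at this
    obtain ⟨x, x1, ⟨y, y1, rfl⟩, x0⟩ := this
    obtain ⟨u, u1, _, u2, e⟩ := Submodule.mem_sup.1 x1
    obtain ⟨w, w1, _, w2, rfl⟩ := Submodule.mem_sup.1 y1
    obtain ⟨s, rfl⟩ := Submodule.mem_span_singleton.1 u2
    obtain ⟨r, rfl⟩ := Submodule.mem_span_singleton.1 w2
    have nS : ∀ c : F, c • v ∈ U ⊔ U.map g → c = 0 := fun c h => by_contra fun k =>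
      hv ((Submodule.smul_mem_iff _ k).1 h)
    have r0 : r ≠ 0 := by
      rintro rfl
      simp only [zero_smul, add_zero] at e x0
      have := nS s (by
        rw [eq_sub_of_add_eq' e]
        exact sub_mem (Submodule.mem_sup_right ⟨w, w1, rfl⟩) (Submodule.mem_sup_left u1))
      rw [this, zero_smul, add_zero] at e
      exact x0 (by rw [dU w w1 (e ▸ u1), map_zero])
    have e1 : g v = r⁻¹ • (u + s • v - g w) := by rw [e, map_add, map_smul, add_sub_cancel_left, inv_smul_smul₀ r0]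
    have e2 := hz v
    rw [e1, map_smul, map_sub, map_add, map_smul, hz, e1] at e2
    have e3 : z = r⁻¹ * s * (r⁻¹ * s) := sub_eq_zero.1 (nS _ (by
      have : (z - r⁻¹ * s * (r⁻¹ * s)) • v = (r⁻¹ * s * r⁻¹) • u - (r⁻¹ * z) • w + g (r⁻¹ • u - (r⁻¹ * s * r⁻¹) • w) := by
        rw [sub_smul, ← e2, map_sub, map_smul, map_smul]; module
      rw [this]
      exact add_mem (Submodule.mem_sup_left (sub_mem (U.smul_mem _ u1) (U.smul_mem _ w1)))
        (Submodule.mem_sup_right ⟨_, sub_mem (U.smul_mem _ u1) (U.smul_mem _ w1), rfl⟩)))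
    have e4 : r⁻¹ • u - (r⁻¹ * s * r⁻¹) • w = 0 := dU _ (sub_mem (U.smul_mem _ u1) (U.smul_mem _ w1)) (by
      have : g (r⁻¹ • u - (r⁻¹ * s * r⁻¹) • w) = (r⁻¹ * z) • w - (r⁻¹ * s * r⁻¹) • u := by
        rw [map_sub, map_smul, map_smul]
        have e5 : z • v = (r⁻¹ * s * (r⁻¹ * s)) • v := by rw [← e3]
        linear_combination (norm := module) e2 + e5
      rw [this]
      exact sub_mem (U.smul_mem _ w1) (U.smul_mem _ u1))
    refine ⟨-(r⁻¹ • w), neg_mem (U.smul_mem _ w1), r⁻¹ * s, ?_⟩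
    rw [map_sub, map_neg, map_smul, e1]
    linear_combination (norm := module) e4
  obtain ⟨C, hC⟩ := Submodule.exists_isCompl (U ⊔ U.map g)
  set bU := Module.finBasis F U
  set bC := Module.finBasis F C
  choose u u1 c hc using fun j => key (bC j) fun k =>
    bC.ne_zero j (Subtype.ext (Submodule.disjoint_def.1 hC.disjoint _ k (bC j).2))
  have d1 := Submodule.finrank_sup_add_finrank_inf_eq U (U.map g)
  rw [hU.eq_bot, finrank_bot, ← (Submodule.equivMapOfInjective g inj U).finrank_eq] at d1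
  have d2 := Submodule.finrank_add_eq_of_isCompl hC
  set v : (Fin (finrank F U) ⊕ Fin (finrank F U)) ⊕ Fin (finrank F C) → V :=
    Sum.elim (Sum.elim (fun i => bU i) fun i => g (bU i)) fun j => bC j - u j with hv
  have sU : ∀ (f : V →ₗ[F] V) (T : Submodule F V), (∀ i, f (bU i) ∈ T) → ∀ x ∈ U, f x ∈ T := fun f T h x hx => by
    have := congrArg (fun y : U => f y) (bU.sum_repr ⟨x, hx⟩)
    simp only [Submodule.coe_sum, map_sum, Submodule.coe_smul, map_smul] at this
    rw [← this]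
    exact Submodule.sum_mem _ fun i _ => T.smul_mem _ (h i)
  have s1 : U ≤ Submodule.span F (Set.range v) := sU LinearMap.id _ fun i => Submodule.subset_span ⟨.inl (.inl i), rfl⟩
  have sp : ⊤ ≤ Submodule.span F (Set.range v) := by
    rw [← hC.sup_eq_top]
    refine sup_le (sup_le s1 ?_) fun x hx => ?_
    · rintro _ ⟨x, hx, rfl⟩
      exact sU g _ (fun i => Submodule.subset_span (Set.mem_range_self (f := v) (.inl (.inr i)))) x hx
    · have := congrArg (fun y : C => (y : V)) (bC.sum_repr ⟨x, hx⟩)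
      simp only [Submodule.coe_sum, Submodule.coe_smul] at this
      rw [← this]
      refine Submodule.sum_mem _ fun j _ => Submodule.smul_mem _ _ ?_
      rw [← sub_add_cancel (bC j : V) (u j)]
      exact add_mem (Submodule.subset_span ⟨.inr j, rfl⟩) (s1 (u1 j))
  refine ⟨_, _, basisOfTopLeSpanOfCardEqFinrank v sp (by simp; omega), ?_⟩
  simp only [coe_basisOfTopLeSpanOfCardEqFinrank]
  exact ⟨fun i => rfl, fun i => ⟨c i, hc i⟩⟩

theorem symp_basis [Finite V] {f : LinearMap.BilinForm F V} (alt : ∀ x, f x x = 0) (nd : ∀ x, x ≠ 0 → ∃ y, f x y ≠ 0) :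
    ∃ (m : ℕ) (b : Basis (Fin m ⊕ Fin m) F V), (∀ i j, f (b (.inl i)) (b (.inl j)) = 0) ∧
      (∀ i j, f (b (.inr i)) (b (.inr j)) = 0) ∧ ∀ i j, f (b (.inl i)) (b (.inr j)) = if i = j then 1 else 0 := by
  have sk := skew_of alt
  obtain ⟨U, W, h, h1, h2, -⟩ := lagr alt nd (fun _ _ => True) trivial fun U W x y _ a b c => ⟨x, y, a, b, c, trivial⟩
  have inj : ∀ {A B : Submodule F V}, IsCompl A B → (∀ u ∈ B, ∀ v ∈ B, f u v = 0) →
      Function.Injective (f.flip.domRestrict₁₂ B A) := fun {A B} k1 k2 => (injective_iff_map_eq_zero _).2 fun w hw =>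
    Subtype.ext (by_contra fun e => by
      obtain ⟨y, hy⟩ := nd w e
      refine hy (ext_compl k1 (p := fun y => f w y = 0) (fun x y a b => by rw [map_add, a, b, add_zero])
        (fun x => ?_) (fun x => k2 _ w.2 _ x.2) y)
      rw [sk, neg_eq_zero]; exact LinearMap.congr_fun hw x)
  have l1 := LinearMap.finrank_le_finrank_of_injective (inj h h2)
  have l2 := LinearMap.finrank_le_finrank_of_injective (inj h.symm h1)
  rw [Subspace.dual_finrank_eq] at l1 l2
  set φ := LinearMap.linearEquivOfInjective _ (inj h h2) (by rw [Subspace.dual_finrank_eq]; omega) with hφ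
  set e := Module.finBasis F U
  refine ⟨_, (e.prod (e.dualBasis.map φ.symm)).map (Submodule.prodEquivOfIsCompl U W h), fun i j => ?_,
    fun i j => ?_, fun i j => ?_⟩
  · simpa using h1 _ (e i).2 _ (e j).2
  · simpa using h2 _ (Subtype.prop _) _ (Subtype.prop _)
  · have := LinearMap.congr_fun (φ.apply_symm_apply (e.dualBasis j)) (e i)
    rw [Basis.dualBasis_apply_self] at this
    have e2 : f (e i) (φ.symm (e.dualBasis j)) = if i = j then 1 else 0 := this
    simpa using e2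

theorem det_eig {I : Type*} [Fintype I] (b : Basis I F V) {g : End F V} {c : I → F} (h : ∀ i, g (b i) = c i • b i) :
    LinearMap.det g = ∏ i, c i := by
  classical
  rw [← LinearMap.det_toMatrix b, ← Matrix.det_diagonal]
  congr 1
  ext i j
  by_cases e : i = j <;> simp [LinearMap.toMatrix_apply, h, Finsupp.single_apply, e, Ne.symm]

theorem plane_basis [Fintype F] {g : End F V} {z : F} (z0 : z ≠ 0) (hz : ∀ x, g (g x) = z • x)
    (he : Even (finrank F V)) (hd : LinearMap.det g = 1) (hc : (2 : F) ≠ 0 → ∀ c : F, c ^ finrank F V ≠ -1) :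
    ∃ (I : Type) (_ : Fintype I) (v : Basis (I ⊕ I) F V) (d : F), d ≠ 0 ∧ ∀ i, ∃ α β γ δ : F,
      g (v (.inl i)) = α • v (.inl i) + β • v (.inr i) ∧ g (v (.inr i)) = γ • v (.inl i) + δ • v (.inr i) ∧
        α * δ - β * γ = d := by
  haveI : Finite V := Module.finite_of_finite F
  by_cases h : (2 : F) ≠ 0 ∧ IsSquare z
  · obtain ⟨h2, c, rfl⟩ := h
    have k := compl_eig h2 (left_ne_zero_of_mul z0) hz
    have f1 := Submodule.finrank_add_eq_of_isCompl k
    have m1 : ∀ x : eigenspace g c, g x = c • (x : V) := fun x => mem_eigenspace_iff.1 x.2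
    have m2 : ∀ x : eigenspace g (-c), g x = (-c) • (x : V) := fun x => mem_eigenspace_iff.1 x.2
    have e := det_eig (((Module.finBasis F (eigenspace g c)).prod (Module.finBasis F (eigenspace g (-c)))).map
      (Submodule.prodEquivOfIsCompl _ _ k)) (g := g) (c := Sum.elim (fun _ => c) fun _ => -c) (by
        rintro (i | i) <;> simp [m1, m2])
    simp only [hd, Fintype.prod_sum_type, Sum.elim_inl, Sum.elim_inr, Finset.prod_const, Finset.card_univ,
      Fintype.card_fin] at e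
    obtain ⟨r, hr⟩ : Even (finrank F (eigenspace g (-c))) := by_contra fun o => hc h2 c (by
      rw [(Nat.not_even_iff_odd.1 o).neg_pow, mul_neg, ← pow_add, f1] at e
      linear_combination e)
    obtain ⟨s, hs⟩ : Even (finrank F (eigenspace g c)) := by
      obtain ⟨t, ht⟩ := he
      exact ⟨t - r, by omega⟩
    refine ⟨Fin s ⊕ Fin r, inferInstance, ((((Module.finBasisOfFinrankEq F _ hs).reindex finSumFinEquiv.symm).prod
      ((Module.finBasisOfFinrankEq F _ hr).reindex finSumFinEquiv.symm)).map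
        (Submodule.prodEquivOfIsCompl _ _ k)).reindex (Equiv.sumSumSumComm _ _ _ _), c * c, z0, ?_⟩
    rintro (i | i)
    · exact ⟨c, 0, 0, c, by simp [m1], by simp [m1], by ring⟩
    · exact ⟨-c, 0, 0, -c, by simp [m2], by simp [m2], by ring⟩
  · obtain ⟨k, r, b, b1, b2⟩ := exists_mono' z0 hz
    obtain ⟨s, rfl⟩ : Even r := by
      have := finrank_eq_card_basis b
      simp only [Fintype.card_sum, Fintype.card_fin] at this
      obtain ⟨t, ht⟩ := he
      exact ⟨t - k, by omega⟩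
    choose c hc using b2
    have sq : ∀ i, z = c i * c i := fun i => smul_left_injective F (b.ne_zero (.inr i)) (by
      simp only [← hz, hc, map_smul, smul_smul])
    refine ⟨Fin k ⊕ Fin s, inferInstance, (b.reindex (Equiv.sumCongr (Equiv.refl _) finSumFinEquiv.symm)).reindex
      (Equiv.sumSumSumComm _ _ _ _), -z, neg_ne_zero.2 z0, ?_⟩
    rintro (i | i)
    · exact ⟨0, 1, z, 0, by simp [b1], by simp [← b1, hz], by ring⟩
    · refine ⟨c (Fin.castAdd s i), 0, 0, c (Fin.natAdd s i), by simp [hc], by simp [hc], ?_⟩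
      have h2 : (2 : F) = 0 := by_contra fun e => h ⟨e, _, sq (Fin.castAdd s i)⟩
      have : c (Fin.castAdd s i) = c (Fin.natAdd s i) := sub_eq_zero.1 (mul_self_eq_zero.1 (by
        linear_combination -sq (Fin.castAdd s i) - sq (Fin.natAdd s i) +
          (z - c (Fin.castAdd s i) * c (Fin.natAdd s i)) * h2))
      rw [this]
      linear_combination -sq (Fin.natAdd s i) + z * h2

open Matrix in
theorem conj_sim [Fintype F] {n : ℕ} (hn : 0 < n) {f : LinearMap.BilinForm F (Fin n → F)} (alt : ∀ x, f x x = 0)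
    (nd : ∀ x, x ≠ 0 → ∃ y, f x y ≠ 0) (x : SpecialLinearGroup (Fin n) F) {I : Type} [Fintype I]
    (v : Basis (I ⊕ I) F (Fin n → F)) {d : F} (h : ∀ i, ∃ α β γ δ : F,
      x.1 *ᵥ v (.inl i) = α • v (.inl i) + β • v (.inr i) ∧ x.1 *ᵥ v (.inr i) = γ • v (.inl i) + δ • v (.inr i) ∧
        α * δ - β * γ = d) : ∃ P : SpecialLinearGroup (Fin n) F, ∀ u w,
      f ((P⁻¹ * x * P).1 *ᵥ u) ((P⁻¹ * x * P).1 *ᵥ w) = d * f u w := by
  have sk := skew_of alt
  obtain ⟨m, b, b1, b2, b3⟩ := symp_basis alt nd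
  have c1 := finrank_eq_card_basis b
  have c2 := finrank_eq_card_basis v
  simp only [finrank_fintype_fun_eq_card, Fintype.card_sum, Fintype.card_fin] at c1 c2
  have e : Fin m ≃ I := Fintype.equivOfCardEq (by rw [Fintype.card_fin]; omega)
  have i0 : Fin m := ⟨0, by omega⟩
  set P0 := LinearMap.toMatrix' (b.equiv v (e.sumCongr e)).toLinearMap with hP0
  have p0 : ∀ i, P0 *ᵥ b i = v (e.sumCongr e i) := fun i => by rw [hP0, LinearMap.toMatrix'_mulVec]; simp
  have t0 : P0.det ≠ 0 := by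
    rw [hP0, LinearMap.det_toMatrix']; exact (LinearEquiv.isUnit_det' _).ne_zero
  obtain ⟨D, D1, D2⟩ := NMax.exists_tr (b.coord (.inl i0)) ((P0.det⁻¹ - 1) • b (.inl i0)) (by simp [t0])
  obtain ⟨P, hP⟩ : ∃ P : SpecialLinearGroup (Fin n) F, P.1 = P0 * D.1 :=
    ⟨⟨P0 * D.1, by rw [det_mul, D1]; simp [t0]⟩, rfl⟩
  refine ⟨P, ?_⟩
  have p1 : ∀ i, ∃ s : F, s ≠ 0 ∧ P.1 *ᵥ b (.inl i) = s • v (.inl (e i)) := fun i => by
    rw [hP]
    by_cases k : i = i0
    · exact ⟨P0.det⁻¹, inv_ne_zero t0, by simp [← mulVec_mulVec, D2, k, mulVec_add, mulVec_smul, p0, sub_smul]⟩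
    · exact ⟨1, one_ne_zero, by simp [← mulVec_mulVec, D2, Finsupp.single_apply, k, p0]⟩
  have p2 : ∀ i, P.1 *ᵥ b (.inr i) = v (.inr (e i)) := fun i => by
    rw [hP]
    simp [← mulVec_mulVec, D2, p0]
  have inv : ∀ u w, x.1 *ᵥ (P.1 *ᵥ u) = P.1 *ᵥ w → (P⁻¹ * x * P).1 *ᵥ u = w := fun u w k => by
    have e1 : (P⁻¹).1 * P.1 = 1 := congrArg Subtype.val (inv_mul_cancel P)
    change ((P⁻¹).1 * x.1 * P.1) *ᵥ u = w
    rw [← mulVec_mulVec, ← mulVec_mulVec, k, mulVec_mulVec, e1, one_mulVec]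
  have q : ∀ i, ∃ α β γ δ : F, (P⁻¹ * x * P).1 *ᵥ b (.inl i) = α • b (.inl i) + β • b (.inr i) ∧
      (P⁻¹ * x * P).1 *ᵥ b (.inr i) = γ • b (.inl i) + δ • b (.inr i) ∧ α * δ - β * γ = d := fun i => by
    obtain ⟨α, β, γ, δ, k1, k2, k3⟩ := h (e i)
    obtain ⟨s, s0, hs⟩ := p1 i
    refine ⟨α, s * β, γ * s⁻¹, δ, inv _ _ ?_, inv _ _ ?_, by rw [← k3]; field_simp⟩
    · simp only [mulVec_add, mulVec_smul, hs, p2, k1]; module
    · simp only [mulVec_add, mulVec_smul, hs, p2, k2, smul_smul, inv_mul_cancel_right₀ s0]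
  choose α β γ δ q1 q2 q3 using q
  generalize (P⁻¹ * x * P).1 = y at q1 q2
  have : f.comp (toLin' y) (toLin' y) = d • f := LinearMap.BilinForm.ext_basis b (by
    rintro (i | i) (j | j) <;> by_cases k : i = j <;>
      simp [q1, q2, b1, b2, b3, sk (b (.inr _)) (b (.inl _)), k, Ne.symm, ← q3 j] <;> ring)
  intro u w
  exact LinearMap.congr_fun₂ this u w

end Cfsg.Agent.Classical.Inv
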