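import Cfsg.Agent.Lib.Classical.Inv5

/-! Projective involutions and quadratic extension-field subgroups. -/

set_option autoImplicit false

namespace Cfsg.Agent.Classical.Inv
open Module Module.End Matrix Cfsg.Geo

variable {F : Type*} [Field F] [Fintype F] {L : Type*} [Field L] [Algebra F L] {n : ℕ}

theorem exists_det [Finite L] (hn : 0 < n) (ρ : L →ₐ[F] Matrix (Fin n) (Fin n) F) {t : F} :
    ∃ D : Matrix (Fin n) (Fin n) F, D.det = t ∧ ∀ a, D * ρ a = ρ a * D := by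
  haveI : Nonempty (Fin n) := ⟨⟨0, hn⟩⟩
  letI : Module L (Fin n → F) :=
    Module.compHom (Fin n → F) ((Matrix.toLinAlgEquiv' (n := Fin n) (R := F)).toAlgHom.comp ρ).toRingHom
  have sm : ∀ (a : L) (v : Fin n → F), a • v = ρ a *ᵥ v := fun a v => Matrix.toLinAlgEquiv'_apply _ _
  haveI : IsScalarTower F L (Fin n → F) := ⟨fun c a v => by rw [sm, sm, map_smul, smul_mulVec]⟩
  obtain ⟨u, u0⟩ := exists_ne (0 : Fin n → F)
  obtain ⟨f, hf⟩ : ∃ f : Module.Dual L (Fin n → F), f u ≠ 0 := by_contra fun k => by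
    push Not at k
    exact u0 ((Module.forall_dual_apply_eq_zero_iff L u).1 k)
  obtain ⟨κ, rfl⟩ := FiniteField.norm_surjective F L t
  refine ⟨LinearMap.toMatrix' ((LinearMap.transvection f (((κ - 1) * (f u)⁻¹) • u)).restrictScalars F), ?_, fun a => ?_⟩
  · rw [LinearMap.det_toMatrix', LinearMap.det_restrictScalars, LinearMap.transvection.det, f.map_smul, smul_eq_mul,
      inv_mul_cancel_right₀ hf, add_sub_cancel]
  · refine Matrix.ext_of_mulVec_single fun i => ?_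
    rw [← mulVec_mulVec, ← mulVec_mulVec, LinearMap.toMatrix'_mulVec, LinearMap.toMatrix'_mulVec, ← sm, ← sm]
    exact LinearMap.map_smul _ a _

omit [Fintype F] in
theorem quad_gen (h : finrank F L = 2) : ∃ (w : L) (a b : F), (∀ c : F, w ≠ algebraMap F L c) ∧
    w * w = a • w + b • 1 ∧ ∀ k : L, ∃ s t : F, k = s • w + t • 1 := by
  haveI : FiniteDimensional F L := FiniteDimensional.of_finrank_pos (by omega)
  obtain ⟨w, hw⟩ : ∃ w : L, w ∉ Submodule.span F {(1 : L)} := by_contra fun k => by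
    push Not at k
    have := Submodule.finrank_mono (show (⊤ : Submodule F L) ≤ Submodule.span F {(1 : L)} from fun x _ => k x)
    rw [finrank_span_singleton one_ne_zero, finrank_top] at this
    omega
  have li : LinearIndependent F ![w, 1] := LinearIndependent.pair_iff.2 fun s t k => by
    have s0 : s = 0 := by_contra fun e => hw ((Submodule.smul_mem_iff _ e).1 (by
      rw [eq_neg_of_add_eq_zero_left k]
      exact neg_mem (Submodule.smul_mem _ _ (Submodule.mem_span_singleton_self _))))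
    exact ⟨s0, by simpa [s0] using k⟩
  have sp := li.span_eq_top_of_card_eq_finrank' (by simp [h])
  rw [Matrix.range_cons, Matrix.range_cons, Matrix.range_empty, Set.union_empty, Set.singleton_union] at sp
  have dec : ∀ k : L, ∃ s t : F, k = s • w + t • 1 := fun k => by
    obtain ⟨s, t, e⟩ := Submodule.mem_span_pair.1 (sp ▸ Submodule.mem_top : k ∈ Submodule.span F {w, 1})
    exact ⟨s, t, e.symm⟩
  obtain ⟨a, b, e⟩ := dec (w * w)
  exact ⟨w, a, b, fun c e => hw (by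
    rw [e, Algebra.algebraMap_eq_smul_one]; exact Submodule.smul_mem _ _ (Submodule.mem_span_singleton_self _)), e, dec⟩

theorem mem_norm [Finite L] (ρ : L →ₐ[F] Matrix (Fin n) (Fin n) F) {y : GL (Fin n) F}
    (h : ∀ k, ∃ k', y.1 * ρ k = ρ k' * y.1) : y ∈ subalgebraNormalizer ρ.range := by
  have h1 : ∀ m ∈ ρ.range, y.1 * m * y⁻¹.1 ∈ ρ.range := by
    rintro _ ⟨k, rfl⟩
    obtain ⟨k', e⟩ := h k
    exact ⟨k', ((Units.mul_inv_eq_iff_eq_mul y).2 e).symm⟩
  refine fun m => ⟨h1 m, fun hm => ?_⟩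
  haveI : Finite ρ.range := Finite.of_surjective _ ρ.rangeRestrict_surjective
  have inj : Function.Injective fun m : ρ.range => (⟨_, h1 m m.2⟩ : ρ.range) := fun a b e =>
    Subtype.ext ((Units.mul_right_inj y).1 ((Units.mul_left_inj y⁻¹).1 (congrArg Subtype.val e)))
  obtain ⟨m', e⟩ := Finite.injective_iff_surjective.1 inj ⟨_, hm⟩
  have : m'.1 = m := (Units.mul_right_inj y).1 ((Units.mul_left_inj y⁻¹).1 (congrArg Subtype.val e))
  exact this ▸ m'.2

theorem conj_norm [Finite L] (hn : 0 < n) (ρ : L →ₐ[F] Matrix (Fin n) (Fin n) F) (x : SpecialLinearGroup (Fin n) F)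
    (e : (Fin n → F) ≃ₗ[F] (Fin n → F)) (h : ∀ k, ∃ k', ∀ v, e.symm (x.1 *ᵥ e (ρ k *ᵥ v)) = ρ k' *ᵥ e.symm (x.1 *ᵥ e v)) :
    ∃ P : SpecialLinearGroup (Fin n) F, SpecialLinearGroup.toGL (P⁻¹ * x * P) ∈ subalgebraNormalizer ρ.range := by
  set P0 := LinearMap.toMatrix' e.toLinearMap with hP0
  have p0 : ∀ v, P0 *ᵥ v = e v := fun v => by rw [hP0, LinearMap.toMatrix'_mulVec]; rfl
  have t0 : P0.det ≠ 0 := by
    rw [hP0, LinearMap.det_toMatrix']; exact (LinearEquiv.isUnit_det' _).ne_zero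
  obtain ⟨D, D1, D2⟩ := exists_det hn ρ (t := P0.det⁻¹)
  obtain ⟨P, hP⟩ : ∃ P : SpecialLinearGroup (Fin n) F, P.1 = P0 * D :=
    ⟨⟨P0 * D, by rw [det_mul, D1, mul_inv_cancel₀ t0]⟩, rfl⟩
  refine ⟨P, mem_norm ρ fun k => ?_⟩
  obtain ⟨k', hk⟩ := h k
  refine ⟨k', ?_⟩
  have e1 : (P⁻¹).1 * P.1 = 1 := congrArg Subtype.val (inv_mul_cancel P)
  have e2 : P.1 * (P⁻¹).1 = 1 := congrArg Subtype.val (mul_inv_cancel P)
  have e3 : x.1 * P0 * ρ k = P0 * ρ k' * P0⁻¹ * x.1 * P0 := Matrix.ext_of_mulVec_single fun i => by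
    have q : ∀ v, P0⁻¹ *ᵥ v = e.symm v := fun v => by
      obtain ⟨v, rfl⟩ := e.surjective v
      rw [← p0, mulVec_mulVec, nonsing_inv_mul _ (Ne.isUnit t0), one_mulVec, p0, e.symm_apply_apply]
    simp only [← mulVec_mulVec, p0, q, ← hk, e.apply_symm_apply]
  have e4 : P0 * ρ k' * P0⁻¹ = P.1 * ρ k' * (P⁻¹).1 := by
    have : P0 * ρ k' * P0⁻¹ * P.1 = P.1 * ρ k' := by
      rw [hP, ← mul_assoc, nonsing_inv_mul_cancel_right _ _ (Ne.isUnit t0), mul_assoc, mul_assoc, D2]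
    rw [← this, mul_assoc _ P.1, e2, mul_one]
  change (P⁻¹).1 * x.1 * P.1 * ρ k = ρ k' * ((P⁻¹).1 * x.1 * P.1)
  calc (P⁻¹).1 * x.1 * P.1 * ρ k = (P⁻¹).1 * (x.1 * P0 * ρ k) * D := by
        rw [hP]; simp only [mul_assoc, D2]
    _ = ((P⁻¹).1 * P.1) * ρ k' * ((P⁻¹).1 * x.1 * (P0 * D)) := by rw [e3, e4]; simp only [mul_assoc]
    _ = _ := by rw [e1, one_mul, ← hP]

theorem not_norm (hn : 3 ≤ n) (ρ : L →ₐ[F] Matrix (Fin n) (Fin n) F) (h2 : finrank F L = 2) {y : GL (Fin n) F}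
    {c : F} (c0 : c ≠ 0) (φ : (Fin n → F) →ₗ[F] F) {u v₀ : Fin n → F} (u0 : u ≠ 0) (h0 : φ v₀ ≠ 0)
    (hy : ∀ v, y.1 *ᵥ v = c • v + φ v • u) : y ∉ subalgebraNormalizer ρ.range := fun h => by
  obtain ⟨w, -, -, hw, -⟩ := quad_gen h2
  have inj : ∀ (a b : L) (v), v ≠ 0 → ρ a *ᵥ v = ρ b *ᵥ v → a = b := fun a b v v0 e => by_contra fun k => v0 (by
    have : ρ (a - b) *ᵥ v = 0 := by rw [map_sub, sub_mulVec, e, sub_self]
    rw [← one_mulVec v, ← map_one ρ, ← inv_mul_cancel₀ (sub_ne_zero.2 k), map_mul, ← mulVec_mulVec, this, mulVec_zero])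
  obtain ⟨κ, hκ⟩ := (h (ρ w)).1 ⟨w, rfl⟩
  have e : ∀ v, y.1 *ᵥ (ρ w *ᵥ v) = ρ κ *ᵥ (y.1 *ᵥ v) := fun v => by
    rw [mulVec_mulVec, mulVec_mulVec, (Units.mul_inv_eq_iff_eq_mul y).1 hκ.symm]; rfl
  obtain ⟨v, v1, v0⟩ := Submodule.exists_mem_ne_zero_of_ne_bot
    (LinearMap.ker_ne_bot_of_finrank_lt (f := φ.prod (φ ∘ₗ (ρ w).mulVecLin)) (by simp; omega))
  simp only [LinearMap.mem_ker, LinearMap.prod_apply, Function.prod_apply, Prod.mk_eq_zero, LinearMap.comp_apply,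
    mulVecLin_apply] at v1
  have e1 := e v
  simp only [hy, v1, zero_smul, add_zero, mulVec_smul] at e1
  obtain rfl := inj _ _ v v0 (smul_right_injective _ c0 e1)
  have e2 := e v₀
  simp only [hy, mulVec_add, mulVec_smul, add_right_inj] at e2
  refine hw ((φ v₀)⁻¹ * φ (ρ w *ᵥ v₀)) (inj _ _ u u0 ?_)
  rw [ρ.commutes, Algebra.algebraMap_eq_smul_one, smul_mulVec, one_mulVec, mul_smul, e2, inv_smul_smul₀ h0]

theorem conj_norm' [Finite L] (hn : 0 < n) (ρ : L →ₐ[F] Matrix (Fin n) (Fin n) F) (x : SpecialLinearGroup (Fin n) F)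
    (e : (Fin n → F) ≃ₗ[F] (Fin n → F)) {w w' : L} (dec : ∀ k : L, ∃ s t : F, k = s • w + t • 1)
    (h : ∀ v, e.symm (x.1 *ᵥ e (ρ w *ᵥ v)) = ρ w' *ᵥ e.symm (x.1 *ᵥ e v)) :
    ∃ P : SpecialLinearGroup (Fin n) F, SpecialLinearGroup.toGL (P⁻¹ * x * P) ∈ subalgebraNormalizer ρ.range :=
  conj_norm hn ρ x e fun k => by
    obtain ⟨s, t, rfl⟩ := dec k
    exact ⟨s • w' + t • 1, fun v => by simp [add_mulVec, smul_mulVec, mulVec_add, mulVec_smul, h]⟩

theorem exists_anti {V : Type*} [AddCommGroup V] [Module F V] [FiniteDimensional F V] (h2 : (2 : F) ≠ 0)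
    {g : End F V} {z : F} (z0 : z ≠ 0) (hz : ∀ x, g (g x) = z • x) (hs : ¬ ∃ c : F, ∀ v, g v = c • v)
    (he : Even (finrank F V)) (hd : LinearMap.det g = 1) (hc : finrank F V = 2 ∨ ∀ c : F, c ^ finrank F V ≠ -1)
    (h0 : 0 < finrank F V) {ν : F} (hν : ¬ IsSquare ν) :
    ∃ (ω : End F V) (μ ε : F), ¬ IsSquare μ ∧ (∀ x, ω (ω x) = μ • x) ∧ ∀ x, g (ω x) = ε • ω (g x) := by
  by_cases h : IsSquare z
  swap
  · exact ⟨g, z, 1, h, hz, fun x => (one_smul F _).symm⟩
  obtain ⟨c, rfl⟩ := h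
  have k := compl_eig h2 (left_ne_zero_of_mul z0) hz
  have f1 := Submodule.finrank_add_eq_of_isCompl k
  have m1 : ∀ x : eigenspace g c, g x = c • (x : V) := fun x => mem_eigenspace_iff.1 x.2
  have m2 : ∀ x : eigenspace g (-c), g x = (-c) • (x : V) := fun x => mem_eigenspace_iff.1 x.2
  obtain ⟨I, v, ε, εε, hv⟩ : ∃ (I : Type) (v : Basis (I ⊕ I) F V) (ε : F), ε * ε = 1 ∧ ∀ i, ∃ d : F,
      g (v (.inl i)) = d • v (.inl i) ∧ g (v (.inr i)) = (ε * d) • v (.inr i) := by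
    rcases hc with hc | hc
    · have := mt (phi_eq_iff h0).1 hs
      have l1 := le_phi g c
      have l2 := le_phi g (-c)
      exact ⟨Fin 1, ((Module.finBasisOfFinrankEq F (eigenspace g c) (n := 1) (by omega)).prod
        (Module.finBasisOfFinrankEq F (eigenspace g (-c)) (n := 1) (by omega))).map
          (Submodule.prodEquivOfIsCompl _ _ k), -1, by simp, fun i => ⟨c, by simp [m1], by simp [m2]⟩⟩
    · have e := det_eig (((Module.finBasis F (eigenspace g c)).prod (Module.finBasis F (eigenspace g (-c)))).map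
        (Submodule.prodEquivOfIsCompl _ _ k)) (g := g) (c := Sum.elim (fun _ => c) fun _ => -c) (by
          rintro (i | i) <;> simp [m1, m2])
      simp only [hd, Fintype.prod_sum_type, Sum.elim_inl, Sum.elim_inr, Finset.prod_const, Finset.card_univ,
        Fintype.card_fin] at e
      obtain ⟨r, hr⟩ : Even (finrank F (eigenspace g (-c))) := by_contra fun o => hc c (by
        rw [(Nat.not_even_iff_odd.1 o).neg_pow, mul_neg, ← pow_add, f1] at e
        linear_combination e)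
      obtain ⟨s, hs⟩ : Even (finrank F (eigenspace g c)) := by
        obtain ⟨t, ht⟩ := he
        exact ⟨t - r, by omega⟩
      refine ⟨Fin s ⊕ Fin r, ((((Module.finBasisOfFinrankEq F _ hs).reindex finSumFinEquiv.symm).prod
        ((Module.finBasisOfFinrankEq F _ hr).reindex finSumFinEquiv.symm)).map
          (Submodule.prodEquivOfIsCompl _ _ k)).reindex (Equiv.sumSumSumComm _ _ _ _), 1, by simp, ?_⟩
      rintro (i | i)
      · exact ⟨c, by simp [m1], by simp [m1]⟩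
      · exact ⟨-c, by simp [m2], by simp [m2]⟩
  choose d d1 d2 using hv
  set ω := v.constr F (Sum.elim (fun i => v (.inr i)) fun i => ν • v (.inl i)) with hω
  have w1 : ∀ i, ω (v (.inl i)) = v (.inr i) := fun i => by simp [hω]
  have w2 : ∀ i, ω (v (.inr i)) = ν • v (.inl i) := fun i => by simp [hω]
  refine ⟨ω, ν, ε, hν, LinearMap.congr_fun (f := ω ∘ₗ ω) (g := ν • LinearMap.id) (v.ext ?_),
    LinearMap.congr_fun (f := g ∘ₗ ω) (g := ε • (ω ∘ₗ g)) (v.ext ?_)⟩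
  · rintro (i | i) <;> simp [w1, w2]
  · rintro (i | i)
    · simp [w1, d1, d2, smul_smul]
    · simp only [LinearMap.comp_apply, LinearMap.smul_apply, w2, d1, d2, smul_smul, map_smul]
      congr 1
      linear_combination (-d i * ν) * εε

theorem suff_odd [Finite L] (h2 : (2 : F) ≠ 0) (hn : 0 < n) (he : Even n) (ρ : L →ₐ[F] Matrix (Fin n) (Fin n) F)
    (hL : finrank F L = 2) (hc : n = 2 ∨ ∀ c : F, c ^ n ≠ -1) (x : SpecialLinearGroup (Fin n) F) {z : F} (z0 : z ≠ 0)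
    (hz : ∀ v, toLin' x.1 (toLin' x.1 v) = z • v) (hs : ¬ ∃ c : F, ∀ v, toLin' x.1 v = c • v) :
    ∃ P : SpecialLinearGroup (Fin n) F, SpecialLinearGroup.toGL (P⁻¹ * x * P) ∈ subalgebraNormalizer ρ.range := by
  obtain ⟨w, a, b, h1, h3, dec⟩ := quad_gen hL
  have f0 : 0 < finrank F (Fin n → F) := by simpa using hn
  have sq : ((2 : F) • w - a • 1) * ((2 : F) • w - a • 1) = (a * a + 4 * b) • (1 : L) := by
    simp only [mul_sub, sub_mul, smul_mul_assoc, mul_smul_comm, h3, mul_one, one_mul]; module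
  have ns : ¬ IsSquare (a * a + 4 * b) := fun ⟨d, hd⟩ => by
    have : ((2 : F) • w - a • 1 - d • 1) * ((2 : F) • w - a • 1 + d • 1) = 0 := by
      rw [mul_comm, ← mul_self_sub_mul_self, sq, hd]; simp [smul_smul]
    rcases mul_eq_zero.1 this with k | k
    · exact h1 (2⁻¹ * (a + d)) (smul_right_injective L h2 (by
        simp only [Algebra.algebraMap_eq_smul_one, smul_smul, mul_inv_cancel_left₀ h2]
        linear_combination (norm := module) k))
    · exact h1 (2⁻¹ * (a - d)) (smul_right_injective L h2 (by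
        simp only [Algebra.algebraMap_eq_smul_one, smul_smul, mul_inv_cancel_left₀ h2]
        linear_combination (norm := module) k))
  have dec' : ∀ k : L, ∃ s t : F, k = s • ((2 : F) • w - a • 1) + t • 1 := fun k => by
    obtain ⟨s, t, rfl⟩ := dec k
    exact ⟨s * 2⁻¹, t + s * 2⁻¹ * a, by rw [smul_sub, smul_smul, inv_mul_cancel_right₀ h2]; module⟩
  generalize (2 : F) • w - a • 1 = w₀ at sq dec'
  generalize a * a + 4 * b = ν at sq ns
  have ν0 : ν ≠ 0 := by rintro rfl; exact ns ⟨0, by simp⟩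
  have o1 : ∀ v, toLin' (ρ w₀) (toLin' (ρ w₀) v) = ν • v := fun v => by
    rw [toLin'_apply, toLin'_apply, mulVec_mulVec, ← map_mul, sq]; simp [smul_mulVec]
  obtain ⟨ω, μ, ε, k1, k2, k3⟩ := exists_anti h2 z0 hz hs (by simpa using he)
    (by rw [LinearMap.det_toLin', x.det_coe]) (by simpa using hc) f0 ns
  have μ0 : μ ≠ 0 := by rintro rfl; exact k1 ⟨0, by simp⟩
  have p : ∀ {g : End F (Fin n → F)} {z : F}, z ≠ 0 → ¬ IsSquare z → (∀ x, g (g x) = z • x) → phi g = 0 :=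
    fun z0 z1 hz => (phi_cases h2 f0 z0 hz).elim (·.1) fun ⟨c, k, _⟩ => absurd ⟨c, k⟩ z1
  obtain ⟨e, l, hl⟩ := conj_of_phi h2 f0 ν0 μ0 o1 k2 ((p ν0 ns o1).trans (p μ0 k1 k2).symm)
  have l0 : l ≠ 0 := by
    rintro rfl
    have := k2 (e fun _ => 1)
    rw [hl, zero_smul, map_zero] at this
    exact one_ne_zero (congrFun (e.map_eq_zero_iff.1 ((smul_eq_zero.1 this.symm).resolve_left μ0)) ⟨0, hn⟩)
  refine conj_norm' hn ρ x e dec' (w' := ε • w₀) fun v => smul_right_injective _ l0 (e.injective ?_)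
  have e1 := hl (e.symm (x.1 *ᵥ e v))
  have e2 := k3 (e v)
  rw [hl] at e2
  simp only [toLin'_apply, map_smul, e.apply_symm_apply, smul_mulVec] at e1 e2 ⊢
  rw [e2, e1, smul_comm]

theorem suff_two [Finite L] (h2 : (2 : F) = 0) (hn : n = 2) (ρ : L →ₐ[F] Matrix (Fin n) (Fin n) F)
    (hL : finrank F L = 2) (x : SpecialLinearGroup (Fin n) F) {z : F} (z0 : z ≠ 0)
    (hz : ∀ v, toLin' x.1 (toLin' x.1 v) = z • v) (hs : ¬ ∃ c : F, ∀ v, toLin' x.1 v = c • v) :
    ∃ P : SpecialLinearGroup (Fin n) F, SpecialLinearGroup.toGL (P⁻¹ * x * P) ∈ subalgebraNormalizer ρ.range := by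
  obtain ⟨w, a, b, h1, h3, dec⟩ := quad_gen hL
  have rc : ringChar F = 2 := ringChar.eq_iff.2 ((CharP.charP_iff_prime_eq_zero Nat.prime_two).2 (by exact_mod_cast h2))
  obtain ⟨c, rfl⟩ := FiniteField.isSquare_of_char_two rc z
  have c0 := left_ne_zero_of_mul z0
  have a0 : a ≠ 0 := by
    rintro rfl
    obtain ⟨d, rfl⟩ := FiniteField.isSquare_of_char_two rc b
    refine h1 d (sub_eq_zero.1 (mul_self_eq_zero.1 ?_))
    simp only [Algebra.algebraMap_eq_smul_one, mul_sub, sub_mul, smul_mul_assoc, mul_smul_comm, h3, mul_one, one_mul]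
    have : ((2 : F) * (d * d)) • (1 : L) - (2 * d) • w = 0 := by simp [h2]
    linear_combination (norm := module) this
  obtain ⟨u, hu⟩ : ∃ u, x.1 *ᵥ u - c • u ≠ 0 := by_contra fun k => by
    push Not at k
    exact hs ⟨c, fun v => sub_eq_zero.1 (k v)⟩
  simp only [toLin'_apply] at hz
  have t2 : ∀ v : Fin n → F, (2 : F) • v = 0 := fun v => by rw [h2, zero_smul]
  have x1 : x.1 *ᵥ (x.1 *ᵥ u - c • u) = c • (x.1 *ᵥ u - c • u) := by
    rw [mulVec_sub, hz, mulVec_smul]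
    linear_combination (norm := module) t2 ((c * c) • u - c • x.1 *ᵥ u)
  have l1 : LinearIndependent F ![(c * a)⁻¹ • (x.1 *ᵥ u - c • u), u] := LinearIndependent.pair_iff.2 fun s t k => by
    have e := congrArg (fun v => x.1 *ᵥ v - c • v) k
    simp only [mulVec_add, mulVec_smul, x1, mulVec_zero, smul_zero, sub_self] at e
    have t0 : t = 0 := (smul_eq_zero.1 (show t • (x.1 *ᵥ u - c • u) = 0 by
      linear_combination (norm := module) e)).resolve_right hu
    exact ⟨by simpa [t0, hu, c0, a0] using k, t0⟩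
  have l2 : LinearIndependent F ![u, ρ w *ᵥ u] := LinearIndependent.pair_iff.2 fun s t k => by
    have u0 : u ≠ 0 := by rintro rfl; simp at hu
    have t0 : t = 0 := by_contra fun t0 => h1 (-(t⁻¹ * s)) (sub_eq_zero.1 (by_contra fun e => u0 (by
      have : ρ (w - algebraMap F L (-(t⁻¹ * s))) *ᵥ u = 0 := by
        rw [map_sub, sub_mulVec, ρ.commutes, Algebra.algebraMap_eq_smul_one, smul_mulVec, one_mulVec, neg_smul,
          sub_neg_eq_add, mul_smul, eq_neg_of_add_eq_zero_left k, smul_neg, inv_smul_smul₀ t0, add_neg_cancel]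
      rw [← one_mulVec u, ← map_one ρ, ← inv_mul_cancel₀ e, map_mul, ← mulVec_mulVec, this, mulVec_zero])))
    exact ⟨by simpa [t0, u0] using k, t0⟩
  set b1 := basisOfLinearIndependentOfCardEqFinrank l1 (by simp [hn])
  set b2 := basisOfLinearIndependentOfCardEqFinrank l2 (by simp [hn])
  set e := b2.equiv b1 (Equiv.refl _) with he
  have e0 : e u = (c * a)⁻¹ • (x.1 *ᵥ u - c • u) := by
    rw [he]; simpa [b1, b2] using b2.equiv_apply 0 b1 (Equiv.refl _)
  have e1 : e (ρ w *ᵥ u) = u := by rw [he]; simpa [b1, b2] using b2.equiv_apply 1 b1 (Equiv.refl _)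
  have y0 : e.symm (x.1 *ᵥ e u) = c • u := by
    rw [LinearEquiv.symm_apply_eq, map_smul, e0, mulVec_smul, x1, smul_comm]
  have y1 : e.symm (x.1 *ᵥ e (ρ w *ᵥ u)) = (c * a) • u + c • ρ w *ᵥ u := by
    rw [LinearEquiv.symm_apply_eq, map_add, map_smul, map_smul, e0, e1, smul_inv_smul₀ (mul_ne_zero c0 a0),
      sub_add_cancel]
  have ww : ρ w *ᵥ (ρ w *ᵥ u) = a • ρ w *ᵥ u + b • u := by
    rw [mulVec_mulVec, ← map_mul, h3]; simp [add_mulVec, smul_mulVec]
  refine conj_norm' (by omega) ρ x e dec (w' := w + a • 1) (LinearMap.congr_fun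
    (f := e.symm.toLinearMap ∘ₗ toLin' x.1 ∘ₗ e.toLinearMap ∘ₗ toLin' (ρ w))
    (g := toLin' (ρ (w + a • 1)) ∘ₗ e.symm.toLinearMap ∘ₗ toLin' x.1 ∘ₗ e.toLinearMap) (b2.ext fun i => ?_))
  fin_cases i
  · simp [b2, y0, y1, add_mulVec, smul_mulVec, mulVec_smul]; module
  · simp [b2, y0, y1, ww, add_mulVec, smul_mulVec, mulVec_smul, mulVec_add]
    linear_combination (norm := module) -t2 ((c * a) • ρ w *ᵥ u)

end Cfsg.Agent.Classical.Inv
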