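import Cfsg.Agent.Lib.Classical.Inv5
import Cfsg.Agent.S0242

/-! Projective involutions and subfield subgroups. -/

set_option autoImplicit false

namespace Cfsg.Agent.Classical.Inv
open Module Module.End Matrix Cfsg.Geo

variable {F : Type*} [Field F] {n : ℕ} {F₀ : Subfield F}

theorem mem_sub {g : GL (Fin n) F} {c : F} (c0 : c ≠ 0) (h : ∀ i j, c⁻¹ * g.1 i j ∈ F₀) :
    g ∈ subfieldSubgroup F₀ 1 := by
  set M : Matrix (Fin n) (Fin n) F₀ := Matrix.of fun i j => ⟨_, h i j⟩ with hM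
  have e : F₀.subtype.mapMatrix M = c⁻¹ • g.1 := rfl
  have d : M.det ≠ 0 := fun k => by
    have := RingHom.map_det F₀.subtype M
    rw [k, map_zero, e, det_smul] at this
    exact mul_ne_zero (pow_ne_zero _ (inv_ne_zero c0)) g.det_ne_zero this.symm
  refine ⟨g, ?_, by simp⟩
  have : g = Units.map (Matrix.scalar (Fin n) : F →+* _).toMonoidHom (Units.mk0 c c0) *
      GeneralLinearGroup.map F₀.subtype (GeneralLinearGroup.mkOfDetNeZero M d) := Units.ext (by
    change g.1 = scalar (Fin n) c * F₀.subtype.mapMatrix M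
    rw [e, scalar_apply, ← smul_eq_diagonal_mul, smul_inv_smul₀ c0])
  rw [this]
  exact mul_mem (Subgroup.mem_sup_right ⟨_, rfl⟩) (Subgroup.mem_sup_left ⟨_, rfl⟩)

theorem of_mem_sub {g : GL (Fin n) F} (h : g ∈ subfieldSubgroup F₀ 1) :
    ∃ (c : Fˣ) (A : GL (Fin n) F₀), g.1 = (c : F) • (GeneralLinearGroup.map F₀.subtype A).1 := by
  obtain ⟨g, hg, rfl⟩ := h
  let T : Subgroup (GL (Fin n) F) :=
    { carrier := {g | ∃ (c : Fˣ) (A : GL (Fin n) F₀), g.1 = (c : F) • (GeneralLinearGroup.map F₀.subtype A).1}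
      mul_mem' := fun ⟨c, A, h⟩ ⟨d, B, k⟩ => ⟨c * d, A * B, by
        rw [Units.val_mul, h, k, map_mul, Units.val_mul, Units.val_mul, smul_mul_smul_comm]⟩
      one_mem' := ⟨1, 1, by simp⟩
      inv_mem' := fun {g} ⟨c, A, h⟩ => ⟨c⁻¹, A⁻¹, Units.inv_eq_of_mul_eq_one_right (by
        rw [h, smul_mul_smul_comm, ← Units.val_mul, ← Units.val_mul, ← map_mul]; simp)⟩ }
  have l : (GeneralLinearGroup.map (F₀.subtype : F₀ →+* F)).range ⊔ scalars (Fin n) F ≤ T := by
    refine sup_le ?_ fun g hg => ?_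
    · rintro _ ⟨A, rfl⟩
      exact ⟨1, A, by rw [Units.val_one, one_smul]⟩
    · obtain ⟨c, hc⟩ := (mem_scalars_iff g).1 hg
      exact ⟨c, 1, by rw [hc, map_one, Units.val_one]⟩
  obtain ⟨c, A, h⟩ := l hg
  exact ⟨c, A, by rw [← h]; simp⟩

theorem conj_sub (x : SpecialLinearGroup (Fin n) F) {I : Type} [Fintype I] (v : Basis I F (Fin n → F)) {c : F}
    (c0 : c ≠ 0) (hv : ∀ i j, c⁻¹ * v.repr (x.1 *ᵥ v j) i ∈ F₀)
    (hD : ∀ t, t ≠ 0 → ∃ s : I → F, ∏ i, s i = t ∧ ∀ i, v.constr F (fun i => s i • v i) (x.1 *ᵥ v i) = s i • x.1 *ᵥ v i) :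
    ∃ P : SpecialLinearGroup (Fin n) F, SpecialLinearGroup.toGL (P⁻¹ * x * P) ∈ subfieldSubgroup F₀ 1 := by
  have e : Fin n ≃ I := Fintype.equivOfCardEq (by simpa using finrank_eq_card_basis v)
  set E := (Pi.basisFun F (Fin n)).equiv v e with hE
  have t0 : LinearMap.det E.toLinearMap ≠ 0 := (LinearEquiv.isUnit_det' _).ne_zero
  obtain ⟨s, s1, s2⟩ := hD _ (inv_ne_zero t0)
  set D := v.constr F fun i => s i • v i with hD
  have d1 : LinearMap.det D = _ := (det_eig v (c := s) fun i => by rw [hD, Basis.constr_basis]).trans s1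
  have d2 : ∀ u, D (x.1 *ᵥ u) = x.1 *ᵥ D u := LinearMap.congr_fun (f := D ∘ₗ toLin' x.1) (g := toLin' x.1 ∘ₗ D)
    (v.ext fun i => by
      rw [LinearMap.comp_apply, LinearMap.comp_apply, toLin'_apply, toLin'_apply, s2, hD, Basis.constr_basis,
        mulVec_smul])
  obtain ⟨P, hP⟩ : ∃ P : SpecialLinearGroup (Fin n) F, P.1 = LinearMap.toMatrix' (D ∘ₗ E.toLinearMap) :=
    ⟨⟨_, by rw [LinearMap.det_toMatrix', LinearMap.det_comp, d1, inv_mul_cancel₀ t0]⟩, rfl⟩
  have p1 : ∀ u, P.1 *ᵥ u = D (E u) := fun u => by rw [hP, LinearMap.toMatrix'_mulVec]; rfl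
  have e1 : (P⁻¹).1 * P.1 = 1 := congrArg Subtype.val (inv_mul_cancel P)
  have y : ∀ u, ((P⁻¹).1 * x.1 * P.1) *ᵥ u = E.symm (x.1 *ᵥ E u) := fun u => by
    rw [← mulVec_mulVec, ← mulVec_mulVec, p1, ← d2, ← E.apply_symm_apply (x.1 *ᵥ E u), ← p1, mulVec_mulVec, e1,
      one_mulVec, E.symm_apply_apply]
  have Eb : ∀ j, E (Pi.single j 1) = v (e j) := fun j => by simpa using (Pi.basisFun F (Fin n)).equiv_apply j v e
  have q : ∀ i w, E.symm w i = v.repr w (e i) := fun i => LinearMap.congr_fun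
    (f := LinearMap.proj i ∘ₗ E.symm.toLinearMap) (g := v.coord (e i)) (v.ext fun l => by
      obtain ⟨l, rfl⟩ := e.surjective l
      have : E.symm (v (e l)) = Pi.single l 1 := by rw [← Eb, E.symm_apply_apply]
      by_cases k : i = l <;> simp [this, k, Finsupp.single_apply, Ne.symm])
  refine ⟨P, mem_sub c0 fun i j => ?_⟩
  have := congrFun (y (Pi.single j 1)) i
  rw [q, Eb, mulVec_single_one] at this
  have k := hv (e i) (e j)
  rw [← this] at k
  exact k

theorem det_comp (m : ℕ) (z : F) :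
    (fromBlocks 0 (z • 1) 1 0 : Matrix (Fin m ⊕ Fin m) (Fin m ⊕ Fin m) F).det = (-z) ^ m := by
  have : (fromBlocks 0 (z • 1) 1 0 : Matrix (Fin m ⊕ Fin m) (Fin m ⊕ Fin m) F) =
      fromBlocks 1 (-1) 0 1 * fromBlocks 1 0 1 1 * fromBlocks 1 (-1) 0 1 * fromBlocks 1 0 0 ((-z) • 1) := by
    simp [fromBlocks_multiply]
  rw [this, det_mul, det_mul, det_mul, det_fromBlocks_zero₂₁, det_fromBlocks_zero₁₂, det_fromBlocks_zero₂₁, det_smul]
  simp

theorem pow_sub_odd {a b k : ℕ} (h : b ≤ a) (ha : Odd a) (hb : Odd b) (hk : Odd k) :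
    ∃ o, Odd o ∧ a ^ k - b ^ k = (a - b) * o := by
  refine ⟨∑ i ∈ Finset.range k, a ^ i * b ^ (k - 1 - i), ?_, by rw [mul_comm, geom_sum₂_mul_of_ge h]⟩
  rw [Finset.odd_sum_iff_odd_card_odd, Finset.filter_true_of_mem fun _ _ => ha.pow.mul hb.pow, Finset.card_range]
  exact hk

theorem index_odd [Fintype F] (hn : 1 ≤ n) {k : ℕ} (hk : Odd k) (hq : Fintype.card F = Nat.card F₀ ^ k)
    (ho : Odd (Fintype.card F)) :
    ¬ 2 ∣ ((subfieldSubgroup F₀ 1).comap
      (SpecialLinearGroup.toGL : SpecialLinearGroup (Fin n) F →* GL (Fin n) F)).index := by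
  classical
  intro h
  set H := (subfieldSubgroup F₀ 1).comap (SpecialLinearGroup.toGL : SpecialLinearGroup (Fin n) F →* GL (Fin n) F)
  have d : Nat.card (SpecialLinearGroup (Fin n) F₀) ∣ Nat.card H := Subgroup.card_dvd_of_injective
    ((SpecialLinearGroup.map F₀.subtype).codRestrict H fun A => mem_sub one_ne_zero fun i j => by
      rw [inv_one, one_mul]; exact (A.1 i j).2) fun A B e => Subtype.ext (Matrix.ext fun i j => Subtype.ext
        (congrFun₂ (congrArg (fun x : H => x.1.1) e) i j))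
  have e := H.card_mul_index
  have e1 := S0242.result (F := F) hq n hn
  have e2 := S0242.result (F := F₀) Nat.card_eq_fintype_card.symm n hn
  generalize hq0 : Nat.card F₀ = q at e1 e2 hq
  have q2 : 1 < q := hq0 ▸ Finite.one_lt_card
  have qo : Odd q := (Nat.odd_pow_iff hk.pos.ne').1 (hq ▸ ho)
  obtain ⟨o, o1, o2⟩ := pow_sub_odd q2.le qo odd_one hk
  rw [one_pow] at o2
  choose f f1 f2 using fun i : Fin n => pow_sub_odd (Nat.pow_le_pow_right (by omega) i.2.le : q ^ (i : ℕ) ≤ q ^ n)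
    qo.pow qo.pow hk
  simp only [pow_right_comm q k, f2, Finset.prod_mul_distrib, ← e2, o2, mul_assoc] at e1
  have e3 := Nat.eq_of_mul_eq_mul_left (by omega) e1
  obtain ⟨a, ha⟩ := d
  obtain ⟨b, hb⟩ := h
  rw [← e, ha, hb, mul_assoc, mul_left_comm] at e3
  have e4 := Nat.eq_of_mul_eq_mul_left Nat.card_pos e3
  exact (Finset.prod_induction _ Odd (fun _ _ => Odd.mul) odd_one fun i _ => f1 i).not_two_dvd_nat ⟨o * a * b, by rw [← e4]; ring⟩

end Cfsg.Agent.Classical.Inv
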