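import Cfsg.Agent.Lib.Classical.Inv7

/-! Projective involutions and subfield subgroups, the cases. -/

set_option autoImplicit false

namespace Cfsg.Agent.Classical.Inv
open Module Module.End Matrix Cfsg.Geo

variable {F : Type*} [Field F] {n : ℕ} {F₀ : Subfield F}

theorem sub_odd (h2 : (2 : F) ≠ 0) (hn : 0 < n) (x : SpecialLinearGroup (Fin n) F) {c : F} (c0 : c ≠ 0)
    (hz : ∀ u, toLin' x.1 (toLin' x.1 u) = (c * c) • u) :
    ∃ P : SpecialLinearGroup (Fin n) F, SpecialLinearGroup.toGL (P⁻¹ * x * P) ∈ subfieldSubgroup F₀ 1 := by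
  classical
  have k := compl_eig h2 c0 hz
  have m1 : ∀ y : eigenspace (toLin' x.1) c, x.1 *ᵥ y = c • (y : Fin n → F) := fun y => mem_eigenspace_iff.1 y.2
  have m2 : ∀ y : eigenspace (toLin' x.1) (-c), x.1 *ᵥ y = (-c) • (y : Fin n → F) := fun y => mem_eigenspace_iff.1 y.2
  obtain ⟨a, b, v, hv⟩ : ∃ (a b : ℕ) (v : Basis (Fin a ⊕ Fin b) F (Fin n → F)), ∀ i, x.1 *ᵥ v i = c • v i ∨
      x.1 *ᵥ v i = (-c) • v i := ⟨_, _, ((Module.finBasis F (eigenspace (toLin' x.1) c)).prod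
        (Module.finBasis F (eigenspace (toLin' x.1) (-c)))).map (Submodule.prodEquivOfIsCompl _ _ k), by
      rintro (i | i)
      · left; simp [m1]
      · right; simp [m2]⟩
  have ne : Nonempty (Fin a ⊕ Fin b) := Fintype.card_pos_iff.1 (by
    rw [← finrank_eq_card_basis v]; simpa using hn)
  obtain ⟨i0⟩ := ne
  refine conj_sub x v c0 (fun i j => ?_) fun t _ => ⟨Function.update 1 i0 t, by simp [Finset.prod_update_of_mem], fun i => ?_⟩
  · rcases hv j with h | h <;> rw [h] <;> by_cases e : j = i <;> simp [e, Finsupp.single_apply, c0]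
  · rcases hv i with h | h <;> rw [h, map_smul, Basis.constr_basis, smul_comm]

theorem sub_two [Fintype F] (h2 : ringChar F = 2) (hn : 0 < n) (x : SpecialLinearGroup (Fin n) F) {c : F} (c0 : c ≠ 0)
    (hz : ∀ u, toLin' x.1 (toLin' x.1 u) = (c * c) • u) :
    ∃ P : SpecialLinearGroup (Fin n) F, SpecialLinearGroup.toGL (P⁻¹ * x * P) ∈ subfieldSubgroup F₀ 1 := by
  classical
  have hz' : ∀ u, (c⁻¹ • toLin' x.1) ((c⁻¹ • toLin' x.1) u) = (1 : F) • u := fun u => by
    rw [LinearMap.smul_apply, LinearMap.smul_apply, map_smul, hz, smul_smul, smul_smul]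
    congr 1
    field_simp
  obtain ⟨k, r, b, b1, b2⟩ := exists_mono' one_ne_zero hz'
  have w : ∀ u, x.1 *ᵥ u = c • (c⁻¹ • toLin' x.1) u := fun u => by
    rw [LinearMap.smul_apply, smul_inv_smul₀ c0, toLin'_apply]
  generalize c⁻¹ • toLin' x.1 = g at hz' b1 b2 w
  choose e he using b2
  have sq : ∀ i, e i = 1 ∨ e i = -1 := fun i => mul_self_eq_one_iff.1 (smul_left_injective F (b.ne_zero (.inr i)) (by
      simp only [← hz', he, map_smul, smul_smul]))
  have b3 : ∀ i, g (b (.inl (.inr i))) = b (.inl (.inl i)) := fun i => by rw [← b1, hz', one_smul]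
  have cd := finrank_eq_card_basis b
  simp only [Fintype.card_sum, Fintype.card_fin, finrank_fin_fun] at cd
  refine conj_sub x b c0 (fun i j => ?_) fun t _ => ?_
  · rw [w, map_smul, Finsupp.smul_apply, smul_eq_mul, inv_mul_cancel_left₀ c0]
    rcases j with (j | j) | j
    · rw [b1, b.repr_self, Finsupp.single_apply]; split_ifs <;> simp
    · rw [b3, b.repr_self, Finsupp.single_apply]; split_ifs <;> simp
    · rw [he, map_smul, b.repr_self, Finsupp.smul_apply, Finsupp.single_apply]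
      rcases sq j with h | h <;> split_ifs <;> simp [h]
  · obtain ⟨f, h, hf⟩ : ∃ (f : Fin k → F) (h : Fin r → F), (∏ i, f i) * (∏ i, f i) * ∏ i, h i = t := by
      rcases Nat.eq_zero_or_pos k with k0 | k0
      · exact ⟨1, Function.update 1 ⟨0, by omega⟩ t, by simp [Finset.prod_update_of_mem]⟩
      · obtain ⟨s, rfl⟩ := FiniteField.isSquare_of_char_two h2 t
        exact ⟨Function.update 1 ⟨0, k0⟩ s, 1, by simp [Finset.prod_update_of_mem]⟩
    refine ⟨Sum.elim (Sum.elim f f) h, by simpa [Fintype.prod_sum_type] using hf, ?_⟩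
    rintro ((j | j) | j)
    · rw [w, b1, map_smul, Basis.constr_basis, smul_comm]; rfl
    · rw [w, b3, map_smul, Basis.constr_basis, smul_comm]; rfl
    · rw [w, he, map_smul, map_smul, Basis.constr_basis]; module

theorem nsq_det [Fintype F] (x : SpecialLinearGroup (Fin n) F) {z : F} (z1 : ¬ IsSquare z)
    (hz : ∀ u, toLin' x.1 (toLin' x.1 u) = z • u) : ∃ k, n = 2 * k ∧ (-z) ^ k = 1 := by
  classical
  have z0 : z ≠ 0 := fun h => z1 ⟨0, by simp [h]⟩
  obtain ⟨k, r, b, b1, b2⟩ := exists_mono' z0 hz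
  choose e he using b2
  haveI : IsEmpty (Fin r) := ⟨fun i => z1 ⟨e i, smul_left_injective F (b.ne_zero (.inr i)) (by
      simp only [← hz, he, map_smul, smul_smul])⟩⟩
  have b3 : ∀ i, toLin' x.1 (b (.inl (.inr i))) = z • b (.inl (.inl i)) := fun i => by rw [← b1, hz]
  have cd := finrank_eq_card_basis (b.reindex (Equiv.sumEmpty _ _))
  simp only [Fintype.card_sum, Fintype.card_fin, finrank_fin_fun] at cd
  refine ⟨k, by omega, ?_⟩
  rw [← det_comp, ← x.det_coe, ← LinearMap.det_toLin' x.1, ← LinearMap.det_toMatrix (b.reindex (Equiv.sumEmpty _ _))]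
  congr 1
  generalize toLin' x.1 = g at b1 b3
  ext (i | i) (j | j) <;> simp [LinearMap.toMatrix_apply, b1, b3, Finsupp.single_apply, Matrix.one_apply, eq_comm]

theorem pow_half {y : F} {k N : ℕ} (k0 : k ≠ 0) (N0 : N ≠ 0) (h : padicValNat 2 (2 * k) ≤ padicValNat 2 N)
    (h1 : y ^ k = 1) (h2 : y ^ N = 1) : y ^ (N / 2) = 1 := by
  obtain ⟨e, he⟩ := orderOf_dvd_of_pow_eq_one h2
  rcases Nat.even_or_odd e with ⟨f, rfl⟩ | o
  · exact orderOf_dvd_iff_pow_eq_one.1 ⟨f, by rw [he, ← two_mul, mul_left_comm, Nat.mul_div_cancel_left _ two_pos]⟩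
  · rw [padicValNat.mul two_ne_zero k0, padicValNat_self, add_comm, ← padicValNat_dvd_iff_le N0, he] at h
    exact absurd ((Nat.Coprime.dvd_of_dvd_mul_right (Nat.Coprime.pow_left _ (Nat.coprime_two_left.2 o)) h).trans
      (orderOf_dvd_of_pow_eq_one h1)) (pow_succ_padicValNat_not_dvd k0)

theorem exists_w [Fintype F] (h2 : ringChar F ≠ 2) {m : ℕ} (h : 2 ^ padicValNat 2 (Fintype.card F - 1) ∣ m) :
    ∃ w : F, ¬ IsSquare w ∧ w ^ m = 1 := by
  obtain ⟨y, hy⟩ := FiniteField.exists_nonsquare h2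
  have y0 : y ≠ 0 := fun h => hy ⟨0, by simp [h]⟩
  have N0 : Fintype.card F - 1 ≠ 0 := by have := Fintype.one_lt_card (α := F); omega
  obtain ⟨u, hu⟩ : 2 ^ padicValNat 2 (Fintype.card F - 1) ∣ Fintype.card F - 1 := pow_padicValNat_dvd
  obtain ⟨l, rfl⟩ := h
  rcases Nat.even_or_odd u with ⟨f, rfl⟩ | ⟨j, rfl⟩
  · exact absurd ⟨f, hu.trans (by ring)⟩ (pow_succ_padicValNat_not_dvd (p := 2) N0)
  · refine ⟨y ^ (2 * j + 1), fun ⟨s, hs⟩ => hy ⟨s / y ^ j, ?_⟩, ?_⟩
    · field_simp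
      linear_combination hs
    · rw [← pow_mul, ← mul_assoc, mul_comm (2 * j + 1), ← hu, pow_mul, FiniteField.pow_card_sub_one_eq_one y y0, one_pow]

theorem sub_sq [Fintype F] (h2 : ringChar F ≠ 2) (hq : Fintype.card F = Nat.card F₀ ^ 2) (ho : Odd (Fintype.card F))
    (a : F₀) : IsSquare (a : F) := by
  classical
  by_cases a0 : a = 0
  · exact ⟨0, by simp [a0]⟩
  have e := congrArg (fun t : F₀ => (t : F)) (FiniteField.pow_card_sub_one_eq_one a a0)
  rw [← Nat.card_eq_fintype_card] at e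
  obtain ⟨j, hj⟩ := (Nat.odd_pow_iff two_ne_zero).1 (hq ▸ ho)
  rw [FiniteField.isSquare_iff h2 (by simpa using a0), hq]
  rw [hj] at e ⊢
  have : (2 * j + 1) ^ 2 / 2 = (2 * j + 1 - 1) * (j + 1) := by
    rw [show (2 * j + 1) ^ 2 = 1 + 2 * (2 * j * (j + 1)) by ring, Nat.add_mul_div_left _ _ two_pos]; simp
  rw [this, pow_mul]
  simp only [SubmonoidClass.coe_pow, OneMemClass.coe_one] at e
  rw [e, one_pow]

end Cfsg.Agent.Classical.Inv
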