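import Cfsg.Agent.Lib.Classical.Inv8
import Cfsg.Agent.Lib.Perm.Un1

/-! Unipotent elements of order three and subfield subgroups. -/

set_option autoImplicit false

namespace Cfsg.Agent.Classical.Inv
open Module Matrix Cfsg.Geo Polynomial Cfsg.Agent.Perm.Cj

variable {F : Type*} [Field F] {n : ℕ} {F₀ : Subfield F}

theorem jbasis {N : End F (Fin n → F)} (h : N ^ 3 = 0) : ∃ (ι : Type) (_ : Fintype ι) (d : ι → ℕ)
    (b : Basis ((k : ι) × Fin (d k + 1)) F (Fin n → F)), (∀ k, d k + 1 ≤ 3) ∧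
      ∀ k j, N (b ⟨k, j⟩) = 0 ∨ ∃ l, N (b ⟨k, j⟩) = b ⟨k, l⟩ := by
  classical
  obtain ⟨ι, _, d, H⟩ := exists_nil_mdl ⟨3, h⟩
  have h3 := (mdl_pow H.symm 3).1 h
  obtain ⟨E, hE⟩ := H.symm
  let b := Pi.basis fun k => (AdjoinRoot.powerBasis' (monic_X_pow (R := F) (d k + 1))).basis.reindex
    (finCongr (natDegree_X_pow _))
  have hb : ∀ k j, b ⟨k, j⟩ = Pi.single k (AdjoinRoot.root _ ^ j.1) := fun k j => by
    simp [b]; rfl
  have ms : ∀ k (a : AdjoinRoot ((X : F[X]) ^ (d k + 1))), mdl (fun i => (X : F[X]) ^ (d i + 1)) (Pi.single k a) =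
      Pi.single k (AdjoinRoot.root _ * a) := fun k a =>
    (Pi.single_mul_right (f := rt fun i => (X : F[X]) ^ (d i + 1)) a).symm
  refine ⟨ι, inferInstance, d, b.map E, h3, fun k j => ?_⟩
  rw [Basis.map_apply, ← hE, hb, ms, ← pow_succ']
  by_cases e : j.1 + 1 < d k + 1
  · exact .inr ⟨⟨_, e⟩, by rw [Basis.map_apply, hb]⟩
  · left
    rw [show j.1 + 1 = d k + 1 by omega, ← AdjoinRoot.mk_X, ← map_pow, AdjoinRoot.mk_self]; simp

theorem conj_sub2 (x : SpecialLinearGroup (Fin n) F) {I : Type} [Fintype I] (v : Basis I F (Fin n → F)) {c : F}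
    (c0 : c ≠ 0) (hD : ∀ t, t ≠ 0 → ∃ s : I → F, ∏ i, s i = t ∧
      ∀ i j, c⁻¹ * ((s i)⁻¹ * v.repr (x.1 *ᵥ v j) i * s j) ∈ F₀) :
    ∃ P : SpecialLinearGroup (Fin n) F, SpecialLinearGroup.toGL (P⁻¹ * x * P) ∈ subfieldSubgroup F₀ 1 := by
  have e : I ≃ Fin n := (Fintype.equivOfCardEq (by simpa using finrank_eq_card_basis v)).symm
  set w := v.reindex e with hw
  set B := (Pi.basisFun F (Fin n)).toMatrix w
  set M := LinearMap.toMatrix w w (toLin' x.1) with hM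
  have b1 : B * M = x.1 * B := by
    rw [basis_toMatrix_mul_linearMap_toMatrix, ← linearMap_toMatrix_mul_basis_toMatrix w (Pi.basisFun F (Fin n))]
    simp [B]
  have b0 : B.det ≠ 0 := ((Pi.basisFun F (Fin n)).isUnit_det w).ne_zero
  obtain ⟨s, s1, s2⟩ := hD _ (inv_ne_zero b0)
  have s0 : ∀ i, s i ≠ 0 := fun i => Finset.prod_ne_zero_iff.1 (s1 ▸ inv_ne_zero b0) i (Finset.mem_univ _)
  obtain ⟨P, hP⟩ : ∃ P : SpecialLinearGroup (Fin n) F, P.1 = B * diagonal fun i => s (e.symm i) :=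
    ⟨⟨_, by rw [det_mul, det_diagonal, e.symm.prod_comp, s1, mul_inv_cancel₀ b0]⟩, rfl⟩
  have e1 : (P⁻¹).1 * P.1 = 1 := congrArg Subtype.val (inv_mul_cancel P)
  have y : x.1 * P.1 = P.1 * Matrix.of fun i j => (s (e.symm i))⁻¹ * M i j * s (e.symm j) := by
    rw [hP, ← mul_assoc, ← b1, mul_assoc, mul_assoc]
    congr 1
    ext i j
    rw [mul_diagonal, diagonal_mul, of_apply, mul_assoc, mul_inv_cancel_left₀ (s0 _)]
  refine ⟨P, mem_sub c0 fun i j => ?_⟩
  change c⁻¹ * ((P⁻¹).1 * x.1 * P.1) i j ∈ F₀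
  rw [mul_assoc, y, ← mul_assoc, e1, one_mul, of_apply, hM, LinearMap.toMatrix_apply, hw, Basis.reindex_apply,
    Basis.repr_reindex_apply, toLin'_apply]
  exact s2 _ _

theorem key3 {m : ℕ} {P y : Matrix (Fin m ⊕ Fin m) (Fin m ⊕ Fin m) F} {W : Matrix (Fin m) (Fin m) F} (hP : P.det = 1)
    (h : fromBlocks 1 0 W 1 * P = P * y) (hy : ∀ i j, y i j ∈ F₀) : ∃ a : F, a ≠ 0 ∧ a * (W.det * a) ∈ F₀ := by
  classical
  obtain ⟨κ, g, -, g1, g2⟩ := exists_linearIndependent' F fun j : Fin m ⊕ Fin m => fun i : Fin m => P (.inl i) j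
  have sp : Submodule.span F (Set.range fun j : Fin m ⊕ Fin m => fun i : Fin m => P (.inl i) j) = ⊤ :=
    eq_top_iff.2 fun u _ => by
      obtain ⟨r, hr⟩ := (mulVec_surjective_iff_isUnit.2 ((isUnit_iff_isUnit_det P).2 (hP ▸ isUnit_one))) (Sum.elim u 0)
      refine (Submodule.mem_span_range_iff_exists_fun F).2 ⟨r, funext fun i => ?_⟩
      simpa [mulVec, dotProduct, mul_comm] using congrFun hr (.inl i)
  haveI : Fintype κ := (g2.finite_of_isNoetherian |> fun h => @Fintype.ofFinite κ h)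
  have e : Fin m ≃ κ := Fintype.equivOfCardEq (by
    simpa using finrank_eq_card_basis (Basis.mk g2 (g1.trans sp).ge))
  set U : Matrix (Fin m ⊕ Fin m) (Fin m) F := Matrix.of fun i j => if i = g (e j) then 1 else 0 with hU
  have pu : ∀ i j, (P * U) i j = P i (g (e j)) := fun i j => by simp [hU, mul_apply]
  have a0 : IsUnit (P * U).toRows₁ := linearIndependent_cols_iff_isUnit.1 (by
    have : (P * U).toRows₁.col = ((fun j i => P (Sum.inl i) j) ∘ g) ∘ e := funext fun j => funext fun i => pu _ _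
    rw [this]
    exact g2.comp e e.injective)
  have e1 : P * fromCols U ((y - 1) * U) = fromBlocks (P * U).toRows₁ 0 (P * U).toRows₂ (W * (P * U).toRows₁) := by
    rw [mul_fromCols, ← Matrix.mul_assoc, Matrix.mul_sub, ← h, Matrix.mul_one, Matrix.sub_mul, Matrix.mul_assoc]
    generalize P * U = Z
    rw [← fromRows_toRows Z, fromBlocks_mul_fromRows]
    ext (i | i) (j | j) <;> simp
  have e2 := congrArg det e1
  rw [det_mul, hP, one_mul, det_fromBlocks_zero₁₂, det_mul] at e2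
  refine ⟨_, ((isUnit_iff_isUnit_det _).1 a0).ne_zero, e2 ▸ ?_⟩
  have u : ∀ i j, U i j ∈ F₀ := fun i j => by rw [hU, of_apply]; split_ifs <;> simp
  rw [det_apply']
  refine sum_mem fun σ _ => mul_mem (intCast_mem _ _) (prod_mem fun j _ => ?_)
  rcases j with j | j
  · exact u _ _
  · rw [fromCols_apply_inr, mul_apply]
    refine sum_mem fun l _ => mul_mem (sub_mem (hy _ _) ?_) (u _ _)
    rw [Matrix.one_apply]; split_ifs <;> simp

theorem sq_mul [Fintype F] (h2 : ringChar F ≠ 2) {k : ℕ} (hk : Odd k) (hq : Fintype.card F = Nat.card F₀ ^ k)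
    {t : F} (t0 : t ≠ 0) : ∃ σ a : F, a ∈ F₀ ∧ σ ^ 2 * a = t := by
  classical
  by_cases s : IsSquare t
  · obtain ⟨r, rfl⟩ := s
    exact ⟨r, 1, one_mem _, by ring⟩
  have ho : Odd (Fintype.card F) := Nat.odd_iff.2 (FiniteField.odd_card_of_char_ne_two h2)
  have qo : Odd (Nat.card F₀) := (Nat.odd_pow_iff hk.pos.ne').1 (hq ▸ ho)
  have h0 : ringChar F₀ ≠ 2 := fun h => by
    have := FiniteField.even_card_of_char_two h
    rw [← Nat.card_eq_fintype_card] at this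
    obtain ⟨j, hj⟩ := qo
    omega
  obtain ⟨a, ha⟩ := FiniteField.exists_nonsquare h0
  have a0 : a ≠ 0 := fun h => ha ⟨0, by simp [h]⟩
  have a1 := (FiniteField.pow_dichotomy h0 a0).resolve_left fun h => ha ((FiniteField.isSquare_iff h0 a0).2 h)
  have t1 := (FiniteField.pow_dichotomy h2 t0).resolve_left fun h => s ((FiniteField.isSquare_iff h2 t0).2 h)
  obtain ⟨o, o1, o2⟩ := pow_sub_odd (b := 1) (Nat.card_pos (α := F₀)) qo odd_one hk
  rw [← Nat.card_eq_fintype_card] at a1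
  have a2 : (a : F) ^ (Nat.card F₀ / 2) = -1 := by simpa using congrArg (fun t : F₀ => (t : F)) a1
  have e : Fintype.card F / 2 = Nat.card F₀ / 2 * o := by
    obtain ⟨j, hj⟩ := qo
    obtain ⟨l, hl⟩ := ho
    rw [← hq, hl, hj, one_pow, Nat.add_sub_cancel, Nat.add_sub_cancel, mul_assoc] at o2
    rw [hl, hj, show (2 * j + 1) / 2 = j by omega]
    omega
  have a3 : (a : F) ≠ 0 := by simpa using a0
  obtain ⟨r, hr⟩ := (FiniteField.isSquare_iff h2 (mul_ne_zero t0 a3)).2 (by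
    rw [mul_pow, t1, e, pow_mul, a2, o1.neg_one_pow]; ring)
  exact ⟨r / a, a, a.2, by field_simp; linear_combination -hr⟩

theorem suff3 [Fintype F] [CharP F 3] (hn : 0 < n) (x : SpecialLinearGroup (Fin n) F) {z : F}
    (hz : x.1 ^ 3 = z • (1 : Matrix (Fin n) (Fin n) F))
    (H : Odd n ∨ ∀ t : F, t ≠ 0 → ∃ σ a : F, a ∈ F₀ ∧ σ ^ 2 * a = t) :
    ∃ P : SpecialLinearGroup (Fin n) F, SpecialLinearGroup.toGL (P⁻¹ * x * P) ∈ subfieldSubgroup F₀ 1 := by
  classical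
  haveI : Fact (Nat.Prime 3) := ⟨Nat.prime_three⟩
  have cb : ∀ t : F, ∃ c, c ^ 3 = t := fun t => surjective_frobenius F 3 t
  have h3 : (3 : F) = 0 := by exact_mod_cast CharP.cast_eq_zero F 3
  obtain ⟨c, rfl⟩ := cb z
  have c0 : c ≠ 0 := fun h => by
    have d := congrArg det hz
    haveI : Nonempty (Fin n) := ⟨⟨0, hn⟩⟩
    rw [det_pow, x.det_coe, h, zero_pow three_ne_zero, zero_smul, det_zero, one_pow] at d
    exact one_ne_zero d
  have xx : ∀ u, x.1 *ᵥ x.1 *ᵥ x.1 *ᵥ u = c ^ 3 • u := fun u => by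
    rw [mulVec_mulVec, mulVec_mulVec, ← sq, ← pow_succ, hz, smul_mulVec, one_mulVec]
  obtain ⟨N, hN⟩ : ∃ N : End F (Fin n → F), ∀ u, x.1 *ᵥ u = c • (u + N u) :=
    ⟨c⁻¹ • toLin' x.1 - 1, fun u => by simp [smul_smul, c0]⟩
  have n3 : N ^ 3 = 0 := LinearMap.ext fun u => smul_right_injective _ (pow_ne_zero 3 c0) (by
    have := xx u
    simp only [hN, map_add, map_smul] at this
    have e : (N ^ 3) u = N (N (N u)) := rfl
    simp only [e, LinearMap.zero_apply]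
    linear_combination (norm := module) this - h3 • (c ^ 3 • (N u + N (N u))))
  obtain ⟨ι, _, d, b, b1, b2⟩ := jbasis n3
  have cd := finrank_eq_card_basis b
  simp only [Fintype.card_sigma, Fintype.card_fin, finrank_fin_fun] at cd
  refine conj_sub2 x b c0 fun t t0 => ?_
  obtain ⟨k, σ, a, a1, a2⟩ : ∃ (k : ι) (σ a : F), a ∈ F₀ ∧ σ ^ (d k + 1) * a = t := by
    by_cases e : ∃ k, d k ≠ 1
    · obtain ⟨k, e⟩ := e
      have := b1 k
      obtain ⟨r, hr⟩ := cb t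
      rcases (by omega : d k = 0 ∨ d k = 2) with e | e
      · exact ⟨k, t, 1, one_mem _, by simp [e]⟩
      · exact ⟨k, r, 1, one_mem _, by simp [e, hr]⟩
    · push Not at e
      simp only [e, Finset.sum_const, Finset.card_univ, smul_eq_mul] at cd
      obtain ⟨k⟩ : Nonempty ι := Fintype.card_pos_iff.1 (by omega)
      obtain ⟨σ, a, h⟩ := H.resolve_left (fun ⟨j, hj⟩ => by omega) t t0
      exact ⟨k, σ, a, by rw [e]; exact h⟩
  have σ0 : σ ≠ 0 := fun h => t0 (by simp [← a2, h])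
  obtain ⟨f, f0, f1⟩ : ∃ f : ι → F, (∀ i, f i ≠ 0) ∧ ∏ i, f i ^ (d i + 1) = σ ^ (d k + 1) :=
    ⟨Function.update 1 k σ, fun i => by by_cases e : i = k <;> simp [e, σ0], by
      rw [Finset.prod_eq_single k (fun i _ e => by simp [e]) (by simp)]; simp⟩
  obtain ⟨g, g0, g1⟩ : ∃ g : ((k : ι) × Fin (d k + 1)) → F, (∀ i, g i ∈ F₀) ∧ ∏ i, g i = a :=
    ⟨Function.update 1 ⟨k, 0⟩ a, fun i => by by_cases e : i = ⟨k, 0⟩ <;> simp [e, a1], by
      simp [Finset.prod_update_of_mem]⟩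
  refine ⟨fun i => f i.1 * g i, by rw [Finset.prod_mul_distrib, g1, Fintype.prod_sigma, ← a2, ← f1]; simp, ?_⟩
  have q : ∀ (i : (k : ι) × Fin (d k + 1)) l (j j' : Fin (d l + 1)),
      (f i.1 * g i)⁻¹ * b.repr (b ⟨l, j'⟩) i * (f l * g ⟨l, j⟩) ∈ F₀ := fun i l j j' => by
    rw [b.repr_self, Finsupp.single_apply]
    split_ifs with e
    · subst e
      have : (f l * g ⟨l, j'⟩)⁻¹ * 1 * (f l * g ⟨l, j⟩) = (g ⟨l, j'⟩)⁻¹ * g ⟨l, j⟩ := by
        rw [mul_one, mul_inv, mul_mul_mul_comm, inv_mul_cancel₀ (f0 l), one_mul]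
      exact this ▸ mul_mem (inv_mem (g0 _)) (g0 _)
    · simp
  rintro i ⟨l, j⟩
  rw [hN, map_smul, Finsupp.smul_apply, smul_eq_mul, mul_left_comm _ c, mul_assoc c, inv_mul_cancel_left₀ c0, map_add,
    Finsupp.add_apply, mul_add, add_mul]
  refine add_mem (q _ _ _ _) ?_
  rcases b2 l j with e | ⟨j', e⟩ <;> rw [e]
  · simp
  · exact q _ _ _ _

end Cfsg.Agent.Classical.Inv
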