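import Cfsg.Agent.Lib.Classical.SpUE
import Cfsg.Agent.Lib.Classical.Lin1
import Cfsg.Agent.S0242

/-! Low-dimensional isomorphisms of orthogonal groups. -/

set_option autoImplicit false

namespace Cfsg.Agent.Classical

open Module Matrix

variable {F : Type*} [Field F] {V : Type*} [AddCommGroup V] [Module F V] {G : Type*} [Group G]
  {L : Type*} [Field L] [Algebra F L] {n : Type*} [Fintype n] [DecidableEq n]

theorem exists_hom_mat (Φ : Form (Kind.orth F) V) (a b : G →* Matrix n n L) (A : V →ₗ[F] Matrix n n L)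
    (hA : Function.Injective A) (h : ∀ g v, ∃ w, A w = a g * A v * (b g)ᵀ ∧ Φ.N w = Φ.N v) :
    ∃ φ : G →* Φ.Isom, ∀ g v, A ((φ g).1 v) = a g * A v * (b g)ᵀ := by
  choose f h1 h2 using h
  have m : ∀ g g' v, f (g * g') v = f g (f g' v) := fun g g' v => hA (by simp [h1, Matrix.mul_assoc])
  have o : ∀ v, f 1 v = v := fun v => hA (by simp [h1])
  let e : G → V ≃ₗ[F] V := fun g =>
    { toFun := f g
      invFun := f g⁻¹
      map_add' := fun u v => hA (by simp [h1, mul_add, add_mul])
      map_smul' := fun c v => hA (by simp [h1])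
      left_inv := fun v => by rw [← m]; simp [o]
      right_inv := fun v => by rw [← m]; simp [o] }
  exact ⟨MonoidHom.mk' (fun g => ⟨e g, Form.mem_Isom_orth.2 (h2 g)⟩)
    fun g g' => Subtype.ext (LinearEquiv.ext (m g g')), h1⟩

theorem iso_POmega [Finite F] [FiniteDimensional F V] [Finite G] [Nonempty n] {Φ : Form (Kind.orth F) V}
    (hΦ : Φ.Nondeg) (hG : Φ.Good) (hn : 3 ≤ finrank F V) (a b : G →* Matrix n n L) (A : V →ₗ[F] Matrix n n L)
    (hA : Function.Injective A) (h : ∀ g v, ∃ w, A w = a g * A v * (b g)ᵀ ∧ Φ.N w = Φ.N v)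
    (hab : ∀ g g', a g = a g' → b g = b g' → g = g')
    (h1 : commutator G = ⊤ ∨ (2 : F) ≠ 0 ∧ ∀ S : Subgroup G, (∀ g, g ^ 4 ∈ S) → S = ⊤)
    (h2 : ∀ g (c : F), c = 1 ∨ c = -1 ∧ Even (finrank F V) → (∀ v, a g * A v * (b g)ᵀ = c • A v) →
      ∃ d e : L, a g = d • 1 ∧ b g = e • 1 ∧ (c = 1 → e = d ∧ d * d = 1))
    (hc : Nat.card Φ.Isom = 2 * Nat.card G) :
    Nonempty ((commutator Φ.Isom ⧸ Subgroup.center (commutator Φ.Isom)) ≃* G ⧸ Subgroup.center G) := by
  obtain ⟨φ, hφ⟩ := exists_hom_mat Φ a b A hA h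
  have k1 : ∀ g, φ g ∈ commutator Φ.Isom := by
    rcases h1 with h1 | ⟨h1, h1'⟩
    · intro g
      have : g ∈ commutator G := h1 ▸ trivial
      exact (Subgroup.map_commutator _ _ φ).le.trans (Subgroup.commutator_mono le_top le_top) ⟨g, this, rfl⟩
    · have := h1' ((commutator Φ.Isom).comap φ) fun g => by
        rw [Subgroup.mem_comap, map_pow, ← Form.index_commutator_odd hΦ h1 (by omega)]
        exact Subgroup.pow_index_mem _ _
      exact fun g => (this ▸ trivial : g ∈ (commutator Φ.Isom).comap φ)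
  let ψ := φ.codRestrict _ k1
  have k2 : ∀ g : ψ.ker, ∃ d : L, d * d = 1 ∧ a g = d • 1 ∧ b g = d • 1 := fun g => by
    obtain ⟨d, e, p, q, r⟩ := h2 g 1 (.inl rfl) fun v => by
      rw [← hφ, show φ g = 1 from congrArg Subtype.val g.2, one_smul]; rfl
    exact ⟨d, (r rfl).2, p, (r rfl).1 ▸ q⟩
  choose d d1 d2 d3 using k2
  have d4 : Function.Injective d := fun g g' k => Subtype.ext (hab _ _ (by rw [d2, d2, k]) (by rw [d3, d3, k]))
  haveI := Module.finite_of_finite F (M := V)
  haveI : Finite (V ≃ₗ[F] V) := Finite.of_injective _ DFunLike.coe_injective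
  have k3 := ψ.ker.card_mul_index
  rw [Subgroup.index_ker] at k3
  have k4 := (commutator Φ.Isom).card_mul_index
  have k5 : 2 * Nat.card ψ.ker ≤ (commutator Φ.Isom).index := by
    by_cases t : (2 : F) = 0
    · have t' : (2 : L) = 0 := by rw [← map_ofNat (algebraMap F L), t, map_zero]
      have e : ∀ g, d g = 1 := fun g => (mul_self_eq_one_iff.1 (d1 g)).elim id fun k => by
        linear_combination k - t'
      haveI : Subsingleton ψ.ker := ⟨fun g g' => d4 (by rw [e, e])⟩
      rw [hG.index_commutator_of_two hΦ t (by omega), Nat.card_unique]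
    · classical
      rw [Form.index_commutator_odd hΦ t (by omega)]
      have := Nat.card_le_card_of_injective (β := ({1, -1} : Finset L))
        (fun g => ⟨d g, by simpa using mul_self_eq_one_iff.1 (d1 g)⟩) fun g g' k => d4 (congrArg Subtype.val k)
      have := Finset.card_le_two (a := (1 : L)) (b := -1)
      rw [Nat.card_eq_fintype_card (α := ({1, -1} : Finset L)), Fintype.card_coe] at *
      omega
  have k6 : Function.Surjective ψ := MonoidHom.range_eq_top.1 (Subgroup.eq_top_of_le_card _ (by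
    have := Nat.card_pos (α := ψ.ker)
    refine Nat.le_of_mul_le_mul_right (c := 2 * Nat.card ψ.ker) ?_ (by omega)
    calc _ ≤ _ := Nat.mul_le_mul_left _ k5
      _ = _ := by rw [k4, hc, ← k3]; ring))
  refine (nonempty_central_quot ψ k6 (le_antisymm (fun g hg => ?_) (center_le_comap_center ψ k6))).map
    MulEquiv.symm
  have : ∃ c : F, (c = 1 ∨ c = -1 ∧ Even (finrank F V)) ∧ ∀ v, (φ g).1 v = c • v := by
    rcases (hG.mem_center_omega hΦ hn).1 hg with k | k
    · exact ⟨1, .inl rfl, fun v => by rw [one_smul]; exact DFunLike.congr_fun k v⟩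
    refine ⟨-1, ?_, fun v => by rw [neg_one_smul]; exact DFunLike.congr_fun k v⟩
    by_cases t : (2 : F) = 0
    · exact .inl (by linear_combination -t)
    refine .inr ⟨rfl, Nat.not_odd_iff_even.1 fun o => ?_⟩
    rw [center_omega_odd hΦ o hn] at hg
    haveI := Module.nontrivial_of_finrank_pos (R := F) (M := V) (by omega)
    obtain ⟨v, hv⟩ := exists_ne (0 : V)
    have := DFunLike.congr_fun k v
    rw [show ψ g = 1 from hg] at this
    exact hv ((smul_eq_zero.1 (by rw [two_smul]; exact add_eq_zero_iff_eq_neg.2 this)).resolve_left t)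
  obtain ⟨c, c1, c2⟩ := this
  obtain ⟨d, e, p, q, -⟩ := h2 g c c1 fun v => by rw [← hφ, c2, map_smul]
  exact Subgroup.mem_center_iff.2 fun x => hab _ _ (by simp [p]) (by simp [q])

theorem SL_four (h : (2 : F) ≠ 0) [Nontrivial n] (S : Subgroup (SpecialLinearGroup n F)) (k : ∀ g, g ^ 4 ∈ S) :
    S = ⊤ := eq_top_iff.2 fun g _ => Lin.transvection_induction (· ∈ S) (fun i j hij c => by
  have h4 : (4 : F) ≠ 0 := by rw [show (4 : F) = 2 * 2 by norm_num]; exact mul_ne_zero h h
  convert k (SpecialLinearGroup.transvection hij (c / 4)) using 1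
  simp only [pow_succ, pow_zero, one_mul, ← SpecialLinearGroup.transvection_add]
  congr 1; field_simp; ring) (fun _ _ => mul_mem) g

theorem exists_algebra_of_card {K : Type*} [Field K] [Fintype F] [Fintype K]
    (h : Fintype.card K = Fintype.card F ^ 2) : ∃ _ : Algebra F K, finrank F K = 2 := by
  obtain ⟨K', _, _, _, hK⟩ := exists_quad_ext F
  cases nonempty_fintype K'
  letI := ((FiniteField.ringEquivOfCardEq (K := K') (K' := K) (by
    rw [h, Module.card_eq_pow_finrank (K := F), hK])).toRingHom.comp (algebraMap F K')).toAlgebra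
  refine ⟨this, Nat.pow_right_injective (Fintype.one_lt_card (α := F)) ?_⟩
  simp only [← h, ← Module.card_eq_pow_finrank]

theorem card_SL_two [Fintype F] : (Nat.card (SpecialLinearGroup (Fin 2) F) : ℤ) =
    Nat.card F * (Nat.card F ^ 2 - 1) := by
  have := S0242.result (F := F) rfl 2 (by norm_num)
  have k : ∀ a b, a ≤ b → Fintype.card F ^ a ≤ Fintype.card F ^ b := fun _ _ => Nat.pow_le_pow_right Fintype.card_pos
  have k1 := Fintype.one_lt_card (α := F)
  simp only [Fin.prod_univ_two, Fin.val_zero, Fin.val_one] at this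
  zify [k 0 2 (by norm_num), k 1 2 (by norm_num), k1.le] at this k1
  rw [Nat.card_eq_fintype_card (α := F)]
  exact mul_left_cancel₀ (sub_pos.2 k1).ne' (by rw [this]; ring)

theorem card_SL_four [Fintype F] : (Nat.card (SpecialLinearGroup (Fin 4) F) : ℤ) =
    Nat.card F ^ 6 * (Nat.card F ^ 2 - 1) * (Nat.card F ^ 3 - 1) * (Nat.card F ^ 4 - 1) := by
  have := S0242.result (F := F) rfl 4 (by norm_num)
  have k : ∀ a b, a ≤ b → Fintype.card F ^ a ≤ Fintype.card F ^ b := fun _ _ => Nat.pow_le_pow_right Fintype.card_pos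
  have k1 := Fintype.one_lt_card (α := F)
  simp only [Fin.prod_univ_four, Fin.val_zero, Fin.val_one, Fin.val_two, show ((3 : Fin 4) : ℕ) = 3 from rfl] at this
  zify [k 0 4 (by norm_num), k 1 4 (by norm_num), k 2 4 (by norm_num), k 3 4 (by norm_num), k1.le] at this k1
  rw [Nat.card_eq_fintype_card (α := F)]
  exact mul_left_cancel₀ (sub_pos.2 k1).ne' (by rw [this]; ring)

open SpecialLinearGroup in
theorem iso_three [Fintype F] (h2 : (2 : F) ≠ 0) :
    Nonempty (POmega F (quadFormOdd 1 F) ≃* ProjectiveSpecialLinearGroup (Fin 2) F) := by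
  have hΦ := oddForm_nondeg 1 h2
  let A : (Unit ⊕ (Fin 1 ⊕ Fin 1) → F) →ₗ[F] Matrix (Fin 2) (Fin 2) F :=
    { toFun := fun v => !![v (.inr (.inl 0)), v (.inl ()); v (.inl ()), -v (.inr (.inr 0))]
      map_add' := fun u v => by simp [add_comm]
      map_smul' := fun c v => by simp }
  have hA : ∀ v, A v = !![v (.inr (.inl 0)), v (.inl ()); v (.inl ()), -v (.inr (.inr 0))] := fun _ => rfl
  have k : ∀ v, (oddForm 1 F).N v = -(A v).det := fun v => by simp [oddForm_N, quadFormOdd, hA]; ring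
  have k1 : ∀ Y : Matrix (Fin 2) (Fin 2) F, Y 1 0 = Y 0 1 → ∃ w, A w = Y := fun Y h =>
    ⟨Sum.elim (fun _ => Y 0 1) (Sum.elim (fun _ => Y 0 0) fun _ => -Y 1 1), by
      rw [Matrix.eta_fin_two Y]; simp [hA, h]⟩
  obtain ⟨e⟩ := nonempty_POmega (oddForm 1 F)
  refine (iso_POmega hΦ (Form.good_of_two hΦ h2) (by simp) coeMonoidHom coeMonoidHom A
    ((injective_iff_map_eq_zero _).2 fun v h => ?_) (fun g v => ?_) (fun _ _ h _ => Subtype.ext h)
    (.inr ⟨h2, SL_four h2⟩) (fun g c hc h => ?_) ?_).map e.trans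
  · simp only [hA, ← Matrix.ext_iff, Fin.forall_fin_two] at h
    ext (_ | i | i)
    · simp_all
    all_goals obtain rfl := Subsingleton.elim i 0; simp_all
  · obtain ⟨w, hw⟩ := k1 (g.1 * A v * g.1ᵀ) (by simp [hA, Matrix.mul_apply, Fin.sum_univ_two]; ring)
    exact ⟨w, hw, by simp [k, hw]⟩
  · obtain rfl : c = 1 := hc.resolve_right (by simp; exact fun _ => by decide)
    obtain ⟨u, hu⟩ := k1 !![1, 0; 0, 0] rfl
    obtain ⟨v, hv⟩ := k1 !![0, 0; 0, 1] rfl
    have a := h u
    have b := h v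
    have d := g.2
    simp only [hu, hv, ← Matrix.ext_iff, Fin.forall_fin_two, det_fin_two] at a b d
    simp [Matrix.mul_apply, Fin.sum_univ_two] at a b
    have : g.1 = g 0 0 • (1 : Matrix _ _ F) := by
      ext i j; fin_cases i <;> fin_cases j <;> simp [a.2.2, b.1.1]
      grind
    exact ⟨_, _, this, this, fun _ => ⟨rfl, a.1.1⟩⟩
  · zify
    rw [card_orth_odd 1 _ hΦ (by simp), card_SL_two]
    simp [Nat.cast_sub (Nat.one_le_pow _ _ (Fintype.card_pos (α := F)))]; ring

theorem nonempty_prod_center (G H : Type*) [Group G] [Group H] : Nonempty (((G × H) ⧸ Subgroup.center (G × H)) ≃*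
    (G ⧸ Subgroup.center G) × (H ⧸ Subgroup.center H)) :=
  ⟨QuotientGroup.liftEquiv _ (φ := (QuotientGroup.mk' _).prodMap (QuotientGroup.mk' _))
    ((QuotientGroup.mk'_surjective _).prodMap (QuotientGroup.mk'_surjective _))
    (by rw [MonoidHom.ker_prodMap, Subgroup.center_prod]; simp)⟩

theorem commutator_prod_top {G H : Type*} [Group G] [Group H] (h : commutator G = ⊤) (h' : commutator H = ⊤) :
    commutator (G × H) = ⊤ := by
  rw [commutator_def, ← Subgroup.top_prod_top, Subgroup.commutator_prod_prod, ← commutator_def, ← commutator_def, h, h']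

open SpecialLinearGroup in
theorem iso_four_plus [Fintype F] (h3 : 3 ≤ Fintype.card F) : Nonempty (POmega F (quadFormPlus 2 F) ≃*
    ProjectiveSpecialLinearGroup (Fin 2) F × ProjectiveSpecialLinearGroup (Fin 2) F) := by
  have hΦ := plusForm_nondeg (F := F) 2
  let A : (Fin 2 ⊕ Fin 2 → F) →ₗ[F] Matrix (Fin 2) (Fin 2) F :=
    { toFun := fun v => !![v (.inl 0), v (.inl 1); -v (.inr 1), v (.inr 0)]
      map_add' := fun u v => by simp [add_comm]
      map_smul' := fun c v => by simp }
  have hA : ∀ v, A v = !![v (.inl 0), v (.inl 1); -v (.inr 1), v (.inr 0)] := fun _ => rfl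
  have k : ∀ v, (plusForm 2 F).N v = (A v).det := fun v => by simp [plusForm_N, quadFormPlus, hA]
  have k1 : ∀ Y : Matrix (Fin 2) (Fin 2) F, ∃ w, A w = Y := fun Y =>
    ⟨Sum.elim ![Y 0 0, Y 0 1] ![Y 1 1, -Y 1 0], by rw [Matrix.eta_fin_two Y]; simp [hA]⟩
  obtain ⟨e⟩ := nonempty_POmega (plusForm 2 F)
  obtain ⟨e'⟩ := nonempty_prod_center (SpecialLinearGroup (Fin 2) F) (SpecialLinearGroup (Fin 2) F)
  refine (iso_POmega (G := SpecialLinearGroup (Fin 2) F × SpecialLinearGroup (Fin 2) F) hΦ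
    (Form.good_of_card hΦ (.inl (by omega))) (by simp) (coeMonoidHom.comp (MonoidHom.fst _ _))
    (coeMonoidHom.comp (MonoidHom.snd _ _)) A ((injective_iff_map_eq_zero _).2 fun v h => ?_) (fun g v => ?_)
    (fun _ _ h h' => Prod.ext (Subtype.ext h) (Subtype.ext h')) ?_ (fun g c hc h => ?_) ?_).map
    fun x => (e.trans x).trans e'
  · simp only [hA, ← Matrix.ext_iff, Fin.forall_fin_two] at h
    ext (i | i) <;> fin_cases i <;> simp_all
  · obtain ⟨w, hw⟩ := k1 (g.1.1 * A v * g.2.1ᵀ)
    exact ⟨w, hw, by simp [k, hw]⟩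
  · by_cases h2 : (2 : F) = 0
    · obtain ⟨l, l0, l1⟩ := exists_sq_ne_one (F := F) (by
        have := mt two_ne_zero_of_odd (not_not.2 h2)
        rw [Nat.odd_iff] at this; omega)
      exact .inl (commutator_prod_top (SL2.commutator_eq_top l0 l1) (SL2.commutator_eq_top l0 l1))
    refine .inr ⟨h2, fun S k => eq_top_iff.2 fun g _ => ?_⟩
    have a := SL_four h2 (S.comap (MonoidHom.inl _ _)) fun g => by simpa using k (g, 1)
    have b := SL_four h2 (S.comap (MonoidHom.inr _ _)) fun g => by simpa using k (1, g)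
    simpa using S.mul_mem (a ▸ trivial : g.1 ∈ S.comap (MonoidHom.inl _ _))
      (b ▸ trivial : g.2 ∈ S.comap (MonoidHom.inr _ _))
  · have c0 : c ≠ 0 := by rcases hc with rfl | ⟨rfl, -⟩ <;> simp
    obtain ⟨u, hu⟩ := k1 !![1, 0; 0, 0]
    obtain ⟨v, hv⟩ := k1 !![0, 1; 0, 0]
    obtain ⟨w, hw⟩ := k1 !![0, 0; 1, 0]
    have a := h u
    have b := h v
    have d := h w
    have d' := g.1.2
    simp only [hu, hv, hw, ← Matrix.ext_iff, Fin.forall_fin_two, det_fin_two] at a b d d'
    simp [Matrix.mul_apply, Fin.sum_univ_two] at a b d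
    have p : g.1.1 = g.1 0 0 • (1 : Matrix _ _ F) := by
      ext i j; fin_cases i <;> fin_cases j <;> simp <;> grind
    have q : g.2.1 = g.2 0 0 • (1 : Matrix _ _ F) := by
      ext i j; fin_cases i <;> fin_cases j <;> simp <;> grind
    exact ⟨_, _, p, q, fun _ => by grind⟩
  · zify
    rw [card_orth_even (.inl rfl) 1 _ hΦ (plusForm_isType 2), Nat.card_prod, Nat.cast_mul, card_SL_two]
    simp; ring

end Cfsg.Agent.Classical
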