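import Cfsg.Agent.Lib.Classical.Wt2

/-! Products of two conjugates of a regular semisimple element in `SL₃`. -/
set_option autoImplicit false

namespace Cfsg.Agent.Classical.LU3
open Matrix

section
variable {R : Type*} [CommRing R]

def Lm (a b c : R) : SpecialLinearGroup (Fin 3) R := ⟨!![1, 0, 0; a, 1, 0; b, c, 1], by simp [det_fin_three]⟩
def Um (a b c : R) : SpecialLinearGroup (Fin 3) R := ⟨!![1, a, b; 0, 1, c; 0, 0, 1], by simp [det_fin_three]⟩

theorem lu (M : SpecialLinearGroup (Fin 3) R) (h0 : M.1 0 0 = 1) (h1 : M.1 1 0 = 1)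
    (h2 : M.1 1 1 - M.1 0 1 = 1) : ∃ l m a b c, M = Lm 1 l m * Um a b c := by
  have hd := M.2
  rw [det_fin_three, h0, h1] at hd
  refine ⟨M.1 2 0, M.1 2 1 - M.1 2 0 * M.1 0 1, M.1 0 1, M.1 0 2, M.1 1 2 - M.1 0 2, Subtype.ext ?_⟩
  show M.1 = (Lm _ _ _).1 * (Um _ _ _).1
  ext i j
  fin_cases i <;> fin_cases j <;> simp [Lm, Um, h0, h1]
  · linear_combination h2
  · linear_combination hd - (M.1 2 2 - M.1 0 2 * M.1 2 0) * h2

def cert : List ℕ := [138215574, 141935661, 132901164, 216175563, 216175806, 135252189, 184783365, 137006163, 216774801, 186377688, 185669100, 51076746, 178086771, 133463466, 139875507, 131997933, 177555573, 215924058, 174723165, 175077459, 228024729, 183189042, 137397636, 174412611, 222727815, 174574449, 141528879, 224369577, 216403497, 217459332, 51730659, 228652398, 136923057, 138318606, 225315279, 54100719, 186364566, 137909394, 51125346, 50140710, 131875461, 139851450, 180868635, 227674809, 175947885, 174716604, 50401206, 136514574, 48557322, 227189295, 129830616, 221828310, 142410483,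 176085018, 181383363, 175010148, 172877337, 182320803, 48124296, 135059733, 54584046, 138421152, 183812337, 186371127, 176230251, 132317235, 216507987, 222861222, 186408306, 228545235, 220228317, 131365890, 174710043, 48861315, 184700502, 183565206, 219663828, 218994606, 138412647, 137955564, 51420348, 138217761, 181395702, 224383374, 135892980, 136424421, 136955862, 222730002, 136754658, 179742330, 186373314, 216048717, 221514030, 183184668, 226349487, 140196996, 184778991, 227943810, 141791319, 174725352, 131737680, 217890171, 216177750, 173190078, 130202406, 132000120, 174655368, 181715004, 224371035, 216403254, 217459818, 50142897, 227058075, 138668283, 226049220, 138318363, 225315036, 186360192, 180179730, 223049304, 48552948, 228429324, 140231988, 138320793, 48415410, 184407201, 174718791, 184265046, 224457732, 51732846, 136183851, 130152105, 180870822, 219456063, 178467309, 181380447, 175009662, 172877580, 216510174, 49705497, 135420588, 138421395, 183812580, 178099245, 186366753, 135672093, 224761725,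 177693111, 136336941, 140207931, 54581859, 182476323, 228845097, 174712230, 51997473, 140387265, 182322990, 130881780, 130167414, 228540861, 219309534, 180002583, 138219948, 185640021, 228627693, 183186855, 219967821, 135403092, 131995746, 136778715, 141561684, 186375501, 141881229, 49534911, 216173376, 140739372, 140026410, 222732189, 186397371, 180374373, 174720978, 185918418, 143274105, 135895167, 141426333, 129972771, 184781178, 174506652, 50011677, 224368119, 216403011, 217459575, 48555135, 225463752, 135083790, 180873009, 139730517, 229367547, 186362379, 175302720, 219867462, 51728472, 227320515, 227655126, 226047033, 186115248, 135781443, 174714417, 180304632, 226119852, 50145084, 220682970, 130001202, 138329541, 174874311, 130830021, 181381905, 175009905, 172877823, 177695298, 51306381, 135269685, 228543048, 142860114, 183073131, 186368940, 222349464, 217586178, 182318616, 176503869, 186320826, 138430143, 227543589, 220335237, 174707856, 50330979, 184608405, 180540585, 225823959, 130016511, 54586233,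 228189240, 182546064]

def dec (n : ℕ) : Matrix (Fin 3) (Fin 3) (ZMod 3) := of fun i j => ((n / 3 ^ (3 * i.val + j.val) % 3 : ℕ) : ZMod 3)
def dt (A : Matrix (Fin 3) (Fin 3) (ZMod 3)) : ZMod 3 :=
  A 0 0 * A 1 1 * A 2 2 - A 0 0 * A 1 2 * A 2 1 - A 0 1 * A 1 0 * A 2 2 + A 0 1 * A 1 2 * A 2 0 +
    A 0 2 * A 1 0 * A 2 1 - A 0 2 * A 1 1 * A 2 0
def X3 (R : Type*) [CommRing R] : SpecialLinearGroup (Fin 3) R := ⟨!![0, 0, 1; 0, 1, 0; -1, 0, 0], by simp [det_fin_three]⟩
def ce (l m a b c : ZMod 3) : ℕ := cert.getD (81 * l.val + 27 * m.val + 9 * a.val + 3 * b.val + c.val) 0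

theorem chk : ∀ l m a b c : ZMod 3, dt (dec (ce l m a b c)) = 1 ∧ dt (dec (ce l m a b c / 19683)) = 1 ∧
    (Lm 1 l m).1 * (Um a b c).1 * dec (ce l m a b c) * dec (ce l m a b c / 19683) =
      dec (ce l m a b c) * (X3 _).1 * dec (ce l m a b c / 19683) * (X3 _).1 := by decide +kernel

theorem three (l m a b c : ZMod 3) : ∃ u v, Lm 1 l m * Um a b c = (u * X3 _ * u⁻¹) * (v * X3 _ * v⁻¹) := by
  obtain ⟨h1, h2, h3⟩ := chk l m a b c
  let u : SpecialLinearGroup (Fin 3) (ZMod 3) := ⟨_, (det_fin_three _).trans h1⟩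
  let w : SpecialLinearGroup (Fin 3) (ZMod 3) := ⟨_, (det_fin_three _).trans h2⟩
  have : Lm 1 l m * Um a b c * u * w = u * X3 _ * w * X3 _ := Subtype.ext h3
  refine ⟨u, u * w, ?_⟩
  rw [show Lm 1 l m * Um a b c = u * X3 _ * w * X3 _ * (u * w)⁻¹ by rw [← this]; group]; group

def Dm {s t : R} (h : s * t = 1) : SpecialLinearGroup (Fin 3) R := ⟨!![s, 0, 0; 0, 1, 0; 0, 0, t], by
  simp [det_fin_three, h]⟩
end

variable {F : Type*} [Field F]

theorem big {s t : F} (h : s * t = 1) (h1 : s - 1 ≠ 0) (h2 : s + 1 ≠ 0) (l m a b c : F) :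
    ∃ u v, Lm 1 l m * Um a b c = (u * Dm h * u⁻¹) * (v * Dm h * v⁻¹) := by
  have h3 := mul_ne_zero h1 h2
  obtain ⟨x, hx⟩ : ∃ x, x * (s - 1) = s := ⟨_, div_mul_cancel₀ _ h1⟩
  obtain ⟨y, hy⟩ : ∃ y, y * ((s - 1) * (s + 1)) = s * (l * s + m * x) := ⟨_, div_mul_cancel₀ _ h3⟩
  obtain ⟨z, hz⟩ : ∃ z, z * (s - 1) = s * m := ⟨_, div_mul_cancel₀ _ h1⟩
  obtain ⟨x', hx'⟩ : ∃ x, x * (s - 1) = a := ⟨_, div_mul_cancel₀ _ h1⟩
  obtain ⟨z', hz'⟩ : ∃ z, z * (s - 1) = c := ⟨_, div_mul_cancel₀ _ h1⟩
  obtain ⟨y', hy'⟩ : ∃ y, y * ((s - 1) * (s + 1)) = a * z' + b := ⟨_, div_mul_cancel₀ _ h3⟩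
  have e1 : Lm 1 l m * Dm h * Lm x y z = Lm x y z * Dm h := by
    apply Subtype.ext
    show (Lm _ _ _).1 * (Dm _).1 * (Lm _ _ _).1 = (Lm _ _ _).1 * (Dm _).1
    ext i j
    fin_cases i <;> fin_cases j <;> simp [Lm, Dm]
    · linear_combination -hx
    · linear_combination -t * hy + (y * s - l * s - m * x) * h
    · linear_combination -t * hz + (z - m) * h
  let r : SpecialLinearGroup (Fin 3) F := ⟨!![0, 0, 1; 0, -1, 0; 1, 0, 0], by simp [det_fin_three]⟩
  have e2 : Um a b c * Um x' y' z' * r = Dm h * Um x' y' z' * r * Dm h := by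
    apply Subtype.ext
    show (Um _ _ _).1 * (Um _ _ _).1 * r.1 = (Dm _).1 * (Um _ _ _).1 * r.1 * (Dm _).1
    ext i j
    fin_cases i <;> fin_cases j <;> simp [Um, Dm, r, h, mul_comm t s]
    · linear_combination -hy'
    · linear_combination hx'
    · linear_combination -hz'
  refine ⟨Lm x y z, Um x' y' z' * r, ?_⟩
  rw [← e1, show Um a b c = Dm h * Um x' y' z' * r * Dm h * (Um x' y' z' * r)⁻¹ by rw [← e2]; group]; group


end Cfsg.Agent.Classical.LU3
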