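import Mathlib

namespace Cfsg.Agent.Classical.Lat

variable {G : Type*} [Group G]

theorem exists_coatom_ge [Finite G] (K : Subgroup G) (hK : K ≠ ⊤) : ∃ M : Subgroup G, IsCoatom M ∧ K ≤ M := by
  rcases eq_top_or_exists_le_coatom K with h | h
  · exact absurd h hK
  · exact h

theorem compl_of_interval [Finite G] (T X M : Subgroup G)
    (hTX : T ≤ X)
    (hint : ∀ Y : Subgroup G, T ≤ Y → Y ≤ X → ∃ C : Subgroup G, T ≤ C ∧ C ≤ X ∧ Y ⊔ C = X ∧ Y ⊓ C = T)
    (huniq : ∀ M' : Subgroup G, IsCoatom M' → X ≤ M' → M' = M)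
    (H : Subgroup G) (hH : ¬ H ≤ M) :
    ∃ C : Subgroup G, T ≤ C ∧ H ⊔ C = ⊤ ∧ H ⊓ C = H ⊓ T := by
  obtain ⟨C, hTC, hCX, hsup, hinf⟩ := hint ((H ⊓ X) ⊔ T) le_sup_right (sup_le inf_le_right hTX)
  refine ⟨C, hTC, ?_, ?_⟩
  · by_contra hne
    obtain ⟨M', hM', hle⟩ := exists_coatom_ge _ hne
    have hX : X ≤ H ⊔ C := by
      rw [← hsup]
      exact sup_le (sup_le (inf_le_left.trans le_sup_left) (hTC.trans le_sup_right)) le_sup_right
    have := huniq M' hM' (hX.trans hle)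
    subst this
    exact hH (le_sup_left.trans hle)
  · apply le_antisymm
    · refine le_inf inf_le_left ?_
      rw [← hinf]
      exact le_inf ((le_inf inf_le_left (inf_le_right.trans hCX)).trans le_sup_left) inf_le_right
    · exact le_inf inf_le_left (inf_le_right.trans hTC)

/-- conjugated version -/
theorem compl_of_interval_conj [Finite G] (T X M : Subgroup G)
    (hTX : T ≤ X)
    (hint : ∀ Y : Subgroup G, T ≤ Y → Y ≤ X → ∃ C : Subgroup G, T ≤ C ∧ C ≤ X ∧ Y ⊔ C = X ∧ Y ⊓ C = T)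
    (huniq : ∀ M' : Subgroup G, IsCoatom M' → X ≤ M' → M' = M)
    (H : Subgroup G) (e : G ≃* G) (hH : ¬ H ≤ M.map e.toMonoidHom) :
    ∃ C : Subgroup G, T.map e.toMonoidHom ≤ C ∧ H ⊔ C = ⊤ ∧ H ⊓ C = H ⊓ T.map e.toMonoidHom := by
  have h1 : ¬ H.map e.symm.toMonoidHom ≤ M := by
    intro h
    apply hH
    intro x hx
    exact ⟨e.symm x, h ⟨x, hx, rfl⟩, by simp⟩
  obtain ⟨C, hTC, hsup, hinf⟩ := compl_of_interval T X M hTX hint huniq _ h1
  have hHe : (H.map e.symm.toMonoidHom).map e.toMonoidHom = H := by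
    rw [Subgroup.map_map]
    convert Subgroup.map_id H
    ext x; simp
  refine ⟨C.map e.toMonoidHom, Subgroup.map_mono hTC, ?_, ?_⟩
  · rw [← hHe, ← Subgroup.map_sup, hsup]
    exact Subgroup.map_top_of_surjective _ e.surjective
  · conv_lhs => rw [← hHe]
    conv_rhs => rw [← hHe]
    rw [← Subgroup.map_inf _ _ _ e.injective, ← Subgroup.map_inf _ _ _ e.injective, hinf]

/-- interval `[⊥, X]` from a complemented lattice of `X` -/
theorem interval_of_compl (X : Subgroup G) (hK : ComplementedLattice (Subgroup X))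
    (Y : Subgroup G) (hY : Y ≤ X) : ∃ C : Subgroup G, C ≤ X ∧ Y ⊔ C = X ∧ Y ⊓ C = ⊥ := by
  obtain ⟨C, hC⟩ := exists_isCompl (Y.subgroupOf X)
  have hYm : (Y.subgroupOf X).map X.subtype = Y := Subgroup.map_subgroupOf_eq_of_le hY
  refine ⟨C.map X.subtype, Subgroup.map_subtype_le _, ?_, ?_⟩
  · rw [← hYm, ← Subgroup.map_sup, hC.sup_eq_top, ← MonoidHom.range_eq_map, Subgroup.range_subtype]
  · rw [← hYm, ← Subgroup.map_inf _ _ _ X.subtype_injective, hC.inf_eq_bot, Subgroup.map_bot]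

/-- interval `[N, X]` from a complemented lattice of `X/N` -/
theorem interval_of_quot (X N : Subgroup G) (hNX : N ≤ X) [(N.subgroupOf X).Normal]
    (hK : ComplementedLattice (Subgroup (X ⧸ N.subgroupOf X)))
    (Y : Subgroup G) (hNY : N ≤ Y) (hY : Y ≤ X) :
    ∃ C : Subgroup G, N ≤ C ∧ C ≤ X ∧ Y ⊔ C = X ∧ Y ⊓ C = N := by
  set π := QuotientGroup.mk' (N.subgroupOf X) with hπ
  obtain ⟨C, hC⟩ := exists_isCompl ((Y.subgroupOf X).map π)
  have hYm : (Y.subgroupOf X).map X.subtype = Y := Subgroup.map_subgroupOf_eq_of_le hY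
  have hNm : (N.subgroupOf X).map X.subtype = N := Subgroup.map_subgroupOf_eq_of_le hNX
  have hker : π.ker = N.subgroupOf X := QuotientGroup.ker_mk' _
  have hsurj : Function.Surjective π := QuotientGroup.mk'_surjective _
  have hY2 : ((Y.subgroupOf X).map π).comap π = Y.subgroupOf X := by
    rw [Subgroup.comap_map_eq, hker, sup_eq_left]
    exact Subgroup.subgroupOf_mono _ hNY
  refine ⟨(C.comap π).map X.subtype, ?_, Subgroup.map_subtype_le _, ?_, ?_⟩
  · refine hNm.symm.le.trans (Subgroup.map_mono (hker.symm.le.trans (Subgroup.ker_le_comap _ _)))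
  · rw [← hYm, ← Subgroup.map_sup, ← hY2, Subgroup.comap_sup_eq _ _ _ hsurj, hC.sup_eq_top,
      Subgroup.comap_top, ← MonoidHom.range_eq_map, Subgroup.range_subtype]
  · rw [← hYm, ← Subgroup.map_inf _ _ _ X.subtype_injective, ← hY2, ← Subgroup.comap_inf, hC.inf_eq_bot,
      MonoidHom.comap_bot, hker, hNm]

end Cfsg.Agent.Classical.Lat
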