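import Cfsg.Agent.Lib.Classical.Family

/-! Maximal subgroups of classical groups: subspace stabilisers. -/

set_option autoImplicit false

namespace Cfsg.Agent.Classical

open Module
open scoped commutatorElement

/-- every subgroup of `X` containing `M ⊓ X` and an element outside `M` is `X` -/
def MaxP {G : Type*} [Group G] (X M : Subgroup G) : Prop :=
  ∀ H : Subgroup G, M ⊓ X ≤ H → H ≤ X → ∀ g ∈ H, g ∉ M → X ≤ H

section Lin
variable {F : Type*} [Field F] {V : Type*} [AddCommGroup V] [Module F V]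

theorem finrank_span_one_le (a : V) : finrank F (F ∙ a) ≤ 1 := by
  simpa using finrank_span_le_card (R := F) ({a} : Set V)

variable [FiniteDimensional F V]

theorem finrank_sup_le (X Y : Submodule F V) :
    finrank F (X ⊔ Y : Submodule F V) ≤ finrank F X + finrank F Y :=
  Submodule.finrank_add_le_finrank_add_finrank X Y

theorem finrank_sup_one_le (X : Submodule F V) (a : V) :
    finrank F (X ⊔ F ∙ a : Submodule F V) ≤ finrank F X + 1 :=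
  (finrank_sup_le _ _).trans (by have := finrank_span_one_le (F := F) a; omega)

theorem finrank_two_le (a b : V) : finrank F ((F ∙ a) ⊔ F ∙ b : Submodule F V) ≤ 2 :=
  (finrank_sup_one_le _ _).trans (by have := finrank_span_one_le (F := F) a; omega)

theorem exists_le_disjoint (X L : Submodule F V) :
    ∃ C ≤ X, C ⊓ L = ⊥ ∧ finrank F X ≤ finrank F C + finrank F (L ⊓ X : Submodule F V) := by
  obtain ⟨C, hC⟩ := Submodule.exists_isCompl (L.comap X.subtype)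
  refine ⟨C.map X.subtype, Submodule.map_subtype_le _ _, ?_, ?_⟩
  · rw [eq_bot_iff]
    rintro _ ⟨⟨x, hx, rfl⟩, h⟩
    have : x ∈ L.comap X.subtype ⊓ C := ⟨h, hx⟩
    rw [hC.inf_eq_bot] at this
    rw [(Submodule.mem_bot F).1 this]; simp
  · rw [Submodule.finrank_map_subtype_eq, ← Submodule.finrank_add_eq_of_isCompl hC, add_comm,
      ← Submodule.finrank_map_subtype_eq X (L.comap _), Submodule.map_comap_subtype, inf_comm]

theorem exists_notMem_of_lt {X L : Submodule F V} (h : finrank F L < finrank F X) : ∃ x ∈ X, x ∉ L := by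
  by_contra hc
  push Not at hc
  exact absurd (Submodule.finrank_mono (show X ≤ L from hc)) (by omega)

omit [FiniteDimensional F V] in
/-- the complement of a proper subspace generates additively -/
theorem mem_of_compl {P : V → Prop} (hP : ∀ x y, P x → P y → P (x + y)) {X L : Submodule F V}
    {z : V} (hz : z ∈ X) (hz' : z ∉ L) (h : ∀ x ∈ X, x ∉ L → P x) : ∀ x ∈ X, P x := fun x hx => by
  by_cases k : x ∈ L
  · have := hP _ _ (h (x - z) (sub_mem hx hz) fun e => hz' (by simpa using sub_mem k e)) (h z hz hz')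
    simpa using this
  · exact h x hx k

omit [FiniteDimensional F V] in
theorem notMem_swap {L : Submodule F V} {a b : V} (ha : a ∉ L) (hb : b ∉ L ⊔ F ∙ a) : a ∉ L ⊔ F ∙ b := by
  intro h
  obtain ⟨l, hl, _, hc, e⟩ := Submodule.mem_sup.1 h
  obtain ⟨c, rfl⟩ := Submodule.mem_span_singleton.1 hc
  have hc0 : c ≠ 0 := by rintro rfl; exact ha (by simpa [← e] using hl)
  refine hb (Submodule.mem_sup.2 ⟨-(c⁻¹ • l), neg_mem (L.smul_mem _ hl), c⁻¹ • a,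
    Submodule.mem_span_singleton.2 ⟨_, rfl⟩, ?_⟩)
  rw [← e, smul_add, smul_smul, inv_mul_cancel₀ hc0]; simp

theorem finrank_map_add (f : V →ₗ[F] V) (X : Submodule F V) :
    finrank F X = finrank F (X.map f) + finrank F (X ⊓ LinearMap.ker f : Submodule F V) := by
  have := LinearMap.finrank_range_add_finrank_ker (f.comp X.subtype)
  rw [LinearMap.range_comp, Submodule.range_subtype, LinearMap.ker_comp,
    ← Submodule.finrank_map_subtype_eq X (Submodule.comap _ _), Submodule.map_comap_subtype] at this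
  omega

theorem finrank_map_le_add (f : V →ₗ[F] V) {X Y : Submodule F V} (h : Y ≤ X) {k : ℕ}
    (hk : finrank F X ≤ finrank F Y + k) : finrank F (X.map f) ≤ finrank F (Y.map f) + k := by
  have := finrank_map_add f X
  have := finrank_map_add f Y
  have := Submodule.finrank_mono (inf_le_inf_right (LinearMap.ker f) h)
  omega

end Lin

namespace Form
variable {F : Type*} [Field F] {K : Kind F} {V : Type*} [AddCommGroup V] [Module F V]
  {Φ : Form K V} {H : Subgroup (V ≃ₗ[F] V)} {e : V}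

/-- `H` contains all Eichler transformations at `e` -/
def Full (Φ : Form K V) (H : Subgroup (V ≃ₗ[F] V)) (e : V) : Prop := ∀ y a h, Φ.eich e y a h ∈ H

/-- `H` contains an Eichler transformation at `e` with direction `y` -/
def InA (Φ : Form K V) (H : Subgroup (V ≃ₗ[F] V)) (e y : V) : Prop := ∃ a h, Φ.eich e y a h ∈ H

/-- `H` contains all transvections at `e` -/
def InT (Φ : Form K V) (H : Subgroup (V ≃ₗ[F] V)) (e : V) : Prop := ∀ a h, Φ.eich e 0 a h ∈ H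

theorem Full.map (h : Φ.Full H e) {g : V ≃ₗ[F] V} (hg : g ∈ H) (hg' : g ∈ Φ.Isom) : Φ.Full H (g e) := by
  intro y a h'
  have h1 : Φ.IsEich e (g.symm y) a := ⟨by rw [← hg'.2, h'.he], by rw [← hg'.1]; simpa using h'.hy,
    by rw [← hg'.2]; simpa using h'.ha⟩
  have := H.mul_mem (H.mul_mem hg (h _ _ h1)) (H.inv_mem hg)
  rw [Φ.eich_conj hg'] at this
  simpa using this

theorem InT.map (h : Φ.InT H e) {g : V ≃ₗ[F] V} (hg : g ∈ H) (hg' : g ∈ Φ.Isom) : Φ.InT H (g e) := by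
  intro a h'
  have h1 : Φ.IsEich e 0 a := ⟨by rw [← hg'.2, h'.he], by simp, h'.ha⟩
  have := H.mul_mem (H.mul_mem hg (h _ h1)) (H.inv_mem hg)
  rw [Φ.eich_conj hg'] at this
  simpa using this

theorem Full.smul (h : Φ.Full H e) {c : F} (hc : c ≠ 0) : Φ.Full H (c • e) := fun _ _ h' =>
  Φ.eich_smul h' hc ▸ h _ _ _

theorem InT.smul (h : Φ.InT H e) {c : F} (hc : c ≠ 0) : Φ.InT H (c • e) := fun _ h' => by
  rw [Φ.eich_smul h' hc]; simpa using h _ (by simpa using h'.smul hc)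

theorem Full.of_smul {c : F} (h : Φ.Full H (c • e)) (hc : c ≠ 0) : Φ.Full H e := by
  simpa [smul_smul, hc] using h.smul (inv_ne_zero hc)

theorem InT.of_smul {c : F} (h : Φ.InT H (c • e)) (hc : c ≠ 0) : Φ.InT H e := by
  simpa [smul_smul, hc] using h.smul (inv_ne_zero hc)

theorem Full.of_ne {f v : V} (he : Φ.N e = 0) (hf : Φ.N f = 0) (hv : Φ.N v = 0) (h1 : Φ.Full H e)
    (h2 : Φ.Full H f) (hef : Φ.B e f ≠ 0) (hev : Φ.B e v ≠ 0) : Φ.Full H v := by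
  obtain ⟨y, a, h, k⟩ := exists_eich_sing he hf hv hef hev
  have := h2.map (h1 _ _ h) (Φ.eich_mem _ _ _ _)
  rw [k] at this
  exact this.of_smul (by simp [hef, hev])

theorem InA.map {y : V} (h : Φ.InA H e y) {g : V ≃ₗ[F] V} (hg : g ∈ H) (hg' : g ∈ Φ.Isom) :
    Φ.InA H (g e) (g y) := by
  obtain ⟨a, h1, h2⟩ := h
  exact ⟨a, _, Φ.eich_conj hg' h1 ▸ H.mul_mem (H.mul_mem hg h2) (H.inv_mem hg)⟩

theorem InA.of_smul {y : V} {c : F} (h : Φ.InA H (c • e) y) (hc : c ≠ 0) : Φ.InA H e (K.σ c • y) := by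
  obtain ⟨a, h1, h2⟩ := h
  exact ⟨_, _, Φ.eich_smul h1 hc ▸ h2⟩

theorem InA.add {y y' : V} (h : Φ.InA H e y) (h' : Φ.InA H e y') : Φ.InA H e (y + y') := by
  obtain ⟨a, h1, h2⟩ := h
  obtain ⟨a', h1', h2'⟩ := h'
  exact ⟨_, _, Φ.eich_mul h1 h1' ▸ H.mul_mem h2 h2'⟩

theorem InA.neg {y : V} (h : Φ.InA H e y) : Φ.InA H e (-y) := by
  obtain ⟨a, h1, h2⟩ := h
  exact ⟨_, _, Φ.eich_inv h1 ▸ H.inv_mem h2⟩

theorem InA.sub {y y' : V} (h : Φ.InA H e y) (h' : Φ.InA H e y') : Φ.InA H e (y - y') :=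
  sub_eq_add_neg y y' ▸ h.add h'.neg

theorem InA.zero (he : Φ.N e = 0) : Φ.InA H e 0 := ⟨0, IsEich.zero he, Φ.eich_zero _ ▸ H.one_mem⟩

theorem InA.B {y : V} (h : Φ.InA H e y) : Φ.B y e = 0 := h.choose_spec.choose.hy

theorem InA.fix {y : V} (h : Φ.InA H e y) {g : V ≃ₗ[F] V} (hg : g ∈ H) (hg' : g ∈ Φ.Isom) (he : g e = e) :
    Φ.InA H e (g y) := by simpa [he] using h.map hg hg'

/-- the commutator trick -/
theorem InA.comm {y e' y' : V} {a' : F} (h : Φ.InA H e y) {h' : Φ.IsEich e' y' a'}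
    (hs : Φ.eich e' y' a' h' ∈ H) (h1 : Φ.B e e' = 0) (h2 : Φ.B e y' = 0) (h3 : Φ.B y e' = 0) :
    Φ.InA H e (Φ.B y y' • e') := by
  have := (h.fix hs (Φ.eich_mem _ _ _ _) (by rw [Φ.eich_of_perp _ _ _ _ h1, h2]; simp)).sub h
  rwa [Φ.eich_of_perp _ _ _ _ h3, add_sub_cancel_left] at this

theorem full_of (hT : Φ.InT H e) (hA : ∀ y, Φ.B y e = 0 → Φ.InA H e y) : Φ.Full H e := fun y a h => by
  obtain ⟨a', h', k⟩ := hA y h.hy
  have h2 : Φ.IsEich e 0 (a - a') := ⟨h.he, by simp, by rw [map_sub, h.ha, h'.ha]; simp⟩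
  have := H.mul_mem k (hT _ h2)
  rw [Φ.eich_mul] at this
  simpa using this

theorem InA.comm_T {y y' : V} (h : Φ.InA H e y) (h' : Φ.InA H e y') {a : F}
    (ha : a = Φ.B y' y - K.ε * K.σ (Φ.B y' y)) (k) : Φ.eich e 0 a k ∈ H := by
  obtain ⟨b, h1, h2⟩ := h
  obtain ⟨b', h1', h2'⟩ := h'
  obtain ⟨h3, h4⟩ := Φ.eich_commutator h1 h1'
  have : ⁅Φ.eich e y b h1, Φ.eich e y' b' h1'⁆ ∈ H :=
    H.mul_mem (H.mul_mem (H.mul_mem h2 h2') (H.inv_mem h2)) (H.inv_mem h2')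
  rw [h4] at this
  rwa [Φ.eich_congr k rfl (ha.trans (by rw [← Φ.symm]))]

/-- every subspace of dimension at least three contains a singular vector -/
def Sg3 (Φ : Form K V) : Prop := ∀ X : Submodule F V, 3 ≤ finrank F X → ∃ e ∈ X, Φ.Sing e

theorem sg3_of (h : ∀ X : Submodule F V, 3 ≤ finrank F X → ∃ v, v ≠ 0 ∧ (Φ.restrict X).N v = 0) : Φ.Sg3 :=
  fun X hX => by
  obtain ⟨v, h1, h2⟩ := h X hX
  exact ⟨v, v.2, by simpa using h1, h2⟩

theorem eich_mem_stab {W : Submodule F V} {y : V} {a : F} (h : Φ.IsEich e y a)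
    (h1 : ∀ x ∈ W, Φ.eich e y a h x ∈ W) [FiniteDimensional F V] : Φ.eich e y a h ∈ stab W := stab_of_le h1

theorem eich_fix {y x : V} {a : F} (h : Φ.IsEich e y a) (h1 : Φ.B x e = 0) (h2 : Φ.B x y = 0) :
    Φ.eich e y a h x = x := by rw [Φ.eich_of_perp _ _ _ _ h1, h2]; simp

variable [FiniteDimensional F V]

theorem symp_sg3 (Φ : Form (Kind.symp F) V) : Φ.Sg3 := fun X hX => by
  obtain ⟨x, hx, h⟩ := exists_notMem_of_lt (L := ⊥) (X := X) (by simp; omega)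
  exact ⟨x, hx, by simpa using h, Φ.symp_N x⟩

theorem orth_sg3 [Finite F] (Φ : Form (Kind.orth F) V) : Φ.Sg3 :=
  sg3_of fun _ hX => orth_exists_singular _ hX

theorem unit_sg3 [Finite F] {σ : F →+* F} {hσ2} (hσ : σ ≠ RingHom.id F) (Φ : Form (Kind.unit σ hσ2) V) :
    Φ.Sg3 := sg3_of fun _ hX => unit_exists_singular hσ _ (by omega)

theorem Sg3.exists_notMem (h : Φ.Sg3) {X L : Submodule F V}
    (hd : finrank F (L ⊓ X : Submodule F V) + 3 ≤ finrank F X) : ∃ e ∈ X, Φ.Sing e ∧ e ∉ L := by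
  obtain ⟨C, h1, h2, h3⟩ := exists_le_disjoint X L
  obtain ⟨e, he, hs⟩ := h C (by omega)
  refine ⟨e, h1 he, hs, fun k => hs.1 ?_⟩
  exact (Submodule.mem_bot F).1 (h2 ▸ (⟨he, k⟩ : e ∈ C ⊓ L))

theorem Sg3.exists_notMem' (h : Φ.Sg3) {X L : Submodule F V}
    (hd : finrank F L + 3 ≤ finrank F X) : ∃ e ∈ X, Φ.Sing e ∧ e ∉ L :=
  h.exists_notMem (by have := Submodule.finrank_mono (inf_le_left : L ⊓ X ≤ L); omega)

theorem Nondeg.finrank_inf_perp (hΦ : Φ.Nondeg) (X L : Submodule F V) :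
    finrank F X ≤ finrank F (X ⊓ Φ.perp L : Submodule F V) + finrank F L := by
  have h1 := Submodule.finrank_sup_add_finrank_inf_eq X (Φ.perp L)
  have h2 := hΦ.finrank_perp L
  have h3 := Submodule.finrank_le (X ⊔ Φ.perp L)
  omega

theorem E_le_of_full (hΦ : Φ.Nondeg) (hR : Φ.Rich0) {f : V} (he : Φ.N e = 0) (hf : Φ.N f = 0)
    (h1 : Φ.Full H e) (h2 : Φ.Full H f) (hef : Φ.B e f ≠ 0) : Φ.E ≤ H := by
  refine Φ.E_le_of fun v y a h hv => ?_
  obtain ⟨w, hw, k1, k2⟩ := hR.exists_common hΦ (u := e) (v := v) ⟨by rintro rfl; simp at hef, he⟩ ⟨hv, h.he⟩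
  exact Full.of_ne hw he h.he (Full.of_ne he hf hw h1 h2 hef fun k => k1 (Φ.B_symm_zero k)) h1 k1 k2 _ _ _

/-- move a full point by an Eichler transformation fixing `L` -/
theorem E_le_of_full' (hΦ : Φ.Nondeg) (hR : Φ.Rich0) {f y : V} {a : F} (hh : Φ.IsHyp e f)
    (h1 : Φ.Full H e) (hy : y ∈ Φ.hperp e f) (ha : a ≠ 0) {h : Φ.IsEich f y a} (hs : Φ.eich f y a h ∈ H) :
    Φ.E ≤ H := by
  refine E_le_of_full hΦ hR (by rw [(Φ.eich_mem _ _ _ h).2, hh.he]) hh.he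
    (h1.map hs (Φ.eich_mem _ _ _ _)) h1 ?_
  rw [hh.eich_e hy]
  simp [hh.Bee, (Φ.mem_hperp.1 hy).1, hh.Bfe, ha, K.ε_ne]

theorem max_ts (hΦ : Φ.Nondeg) (hR : Φ.Rich0) {W : Submodule F V} (hW : Φ.TS W)
    (h : ∀ x f, Φ.IsHyp x f → x ∈ Φ.perp W → f ∈ Φ.perp W →
      ∃ y a, y ∈ Φ.perp W ∧ y ∈ Φ.hperp x f ∧ K.T a = Φ.N y ∧ a ≠ 0) : MaxP Φ.E (stab W) := by
  intro H h1 h2 g hg hg'
  have k1 : ∀ e ∈ W, Φ.Full H e := fun e he y a h' => h1 ⟨eich_mem_stab h' fun x hx => by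
    rw [Φ.eich_of_perp _ _ _ _ (hW.2 _ hx _ he)]; exact add_mem hx (W.smul_mem _ he), Φ.eich_mem_E _ _ _ _⟩
  obtain ⟨w, hw, hw'⟩ : ∃ w ∈ W, g w ∉ W := by
    by_contra hc
    push Not at hc
    exact hg' (stab_of_le hc)
  have hI := Φ.E_le (h2 hg)
  have k2 := (k1 w hw).map hg hI
  have k3 : Φ.N (g w) = 0 := by rw [hI.2, hW.1 w hw]
  generalize g w = x at hw' k2 k3
  by_cases k4 : x ∈ Φ.perp W
  · obtain ⟨f, hf, hf'⟩ := hΦ.exists_hyp_perp k3 hw' (Φ.mem_perp'.1 k4)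
    obtain ⟨y, a, y1, y2, y3, y4⟩ := h x f hf k4 (Φ.mem_perp'.2 hf')
    have h3 : Φ.IsEich f y a := ⟨hf.hf, (Φ.mem_hperp.1 y2).2, y3⟩
    exact E_le_of_full' hΦ hR hf k2 y2 y4 (h := h3) (h1 ⟨eich_mem_stab h3 fun u hu => by
      rwa [eich_fix h3 (hf' u hu) (Φ.mem_perp'.1 y1 u hu)], Φ.eich_mem_E _ _ _ _⟩)
  · obtain ⟨u, hu, hu'⟩ : ∃ u ∈ W, Φ.B x u ≠ 0 := by simpa [Φ.mem_perp] using k4
    exact E_le_of_full hΦ hR k3 (hW.1 u hu) k2 (k1 u hu) hu'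

theorem max_ts_of_ker (hΦ : Φ.Nondeg) (h : ∃ a, K.T a = 0 ∧ a ≠ 0) {W : Submodule F V} (hW : Φ.TS W) :
    MaxP Φ.E (stab W) := max_ts hΦ (Φ.rich_of_ker h).rich0 hW fun _ _ _ _ _ => by
  obtain ⟨a, h1, h2⟩ := h
  exact ⟨0, a, zero_mem _, zero_mem _, by simpa using h1, h2⟩

theorem max_ts_orth {Φ : Form (Kind.orth F) V} (hΦ : Φ.Nondeg) (h3 : 3 ≤ finrank F V) {W : Submodule F V}
    (hW : Φ.TS W) (h : ∀ U, Φ.TS U → finrank F U = finrank F W + 1 → 2 * finrank F U ≠ finrank F V) :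
    MaxP Φ.E (stab W) := max_ts hΦ (orth_rich0 hΦ h3) hW fun x f hh hx hf => by
  by_contra hc
  push Not at hc
  have k1 : Φ.TS (Φ.perp W ⊓ Φ.hperp x f) := TS_orth fun w hw => hc w _ hw.1 hw.2 rfl
  have k2 : W ≤ Φ.perp W ⊓ Φ.hperp x f := le_inf hW.le_perp fun w hw =>
    Φ.mem_hperp.2 ⟨Φ.mem_perp'.1 hx w hw, Φ.mem_perp'.1 hf w hw⟩
  have hxW : x ∉ Φ.perp W ⊓ Φ.hperp x f := fun k => by simpa [hh.hef] using (Φ.mem_hperp.1 k.2).2
  have k3 : Φ.TS ((Φ.perp W ⊓ Φ.hperp x f) ⊔ F ∙ x) := TS_orth fun w hw => by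
    obtain ⟨u, hu, _, hv, rfl⟩ := Submodule.mem_sup.1 hw
    obtain ⟨c, rfl⟩ := Submodule.mem_span_singleton.1 hv
    rw [Φ.orth_N_add, k1.1 u hu, Φ.orth_N_smul, hh.he, Φ.orth_B_smul, (Φ.mem_hperp.1 hu.2).1]; simp
  have k4 := Submodule.finrank_sup_span_singleton hxW
  have k5 := k3.two_finrank_le hΦ
  have k6 := hΦ.finrank_inf_perp (Φ.perp W) (Submodule.span F {x, f})
  have k7 : finrank F (Submodule.span F {x, f}) ≤ 2 := by
    rw [Submodule.span_insert]; exact finrank_two_le _ _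
  have k8 := hΦ.finrank_perp W
  have k9 := Submodule.finrank_mono k2
  -- the totally singular subspace `X = W^⊥ ⊓ ⟨x, f⟩^⊥` is the radical of `W ⊔ ⟨x, f⟩`, so equals `W`
  have k10 : Φ.perp W ⊓ Φ.hperp x f ≤ W := fun w hw => by
    have : w ∈ Φ.perp (Φ.perp W ⊓ Φ.hperp x f) := k1.le_perp hw
    rw [hΦ.perp_inf, hΦ.perp_perp, hperp, hΦ.perp_perp] at this
    obtain ⟨u, hu, v, hv, rfl⟩ := Submodule.mem_sup.1 this
    have hv' : v ∈ Φ.hperp x f := by simpa using sub_mem hw.2 (k2 hu).2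
    have : v ∈ Submodule.span F {x, f} ⊓ Φ.hperp x f := ⟨hv, hv'⟩
    rw [hh.isCompl.inf_eq_bot] at this
    simpa [(Submodule.mem_bot F).1 this] using hu
  have k11 := Submodule.finrank_mono k10
  exact h _ k3 (by omega) (by unfold hperp at *; omega)

/-- isometries of a non-degenerate subspace extend -/
theorem exists_ext {U : Submodule F V} (hU : (Φ.restrict U).Nondeg) {g : U ≃ₗ[F] U}
    (hg : g ∈ (Φ.restrict U).Isom) :
    ∃ g' ∈ Φ.Isom, (∀ u : U, g' u = g u) ∧ ∀ x ∈ Φ.perp U, g' x = x :=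
  ⟨glue (Φ.isCompl_perp hU) (g, 1), Φ.glue_mem _ le_rfl hg (Subgroup.one_mem _), fun u => glue_left _ _ u,
    fun x hx => glue_right (Φ.isCompl_perp hU) (g, 1) ⟨x, hx⟩⟩

omit [FiniteDimensional F V] in
theorem nondeg_of_inf {U : Submodule F V} (h : ∀ u ∈ U, (∀ x ∈ U, Φ.B x u = 0) → u = 0) :
    (Φ.restrict U).Nondeg := fun u hu => Subtype.ext (h u u.2 fun x hx => hu ⟨x, hx⟩)

omit [FiniteDimensional F V] in
theorem Nondeg.of_mem {U : Submodule F V} (h : (Φ.restrict U).Nondeg) {u : V} (hu : u ∈ U)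
    (h' : ∀ x ∈ U, Φ.B x u = 0) : u = 0 := congrArg Subtype.val (h ⟨u, hu⟩ fun x => h' x x.2)

theorem exists_hyp_in {U : Submodule F V} (hU : (Φ.restrict U).Nondeg) (he : e ∈ U) (hs : Φ.Sing e) :
    ∃ f ∈ U, Φ.IsHyp e f := by
  obtain ⟨f, hf⟩ := hU.exists_hyp (e := ⟨e, he⟩) (by simpa using hs.1) hs.2
  exact ⟨f, f.2, hf.he, hf.hf, hf.hef⟩

omit [FiniteDimensional F V] in
theorem IsHyp.nondeg_inf {U : Submodule F V} (hU : (Φ.restrict U).Nondeg) {f : V} (h : Φ.IsHyp e f) (he : e ∈ U)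
    (hf : f ∈ U) : (Φ.restrict (U ⊓ Φ.hperp e f)).Nondeg := nondeg_of_inf fun u hu hu' =>
  hU.of_mem hu.1 fun x hx => by
    obtain ⟨a, b, y, hy, rfl⟩ := h.decomp x
    have : y ∈ U := by simpa using sub_mem hx (add_mem (U.smul_mem a he) (U.smul_mem b hf))
    simp [hu' y ⟨this, hy⟩, Φ.B_symm_zero (Φ.mem_hperp.1 hu.2).1, Φ.B_symm_zero (Φ.mem_hperp.1 hu.2).2]

theorem finrank_inf_hperp (hΦ : Φ.Nondeg) (U : Submodule F V) (e f : V) :
    finrank F U ≤ finrank F (U ⊓ Φ.hperp e f : Submodule F V) + 2 := by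
  have k6 := hΦ.finrank_inf_perp U (Submodule.span F {e, f})
  have k7 : finrank F (Submodule.span F {e, f}) ≤ 2 := by
    rw [Submodule.span_insert]; exact finrank_two_le _ _
  unfold hperp; omega

theorem exists_sing_notMem {U X : Submodule F V} (hU : (Φ.restrict U).Nondeg) (h3 : Φ.Sg3)
    (hd : 3 ≤ finrank F U) (hX : ¬ U ≤ X) : ∃ e ∈ U, Φ.Sing e ∧ e ∉ X := by
  obtain ⟨e, he, hs⟩ := h3 U hd
  obtain ⟨f, hf⟩ := hU.exists_hyp (e := ⟨e, he⟩) (by simpa using hs.1) hs.2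
  by_contra hc
  push Not at hc
  have := hf.eq_top_of_sing (W := X.comap U.subtype) fun v hv => hc v v.2 ⟨by simpa using hv.1, hv.2⟩
  exact hX (Submodule.comap_subtype_eq_top.1 this)

/-- every isometry can be moved into `E` by an isometry of `U` -/
def Comp (Φ : Form K V) (U : Submodule F V) : Prop :=
  ∀ h ∈ Φ.Isom, ∃ c ∈ Φ.Isom, (∀ x ∈ Φ.perp U, c x = x) ∧ h * c ∈ Φ.E

/-- compensation is possible in non-degenerate subspaces of dimension at least two -/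
def Comp2 (Φ : Form K V) : Prop := ∀ U : Submodule F V, (Φ.restrict U).Nondeg → 2 ≤ finrank F U → Φ.Comp U

theorem symp_comp2 {Φ : Form (Kind.symp F) V} (hΦ : Φ.Nondeg) : Φ.Comp2 := fun _ _ _ h hh =>
  ⟨1, Subgroup.one_mem _, fun _ _ => rfl, by simpa [symp_E_eq hΦ] using hh⟩

theorem unit_comp {σ : F →+* F} {hσ2} (hσ : σ ≠ RingHom.id F) [Finite F] {Φ : Form (Kind.unit σ hσ2) V}
    (hΦ : Φ.Nondeg) {U : Submodule F V} {d : V} (hd : d ∈ U) (h0 : Φ.N d ≠ 0) : Φ.Comp U := fun h hh => by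
  have h1 := hΦ.det_mul_conj hh
  have h2 : (LinearEquiv.det h : F) ≠ 0 := Units.ne_zero _
  have h3 := Φ.unit_σN d
  have h4 : σ (LinearEquiv.det h : F) = (LinearEquiv.det h : F)⁻¹ := eq_inv_of_mul_eq_one_right h1
  refine ⟨Φ.qrefl d (((LinearEquiv.det h : F)⁻¹ - 1) / Φ.N d) ?_, Φ.qrefl_mem _ _ _, fun x hx => ?_,
    unit_SIsom_le_E hσ _ Φ hΦ rfl ⟨Subgroup.mul_mem _ hh (Φ.qrefl_mem _ _ _), ?_⟩⟩
  · simp only [Kind.unit_σ, Kind.unit_T, map_div₀, map_sub, map_inv₀, h4, h3, map_one, inv_inv]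
    field_simp
    ring
  · rw [qrefl_apply, hx d hd]; simp
  · show LinearEquiv.det _ = 1
    rw [map_mul]
    ext
    rw [Units.val_mul, det_qrefl, ← Φ.unit_N]
    field_simp
    simp

theorem unit_comp2 {σ : F →+* F} {hσ2} (hσ : σ ≠ RingHom.id F) [Finite F] {Φ : Form (Kind.unit σ hσ2) V}
    (hΦ : Φ.Nondeg) : Φ.Comp2 := fun U hU h2 => by
  obtain ⟨d, hd⟩ := unit_exists_norm hσ hU (by omega) (map_one σ)
  exact unit_comp hσ hΦ d.2 (by rw [show Φ.N d = 1 from hd]; exact one_ne_zero)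

theorem Good.exists_spin [Finite F] {Φ : Form (Kind.orth F) V} (hG : Φ.Good) (hΦ : Φ.Nondeg) (g : Φ.Isom) :
    ∃ c : Fˣ, hG.spin hΦ g = sqSign F c := by
  rcases Int.units_eq_one_or (hG.spin hΦ g) with k | k
  · exact ⟨1, by rw [k, map_one]⟩
  · obtain ⟨a, ha⟩ := exists_not_isSquare (F := F) fun h2 => by simp [hG.spin_of_two hΦ h2] at k
    exact ⟨Units.mk0 a (by rintro rfl; exact ha (by simp)), by rw [k, eq_comm, sqSign_eq_neg_one_iff]; exact ha⟩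

theorem orth_comp2 [Finite F] {Φ : Form (Kind.orth F) V} (hΦ : Φ.Nondeg) (hn : 5 ≤ finrank F V) : Φ.Comp2 :=
  fun U hU h2 h hh => by
  have hG : Φ.Good := good_of_finrank hΦ (by omega)
  have k1 : ∀ c : Fˣ, ∃ v ∈ U, ∃ hv, hG.spin hΦ (Φ.reflI v hv) = sqSign F c := fun c => by
    obtain ⟨v, hv⟩ := orth_represents hU h2 c
    have hv' : Φ.N v = c := hv
    exact ⟨v, v.2, hv' ▸ c.ne_zero, by rw [hG.spin_reflI]; congr 1; ext; exact hv'⟩
  obtain ⟨c, hc⟩ := hG.exists_spin hΦ ⟨h, hh⟩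
  obtain ⟨v, hv, hv', k3⟩ := k1 c
  obtain ⟨w, hw, hw', k4⟩ := k1 1
  have k5 : ∀ g : Φ.Isom, hG.dick hΦ (⟨h, hh⟩ * g) = 1 → hG.spin hΦ (⟨h, hh⟩ * g) = 1 → h * g.1 ∈ Φ.E :=
    fun g a b => (hG.mem_E_iff hΦ (by omega) (g := ⟨h, hh⟩ * g)).2 ((hG.mem_commutator_iff hΦ).2 ⟨a, b⟩)
  rcases Int.units_eq_one_or (hG.dick hΦ ⟨h, hh⟩) with k | k
  · refine ⟨_, (Φ.reflI v hv' * Φ.reflI w hw').2, fun x hx => ?_, k5 _ (by simp [k]) (by simp [-Good.spin_reflI, hc, k3, k4])⟩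
    show Φ.refl v hv' (Φ.refl w hw' x) = x
    rw [Φ.refl_of_perp _ _ (hx w hw), Φ.refl_of_perp _ _ (hx v hv)]
  · exact ⟨_, (Φ.reflI v hv').2, fun x hx => Φ.refl_of_perp _ hv' (hx v hv), k5 _ (by simp [k])
      (by simp [-Good.spin_reflI, hc, k3])⟩

/-- the isometry group acts irreducibly -/
def IrrI (Φ : Form K V) : Prop := ∀ A : Submodule F V, (∀ g ∈ Φ.Isom, ∀ x ∈ A, g x ∈ A) → A = ⊥ ∨ A = ⊤

/-- finishing step for non-degenerate subspaces -/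
theorem E_le_of_nd (hΦ : Φ.Nondeg) (hR : Φ.Rich0) (hC : Φ.Comp2) {W : Submodule F V}
    (hW : (Φ.restrict W).Nondeg) (hI : (Φ.restrict W).IrrI) (hd : 4 ≤ finrank F (Φ.perp W))
    (h1 : stab W ⊓ Φ.E ≤ H) (he : e ∈ Φ.perp W) (hs : Φ.Sing e) {x : V} (hx : Φ.InA H e x)
    (hx' : x ∉ Φ.perp W) : Φ.E ≤ H := by
  have hU := hΦ.restrict_perp hW
  obtain ⟨f, hf, hh⟩ := exists_hyp_in hU he hs
  have k0 := hC _ (hh.nondeg_inf hU he hf) (by have := finrank_inf_hperp hΦ (Φ.perp W) e f; omega)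
  have k1 : ∀ g ∈ Φ.Isom, g ∈ stab W → ∃ g' ∈ H, g' ∈ Φ.Isom ∧ g' e = g e ∧ ∀ w ∈ W, g' w = g w :=
    fun g hg hg' => by
    obtain ⟨c, c1, c2, c3⟩ := k0 g hg
    have c4 : ∀ w ∈ W, c w = w := fun w hw => c2 w (Φ.mem_perp'.2 fun u hu => hu.1 w hw)
    refine ⟨g * c, h1 ⟨Subgroup.mul_mem _ hg' (stab_of_le fun w hw => by rwa [c4 w hw]), c3⟩, Φ.E_le c3, ?_,
      fun w hw => ?_⟩
    · rw [LinearEquiv.mul_apply, c2 e (Φ.mem_perp'.2 fun u hu => (Φ.mem_hperp.1 hu.2).1)]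
    · rw [LinearEquiv.mul_apply, c4 w hw]
  have k2 : ∀ y ∈ Φ.perp W, ∀ a h, Φ.eich e y a h ∈ H := fun y hy a h => h1 ⟨eich_mem_stab h fun u hu => by
    rwa [eich_fix h (Φ.mem_perp'.1 he u hu) (Φ.mem_perp'.1 hy u hu)], Φ.eich_mem_E _ _ _ _⟩
  have k3 : ∀ y ∈ Φ.perp W, Φ.B y e = 0 → Φ.InA H e y := fun y hy h => by
    obtain ⟨a, ha⟩ := Φ.N_range y
    exact ⟨a, ⟨hs.2, h, ha⟩, k2 y hy _ _⟩
  let A : Submodule F W :=
    { carrier := {w | Φ.InA H e w}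
      zero_mem' := InA.zero hs.2
      add_mem' := fun a b => a.add b
      smul_mem' := fun c w hw => by
        by_cases hc : c = 0
        · subst hc; simpa using InA.zero hs.2
        have c1 : ∀ w ∈ W, Φ.dil e f hh (Units.mk0 (K.σ c) (by simpa)) w = w := fun w hw =>
          Φ.dil_of_perp _ _ _ _ (Φ.mem_perp'.1 he w hw) (Φ.mem_perp'.1 hf w hw)
        obtain ⟨g, g1, g2, g3, g4⟩ := k1 _ (Φ.dil_mem _ _ hh (Units.mk0 (K.σ c) (by simpa)))
          (stab_of_le fun w hw => by rwa [c1 w hw])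
        have := InA.map hw g1 g2
        rw [g3, g4 _ w.2, c1 _ w.2, dil_e] at this
        simpa [K.σσ] using this.of_smul (Units.ne_zero _) }
  have k4 : A = ⊤ := (hI A fun g hg w hw => by
    obtain ⟨g', g1, g2, g3⟩ := exists_ext hW hg
    obtain ⟨g, g4, g5, g6, g7⟩ := k1 g' g1 (stab_of_le fun w hw => by rw [g2 ⟨w, hw⟩]; exact Subtype.prop _)
    have := InA.fix hw g4 g5 (by rw [g6, g3 e he])
    rwa [g7 _ w.2, g2] at this).resolve_left fun k => by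
    obtain ⟨w, u, rfl⟩ := exists_add_of_isCompl (Φ.isCompl_perp hW) x
    have h2 : Φ.B u e = 0 := by simpa [Φ.mem_perp'.1 he w w.2] using hx.B
    have : w ∈ A := show Φ.InA H e w by simpa using hx.sub (k3 u u.2 h2)
    rw [k, Submodule.mem_bot] at this
    exact hx' (by simp [this])
  have k5 : Φ.Full H e := full_of (k2 0 (zero_mem _)) fun y hy => by
    obtain ⟨w, u, rfl⟩ := exists_add_of_isCompl (Φ.isCompl_perp hW) y
    exact InA.add (show w ∈ A from k4 ▸ trivial) (k3 u u.2 (by simpa [Φ.mem_perp'.1 he w w.2] using hy))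
  obtain ⟨g, hg, g0⟩ := hU.exists_isom_vec (u := ⟨e, he⟩) (u' := ⟨f, hf⟩) (by simpa using hs.1)
    (by simpa using hh.f_ne) (hh.he.trans hh.hf.symm)
  obtain ⟨g', g1, g2, g3⟩ := exists_ext hU hg
  obtain ⟨g, g4, g5, g6, -⟩ := k1 g' g1 (stab_of_le fun w hw => by rwa [g3 w (Φ.le_perp_perp _ hw)])
  have := k5.map g4 g5
  rw [g6, g2 ⟨e, he⟩, g0] at this
  exact E_le_of_full hΦ hR hh.he hh.hf k5 this (by simp [hh.hef])

theorem max_nd (hΦ : Φ.Nondeg) (hR : Φ.Rich0) (hC : Φ.Comp2) (h3 : Φ.Sg3) {W : Submodule F V}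
    (hW : (Φ.restrict W).Nondeg) (hI : (Φ.restrict W).IrrI) (hd : 7 ≤ finrank F (Φ.perp W))
    (h1 : stab W ⊓ Φ.E ≤ H) (h2 : H ≤ Φ.Isom) {g : V ≃ₗ[F] V} (hg : g ∈ H) (hg1 : g ∉ stab W)
    (hg2 : ¬ (Φ.perp W).map (g : V →ₗ[F] V) ≤ W) : Φ.E ≤ H := by
  have hU := hΦ.restrict_perp hW
  have hc := Φ.isCompl_perp hW
  have hI' := h2 hg
  set U := Φ.perp W with hUdef
  set U' := U.map (g : V →ₗ[F] V) with hU'def
  have d1 : finrank F U' = finrank F U := LinearEquiv.finrank_map_eq g U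
  have n1 : (Φ.restrict U').Nondeg := nondeg_of_inf (by
    rintro _ ⟨u, hu, rfl⟩ h
    simpa using hU.of_mem hu fun x hx => by rw [← hI'.1]; exact h _ ⟨x, hx, rfl⟩)
  have n2 : ¬ U' ≤ U := fun k => hg1 (by
    have := Φ.stab_perp hI' (U := U) (stab_of_le fun v hv => k ⟨v, hv, rfl⟩)
    rwa [hUdef, hΦ.perp_perp] at this)
  have k2 : ∀ e ∈ U, ∀ y ∈ U, ∀ a h, Φ.eich e y a h ∈ H := fun e he y hy a h =>
    h1 ⟨eich_mem_stab h fun u hu => by
      rwa [eich_fix h (Φ.mem_perp'.1 he u hu) (Φ.mem_perp'.1 hy u hu)], Φ.eich_mem_E _ _ _ _⟩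
  have k3 : ∀ e ∈ U', ∀ y ∈ U', ∀ a h, Φ.eich e y a h ∈ H := by
    rintro _ ⟨e, he, rfl⟩ _ ⟨y, hy, rfl⟩ a h
    have h' : Φ.IsEich e y a := ⟨by rw [← hI'.2]; exact h.he, by rw [← hI'.1]; exact h.hy,
      by rw [← hI'.2]; exact h.ha⟩
    have := H.mul_mem (H.mul_mem hg (k2 e he y hy a h')) (H.inv_mem hg)
    rwa [Φ.eich_conj hI'] at this
  let π : V →ₗ[F] V := U.projection W hc.symm
  have p1 : ∀ x, π x ∈ U := Submodule.projection_apply_mem _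
  have p2 : ∀ x, π x = 0 ↔ x ∈ W := fun _ => Submodule.projection_apply_eq_zero_iff _
  have p3 : ∀ u ∈ U, ∀ x, Φ.B u x = Φ.B u (π x) := fun u hu x => by
    conv_lhs => rw [← Submodule.projection_add_projection_eq_self hc x, map_add,
      hu _ (Submodule.projection_apply_mem _ _), zero_add]
  obtain ⟨e', e1, e2, e3, y', y1, y2, y3⟩ : ∃ e' ∈ U', Φ.Sing e' ∧ e' ∉ U ∧
      ∃ y' ∈ U', Φ.B y' e' = 0 ∧ π y' ∉ F ∙ π e' := by
    by_cases d2 : 4 ≤ finrank F (U' ⊓ W : Submodule F V)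
    · obtain ⟨z, hz, hz'⟩ := SetLike.not_le_iff_exists.1 hg2
      have := hΦ.finrank_inf_perp (U' ⊓ W) (F ∙ z)
      have := finrank_span_one_le (F := F) z
      obtain ⟨e', ⟨⟨a1, a2⟩, a3⟩, a4⟩ := h3 (U' ⊓ W ⊓ Φ.perp (F ∙ z)) (by omega)
      refine ⟨e', a1, a4, fun k => a4.1 ?_, z, hz, Φ.B_symm_zero (Φ.mem_perp_singleton.1 a3), ?_⟩
      · exact (Submodule.mem_bot F).1 (hc.inf_eq_bot ▸ (⟨a2, k⟩ : e' ∈ W ⊓ U))
      · simpa [(p2 e').2 a2, p2] using hz'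
    · obtain ⟨e', a1, a2, a3⟩ := exists_sing_notMem n1 h3 (by omega) n2
      have := hΦ.finrank_inf_perp U' (F ∙ e')
      have := finrank_span_one_le (F := F) e'
      have := finrank_span_one_le (F := F) (π e')
      have := finrank_map_add π (U' ⊓ Φ.perp (F ∙ e'))
      have := Submodule.finrank_mono (show U' ⊓ Φ.perp (F ∙ e') ⊓ LinearMap.ker π ≤ U' ⊓ W from
        fun x hx => ⟨hx.1.1, (p2 x).1 hx.2⟩)
      obtain ⟨_, ⟨y', hy, rfl⟩, a4⟩ := exists_notMem_of_lt (X := (U' ⊓ Φ.perp (F ∙ e')).map π)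
        (L := F ∙ π e') (by omega)
      exact ⟨e', a1, a2, a3, y', hy.1, Φ.mem_perp_singleton.1 hy.2, a4⟩
  have := hΦ.finrank_inf_perp U ((F ∙ π e') ⊔ F ∙ π y')
  have := finrank_two_le (F := F) (π e') (π y')
  obtain ⟨e, ⟨a1, a2⟩, a3, a4⟩ := h3.exists_notMem' (X := U ⊓ Φ.perp ((F ∙ π e') ⊔ F ∙ π y'))
    (L := (F ∙ π e') ⊔ F ∙ π y') (by omega)
  rw [SetLike.mem_coe, perp_sup] at a2
  obtain ⟨z, z1, z2⟩ := hΦ.exists_perp_one (notMem_swap y3 a4)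
  have z3 : Φ.B (π z) e = 0 := Φ.B_symm_zero (by
    rw [← p3 e a1]; exact z1 _ (Submodule.mem_sup_right (Submodule.mem_span_singleton_self _)))
  obtain ⟨a, ha⟩ := Φ.N_range (π z)
  obtain ⟨a', ha'⟩ := Φ.N_range y'
  have := InA.comm ⟨a, ⟨a3.2, z3, ha⟩, k2 e a1 _ (p1 z) _ _⟩ (k3 e' e1 y' y1 a' ⟨e2.2, y2, ha'⟩)
    (by rw [p3 e a1]; exact Φ.mem_perp_singleton.1 a2.1) (by rw [p3 e a1]; exact Φ.mem_perp_singleton.1 a2.2)
    (by
      rw [p3 _ (p1 z)]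
      refine Φ.B_symm_zero ?_
      rw [← p3 _ (p1 _)]; exact z1 _ (Submodule.mem_sup_left (Submodule.mem_span_singleton_self _)))
  refine E_le_of_nd hΦ hR hC hW hI (by rw [← hUdef]; omega) h1 a1 a3 this fun k => e3 ?_
  refine (U.smul_mem_iff fun k => ?_).1 k
  rw [p3 _ (p1 z), B_eq_zero_comm, ← p3 _ (p1 _), z2] at k
  exact one_ne_zero k

end Form

end Cfsg.Agent.Classical
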