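import Cfsg.Agent.Lib.Classical.Max1

/-! Maximal subgroups of classical groups: irreducibility, non-singular points, pairs of totally
singular subspaces. -/

set_option autoImplicit false

namespace Cfsg.Agent.Classical

open Module

section Lin
variable {F : Type*} [Field F] {V : Type*} [AddCommGroup V] [Module F V]

theorem eq_bot_or_top_of_le_one [FiniteDimensional F V] (h : finrank F V ≤ 1) (A : Submodule F V) :
    A = ⊥ ∨ A = ⊤ := by
  by_cases k : finrank F A = 0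
  · exact Or.inl (Submodule.finrank_eq_zero.1 k)
  · exact Or.inr (Submodule.eq_top_of_finrank_eq (by have := A.finrank_le; omega))

theorem exists_notMem_two {X L L' : Submodule F V} (h : ¬ X ≤ L) (h' : ¬ X ≤ L') : ∃ v ∈ X, v ∉ L ∧ v ∉ L' := by
  obtain ⟨a, ha, ha'⟩ := SetLike.not_le_iff_exists.1 h
  obtain ⟨b, hb, hb'⟩ := SetLike.not_le_iff_exists.1 h'
  by_cases k : a ∈ L'
  · by_cases k' : b ∈ L
    · exact ⟨a + b, add_mem ha hb, fun e => ha' (by simpa using sub_mem e k'),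
        fun e => hb' (by simpa using sub_mem e k)⟩
    · exact ⟨b, hb, k', hb'⟩
  · exact ⟨a, ha, ha', k⟩

theorem notMem_span_of {a b : V} (ha : a ≠ 0) {L : Submodule F V} (h : a ∈ L) (hb : b ∉ L) : a ∉ F ∙ b := by
  intro k
  obtain ⟨c, rfl⟩ := Submodule.mem_span_singleton.1 k
  exact hb ((L.smul_mem_iff (by rintro rfl; simp at ha)).1 h)

end Lin

namespace Form
variable {F : Type*} [Field F] {K : Kind F} {V : Type*} [AddCommGroup V] [Module F V]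
  {Φ : Form K V} {H : Subgroup (V ≃ₗ[F] V)} {e : V} [FiniteDimensional F V]

theorem symp_irrI {Φ : Form (Kind.symp F) V} (hΦ : Φ.Nondeg) : Φ.IrrI := fun A hA => by
  refine or_iff_not_imp_left.2 fun h => Submodule.eq_top_iff'.2 fun y => ?_
  obtain ⟨x, hx, hx0⟩ := (Submodule.ne_bot_iff A).1 h
  by_cases hy : y = 0
  · simp [hy]
  obtain ⟨g, hg, rfl⟩ := hΦ.exists_isom_vec hx0 hy (by simp [symp_N])
  exact hA g hg x hx

theorem unit_irrI {σ : F →+* F} {hσ2} (hσ : σ ≠ RingHom.id F) [Finite F] {Φ : Form (Kind.unit σ hσ2) V}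
    (hΦ : Φ.Nondeg) : Φ.IrrI := fun A hA => by
  by_cases h : finrank F V ≤ 1
  · exact eq_bot_or_top_of_le_one h A
  obtain ⟨e, f, hh⟩ := unit_exists_hyp hσ hΦ (by omega)
  exact (unit_rich hσ Φ).rich0.irred hΦ hh fun g hg => hA g (Φ.E_le hg)

omit [FiniteDimensional F V] in
theorem orth_irrI_of {Φ : Form (Kind.orth F) V} (hΦ : Φ.Nondeg)
    (h : ∀ L L' : Submodule F V, L ≠ ⊤ → L' ≠ ⊤ → ∃ v, Φ.N v ≠ 0 ∧ v ∉ L ∧ v ∉ L') : Φ.IrrI := fun A hA => by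
  by_contra hc
  push Not at hc
  obtain ⟨x, hx, hx0⟩ := (Submodule.ne_bot_iff A).1 hc.1
  obtain ⟨v, v1, v2, v3⟩ := h A (Φ.perp (F ∙ x)) hc.2 fun k =>
    hx0 (hΦ x fun u => Φ.mem_perp_singleton.1 (k ▸ trivial))
  have := sub_mem hx (hA _ (Φ.refl_mem v v1) x hx)
  rw [refl_apply, sub_sub_cancel] at this
  exact v2 ((A.smul_mem_iff (mul_ne_zero (inv_ne_zero v1) fun k =>
    v3 (Φ.mem_perp_singleton.2 (Φ.B_symm_zero k)))).1 this)

theorem orth_irrI [Fintype F] {Φ : Form (Kind.orth F) V} (hΦ : Φ.Nondeg)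
    (h : finrank F V = 2 → (∃ v, Φ.Sing v) → 4 ≤ Fintype.card F) : Φ.IrrI := by
  by_cases h1 : finrank F V ≤ 1
  · exact fun A _ => eq_bot_or_top_of_le_one h1 A
  by_cases h3 : 3 ≤ finrank F V
  · exact fun A hA => orth_irred hΦ h3 fun g hg => hA g (Φ.E_le hg)
  refine orth_irrI_of hΦ fun L L' hL hL' => ?_
  rcases hyp_or_aniso hΦ with ⟨e, f, hh⟩ | hA
  · have h4 := h (by omega) ⟨e, hh.sing_e⟩
    have h5 : Φ.hperp e f = ⊥ := Submodule.finrank_eq_zero.1 (by have := hh.finrank_hperp; omega)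
    have h6 : ∀ (M : Submodule F V) (a b : F), a ≠ b → e + a • f ∈ M → e + b • f ∈ M → M = ⊤ :=
      fun M a b hab ha hb => by
      have k1 : f ∈ M := (M.smul_mem_iff (sub_ne_zero.2 hab)).1 (by simpa [sub_smul] using sub_mem ha hb)
      have k2 : e ∈ M := by simpa using sub_mem ha (M.smul_mem a k1)
      refine Submodule.eq_top_iff'.2 fun x => ?_
      obtain ⟨α, β, y, hy, rfl⟩ := hh.decomp x
      rw [h5, Submodule.mem_bot] at hy
      simpa [hy] using add_mem (M.smul_mem α k2) (M.smul_mem β k1)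
    classical
    obtain ⟨a, b, c, ha, hb, hc, h7, h8, h9⟩ := (Finset.two_lt_card_iff (s := Finset.univ.erase (0 : F))).1 (by
      rw [Finset.card_erase_of_mem (Finset.mem_univ _), Finset.card_univ]; omega)
    by_contra hcon
    push Not at hcon
    have k : ∀ a ∈ Finset.univ.erase (0 : F), e + a • f ∈ L ∨ e + a • f ∈ L' := fun a ha =>
      or_iff_not_imp_left.2 (hcon _ (by rw [hh.N_add_smul]; exact Finset.ne_of_mem_erase ha))
    rcases k a ha with k1 | k1 <;> rcases k b hb with k2 | k2 <;> rcases k c hc with k3 | k3 <;>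
      first
      | exact hL (h6 _ _ _ h7 k1 k2) | exact hL (h6 _ _ _ h8 k1 k3) | exact hL (h6 _ _ _ h9 k2 k3)
      | exact hL' (h6 _ _ _ h7 k1 k2) | exact hL' (h6 _ _ _ h8 k1 k3) | exact hL' (h6 _ _ _ h9 k2 k3)
  · obtain ⟨v, -, v1, v2⟩ := exists_notMem_two (X := ⊤) (mt top_le_iff.1 hL) (mt top_le_iff.1 hL')
    exact ⟨v, fun k => v1 (by simp [hA v k]), v1, v2⟩

omit [FiniteDimensional F V] in
theorem orth_inT {Φ : Form (Kind.orth F) V} (H : Subgroup (V ≃ₗ[F] V)) (e : V) : Φ.InT H e := fun a h => by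
  obtain rfl : a = 0 := by simpa using h.ha
  rw [eich_zero]; exact H.one_mem

theorem max_pt {Φ : Form (Kind.orth F) V} [Finite F] (hΦ : Φ.Nondeg) (hn : 7 ≤ finrank F V) (h2 : (2 : F) = 0)
    {v : V} (hv : Φ.N v ≠ 0) : MaxP Φ.E (stab (F ∙ v)) := by
  intro H h1 h3 g hg hg'
  have hI := Φ.E_le (h3 hg)
  have k0 : ∀ s ∈ Φ.E, s v = v → s ∈ H := fun s hs h => h1 ⟨stab_of_le fun x hx => by
    obtain ⟨c, rfl⟩ := Submodule.mem_span_singleton.1 hx
    rwa [map_smul, h], hs⟩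
  have k1 : g v ∉ F ∙ v := fun k => hg' (stab_of_le fun x hx => by
    obtain ⟨c, rfl⟩ := Submodule.mem_span_singleton.1 hx
    rw [map_smul]; exact Submodule.smul_mem _ _ k)
  have := hΦ.finrank_perp ((F ∙ v) ⊔ F ∙ g v)
  have := finrank_two_le (F := F) v (g v)
  obtain ⟨e, e1, e2, e3⟩ := (orth_sg3 Φ).exists_notMem' (X := Φ.perp ((F ∙ v) ⊔ F ∙ g v))
    (L := (F ∙ v) ⊔ F ∙ g v) (by omega)
  rw [perp_sup] at e1
  have e4 := Φ.B_symm_zero (Φ.mem_perp_singleton.1 e1.1)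
  have e5 := Φ.B_symm_zero (Φ.mem_perp_singleton.1 e1.2)
  obtain ⟨z, z1, z2⟩ := hΦ.exists_perp_one (notMem_swap k1 e3)
  have z3 := z1 _ (Submodule.mem_sup_left (Submodule.mem_span_singleton_self _))
  have z4 := z1 _ (Submodule.mem_sup_right (Submodule.mem_span_singleton_self _))
  have k2 : Φ.Full H e := full_of (orth_inT _ _) fun y hy => by
    have a1 : Φ.IsEich e (Φ.B (g v) y • z) _ := ⟨e2.2, by simp [Φ.B_symm_zero z4], rfl⟩
    have a2 : Φ.IsEich e (y - Φ.B (g v) y • z) _ := ⟨e2.2, by simp [Φ.B_symm_zero z4, hy], rfl⟩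
    have a3 := k0 _ (Φ.E_conj (Φ.Isom.inv_mem hI) (Φ.eich_mem_E _ _ _ a2)) (by
      rw [inv_inv, LinearEquiv.mul_apply, LinearEquiv.mul_apply, eich_fix a2 e5 (by simp [z2])]; simp)
    have a4 := H.mul_mem (H.mul_mem hg a3) (H.inv_mem hg)
    simp only [inv_inv, ← mul_assoc, mul_inv_cancel, one_mul, mul_inv_cancel_right] at a4
    simpa using InA.add ⟨_, a1, k0 _ (Φ.eich_mem_E _ _ _ a1) (eich_fix a1 e4 (by simp [z3]))⟩ ⟨_, a2, a4⟩
  obtain ⟨f, hf, hf'⟩ := hΦ.exists_hyp_perp (U := F ∙ v) e2.2 (fun k => e3 (Submodule.mem_sup_left k))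
    (Φ.mem_perp'.1 e1.1)
  have f1 := hf' v (Submodule.mem_span_singleton_self _)
  have a1 : Φ.IsEich f v _ := ⟨hf.hf, f1, rfl⟩
  exact E_le_of_full' hΦ (orth_rich0 hΦ (by omega)) hf k2 (Φ.mem_hperp.2 ⟨e4, f1⟩) hv (h := a1)
    (k0 _ (Φ.eich_mem_E _ _ _ a1) (eich_fix a1 f1 (by simp [orth_B_self, h2])))

section Pair
variable {U U' : Submodule F V}

omit [FiniteDimensional F V] in
theorem TS.B_proj (hU : Φ.TS U) (hc : IsCompl U U') {u : V} (hu : u ∈ U) (x : V) :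
    Φ.B u (U'.projection U hc.symm x) = Φ.B u x := by
  conv_rhs => rw [← Submodule.projection_add_projection_eq_self hc x, map_add,
    hU.2 _ hu _ (Submodule.projection_apply_mem _ _), zero_add]

theorem TS.exists_dual (hΦ : Φ.Nondeg) (hU : Φ.TS U) (hc : IsCompl U U') {L : Submodule F V} (hL : L ≤ U) {u : V}
    (hu : u ∈ U) (hu' : u ∉ L) : ∃ y ∈ U', (∀ x ∈ L, Φ.B x y = 0) ∧ Φ.B u y = 1 := by
  obtain ⟨z, z1, z2⟩ := hΦ.exists_perp_one hu'
  exact ⟨_, Submodule.projection_apply_mem hc.symm z, fun x hx => by rw [hU.B_proj hc (hL hx), z1 x hx],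
    by rw [hU.B_proj hc hu, z2]⟩

theorem pair_eich (hU : Φ.TS U) (hU' : Φ.TS U') (h1 : stab U ⊓ stab U' ⊓ Φ.E ≤ H) (he : e ∈ U) {y : V}
    (hy : y ∈ U') (h : Φ.B y e = 0) : ∃ h', Φ.eich e y 0 h' ∈ H := by
  refine ⟨⟨hU.1 e he, h, by simp [hU'.1 y hy]⟩, h1 ⟨⟨stab_of_le fun x hx => ?_, stab_of_le fun x hx => ?_⟩,
    Φ.eich_mem_E _ _ _ _⟩⟩
  · rw [Φ.eich_of_perp _ _ _ _ (hU.2 _ hx _ he)]; exact add_mem hx (U.smul_mem _ he)
  · rw [eich_apply, hU'.2 _ hx _ hy]; simpa using sub_mem hx (U'.smul_mem _ hy)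

theorem pair_full (hΦ : Φ.Nondeg) (hU : Φ.TS U) (hU' : Φ.TS U') (hc : IsCompl U U')
    (hT : ∀ a, K.T a = 0 → ∃ b, a = b - K.ε * K.σ b) (h1 : stab U ⊓ stab U' ⊓ Φ.E ≤ H)
    (hd : 3 ≤ finrank F U) (he : e ∈ U) {x : V} (hx : Φ.InA H e x)
    (hx' : U.projection U' hc x ∉ F ∙ e) : Φ.Full H e := by
  have k0 : ∀ y ∈ U', Φ.B y e = 0 → Φ.InA H e y := fun y hy h => ⟨0, pair_eich hU hU' h1 he hy h⟩
  have k1 : ∀ y, Φ.B y e = 0 → Φ.InA H e (U'.projection U hc.symm y) := fun y hy =>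
    k0 _ (Submodule.projection_apply_mem _ _) (Φ.B_symm_zero (by rw [hU.B_proj hc he, Φ.B_symm_zero hy]))
  have k2 : Φ.InA H e (U.projection U' hc x) := by
    rw [Submodule.projection_eq_self_sub_projection hc.symm]; exact hx.sub (k1 x hx.B)
  have k3 := Submodule.projection_apply_mem hc x
  generalize U.projection U' hc x = w at hx' k2 k3
  have l1 : ∀ {a}, a ∈ U → (F ∙ a) ≤ U := fun h => (Submodule.span_singleton_le_iff_mem _ _).2 h
  have := finrank_two_le (F := F) e w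
  obtain ⟨z, z1, z2⟩ := exists_notMem_of_lt (X := U) (L := (F ∙ e) ⊔ F ∙ w) (by omega)
  have k4 : ∀ z ∈ U, Φ.InA H e z := mem_of_compl (fun _ _ => InA.add) z1 z2 fun z z1 z2 => by
    obtain ⟨y, y1, y2, y3⟩ := hU.exists_dual hΦ hc (sup_le (l1 he) (l1 z1)) k3 (notMem_swap hx' z2)
    obtain ⟨h', h''⟩ := pair_eich hU hU' h1 z1 y1 (Φ.B_symm_zero
      (y2 _ (Submodule.mem_sup_right (Submodule.mem_span_singleton_self _))))
    simpa [y3] using k2.comm h'' (hU.2 _ he _ z1)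
      (y2 _ (Submodule.mem_sup_left (Submodule.mem_span_singleton_self _))) (hU.2 _ k3 _ z1)
  refine full_of (fun a h => ?_) fun y hy => ?_
  · obtain ⟨b, hb⟩ := hT a (by simpa using h.ha)
    obtain ⟨y, y1, y2, y3⟩ := hU.exists_dual hΦ hc (l1 he) k3 hx'
    exact (k0 y y1 (Φ.B_symm_zero (y2 _ (Submodule.mem_span_singleton_self _)))).comm_T
      (k4 (b • w) (U.smul_mem _ k3)) (by simpa [y3] using hb) _
  · rw [← Submodule.projection_add_projection_eq_self hc y]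
    exact (k4 _ (Submodule.projection_apply_mem _ _)).add (k1 y hy)

theorem pair_full_all (hΦ : Φ.Nondeg) (hU : Φ.TS U) (hU' : Φ.TS U') (hc : IsCompl U U')
    (h1 : stab U ⊓ stab U' ⊓ Φ.E ≤ H) (he : e ∈ U) (he0 : e ≠ 0) (h : Φ.Full H e) {e' : V} (he' : e' ∈ U)
    (h0 : e' ≠ 0) : Φ.Full H e' := by
  by_cases k : e' ∈ F ∙ e
  · obtain ⟨c, rfl⟩ := Submodule.mem_span_singleton.1 k
    exact h.smul (by rintro rfl; simp at h0)
  have k1 : e ∉ F ∙ (e' - e) := notMem_span_of he0 (Submodule.mem_span_singleton_self e) fun k' =>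
    k (by simpa using add_mem k' (Submodule.mem_span_singleton_self e))
  obtain ⟨y, y1, y2, y3⟩ := hU.exists_dual hΦ hc
    ((Submodule.span_singleton_le_iff_mem _ _).2 (sub_mem he' he)) he k1
  obtain ⟨h', h''⟩ := pair_eich hU hU' h1 (sub_mem he' he) y1
    (Φ.B_symm_zero (y2 _ (Submodule.mem_span_singleton_self _)))
  have := h.map h'' (Φ.eich_mem _ _ _ _)
  rw [Φ.eich_of_perp _ _ _ _ (hU.2 _ he _ (sub_mem he' he)), y3] at this
  simpa using this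

theorem pair_step (hΦ : Φ.Nondeg) (hU : Φ.TS U) (hU' : Φ.TS U') (hc : IsCompl U U')
    (hT : ∀ a, K.T a = 0 → ∃ b, a = b - K.ε * K.σ b) (h1 : stab U ⊓ stab U' ⊓ Φ.E ≤ H)
    (hd : 5 ≤ finrank F U) {X X' : Submodule F V} (hX : ¬ X ≤ U')
    (hX' : 3 ≤ finrank F (X'.map (U.projection U' hc)))
    (h : ∀ e ∈ X, ∀ y ∈ X', Φ.B y e = 0 → ∃ h', Φ.eich e y 0 h' ∈ H) : ∀ e ∈ U, e ≠ 0 → Φ.Full H e := by
  set π := U.projection U' hc with hπ
  have p1 : ∀ x, π x ∈ U := Submodule.projection_apply_mem _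
  have l1 : ∀ {a}, a ∈ U → (F ∙ a) ≤ U := fun h => (Submodule.span_singleton_le_iff_mem _ _).2 h
  obtain ⟨e', e1, e2⟩ := SetLike.not_le_iff_exists.1 hX
  have := hΦ.finrank_inf_perp X' (F ∙ e')
  have := finrank_span_one_le (F := F) e'
  have := finrank_span_one_le (F := F) (π e')
  have := finrank_map_le_add π (X := X') (Y := X' ⊓ Φ.perp (F ∙ e')) (k := 1) inf_le_left (by omega)
  obtain ⟨_, ⟨y', hy, rfl⟩, a4⟩ := exists_notMem_of_lt (X := (X' ⊓ Φ.perp (F ∙ e')).map π)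
    (L := F ∙ π e') (by omega)
  have := hΦ.finrank_inf_perp U ((F ∙ e') ⊔ F ∙ y')
  have := finrank_two_le (F := F) e' y'
  have := finrank_two_le (F := F) (π e') (π y')
  obtain ⟨e, ⟨a1, a2⟩, a3⟩ := exists_notMem_of_lt (X := U ⊓ Φ.perp ((F ∙ e') ⊔ F ∙ y'))
    (L := (F ∙ π e') ⊔ F ∙ π y') (by omega)
  rw [SetLike.mem_coe, perp_sup] at a2
  obtain ⟨y, y1, y2, y3⟩ := hU.exists_dual hΦ hc (sup_le (l1 (p1 _)) (l1 a1)) (p1 _) (notMem_swap a4 a3)
  obtain ⟨b1, b2⟩ := h e' e1 y' hy.1 (Φ.mem_perp_singleton.1 hy.2)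
  have k := InA.comm ⟨0, pair_eich hU hU' h1 a1 y1 (Φ.B_symm_zero
    (y2 _ (Submodule.mem_sup_right (Submodule.mem_span_singleton_self _))))⟩ b2
    (Φ.mem_perp_singleton.1 a2.1) (Φ.mem_perp_singleton.1 a2.2) (by
      rw [← hU'.B_proj hc.symm y1]
      exact Φ.B_symm_zero (y2 _ (Submodule.mem_sup_left (Submodule.mem_span_singleton_self _))))
  have k1 : Φ.B y y' ≠ 0 := fun k => by
    rw [← hU'.B_proj hc.symm y1, B_eq_zero_comm] at k
    exact one_ne_zero (y3.symm.trans k)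
  refine fun _ => pair_full_all hΦ hU hU' hc h1 a1 (by rintro rfl; exact a3 (zero_mem _))
    (pair_full hΦ hU hU' hc hT h1 (by omega) a1 k ?_)
  rw [map_smul, Submodule.smul_mem_iff _ k1]
  exact notMem_span_of (fun k => e2 ((Submodule.projection_apply_eq_zero_iff _).1 k))
    (Submodule.mem_sup_left (Submodule.mem_span_singleton_self _)) a3

theorem pair_step' (hΦ : Φ.Nondeg) (hU : Φ.TS U) (hU' : Φ.TS U') (hc : IsCompl U U')
    (hT : ∀ a, K.T a = 0 → ∃ b, a = b - K.ε * K.σ b) (h1 : stab U ⊓ stab U' ⊓ Φ.E ≤ H) (h2 : H ≤ Φ.Isom)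
    (hd : 5 ≤ finrank F U) {g : V ≃ₗ[F] V} (hg : g ∈ H) (hX : ¬ U.map (g : V →ₗ[F] V) ≤ U')
    (hX' : ¬ U'.map (g : V →ₗ[F] V) ≤ U') : ∀ e ∈ U, e ≠ 0 → Φ.Full H e := by
  have hI := h2 hg
  have k : ∀ {U U' : Submodule F V}, Φ.TS U → Φ.TS U' → stab U ⊓ stab U' ⊓ Φ.E ≤ H →
      ∀ e ∈ U.map (g : V →ₗ[F] V), ∀ y ∈ U'.map (g : V →ₗ[F] V), Φ.B y e = 0 → ∃ h', Φ.eich e y 0 h' ∈ H := by
    rintro U U' hU hU' h1 _ ⟨e, he, rfl⟩ _ ⟨y, hy, rfl⟩ h
    obtain ⟨b1, b2⟩ := pair_eich hU hU' h1 he hy (by rw [← hI.1]; exact h)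
    exact ⟨_, Φ.eich_conj hI b1 ▸ H.mul_mem (H.mul_mem hg b2) (H.inv_mem hg)⟩
  have := finrank_sup_le ((U.map (g : V →ₗ[F] V)).map (U.projection U' hc))
    ((U'.map (g : V →ₗ[F] V)).map (U.projection U' hc))
  rw [← Submodule.map_sup, ← Submodule.map_sup, hc.sup_eq_top, Submodule.map_top, LinearEquiv.range,
    Submodule.map_top, Submodule.range_projection] at this
  by_cases d : 3 ≤ finrank F ((U'.map (g : V →ₗ[F] V)).map (U.projection U' hc))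
  · exact pair_step hΦ hU hU' hc hT h1 hd hX d (k hU hU' h1)
  · exact pair_step hΦ hU hU' hc hT h1 hd hX' (by omega) (k hU' hU (inf_comm (stab U) _ ▸ h1))

theorem max_pair (hΦ : Φ.Nondeg) (hR : Φ.Rich0) (hU : Φ.TS U) (hU' : Φ.TS U') (hc : IsCompl U U')
    (hT : ∀ a, K.T a = 0 → ∃ b, a = b - K.ε * K.σ b) (h1 : stab U ⊓ stab U' ⊓ Φ.E ≤ H) (h2 : H ≤ Φ.Isom)
    (hd : 5 ≤ finrank F U) (hd' : 5 ≤ finrank F U') {s : V ≃ₗ[F] V} (hs : s ∈ H) (s1 : ∀ x ∈ U, s x ∈ U')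
    (s2 : ∀ x ∈ U', s x ∈ U) {g : V ≃ₗ[F] V} (hg : g ∈ H)
    (hg1 : ¬ (U.map (g : V →ₗ[F] V) ≤ U ∧ U'.map (g : V →ₗ[F] V) ≤ U'))
    (hg2 : ¬ (U.map (g : V →ₗ[F] V) ≤ U' ∧ U'.map (g : V →ₗ[F] V) ≤ U)) : Φ.E ≤ H := by
  have k : ∀ {U U' : Submodule F V}, Φ.TS U → Φ.TS U' → IsCompl U U' → 5 ≤ finrank F U → (∀ x ∈ U, s x ∈ U') →
      (∀ e ∈ U, e ≠ 0 → Φ.Full H e) → Φ.E ≤ H := fun {U U'} hU hU' hc hd s1 h => by
    obtain ⟨e, he, he0⟩ := exists_notMem_of_lt (X := U) (L := ⊥) (by simp; omega)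
    have h0 : s e ≠ 0 := by simpa using he0
    obtain ⟨y, y1, -, y3⟩ := hU'.exists_dual hΦ hc.symm bot_le (s1 e he) (by simpa using h0)
    exact E_le_of_full hΦ hR (hU'.1 _ (s1 e he)) (hU.1 _ y1) ((h e he (by simpa using he0)).map hs (h2 hs))
      (h y y1 (by rintro rfl; simp at y3)) (by simp [y3])
  have k0 : ∀ {X : Submodule F V}, 5 ≤ finrank F X → X.map (g : V →ₗ[F] V) ≤ U → ¬ X.map (g : V →ₗ[F] V) ≤ U' :=
    fun {X} h a b => by
    have := Submodule.finrank_mono (le_inf a b)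
    rw [hc.inf_eq_bot, LinearEquiv.finrank_map_eq, finrank_bot] at this
    omega
  by_cases a : U.map (g : V →ₗ[F] V) ≤ U' ∨ U'.map (g : V →ₗ[F] V) ≤ U'
  · refine k hU' hU hc.symm hd' s2 (pair_step' hΦ hU' hU hc.symm hT (inf_comm (stab U) _ ▸ h1) h2 hd' hg ?_ ?_)
    · rcases a with a | a
      · exact fun b => hg2 ⟨a, b⟩
      · exact fun b => k0 hd' b a
    · rcases a with a | a
      · exact fun b => k0 hd b a
      · exact fun b => hg1 ⟨b, a⟩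
  · push Not at a
    exact k hU hU' hc hd s1 (pair_step' hΦ hU hU' hc hT h1 h2 hd hg a.1 a.2)

theorem exists_swap (hΦ : Φ.Nondeg) (hU : Φ.TS U) (hU' : Φ.TS U') (hc : IsCompl U U') :
    ∃ s ∈ Φ.Isom, (∀ x ∈ U, s x ∈ U') ∧ ∀ x ∈ U', s x ∈ U := by
  classical
  have d1 := hU.two_finrank_le hΦ
  have d2 := hU'.two_finrank_le hΦ
  have d3 := Submodule.finrank_add_eq_of_isCompl hc
  let b : Fin (finrank F U) → V := fun i => finBasis F U i
  have b1 : ∀ i, b i ∈ U := fun i => Subtype.prop _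
  have b2 : LinearIndependent F b := (finBasis F U).linearIndependent.map' U.subtype U.ker_subtype
  choose z hz using fun i => hΦ.exists_values b2 (Pi.single i (1 : F))
  let f : Fin (finrank F U) → V := fun i => U'.projection U hc.symm (z i)
  have f1 : ∀ i, f i ∈ U' := fun i => Submodule.projection_apply_mem _ _
  have f2 : ∀ i j, Φ.B (b i) (f j) = if i = j then 1 else 0 := fun i j => by
    rw [hU.B_proj hc (b1 i), hz, Pi.single_apply]
  have f2' : ∀ i j, Φ.B (f i) (b j) = if i = j then K.ε else 0 := fun i j => by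
    rw [Φ.symm, f2]; by_cases h : i = j <;> simp [h, eq_comm]
  have f3 : LinearIndependent F f := Fintype.linearIndependent_iff.2 fun c hc i => by
    have := congrArg (fun x => Φ.B x (b i)) hc
    simpa [f2', K.ε_ne] using this
  have sp : ∀ {W : Submodule F V} {v : Fin (finrank F U) → V}, LinearIndependent F v → (∀ i, v i ∈ W) →
      finrank F W = finrank F U → Submodule.span F (Set.range v) = W := fun h1 h2 h3 =>
    Submodule.eq_of_le_of_finrank_eq (Submodule.span_le.2 (Set.range_subset_iff.2 h2))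
      (by rw [finrank_span_eq_card h1, h3]; simp)
  have b3 : LinearIndependent F (fun i => K.ε • b i) := b2.units_smul fun _ => Units.mk0 _ K.ε_ne
  obtain ⟨s, hs, h⟩ := hΦ.witt_family (Sum.elim b f) (Sum.elim f fun i => K.ε • b i)
    (b2.sum_type f3 (by rw [sp b2 b1 rfl, sp f3 f1 (by omega)]; exact hc.disjoint))
    (f3.sum_type b3 (by
      rw [sp b3 (fun i => U.smul_mem _ (b1 i)) rfl, sp f3 f1 (by omega)]; exact hc.disjoint.symm))
    (by
      rintro (i | i) (j | j)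
      · simp [hU.2 _ (b1 i) _ (b1 j), hU'.2 _ (f1 i) _ (f1 j)]
      · simp [f2, f2', K.σε, K.εε]
      · simp [f2, f2']
      · simp [hU.2 _ (b1 i) _ (b1 j), hU'.2 _ (f1 i) _ (f1 j)])
    (by
      rintro (i | i)
      · simp [hU.1 _ (b1 i), hU'.1 _ (f1 i)]
      · simp [hU.1 _ (b1 i), hU'.1 _ (f1 i), N_smul])
  refine ⟨s, hs, ?_, ?_⟩
  · rw [← sp b2 b1 rfl]
    exact fun x hx => (Submodule.span_le (p := U'.comap (s : V →ₗ[F] V))).2
      (Set.range_subset_iff.2 fun i => show s (b i) ∈ U' from h (.inl i) ▸ f1 i) hx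
  · rw [← sp f3 f1 (by omega)]
    exact fun x hx => (Submodule.span_le (p := U.comap (s : V →ₗ[F] V))).2
      (Set.range_subset_iff.2 fun i => show s (f i) ∈ U from h (.inr i) ▸ U.smul_mem _ (b1 i)) hx

theorem exists_swap_E (hΦ : Φ.Nondeg) (hU : Φ.TS U) (hU' : Φ.TS U') (hc : IsCompl U U') (h0 : U ≠ ⊥)
    (h : ∀ s ∈ Φ.Isom, U.map (s : V →ₗ[F] V) = U' → ∀ e f hh,
      (∀ l, Φ.dil e f hh l ∈ stab U) → ∃ l, s * Φ.dil e f hh l ∈ Φ.E) :
    ∃ s ∈ Φ.E, (∀ x ∈ U, s x ∈ U') ∧ ∀ x ∈ U', s x ∈ U := by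
  obtain ⟨s, hs, s1, s2⟩ := exists_swap hΦ hU hU' hc
  obtain ⟨e, he, he0⟩ := (Submodule.ne_bot_iff U).1 h0
  obtain ⟨f, f1, -, f2⟩ := hU.exists_dual hΦ hc bot_le he (by simpa using he0)
  have hh : Φ.IsHyp e f := ⟨hU.1 e he, hU'.1 f f1, f2⟩
  have k1 : ∀ l, ∀ x ∈ U, Φ.dil e f hh l x ∈ U := fun l x hx => by
    rw [dil_apply, hU.2 _ hx _ he]; simpa using add_mem hx (U.smul_mem _ he)
  have k2 : ∀ l, ∀ x ∈ U', Φ.dil e f hh l x ∈ U' := fun l x hx => by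
    rw [dil_apply, hU'.2 _ hx _ f1]; simpa using add_mem hx (U'.smul_mem _ f1)
  have d1 := hU.two_finrank_le hΦ
  have d2 := hU'.two_finrank_le hΦ
  have d3 := Submodule.finrank_add_eq_of_isCompl hc
  obtain ⟨l, hl⟩ := h s hs (Submodule.eq_of_le_of_finrank_eq (Submodule.map_le_iff_le_comap.2 s1)
    (by rw [LinearEquiv.finrank_map_eq]; omega)) e f hh fun l => stab_of_le (k1 l)
  exact ⟨_, hl, fun x hx => s1 _ (k1 l x hx), fun x hx => s2 _ (k2 l x hx)⟩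

theorem symp_swap {Φ : Form (Kind.symp F) V} (hΦ : Φ.Nondeg) (hU : Φ.TS U) (hU' : Φ.TS U') (hc : IsCompl U U') :
    ∃ s ∈ Φ.E, (∀ x ∈ U, s x ∈ U') ∧ ∀ x ∈ U', s x ∈ U := symp_E_eq hΦ ▸ exists_swap hΦ hU hU' hc

theorem unit_swap {σ : F →+* F} {hσ2} (hσ : σ ≠ RingHom.id F) [Finite F] {Φ : Form (Kind.unit σ hσ2) V}
    (hΦ : Φ.Nondeg) (hU : Φ.TS U) (hU' : Φ.TS U') (hc : IsCompl U U') (h0 : U ≠ ⊥) :
    ∃ s ∈ Φ.E, (∀ x ∈ U, s x ∈ U') ∧ ∀ x ∈ U', s x ∈ U :=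
  exists_swap_E hΦ hU hU' hc h0 fun s hs _ e f hh _ => by
    have h1 := hΦ.det_mul_conj (Φ.Isom.inv_mem hs)
    obtain ⟨y, y0, hy⟩ := hilbert90 σ hσ hσ2 h1
    refine ⟨Units.mk0 y y0, unit_SIsom_le_E hσ _ Φ hΦ rfl ⟨Subgroup.mul_mem _ hs (Φ.dil_mem _ _ _ _), ?_⟩⟩
    show LinearEquiv.det _ = 1
    rw [map_mul]
    ext
    rw [Units.val_mul, det_dil, ← div_eq_mul_inv]
    exact (congrArg _ hy).trans (by rw [← Units.val_mul, ← map_mul, mul_inv_cancel, map_one])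

theorem orth_swap [Finite F] {Φ : Form (Kind.orth F) V} (hΦ : Φ.Nondeg) (hn : 5 ≤ finrank F V) (hU : Φ.TS U)
    (hU' : Φ.TS U') (hc : IsCompl U U') (he : Even (finrank F U)) :
    ∃ s ∈ Φ.E, (∀ x ∈ U, s x ∈ U') ∧ ∀ x ∈ U', s x ∈ U := by
  have d1 := hU.two_finrank_le hΦ
  have d2 := hU'.two_finrank_le hΦ
  have d3 := Submodule.finrank_add_eq_of_isCompl hc
  have hG : Φ.Good := good_of_finrank hΦ (by omega)
  refine exists_swap_E hΦ hU hU' hc (by rintro rfl; simp at d3; omega) fun s hs h1 e f hh h2 => ?_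
  have k : ∀ g : Φ.Isom, hG.dick hΦ g = 1 → ∃ l, g * ⟨_, Φ.dil_mem e f hh l⟩ ∈ commutator Φ.Isom := fun g hg => by
    obtain ⟨l, hl⟩ := hG.exists_spin hΦ g
    exact ⟨l, (hG.mem_commutator_iff hΦ).2 ⟨by rw [map_mul, hg, hG.dick_dil, mul_one],
      by rw [map_mul, hl, hG.spin_dil, Int.units_mul_self]⟩⟩
  rcases Int.units_eq_one_or (hG.dick hΦ ⟨s, hs⟩) with k1 | k1
  · obtain ⟨l, hl⟩ := k _ k1
    exact ⟨l, (hG.mem_E_iff hΦ (by omega)).2 hl⟩
  · have hv : Φ.N (e + (1 : F) • f) ≠ 0 := by rw [hh.N_add_smul]; exact one_ne_zero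
    obtain ⟨l, hl⟩ := k (Φ.reflI _ hv * ⟨s, hs⟩) (by simp [k1])
    have k2 := MTS.even_of_mem hΦ ⟨hU, by omega⟩ hl
    have k3 := MTS.odd_refl hΦ ⟨hU, by omega⟩ ⟨hU', by omega⟩ hv
    have k4 : U.map ((Φ.reflI _ hv * ⟨s, hs⟩ * ⟨_, Φ.dil_mem e f hh l⟩ : Φ.Isom).1 : V →ₗ[F] V) =
        U'.map (Φ.refl _ hv : V →ₗ[F] V) := by
      rw [← h1]
      conv_rhs => rw [← mem_stab_iff_map.1 (h2 l), ← Submodule.map_comp, ← Submodule.map_comp]
      rfl
    rw [k4] at k2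
    rw [hc.inf_eq_bot, finrank_bot, zero_add] at k3
    exact absurd ((Nat.even_add.1 k2).1 he) (Nat.not_even_iff_odd.2 k3)

end Pair

end Form

end Cfsg.Agent.Classical
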