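import Cfsg.Agent.Lib.Classical.Max2
import Cfsg.Agent.Lib.Classical.Asch24

/-! Maximal subgroups of classical groups: matrix versions. -/

set_option autoImplicit false

namespace Cfsg.Agent.Classical.Asch
open Matrix Cfsg.Geo Module Cfsg.Agent.Comp
open scoped MatrixGroups

variable {ι : Type} [Fintype ι] [DecidableEq ι] {F : Type*} [Field F] {σ : F →+* F}

local notation "σ₀" => RingHom.id F

/-- a matrix group as a group of linear maps -/
noncomputable def mp (M : Subgroup (GL ι F)) : Subgroup ((ι → F) ≃ₗ[F] (ι → F)) := M.map glEquiv.toMonoidHom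

theorem mem_mp {M : Subgroup (GL ι F)} {g : GL ι F} : glEquiv g ∈ mp M ↔ g ∈ M :=
  Subgroup.mem_map_iff_mem glEquiv.injective

theorem le_mp {M : Subgroup (GL ι F)} {N : Subgroup ((ι → F) ≃ₗ[F] (ι → F))}
    (h : ∀ g, glEquiv g ∈ N → g ∈ M) : N ≤ mp M := fun x hx => by
  obtain ⟨g, rfl⟩ := glEquiv.surjective x
  exact mem_mp.2 (h g hx)

theorem mp_stab (W : Submodule F (ι → F)) : mp (subspaceStabilizer W) = stab W := by
  ext x
  obtain ⟨g, rfl⟩ := glEquiv.surjective x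
  rw [mem_mp, mem_subspaceStabilizer]
  exact ⟨fun h => stab_of_le h, fun h w hw => (h w).1 hw⟩

theorem isMaximalIn_of {G : Type*} [Group G] {X M : Subgroup G} (h0 : ¬ X ≤ M) (h : MaxP X M) :
    IsMaximalIn X (M ⊓ X) := by
  refine ⟨lt_of_le_of_ne inf_le_right fun e => h0 (inf_eq_right.1 e), fun H h1 h2 => ?_⟩
  by_cases k : H ≤ M
  · exact Or.inl (le_antisymm (le_inf k h2) h1)
  · obtain ⟨g, hg, hg'⟩ := SetLike.not_le_iff_exists.1 k
    exact Or.inr (le_antisymm h2 (h H h1 h2 g hg hg'))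

theorem isMaximalIn_of_mp {X M : Subgroup (GL ι F)} (h0 : ¬ X ≤ M) (h : MaxP (mp X) (mp M)) :
    IsMaximalIn X (M ⊓ X) := isMaximalIn_of h0 fun H h1 h2 g hg hg' x hx =>
  mem_mp.1 (h (mp H) (fun y hy => by
    obtain ⟨y, rfl⟩ := glEquiv.surjective y
    exact mem_mp.2 (h1 ⟨mem_mp.1 hy.1, mem_mp.1 hy.2⟩)) (Subgroup.map_mono h2) _ (mem_mp.2 hg)
    (mt mem_mp.1 hg') (mem_mp.2 hx))

theorem map_le_iff {g : GL ι F} {U W : Submodule F (ι → F)} :
    U.map (glEquiv g : (ι → F) →ₗ[F] (ι → F)) ≤ W ↔ ∀ v ∈ U, g.val *ᵥ v ∈ W := Submodule.map_le_iff_le_comap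

theorem IsMDecomposition.isCompl {m : ℕ} {D : Fin 2 → Submodule F (ι → F)} (hD : IsMDecomposition m D) :
    IsCompl (D 0) (D 1) :=
  ⟨hD.indep.pairwiseDisjoint (by decide), codisjoint_iff.2 (by
    rw [← hD.iSup_eq_top, iSup, Fin.range_fin_succ, Fin.range_fin_succ]; simp [Fin.tail])⟩

/-- the standard setting for a quasisimple classical group -/
structure Cl {K : Kind F} (Φ : Form K (ι → F)) (X : Subgroup (GL ι F)) : Prop where
  nd : Φ.Nondeg
  rich : Φ.Rich0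
  comp : Φ.Comp2
  sg : Φ.Sg3
  amb : Amb X (IsoF Φ)
  eq : mp X = Φ.E

theorem mp_EF {K : Kind F} (Φ : Form K (ι → F)) : mp (EF Φ) = Φ.E :=
  Subgroup.map_comap_eq_self_of_surjective glEquiv.surjective _

theorem cl_Sp [Fintype F] {B : GL ι F} (hB : Alt B.val) (h : 5 ≤ Fintype.card ι) : Cl hB.form (Iso σ₀ B.val) :=
  ⟨hB.nondeg, hB.form.symp_rich.rich0, Form.symp_comp2 hB.nondeg, Form.symp_sg3 _, amb_Sp hB (Or.inl h), by
    rw [← mp_EF, EF, Form.symp_E_eq hB.nondeg, ← hB.isoF, IsoF]⟩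

theorem cl_SU [Fintype F] {q : ℕ} (h : US σ q) {B : GL ι F} (hB : RF σ 1 B) (hι : 4 ≤ Fintype.card ι) :
    Cl (hB.form h.ne) (Iso σ B.val ⊓ specialLinear ι F) :=
  ⟨hB.nondeg _, (Form.unit_rich h.ne _).rich0, Form.unit_comp2 h.ne (hB.nondeg _), Form.unit_sg3 h.ne _,
    amb_SU' h hB (by omega) (by omega), by
    rw [le_antisymm (Form.E_le_SIsom _) (unit_SIsom_le_E h.ne _ _ (hB.nondeg h.ne) rfl)]
    ext g
    obtain ⟨g, rfl⟩ := glEquiv.surjective g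
    rw [mem_mp, Form.mem_SIsom, Subgroup.mem_inf, hB.mem_Iso h.ne, mem_specialLinear, det_glEquiv, Units.ext_iff]
    rfl⟩

theorem cl_O [Finite F] {Q : (ι → F) → F} {B : GL ι F} (h : QF Q B.val) (hι : 5 ≤ Fintype.card ι) :
    Cl h.form (omegaGL Q) :=
  have hn : 5 ≤ finrank F (ι → F) := by simpa using hι
  ⟨h.nondeg, Form.orth_rich0 h.nondeg (by omega), Form.orth_comp2 h.nondeg hn, Form.orth_sg3 _, amb_O h hι, by
    rw [(Form.good_of_finrank h.nondeg (by omega)).E_eq h.nondeg (by omega), omegaGL_eq, ← h.isoF, mp,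
      Subgroup.map_commutator, IsoF, Subgroup.map_comap_eq_self_of_surjective glEquiv.surjective]⟩

namespace Cl
variable {K : Kind F} {Φ : Form K (ι → F)} {X : Subgroup (GL ι F)}

theorem max (h : Cl Φ X) {M : Subgroup (GL ι F)} (h0 : ¬ X ≤ M) (h1 : MaxP Φ.E (mp M)) :
    IsMaximalIn X (M ⊓ X) := isMaximalIn_of_mp h0 (h.eq ▸ h1)

theorem max_stab (h : Cl Φ X) {W : Submodule F (ι → F)} (h0 : W ≠ ⊥) (h0' : W ≠ ⊤) (h1 : MaxP Φ.E (stab W)) :
    IsMaximalIn X (subspaceStabilizer W ⊓ X) := h.max (h.amb.not_le_stab h0 h0') (mp_stab W ▸ h1)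

theorem ne_top_of_ts (h : Cl Φ X) {W : Submodule F (ι → F)} (hW : Φ.TS W) (h0 : W ≠ ⊥) : W ≠ ⊤ := by
  rintro rfl
  have := hW.two_finrank_le h.nd
  exact h0 (Submodule.finrank_eq_zero.1 (by simp only [finrank_top] at this ⊢; omega))

theorem max_ts (h : Cl Φ X) (hT : ∃ a, K.T a = 0 ∧ a ≠ 0) {W : Submodule F (ι → F)} (h0 : W ≠ ⊥) (hW : Φ.TS W) :
    IsMaximalIn X (subspaceStabilizer W ⊓ X) :=
  h.max_stab h0 (h.ne_top_of_ts hW h0) (Form.max_ts_of_ker h.nd hT hW)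

theorem maxP_nd (h : Cl Φ X) (hι : 13 ≤ Fintype.card ι) {W : Submodule F (ι → F)} (hW : (Φ.restrict W).Nondeg)
    (h1 : (Φ.restrict W).IrrI) (h2 : (Φ.restrict (Φ.perp W)).IrrI)
    (h3 : ∀ g ∈ Φ.Isom, finrank F W = finrank F (Φ.perp W) → (Φ.perp W).map (g : _ →ₗ[F] _) ≠ W) :
    MaxP Φ.E (stab W) := fun H k1 k2 g hg hg' => by
  have d := h.nd.finrank_perp W
  have hI := Φ.E_le (k2 hg)
  rw [finrank_fintype_fun_eq_card] at d
  by_cases c : finrank F W ≤ finrank F (Φ.perp W)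
  · refine Form.max_nd h.nd h.rich h.comp h.sg hW h1 (by omega) k1 (k2.trans Φ.E_le) hg hg' fun k => ?_
    have := Submodule.finrank_mono k
    rw [LinearEquiv.finrank_map_eq] at this
    exact h3 g hI (by omega) (Submodule.eq_of_le_of_finrank_eq k (by rw [LinearEquiv.finrank_map_eq]; omega))
  · have e := h.nd.perp_perp W
    refine Form.max_nd h.nd h.rich h.comp h.sg (h.nd.restrict_perp hW) h2 (by rw [e]; omega)
      (fun x hx => k1 ⟨e ▸ Φ.stab_perp (Φ.E_le hx.2) hx.1, hx.2⟩) (k2.trans Φ.E_le) hg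
      (fun k => hg' (e ▸ Φ.stab_perp hI k)) fun k => ?_
    have := Submodule.finrank_mono k
    rw [LinearEquiv.finrank_map_eq, e] at this
    omega

theorem max_nd (h : Cl Φ X) (hι : 13 ≤ Fintype.card ι) (hI : ∀ W, (Φ.restrict W).Nondeg → (Φ.restrict W).IrrI)
    {W : Submodule F (ι → F)} (h0 : W ≠ ⊥) (hW : IsNondegenerateOn (fun u v => Φ.B u v) W)
    (hd : 2 * finrank F W < Fintype.card ι) : IsMaximalIn X (subspaceStabilizer W ⊓ X) :=
  have k := restrict_nondeg_of hW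
  h.max_stab h0 (by rintro rfl; simp at hd; omega) (h.maxP_nd hι k (hI _ k) (hI _ (h.nd.restrict_perp k))
    fun _ _ e => by have := h.nd.finrank_perp W; simp at this; omega)

theorem max_pair (h : Cl Φ X) (hT : ∀ a, K.T a = 0 → ∃ b, a = b - K.ε * K.σ b) {m : ℕ} (hm : 5 ≤ m)
    {D : Fin 2 → Submodule F (ι → F)} (hD : IsMDecomposition m D) (hts : ∀ i, Φ.TS (D i))
    (hs : ∃ s ∈ Φ.E, (∀ x ∈ D 0, s x ∈ D 1) ∧ ∀ x ∈ D 1, s x ∈ D 0) :
    IsMaximalIn X (decompositionStabilizer D ⊓ X) := by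
  have k1 : ∀ g : GL ι F, (∀ v ∈ D 0, g.val *ᵥ v ∈ D 0) → (∀ v ∈ D 1, g.val *ᵥ v ∈ D 1) →
      g ∈ decompositionStabilizer D := fun g a b =>
    IsMDecomposition.mem_stab hD (Fin.forall_fin_two.2 ⟨⟨0, a⟩, ⟨1, b⟩⟩)
  have k2 : ∀ g : GL ι F, (∀ v ∈ D 0, g.val *ᵥ v ∈ D 1) → (∀ v ∈ D 1, g.val *ᵥ v ∈ D 0) →
      g ∈ decompositionStabilizer D := fun g a b =>
    IsMDecomposition.mem_stab hD (Fin.forall_fin_two.2 ⟨⟨1, a⟩, ⟨0, b⟩⟩)
  refine h.max (h.amb.not_le_pair h.nd (by omega) hD hts) fun H h1 h2 g hg hg' => ?_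
  obtain ⟨s, s0, s1, s2⟩ := hs
  obtain ⟨s, rfl⟩ := glEquiv.surjective s
  obtain ⟨g, rfl⟩ := glEquiv.surjective g
  exact Form.max_pair h.nd h.rich (hts 0) (hts 1) (IsMDecomposition.isCompl hD) hT
    (le_trans (inf_le_inf_right _ (le_mp fun g hg => k1 g (fun v => (hg.1 v).1) fun v => (hg.2 v).1)) h1)
    (h2.trans Φ.E_le) (hD.finrank_eq 0 ▸ hm) (hD.finrank_eq 1 ▸ hm) (h1 ⟨mem_mp.2 (k2 s s1 s2), s0⟩) s1 s2 hg
    (fun k => hg' (mem_mp.2 (k1 g (map_le_iff.1 k.1) (map_le_iff.1 k.2))))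
    (fun k => hg' (mem_mp.2 (k2 g (map_le_iff.1 k.1) (map_le_iff.1 k.2))))

end Cl

theorem symp_ts {K : Kind F} {Φ : Form K (ι → F)} (h : ∀ v, Φ.B v v = 0 → Φ.N v = 0) {W : Submodule F (ι → F)}
    (hW : IsTotallySingularFor (fun u v => Φ.B u v) W) : Φ.TS W := ⟨fun w hw => h w (hW w hw w hw), hW⟩

section Orth
variable {Q : (ι → F) → F} {B : GL ι F}

theorem max_O_ts [Finite F] (h : QF Q B.val) (hι : 5 ≤ Fintype.card ι) {W : Submodule F (ι → F)} (h0 : W ≠ ⊥)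
    (hW : IsTotallySingularQuad Q W) (hd : 2 * (finrank F W + 1) = Fintype.card ι → ¬ IsPlusTypeOn Q ⊤) :
    IsMaximalIn (omegaGL Q) (subspaceStabilizer W ⊓ omegaGL Q) :=
  (cl_O h hι).max_stab h0 ((cl_O h hι).ne_top_of_ts (h.ts.2 hW) h0)
    (Form.max_ts_orth h.nondeg (by simp; omega) (h.ts.2 hW) fun U hU e e' =>
      hd (by simpa [e] using e') (h.isPlus_iff.2 ⟨U, hU, e'⟩))

theorem QF.isPlus_of_sing (h : QF Q B.val) {W : Submodule F (ι → F)} (hd : finrank F W = 2)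
    (hv : ∃ v, (h.form.restrict W).Sing v) : IsPlusTypeOn Q W := by
  obtain ⟨v, h0, hv⟩ := hv
  refine ⟨F ∙ v.1, (Submodule.span_singleton_le_iff_mem _ _).2 v.2, fun w hw => ?_, by
    rw [finrank_span_singleton (by simpa using h0), hd]⟩
  obtain ⟨c, rfl⟩ := Submodule.mem_span_singleton.1 hw
  rw [h.smul, show Q v = 0 from hv, mul_zero]

theorem isNondegenerateOn_of {K : Kind F} {Φ : Form K (ι → F)} {W : Submodule F (ι → F)}
    (h : (Φ.restrict W).Nondeg) : IsNondegenerateOn (fun u v => Φ.B u v) W := fun w hw h0 => by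
  obtain ⟨x, hx⟩ := h.exists_ne (v := ⟨w, hw⟩) (by simpa using h0)
  exact ⟨⟨x, x.2, hx⟩, x, x.2, fun e => hx (Φ.B_symm_zero e)⟩

theorem maxP_O_nd [Fintype F] (h : QF Q B.val) (hι : 13 ≤ Fintype.card ι) {W : Submodule F (ι → F)}
    (hW : IsNondegenerateOn (gf σ₀ B.val) W)
    (hex : ¬ (Fintype.card F ≤ 3 ∧ ∃ U : Submodule F (ι → F), finrank F U = 2 ∧ IsNondegenerateOn (gf σ₀ B.val) U ∧
      IsPlusTypeOn Q U ∧ (U = W ∨ (AreOrthogonalFor (gf σ₀ B.val) U W ∧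
        finrank F U + finrank F W = Fintype.card ι))))
    (h3 : 2 * finrank F W = Fintype.card ι → ¬ AreIsometricFor Q (h.form.perp W) W) :
    MaxP h.form.E (stab W) := by
  have k : (h.form.restrict W).Nondeg := restrict_nondeg_of hW
  have k' := h.nondeg.restrict_perp k
  have d := h.nondeg.finrank_perp W
  rw [finrank_fintype_fun_eq_card] at d
  refine (cl_O h (by omega)).maxP_nd hι k (Form.orth_irrI k fun a b => ?_) (Form.orth_irrI k' fun a b => ?_)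
    fun g hg a b => h3 (by omega) ⟨(g.submoduleMap _).trans (LinearEquiv.ofEq _ _ b), fun w => hg.2 w⟩
  · by_contra c
    exact hex ⟨by omega, W, a, hW, h.isPlus_of_sing a b, Or.inl rfl⟩
  · by_contra c
    exact hex ⟨by omega, _, a, isNondegenerateOn_of k', h.isPlus_of_sing a b, Or.inr ⟨fun u hu => hu, d⟩⟩

theorem max_O_nd [Fintype F] (h : QF Q B.val) (hι : 13 ≤ Fintype.card ι) {W : Submodule F (ι → F)}
    (h0 : W ≠ ⊥) (h1 : W ≠ ⊤) (hW : IsNondegenerateOn (gf σ₀ B.val) W)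
    (hex : ¬ (Fintype.card F ≤ 3 ∧ ∃ U : Submodule F (ι → F), finrank F U = 2 ∧ IsNondegenerateOn (gf σ₀ B.val) U ∧
      IsPlusTypeOn Q U ∧ (U = W ∨ (AreOrthogonalFor (gf σ₀ B.val) U W ∧
        finrank F U + finrank F W = Fintype.card ι))))
    (h3 : 2 * finrank F W = Fintype.card ι → ¬ AreIsometricFor Q (h.form.perp W) W) :
    IsMaximalIn (omegaGL Q) (subspaceStabilizer W ⊓ omegaGL Q) :=
  (cl_O h (by omega)).max_stab h0 h1 (maxP_O_nd h hι hW hex h3)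

theorem max_O_half [Fintype F] (h : QF Q B.val) (hι : 13 ≤ Fintype.card ι) {k : ℕ}
    {D : Fin 2 → Submodule F (ι → F)} (hD : IsNondegenerateMDecomposition (gf σ₀ B.val) k D)
    (hni : ¬ AreIsometricFor Q (D 0) (D 1)) :
    IsMaximalIn (omegaGL Q) (decompositionStabilizer D ⊓ omegaGL Q) := by
  have c := IsMDecomposition.isCompl hD.1
  have d := Submodule.finrank_add_eq_of_isCompl c
  have d' := h.nondeg.finrank_perp (D 1)
  have e : D 0 = h.form.perp (D 1) := Submodule.eq_of_le_of_finrank_eq (hD.3 0 1 (by decide)) (by omega)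
  rw [hD.1.finrank_eq, hD.1.finrank_eq, finrank_fintype_fun_eq_card] at d
  refine (cl_O h (by omega)).max (h.not_le_nd (by omega) hD) fun H h1 h2 g hg hg' => ?_
  have k : stab (D 1) ⊓ h.form.Isom ≤ mp (decompositionStabilizer D) := le_mp fun g hg =>
    IsMDecomposition.mem_stab hD.1 (Fin.forall_fin_two.2
      ⟨⟨0, fun v => ((e ▸ h.form.stab_perp hg.2 hg.1) v).1⟩, ⟨1, fun v => (hg.1 v).1⟩⟩)
  refine maxP_O_nd h hι (hD.2 1) ?_ (fun _ => e ▸ hni) H (fun x hx => h1 ⟨k ⟨hx.1, Form.E_le _ hx.2⟩, hx.2⟩) h2 g hg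
    fun a => hg' (k ⟨a, Form.E_le _ (h2 hg)⟩)
  rintro ⟨-, U, a, -, -, rfl | ⟨-, b⟩⟩ <;> rw [hD.1.finrank_eq] at * <;> omega

end Orth

end Cfsg.Agent.Classical.Asch
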