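import Cfsg.Agent.Lib.Classical.Max2

/-! Overgroups of classical groups in the linear group. -/

set_option autoImplicit false

namespace Cfsg.Agent.Classical

open Module

section Lin
variable {F : Type*} [Field F] {V : Type*} [AddCommGroup V] [Module F V] {H : Subgroup (V ≃ₗ[F] V)}
  {u v : V} {φ ψ : V →ₗ[F] F}

/-- `H` contains the transvection `x ↦ x + φ x • u` -/
def HasT (H : Subgroup (V ≃ₗ[F] V)) (u : V) (φ : V →ₗ[F] F) : Prop :=
  φ u = 0 ∧ ∃ g ∈ H, ∀ x, g x = x + φ x • u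

/-- the transvection -/
def tv (u : V) (φ : V →ₗ[F] F) (h : φ u = 0) : V ≃ₗ[F] V :=
  LinearEquiv.ofLinearMap (LinearMap.id + φ.smulRight u) (LinearMap.id - φ.smulRight u)
    (by ext x; simp [h]) (by ext x; simp [h])

theorem tv_apply (h : φ u = 0) (x : V) : tv u φ h x = x + φ x • u := rfl

theorem det_tv [FiniteDimensional F V] (h : φ u = 0) : LinearEquiv.det (tv u φ h) = 1 := by
  ext
  have := LinearMap.transvection.det φ u
  rw [h, add_zero] at this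
  exact (LinearEquiv.coe_det _).trans this

theorem hasT_tv (h : φ u = 0) (k : tv u φ h ∈ H) : HasT H u φ := ⟨h, _, k, tv_apply h⟩

theorem HasT.add (h : HasT H u φ) (h' : HasT H u ψ) : HasT H u (φ + ψ) := by
  obtain ⟨h1, g, h2, h3⟩ := h
  obtain ⟨k1, g', k2, k3⟩ := h'
  exact ⟨by simp [h1, k1], g * g', H.mul_mem h2 k2, fun x => by
    simp [LinearEquiv.mul_apply, h3, k3, h1, add_smul]; abel⟩

theorem HasT.add_left (h : HasT H u φ) (h' : HasT H v φ) : HasT H (u + v) φ := by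
  obtain ⟨h1, g, h2, h3⟩ := h
  obtain ⟨k1, g', k2, k3⟩ := h'
  exact ⟨by simp [h1, k1], g * g', H.mul_mem h2 k2, fun x => by
    simp [LinearEquiv.mul_apply, h3, k3, k1]; abel⟩

theorem HasT.neg (h : HasT H u φ) : HasT H u (-φ) := by
  obtain ⟨h1, g, h2, h3⟩ := h
  exact ⟨by simp [h1], g⁻¹, H.inv_mem h2, fun x => by
    rw [LinearEquiv.coe_inv, LinearEquiv.symm_apply_eq, h3]; simp [h1]⟩

theorem HasT.sub (h : HasT H u φ) (h' : HasT H u ψ) : HasT H u (φ - ψ) := sub_eq_add_neg φ ψ ▸ h.add h'.neg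

theorem hasT_smul {c : F} : HasT H (c • u) φ ↔ HasT H u (c • φ) := by
  simp [HasT, smul_smul, mul_comm]

theorem HasT.neg_left (h : HasT H u φ) : HasT H (-u) φ := by
  rw [← neg_one_smul F u, hasT_smul]; convert h.neg; ext; simp

theorem HasT.sub_left (h : HasT H u φ) (h' : HasT H v φ) : HasT H (u - v) φ :=
  sub_eq_add_neg u v ▸ h.add_left h'.neg_left

theorem HasT.zero (u : V) : HasT H u 0 := ⟨rfl, 1, H.one_mem, by simp⟩

theorem HasT.zero_left (φ : V →ₗ[F] F) : HasT H 0 φ := ⟨by simp, 1, H.one_mem, by simp⟩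

theorem HasT.map (h : HasT H u φ) {g : V ≃ₗ[F] V} (hg : g ∈ H) : HasT H (g u) (φ ∘ₗ (g.symm : V →ₗ[F] V)) := by
  obtain ⟨h1, t, h2, h3⟩ := h
  exact ⟨by simpa using h1, g * t * g⁻¹, H.mul_mem (H.mul_mem hg h2) (H.inv_mem hg), fun x => by
    simp [LinearEquiv.mul_apply, h3]⟩

theorem HasT.map' (h : HasT H u φ) {g : V ≃ₗ[F] V} (hg : g ∈ H) (hψ : ∀ x, ψ (g x) = φ x) : HasT H (g u) ψ := by
  convert h.map hg
  ext x; simp [← hψ]

/-- `H` contains all transvections with centre `u` -/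
def FullT (H : Subgroup (V ≃ₗ[F] V)) (u : V) : Prop := ∀ φ : V →ₗ[F] F, φ u = 0 → HasT H u φ

theorem FullT.map (h : FullT H u) {g : V ≃ₗ[F] V} (hg : g ∈ H) : FullT H (g u) := fun φ hφ =>
  (h (φ ∘ₗ (g : V →ₗ[F] V)) hφ).map' hg fun _ => rfl

theorem FullT.smul (h : FullT H u) (c : F) : FullT H (c • u) := fun φ hφ =>
  hasT_smul.2 (h _ (by simpa using hφ))

theorem exists_dual_one {L : Submodule F V} (hv : v ∉ L) : ∃ φ : V →ₗ[F] F, (∀ x ∈ L, φ x = 0) ∧ φ v = 1 := by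
  obtain ⟨φ, h1, h2⟩ := Submodule.exists_dual_map_eq_bot_of_notMem hv inferInstance
  refine ⟨(φ v)⁻¹ • φ, fun x hx => ?_, by simp [h1]⟩
  have : φ x ∈ L.map φ := ⟨x, hx, rfl⟩
  rw [h2, Submodule.mem_bot] at this
  simp [this]

theorem FullT.add (h : FullT H u) (h' : FullT H v) : FullT H (u + v) := by
  by_cases k : v ∈ F ∙ u
  · obtain ⟨c, rfl⟩ := Submodule.mem_span_singleton.1 k
    simpa [add_smul] using h.smul (1 + c)
  obtain ⟨φ, h1, h2⟩ := exists_dual_one k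
  obtain ⟨-, g, h3, h4⟩ := h φ (h1 u (Submodule.mem_span_singleton_self u))
  simpa [h4, h2, add_comm] using h'.map h3

/-- centres of full transvection groups -/
def fullSub (H : Subgroup (V ≃ₗ[F] V)) : Submodule F V where
  carrier := {u | FullT H u}
  zero_mem' := fun φ _ => HasT.zero_left φ
  add_mem' := FullT.add
  smul_mem' := fun c _ h => h.smul c

theorem fullT_of_stab [FiniteDimensional F V] {W : Submodule F V}
    (h1 : ∀ g ∈ stab W, LinearEquiv.det g = 1 → g ∈ H) {g : V ≃ₗ[F] V} (hg : g ∈ H) (hg' : g ∉ stab W) (y : V) :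
    FullT H y := by
  have k1 : W ≤ fullSub H := fun w hw φ hφ => hasT_tv hφ (h1 _ (stab_of_le fun x hx =>
    add_mem hx (W.smul_mem _ hw)) (det_tv hφ))
  obtain ⟨w, hw, hw'⟩ : ∃ w ∈ W, g w ∉ W := by
    by_contra hc
    push Not at hc
    exact hg' (stab_of_le hc)
  have k2 : g w ∈ fullSub H := FullT.map (k1 hw) hg
  by_cases k : y ∈ W ⊔ F ∙ g w
  · exact sup_le k1 ((Submodule.span_singleton_le_iff_mem _ _).2 k2) k
  obtain ⟨φ, a1, a2⟩ := exists_dual_one (notMem_swap hw' k)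
  have a3 := a1 y (Submodule.mem_sup_right (Submodule.mem_span_singleton_self y))
  have k3 : tv y φ a3 (g w) ∈ fullSub H := FullT.map k2 (h1 _ (stab_of_le fun x hx => by
    rwa [tv_apply, a1 x (Submodule.mem_sup_left hx), zero_smul, add_zero]) (det_tv a3))
  exact show y ∈ fullSub H by simpa [tv_apply, a2] using sub_mem k3 k2

end Lin

namespace Form
variable {F : Type*} [Field F] {K : Kind F} {V : Type*} [AddCommGroup V] [Module F V]
  {Φ : Form K V} {H : Subgroup (V ≃ₗ[F] V)} {e : V} [FiniteDimensional F V]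

theorem hasT_step (hΦ : Φ.Nondeg) (hE : Φ.E ≤ H) {z v : V} (h : HasT H e (Φ.B.flip z)) (hv : Φ.N v = 0)
    (h1 : Φ.B e v = 0) (h2 : Φ.B z v = 0) (h3 : z ∉ (F ∙ e) ⊔ F ∙ v) : HasT H e (Φ.B.flip v) := by
  obtain ⟨y, y1, y2⟩ := hΦ.exists_perp_one h3
  obtain ⟨a, ha⟩ := Φ.N_range y
  have k : Φ.IsEich v y a :=
    ⟨hv, Φ.B_symm_zero (y1 _ (Submodule.mem_sup_right (Submodule.mem_span_singleton_self _))), ha⟩
  have := (h.map' (hE (Φ.eich_mem_E _ _ _ k)) (ψ := Φ.B.flip (Φ.eich v y a k z))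
    fun x => (Φ.eich_mem _ _ _ k).1 x z)
  rw [eich_fix k h1 (y1 _ (Submodule.mem_sup_left (Submodule.mem_span_singleton_self _))),
    Φ.eich_of_perp _ _ _ _ h2, y2, one_smul, map_add] at this
  simpa using this.sub h

theorem fullT_of_hasT (hΦ : Φ.Nondeg) (hR : Φ.Rich0) (h3 : Φ.Sg3) (hn : 9 ≤ finrank F V) (hE : Φ.E ≤ H)
    (he : Φ.Sing e) {z : V} (h : HasT H e (Φ.B.flip z)) (hz : z ∉ F ∙ e) (u : V) : FullT H u := by
  have k0 : ∀ a b : V, ∃ v, Φ.Sing v ∧ Φ.B e v = 0 ∧ Φ.B a v = 0 ∧ Φ.B b v = 0 ∧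
      v ∉ ((F ∙ e) ⊔ F ∙ a) ⊔ F ∙ b := fun a b => by
    have := hΦ.finrank_perp (((F ∙ e) ⊔ F ∙ a) ⊔ F ∙ b)
    have := finrank_sup_one_le ((F ∙ e) ⊔ F ∙ a) b
    have := finrank_two_le (F := F) e a
    obtain ⟨v, v1, v2, v3⟩ := h3.exists_notMem' (X := Φ.perp (((F ∙ e) ⊔ F ∙ a) ⊔ F ∙ b))
      (L := ((F ∙ e) ⊔ F ∙ a) ⊔ F ∙ b) (by omega)
    rw [perp_sup, perp_sup] at v1
    exact ⟨v, v2, Φ.B_symm_zero (Φ.mem_perp_singleton.1 v1.1.1), Φ.B_symm_zero (Φ.mem_perp_singleton.1 v1.1.2),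
      Φ.B_symm_zero (Φ.mem_perp_singleton.1 v1.2), v3⟩
  have k1 : ∀ v, Φ.N v = 0 → Φ.B e v = 0 → HasT H e (Φ.B.flip v) := fun v hv hv' => by
    obtain ⟨w, w1, w2, w3, w4, w5⟩ := k0 z v
    refine hasT_step hΦ hE (hasT_step hΦ hE h w1.2 w2 w3 (notMem_swap hz fun k => w5 (Submodule.mem_sup_left k)))
      hv hv' (Φ.B_symm_zero w4) fun k => w5 ((sup_le_sup_right le_sup_left _ : (F ∙ e) ⊔ _ ≤ _) k)
  obtain ⟨w, w1, w2, -, -, w5⟩ := k0 z z
  obtain ⟨w', hw, hw'⟩ := hΦ.exists_hyp_perp (U := F ∙ e) w1.2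
    (fun k => w5 (Submodule.mem_sup_left (Submodule.mem_sup_left k)))
    (Φ.mem_perp'.1 (Φ.mem_perp_singleton.2 (Φ.B_symm_zero w2)))
  have w6 := hw' e (Submodule.mem_span_singleton_self e)
  have k2 : e ∈ fullSub H := fun φ hφ => by
    obtain ⟨y, hy⟩ := hΦ.exists_repr φ
    obtain ⟨α, β, h1⟩ := hw.exists_add_sing y
    have := ((k1 _ h1 (by simp [hy, hφ, w2, w6])).add (k1 (β • w') (by simp [N_smul, hw.hf]) (by simp [w6]))).add
      (k1 (α • w) (by simp [N_smul, hw.he]) (by simp [w2]))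
    rw [← map_add, ← map_add] at this
    convert this using 1
    ext x; simp [hy]
  have := (hR.irred hΦ hw (W := fullSub H) fun g hg x hx => FullT.map hx (hE hg)).resolve_left fun k =>
    he.1 (by simpa [k] using k2)
  exact (this ▸ trivial : u ∈ fullSub H)

theorem fullT_of_small (hΦ : Φ.Nondeg) (hR : Φ.Rich0) (h3 : Φ.Sg3) (hn : 11 ≤ finrank F V) (hE : Φ.E ≤ H)
    {s : V ≃ₗ[F] V} (hs : s ∈ H) {L : Submodule F V} (hL : finrank F L ≤ 4) (s1 : ∀ x, s x - x ∈ L)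
    (s2 : ∀ x ∈ Φ.perp L, s x = x) (s3 : ¬ ∀ x y, Φ.B (s x) (s y) = Φ.B x y) (u : V) : FullT H u := by
  have := hΦ.finrank_perp L
  obtain ⟨e, e1, e2, e3⟩ := h3.exists_notMem' (X := Φ.perp L) (L := L) (by omega)
  have k1 : ∀ x, ∀ y ∈ Φ.perp L, Φ.B (s x) y = Φ.B x y := fun x y hy => by
    rw [← sub_eq_zero, ← LinearMap.sub_apply, ← map_sub]; exact Φ.mem_perp'.1 hy _ (s1 x)
  obtain ⟨y, y1, x, y2⟩ : ∃ y, Φ.B y e = 0 ∧ ∃ x, Φ.B (s x) (s y) ≠ Φ.B x y := by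
    by_contra hc
    push Not at hc
    obtain ⟨z, z1, z2⟩ := hΦ.exists_perp_one e3
    have z3 := Φ.mem_perp'.2 z1
    refine s3 fun x y => ?_
    have := hc (y - K.σ (Φ.B e y) • z) (Φ.B_symm_zero (by simp [z2, K.σσ])) x
    simpa [s2 z z3, k1 _ z z3] using this
  obtain ⟨z, hz⟩ := hΦ.exists_repr (Φ.B.flip y ∘ₗ (s.symm : V →ₗ[F] V))
  have hz' : ∀ x, Φ.B (s x) z = Φ.B x y := fun x => by simp [hz]
  obtain ⟨a, ha⟩ := Φ.N_range y
  obtain ⟨b, hb⟩ := Φ.N_range (s y)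
  have r1 : Φ.IsEich e y a := ⟨e2.2, y1, ha⟩
  have r2 : Φ.IsEich e (s y) b := ⟨e2.2, by rw [k1 _ _ e1, y1], hb⟩
  have k2 : z - s y ∈ L := by
    have : z - y ∈ L := by
      rw [← hΦ.perp_perp L]
      exact Φ.mem_perp'.2 fun w hw => by rw [map_sub, ← s2 w hw, hz', s2 w hw, sub_self]
    simpa using sub_mem this (s1 y)
  refine fullT_of_hasT hΦ hR h3 (by omega) hE e2 (z := z - s y - K.σ (K.ε * (a - b)) • e)
    ⟨by simpa [Φ.B_self_of_N e2.2] using e1 _ k2, (Φ.eich e _ b r2)⁻¹ * (s * Φ.eich e y a r1 * s⁻¹),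
      H.mul_mem (H.inv_mem (hE (Φ.eich_mem_E _ _ _ _)))
        (H.mul_mem (H.mul_mem hs (hE (Φ.eich_mem_E _ _ _ _))) (H.inv_mem hs)), fun x => ?_⟩ (fun k => ?_) u
  · obtain ⟨x, rfl⟩ := s.surjective x
    rw [LinearEquiv.mul_apply, LinearEquiv.coe_inv, LinearEquiv.symm_apply_eq, map_add, map_smul, eich_self]
    simp only [LinearEquiv.mul_apply, LinearEquiv.coe_inv, LinearEquiv.symm_apply_apply, eich_apply, map_add,
      map_sub, map_smul, s2 e e1, k1 _ e e1, LinearMap.sub_apply, LinearMap.flip_apply, hz', B_smul_right, K.σσ]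
    module
  · refine notMem_span_of (fun k' => y2 ?_) k2 e3
      (by simpa using add_mem k (Submodule.smul_mem _ (K.σ (K.ε * (a - b))) (Submodule.mem_span_singleton_self e)))
    rw [← sub_eq_zero.1 k', hz']

theorem fullT_of_conj (hΦ : Φ.Nondeg) (hR : Φ.Rich0) (h3 : Φ.Sg3) (hn : 11 ≤ finrank F V) (hE : Φ.E ≤ H)
    {g : V ≃ₗ[F] V} (hg : g ∈ H) (h : ¬ ∀ r ∈ Φ.E, ∀ x y, Φ.B (g (r x)) (g (r y)) = Φ.B (g x) (g y)) (u : V) :
    FullT H u := by
  by_contra hc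
  let N : Subgroup (V ≃ₗ[F] V) :=
    { carrier := {r | ∀ x y, Φ.B (g (r x)) (g (r y)) = Φ.B (g x) (g y)}
      one_mem' := fun _ _ => rfl
      mul_mem' := fun {a b} ha hb x y => (ha _ _).trans (hb x y)
      inv_mem' := fun {a} ha x y => by rw [← ha]; simp }
  refine h (Φ.E_le_of (N := N) fun e y a k _ => by_contra fun hr => hc ?_)
  obtain ⟨e', he⟩ := hΦ.exists_repr (Φ.B.flip e ∘ₗ (g.symm : V →ₗ[F] V))
  obtain ⟨y', hy⟩ := hΦ.exists_repr (Φ.B.flip y ∘ₗ (g.symm : V →ₗ[F] V))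
  have := finrank_sup_le ((F ∙ g e) ⊔ F ∙ g y) ((F ∙ e') ⊔ F ∙ y')
  have := finrank_two_le (F := F) (g e) (g y)
  have := finrank_two_le (F := F) e' y'
  have a1 : g e ∈ ((F ∙ g e) ⊔ F ∙ g y) ⊔ ((F ∙ e') ⊔ F ∙ y') :=
    Submodule.mem_sup_left (Submodule.mem_sup_left (Submodule.mem_span_singleton_self _))
  have a2 : g y ∈ ((F ∙ g e) ⊔ F ∙ g y) ⊔ ((F ∙ e') ⊔ F ∙ y') :=
    Submodule.mem_sup_left (Submodule.mem_sup_right (Submodule.mem_span_singleton_self _))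
  refine fullT_of_small hΦ hR h3 hn hE (H.mul_mem (H.mul_mem hg (hE (Φ.eich_mem_E _ _ _ k))) (H.inv_mem hg))
    (L := ((F ∙ g e) ⊔ F ∙ g y) ⊔ ((F ∙ e') ⊔ F ∙ y')) (by omega) (fun x => ?_) (fun x hx => ?_)
    (fun k' => hr fun x y => by simpa [LinearEquiv.mul_apply] using k' (g x) (g y)) u
  · obtain ⟨x, rfl⟩ := g.surjective x
    simp only [LinearEquiv.mul_apply, LinearEquiv.coe_inv, LinearEquiv.symm_apply_apply, eich_apply, map_add,
      map_sub, map_smul]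
    convert sub_mem (sub_mem (Submodule.smul_mem _ (Φ.B x y) a1) (Submodule.smul_mem _ (K.ε * Φ.B x e) a2))
      (Submodule.smul_mem _ (K.ε * a * Φ.B x e) a1) using 1
    abel
  · rw [perp_sup, perp_sup _ (F ∙ e')] at hx
    rw [LinearEquiv.mul_apply, LinearEquiv.mul_apply, eich_fix k (by simpa [he] using Φ.mem_perp_singleton.1 hx.2.1)
      (by simpa [hy] using Φ.mem_perp_singleton.1 hx.2.2)]
    simp

/-- orthogonal groups are maximal in symplectic groups in characteristic two -/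
theorem symp_le_of_orth [Finite F] {Φ : Form (Kind.symp F) V} {Ψ : Form (Kind.orth F) V} (hΨ : Ψ.Nondeg)
    (hB : ∀ u v, Φ.B u v = Ψ.B u v) (h2 : (2 : F) = 0) (hn : 4 ≤ finrank F V) (h1 : Ψ.Isom ≤ H)
    (h3 : H ≤ Φ.Isom) {g : V ≃ₗ[F] V} (hg : g ∈ H) (hg' : g ∉ Ψ.Isom) : Φ.Isom ≤ H := by
  have hΦ : Φ.Nondeg := fun v hv => hΨ v fun u => hB u v ▸ hv u
  have c : ∀ (v : V) (c : F), c * (Kind.symp F).σ c * Φ.N v + (Kind.symp F).T ((Kind.symp F).σ c) = 0 :=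
    fun v c => by simp [symp_N]
  have k1 : ∀ v, Φ.qrefl v 1 (c _ _) ∈ H → ∀ g ∈ H, Φ.qrefl (g v) 1 (c _ _) ∈ H := fun v hv g hg =>
    Φ.qrefl_conj (h3 hg) v 1 (c _ _) ▸ H.mul_mem (H.mul_mem hg hv) (H.inv_mem hg)
  have k2 : ∀ v, Ψ.N v = 1 → Φ.qrefl v 1 (c _ _) ∈ H := fun v hv => by
    convert h1 (Ψ.refl_mem v (by simp [hv]))
    ext x
    rw [qrefl_apply, refl_apply, hv, hB, inv_one, sub_eq_add_neg, ← neg_smul]
    congr 2
    linear_combination Ψ.B x v * h2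
  have k3 : ∀ v w, v ≠ 0 → w ≠ 0 → Ψ.N v = Ψ.N w → Φ.qrefl v 1 (c _ _) ∈ H → Φ.qrefl w 1 (c _ _) ∈ H :=
    fun v w hv hw h k => by
    obtain ⟨g, g1, rfl⟩ := hΨ.exists_isom_vec hv hw h
    exact k1 v k g (h1 g1)
  have hR := orth_rich0 hΨ (by omega)
  obtain ⟨v, v1, v2⟩ : ∃ v, Ψ.N v = 1 ∧ Ψ.N (g v) ≠ 1 := by
    by_contra hc
    push Not at hc
    have a1 : ∀ v, Ψ.N v ≠ 0 → Ψ.N (g v) = Ψ.N v := fun v hv => by
      obtain ⟨t, ht⟩ := exists_sq_of_two h2 (Ψ.N v)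
      have t0 : t ≠ 0 := by rintro rfl; exact hv (by simp [← ht])
      have := hc (t⁻¹ • v) (by rw [orth_N_smul, ← ht]; field_simp)
      rw [map_smul, orth_N_smul] at this
      rw [← ht]; field_simp at this; exact this
    refine hg' (mem_Isom_orth.2 fun v => ?_)
    by_cases a2 : Ψ.N v = 0
    · by_cases a3 : v = 0
      · simp [a3]
      obtain ⟨f, hf⟩ := hΨ.exists_hyp a3 a2
      obtain ⟨y, a, y1, y2, y3⟩ := hR _ _ hf
      have y4 : Ψ.N y ≠ 0 := y2 ▸ y3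
      have y5 := Ψ.B_symm_zero (Ψ.mem_hperp.1 y1).1
      have := a1 (v + y) (by rwa [Ψ.N_add_of_orth y5, a2, zero_add])
      rw [map_add, orth_N_add, orth_N_add, a1 y y4, ← hB, (h3 hg).1, hB] at this
      linear_combination this
    · exact a1 v a2
  obtain ⟨e, f, hh⟩ := orth_exists_hyp hΨ (by omega)
  obtain ⟨y, hy⟩ := orth_represents (hh.nondeg_hperp hΨ) (by have := hh.finrank_hperp; omega) (Ψ.N (g v))
  have hy' : Ψ.N y = Ψ.N (g v) := hy
  have y1 := Ψ.mem_hperp.1 y.2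
  have k4 : ∀ w, Φ.qrefl w 1 (c _ _) ∈ H := fun w => by
    by_cases a1 : Ψ.N w = 1
    · exact k2 w a1
    by_cases a2 : w = 0
    · convert H.one_mem
      ext x; simp [qrefl_apply, a2]
    obtain ⟨β, hβ⟩ := exists_sq_of_two h2 ((Ψ.N w - 1) / (Ψ.N (g v) - 1))
    have b0 := sub_ne_zero.2 v2
    have b1 : β ≠ 0 := by rintro rfl; exact div_ne_zero (sub_ne_zero.2 a1) b0 (by simp [← hβ])
    have b2 : Ψ.N (e + f) = 1 := by simpa using hh.N_add_smul 1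
    have b3 : Ψ.N (β • e + y) = Ψ.N (g v) := by simp [orth_N_add, orth_N_smul, hh.he, hy', Ψ.B_symm_zero y1.1]
    have b4 : Ψ.B (e + f) (β • e + y) = β := by
      simp [hh.Bee, hh.Bfe, Ψ.B_symm_zero y1.1, Ψ.B_symm_zero y1.2]
    refine k3 _ w (by rw [Ne, LinearEquiv.map_eq_zero_iff]; rintro k; simp [k] at b2) a2 ?_
      (k1 _ (k2 _ b2) _ (k3 (g v) (β • e + y) (by rw [Ne, LinearEquiv.map_eq_zero_iff]; rintro rfl; simp at v1)
        (fun k => b1 (by rw [← b4, k, map_zero])) b3.symm (k1 v (k2 v v1) g hg)))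
    rw [qrefl_apply, orth_N_add, orth_N_smul, orth_B_smul, hB, b2, b3, b4]
    field_simp at hβ
    linear_combination hβ + β ^ 2 * h2
  rw [← symp_closure_transvSet hΦ, Subgroup.closure_le]
  rintro _ ⟨d, a, h, -, rfl⟩
  obtain ⟨t, rfl⟩ := exists_sq_of_two h2 a
  rw [SetLike.mem_coe]
  convert k4 (t • d) using 1
  ext x
  simp [qrefl_apply, smul_smul]; ring_nf

end Form

end Cfsg.Agent.Classical
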