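import Cfsg.Agent.Lib.Classical.SpUE
import Cfsg.Agent.Lib.Transfer.Hall
import Mathlib.LinearAlgebra.Projectivization.Action
import Mathlib.LinearAlgebra.Projectivization.Cardinality
import Mathlib.Algebra.QuadraticAlgebra.Basic

/-! Minimal covers by nilpotent subgroups. -/
set_option autoImplicit false
open Equiv
open scoped LinearAlgebra.Projectivization

namespace Cfsg.Agent.Classical.NCov

section abstract
variable {Γ : Type*} [Group Γ] [Finite Γ] {X : Type*} [Finite X] {p : ℕ} [Fact p.Prime]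

def NC (𝓐 : Finset (Subgroup Γ)) : Prop := ((∀ A ∈ 𝓐, A ≠ ⊤) ∧ (∀ g, ∃ A ∈ 𝓐, g ∈ A)) ∧
  (∀ 𝓑 : Finset (Subgroup Γ), (∀ A ∈ 𝓑, A ≠ ⊤) ∧ (∀ g, ∃ A ∈ 𝓑, g ∈ A) → 𝓐.card ≤ 𝓑.card) ∧
  ∀ A ∈ 𝓐, Group.IsNilpotent A

omit [Finite Γ] in
theorem NC.drop {𝓐 : Finset (Subgroup Γ)} (h : NC 𝓐) (f : Subgroup Γ → Subgroup Γ) {A : Subgroup Γ} (hA : A ∈ 𝓐)
    (hf : ∀ B, B ≠ ⊤ → f B ≠ ⊤) (hc : ∀ g, ∃ B ∈ 𝓐, B ≠ A ∧ g ∈ f B) : False := by
  classical
  have := (h.2.1 ((𝓐.erase A).image f) ⟨fun C hC => ?_, fun g => ?_⟩).trans Finset.card_image_le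
  · exact absurd this (Finset.card_erase_lt_of_mem hA).not_ge
  · obtain ⟨B, hB, rfl⟩ := Finset.mem_image.1 hC
    exact hf B (h.1.1 B (Finset.mem_of_mem_erase hB))
  · obtain ⟨B, hB, h1, h2⟩ := hc g
    exact ⟨_, Finset.mem_image_of_mem _ (Finset.mem_erase.2 ⟨h1, hB⟩), h2⟩

theorem fix (φ : Γ →* Perm X) (hX : ¬ p ∣ Nat.card X) {A : Subgroup Γ} (hA : Group.IsNilpotent A) {u : Γ}
    (hu : u ∈ A) {k : ℕ} (hp : u ^ p ^ k = 1) {x : X} (hx : ∀ y, φ u y = y → y = x) : ∀ g ∈ A, φ g x = x := by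
  have h1 : IsPGroup p (Subgroup.zpowers (⟨u, hu⟩ : A)) := by
    rintro ⟨_, j, rfl⟩
    refine ⟨k, Subtype.ext (Subtype.ext ?_)⟩
    show (u ^ j) ^ p ^ k = 1
    rw [← zpow_natCast, ← zpow_mul, mul_comm, zpow_mul, zpow_natCast, hp, one_zpow]
  obtain ⟨P, hP⟩ := h1.exists_le_sylow
  have hN : (P : Subgroup A).Normal := inferInstance
  letI : MulAction (P : Subgroup A) X := MulAction.compHom X (φ.comp (A.subtype.comp (P : Subgroup A).subtype))
  obtain ⟨y, hy⟩ := P.2.nonempty_fixed_point_of_prime_not_dvd_card X hX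
  have hu' := hP (Subgroup.mem_zpowers _)
  obtain rfl := hx y (hy ⟨_, hu'⟩)
  intro g hg
  have : φ (g⁻¹ * u * g⁻¹⁻¹) y = y := hy ⟨_, hN.conj_mem _ hu' ⟨g, hg⟩⁻¹⟩
  rw [inv_inv, map_mul, map_mul, map_inv, Perm.mul_apply, Perm.mul_apply, Perm.inv_eq_iff_eq] at this
  exact hx _ this

omit [Finite Γ] [Finite X] in
theorem conj (φ : Γ →* Perm X) {u : Γ} {x : X} (hx : ∀ y, φ u y = y → y = x) (g : Γ) :
    ∀ y, φ (g * u * g⁻¹) y = y → y = φ g x := fun y h => by
  rw [map_mul, map_mul, map_inv, Perm.mul_apply, Perm.mul_apply, ← Perm.eq_inv_iff_eq] at h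
  rw [← hx _ h]; simp

def st (φ : Γ →* Perm X) (x : X) : Subgroup Γ := (MulAction.stabilizer (Perm X) x).comap φ

theorem case1 (φ φ' : Γ →* Perm X) (hX : ¬ p ∣ Nat.card X) {u t g : Γ} {k : ℕ} (hp : u ^ p ^ k = 1) {x x' : X}
    (hx : ∀ y, φ u y = y → y = x) (hx' : ∀ y, φ' u y = y → y = x') (ht : φ t x = x) (ht' : φ' t x' ≠ x')
    (hg : φ g x ≠ x) {𝓐 : Finset (Subgroup Γ)} (h : NC 𝓐) : False := by
  classical
  obtain ⟨A, hA, hu⟩ := h.1.2 u
  obtain ⟨B, hB, hu'⟩ := h.1.2 (t * u * t⁻¹)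
  have hp' : (t * u * t⁻¹) ^ p ^ k = 1 := by rw [conj_pow, hp]; simp
  have hne : B ≠ A := by
    rintro rfl
    exact ht' (conj φ' hx' t _ (fix φ' hX (h.2.2 _ hA) hu hp hx' _ hu')).symm
  refine h.drop (fun C => if C = B then st φ x else C) hA (fun C hC => ?_) fun c => ?_
  · split_ifs
    · exact fun e => hg (e.ge (Subgroup.mem_top g))
    · exact hC
  · obtain ⟨C, hC, hc⟩ := h.1.2 c
    by_cases e : C = A
    · exact ⟨B, hB, hne, by rw [if_pos rfl]; exact fix φ hX (h.2.2 _ hA) hu hp hx c (e ▸ hc)⟩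
    refine ⟨C, hC, e, ?_⟩
    split_ifs with e'
    · exact fix φ hX (h.2.2 _ hB) hu' hp' (ht ▸ conj φ hx t) c (e' ▸ hc)
    · exact hc

theorem case2 (φ : Γ →* Perm X) (hX : ¬ p ∣ Nat.card X) {u t : Γ} {k B C : ℕ} (hp : u ^ p ^ k = 1) {a b : X}
    (hx : ∀ y, φ u y = y → y = a) (htr : ∀ x, ∃ g, φ g a = x) (hab : a ≠ b)
    (ht : ∀ y, φ t y = y ↔ y = a ∨ y = b) (hB : t ^ B = 1) (hpB : p.Coprime B) (hCB : C.Coprime B)
    (hs : ∀ g, (∀ x, φ g x ≠ x) → ∃ s, g ∈ Subgroup.zpowers s ∧ ∃ s0 ∈ Subgroup.zpowers s, s0 ^ C = 1 ∧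
      φ (s0 ^ 2) a ≠ a) {𝓐 : Finset (Subgroup Γ)} (h : NC 𝓐) : False := by
  classical
  obtain ⟨A, hA, hu⟩ := h.1.2 t
  have cm : ∀ w ∈ A, ∀ D, D.Coprime B → w ^ D = 1 → ∀ y, y = a ∨ y = b → φ w y = a ∨ φ w y = b := fun w hw D h1 h2 y hy => by
    haveI := h.2.2 A hA
    have : w * t = t * w := congrArg Subtype.val (Transfer.commute_of_coprime_of_nilpotent (G := A) (x := ⟨w, hw⟩)
      (y := ⟨t, hu⟩) (by simpa using ((h1.coprime_dvd_left (orderOf_dvd_of_pow_eq_one h2)).coprime_dvd_right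
        (orderOf_dvd_of_pow_eq_one hB))))
    rw [← ht, ← Perm.mul_apply, ← map_mul, ← this, map_mul, Perm.mul_apply, (ht y).2 hy]
  refine h.drop (fun D => if h : ∃ x, D ≤ st φ x then st φ h.choose else D) hA (fun D hD => ?_) fun g => ?_
  · split_ifs with e
    · intro e'
      obtain ⟨g, hg⟩ := htr e.choose
      obtain ⟨g', hg'⟩ := htr b
      have k : ∀ c, φ c e.choose = e.choose := fun c => e'.ge (Subgroup.mem_top c)
      have k1 := k g⁻¹
      have k2 := k (g' * g⁻¹)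
      rw [← hg] at k1 k2
      simp [hg'] at k1 k2
      exact hab (k1.trans k2.symm)
    · exact hD
  by_cases hg : ∃ x, φ g x = x
  · obtain ⟨x, hg⟩ := hg
    obtain ⟨c, rfl⟩ := htr x
    obtain ⟨D, hD, hw⟩ := h.1.2 (c * u * c⁻¹)
    have hp' : (c * u * c⁻¹) ^ p ^ k = 1 := by rw [conj_pow, hp]; simp
    have k1 := fix φ hX (h.2.2 _ hD) hw hp' (conj φ hx c)
    refine ⟨D, hD, ?_, ?_⟩
    · rintro rfl
      have k2 := cm _ hw _ (hpB.pow_left k) hp'
      have k3 := k1 _ hw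
      rcases (ht _).1 (k1 t hu) with e | e <;> rw [e] at k3
      · rcases k2 b (.inr rfl) with e' | e'
        · exact hab ((φ _).injective (k3.trans e'.symm))
        · exact hab (e.symm.trans (conj φ hx c b e').symm)
      · rcases k2 a (.inl rfl) with e' | e'
        · exact hab ((conj φ hx c a e').trans e)
        · exact hab ((φ _).injective (e'.trans k3.symm))
    · have e : ∃ x, D ≤ st φ x := ⟨_, k1⟩
      simp only [dif_pos e]
      rw [conj φ hx c _ (e.choose_spec hw)]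
      exact hg
  · push Not at hg
    obtain ⟨s, h1, s0, h2, h3, h4⟩ := hs g hg
    obtain ⟨D, hD, hw⟩ := h.1.2 s
    refine ⟨D, hD, ?_, ?_⟩
    · rintro rfl
      have k2 := cm _ (Subgroup.zpowers_le_of_mem hw h2) _ hCB h3
      rw [sq, map_mul, Perm.mul_apply] at h4
      rcases k2 a (.inl rfl) with e | e
      · exact h4 (by rw [e, e])
      · rcases k2 b (.inr rfl) with e' | e'
        · exact h4 (by rw [e, e'])
        · exact hab ((φ _).injective (e.trans e'.symm))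
    · have := Subgroup.zpowers_le_of_mem hw h1
      split_ifs with e
      exacts [e.choose_spec this, this]

end abstract
open Matrix

variable {F : Type*} [Field F] {n : ℕ}

abbrev PG (n : ℕ) (F : Type*) [Field F] := GL (Fin n) F ⧸ Subgroup.center (GL (Fin n) F)

def act : PG n F →* Perm (ℙ F (Fin n → F)) := MulAction.toPermHom (ProjGenLinGroup (Fin n) F) _

theorem act_iff (g : GL (Fin n) F) {v w : Fin n → F} (hv : v ≠ 0) (hw : w ≠ 0) :
    act (g : PG n F) (.mk F v hv) = .mk F w hw ↔ ∃ c : F, c • w = g.1 *ᵥ v :=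
  Projectivization.mk_eq_mk_iff' F (g • v) w ((smul_ne_zero_iff_ne g).2 hv) hw

def tr : GL (Fin n) F →* GL (Fin n) F where
  toFun g := ⟨(g⁻¹).1ᵀ, g.1ᵀ, by rw [← transpose_mul]; simp, by rw [← transpose_mul]; simp⟩
  map_one' := by ext1; simp
  map_mul' g h := by ext1; simp

def trq : PG n F →* PG n F := QuotientGroup.map _ _ tr fun g hg => Subgroup.mem_center_iff.2 fun h => by
  rw [show h = tr (tr h) from rfl, ← map_mul, ← map_mul, Subgroup.mem_center_iff.1 hg]

theorem scal {g : GL (Fin n) F} {c : F} (h : g.1 = c • 1) : (g : PG n F) = 1 :=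
  (QuotientGroup.eq_one_iff _).2 (GeneralLinearGroup.mem_center_iff_val_mem_range_scalar.2 ⟨c, by
    rw [h, scalar_apply, smul_one_eq_diagonal]⟩)

def sh (n : ℕ) : Matrix (Fin n) (Fin n) F := of fun i j => if j.val = i.val + 1 then 1 else 0

theorem sh_pow (k : ℕ) (i j : Fin n) (h : (sh (F := F) n ^ k) i j ≠ 0) : j.val = i.val + k := by
  induction k generalizing j with
  | zero => by_contra e; exact h (by rw [pow_zero, one_apply_ne]; rintro rfl; simp at e)
  | succ k ih =>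
    rw [pow_succ, mul_apply] at h
    obtain ⟨l, -, hl⟩ := Finset.exists_ne_zero_of_sum_ne_zero h
    have h1 := ih l (left_ne_zero_of_mul hl)
    have h2 : j.val = l.val + 1 := by simpa [sh] using right_ne_zero_of_mul hl
    omega

variable {p : ℕ} [Fact p.Prime] [CharP F p]

theorem eig {A : Matrix (Fin n) (Fin n) F} {k : ℕ} (h : A ^ p ^ k = 1) {v : Fin n → F} (hv : v ≠ 0) {c : F}
    (e : c • v = A *ᵥ v) : A *ᵥ v = v := by
  have h1 : ∀ j, (A ^ j) *ᵥ v = c ^ j • v := fun j => by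
    induction j with
    | zero => simp
    | succ j ih => rw [pow_succ, ← mulVec_mulVec, ← e, mulVec_smul, ih, smul_smul, pow_succ']
  have h2 := h1 (p ^ k)
  rw [h, one_mulVec] at h2
  have h3 : c ^ p ^ k = 1 := smul_left_injective F hv (by simpa using h2.symm)
  have h4 : c = 1 := sub_eq_zero.1 (pow_eq_zero_iff (n := p ^ k) (pow_pos (Fact.out : p.Prime).pos k).ne' |>.1
    (by rw [sub_pow_char_pow, h3]; simp))
  rw [← e, h4, one_smul]

theorem exists_J (m : ℕ) : ∃ J : GL (Fin (m + 1)) F, J ^ p ^ (m + 1) = 1 ∧ J.1.det = 1 ∧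
    (∀ y, act (J : PG (m + 1) F) y = y → y = .mk F (Pi.single 0 1) (by simp)) ∧
    ∀ y, act (trq (J : PG (m + 1) F)) y = y → y = .mk F (Pi.single (Fin.last m) 1) (by simp) := by
  have h0 : (sh (F := F) (m + 1)) ^ p ^ (m + 1) = 0 := by
    ext i j
    by_contra h
    have := sh_pow _ i j h
    have := Nat.lt_pow_self (n := m + 1) (Fact.out : p.Prime).one_lt
    omega
  have h1 : (1 + sh (F := F) (m + 1)) ^ p ^ (m + 1) = 1 := by
    rw [add_pow_char_pow_of_commute _ _ (Commute.one_left _), h0]; simp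
  refine ⟨Units.ofPowEqOne _ _ h1 (pow_pos (Fact.out : p.Prime).pos _).ne', Units.ext (by simpa using h1), ?_,
    fun y h => ?_, fun y h => ?_⟩
  · have := congrArg det h1
    rw [det_pow, det_one] at this
    exact sub_eq_zero.1 (pow_eq_zero_iff (n := p ^ (m + 1)) (pow_pos (Fact.out : p.Prime).pos _).ne' |>.1
      (by rw [sub_pow_char_pow]; simpa [sub_eq_zero] using this))
  · induction y using Projectivization.ind with | _ v hv =>
    obtain ⟨c, hc⟩ := (act_iff _ hv hv).1 h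
    have e := eig h1 hv hc
    rw [add_mulVec, one_mulVec, add_eq_left] at e
    refine (Projectivization.mk_eq_mk_iff' F _ _ _ _).2 ⟨v 0, funext fun i => ?_⟩
    refine Fin.cases (by simp) (fun i => ?_) i
    have := congrFun e i.castSucc
    simp only [mulVec, dotProduct, sh, of_apply, Fin.val_castSucc] at this
    simp only [← Fin.val_succ i, ← Fin.ext_iff] at this
    simpa using this.symm
  · induction y using Projectivization.ind with | _ v hv =>
    rw [← Perm.eq_inv_iff_eq, ← map_inv, ← map_inv] at h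
    obtain ⟨c, hc⟩ := (act_iff (tr (Units.ofPowEqOne _ _ h1 (pow_pos (Fact.out : p.Prime).pos _).ne')⁻¹) hv hv).1 h.symm
    have e := eig (A := (1 + sh (m + 1))ᵀ) (by rw [← transpose_pow, h1, transpose_one]) hv hc
    rw [transpose_add, transpose_one, add_mulVec, one_mulVec, add_eq_left] at e
    refine (Projectivization.mk_eq_mk_iff' F _ _ _ _).2 ⟨v (Fin.last m), funext fun i => ?_⟩
    refine Fin.lastCases (by simp) (fun i => ?_) i
    have := congrFun e i.succ
    simp only [mulVec, dotProduct, sh, of_apply, transpose_apply, Fin.val_succ, add_left_inj] at this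
    simp only [← Fin.val_castSucc i, ← Fin.ext_iff] at this
    simpa [Fin.castSucc_ne_last] using this.symm

theorem card_P [Fintype F] (m : ℕ) : ¬ p ∣ Nat.card (ℙ F (Fin (m + 1) → F)) := fun h => by
  obtain ⟨k, -, hk⟩ := FiniteField.card F p
  have h1 := Projectivization.card' F (Fin (m + 1) → F)
  have h2 : p ∣ Nat.card (Fin (m + 1) → F) := by
    rw [Nat.card_fun, Nat.card_eq_fintype_card (α := F), hk, ← pow_mul]
    exact dvd_pow_self _ (by simp)
  rw [h1] at h2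
  exact (Fact.out : p.Prime).not_dvd_one ((Nat.dvd_add_right (h.mul_right _)).1 h2)

theorem nonsplit [Fintype F] (h4 : 4 ≤ Fintype.card F) {C : ℕ} (hC : Fintype.card F + 1 ∣ 2 * C) (G : Subgroup (PG 2 F))
    (hG : ∀ g : GL (Fin 2) F, g.1.det = 1 → (g : PG 2 F) ∈ G) (g : G) (hg : ∀ x, act g.1 x ≠ x) (a : ℙ F (Fin 2 → F)) :
    ∃ s, g ∈ Subgroup.zpowers s ∧ ∃ s0 ∈ Subgroup.zpowers s, s0 ^ C = 1 ∧ act (s0 ^ 2 : G).1 a ≠ a := by
  classical
  obtain ⟨g, hgG⟩ := g
  obtain ⟨γ, rfl⟩ := QuotientGroup.mk_surjective g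
  have hγ : ∀ (v : Fin 2 → F) (c : F), c • v = γ.1 *ᵥ v → v = 0 := fun v c h => by
    by_contra hv; exact hg _ ((act_iff γ hv hv).2 ⟨c, h⟩)
  haveI : Fact (∀ r : F, r ^ 2 ≠ -γ.1.det + γ.1.trace * r) := ⟨fun r hr => by
    obtain ⟨v, hv, e⟩ := (exists_mulVec_eq_zero_iff (M := r • (1 : Matrix _ _ F) - γ.1)).2 (by
      rw [det_fin_two, trace_fin_two] at hr
      rw [det_fin_two]; simp; linear_combination hr)
    exact hv (hγ v r (by rwa [sub_mulVec, smul_mulVec, one_mulVec, sub_eq_zero] at e))⟩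
  let K := QuadraticAlgebra F (-γ.1.det) γ.1.trace
  let ψ : K →ₐ[F] Matrix (Fin 2) (Fin 2) F := QuadraticAlgebra.lift ⟨γ.1, by
    rw [det_fin_two, trace_fin_two]
    ext i j; fin_cases i <;> fin_cases j <;> simp [mul_apply, Fin.sum_univ_two] <;> ring⟩
  have hψ : ∀ z : K, ψ z = z.re • 1 + z.im • γ.1 := fun _ => rfl
  letI : Fintype K := Fintype.ofEquiv _ (QuadraticAlgebra.equivProd _ _).symm
  have hK : Fintype.card K = Fintype.card F ^ 2 := by
    rw [Fintype.card_congr (QuadraticAlgebra.equivProd _ _), Fintype.card_prod, sq]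
  let θ : Kˣ →* PG 2 F := (QuotientGroup.mk' _).comp (Units.map (ψ : K →* Matrix (Fin 2) (Fin 2) F))
  haveI : IsCyclic θ.range := isCyclic_of_surjective _ θ.rangeRestrict_surjective
  haveI : IsCyclic (θ.range.subgroupOf G) := isCyclic_of_injective
    ((G.subtype.comp (θ.range.subgroupOf G).subtype).codRestrict θ.range fun x => x.2) fun x y h =>
      Subtype.ext (Subtype.ext (congrArg (fun z : θ.range => z.1) h))
  obtain ⟨s, hs⟩ := IsCyclic.exists_generator (α := θ.range.subgroupOf G)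
  have hs' : ∀ x : G, x.1 ∈ θ.range → x ∈ Subgroup.zpowers s.1 := fun x hx => by
    obtain ⟨j, hj⟩ := hs ⟨x, hx⟩
    exact ⟨j, congrArg Subtype.val hj⟩
  obtain ⟨y, hy⟩ := IsCyclic.exists_ofOrder_eq_natCard (α := Kˣ)
  rw [Nat.card_eq_fintype_card, Fintype.card_units, hK] at hy
  obtain ⟨q, hq⟩ : ∃ q, Fintype.card F = q + 1 := ⟨_, (Nat.sub_add_cancel (by omega)).symm⟩
  have hF : ∀ c : F, c ≠ 0 → c ^ q = 1 := fun c hc => by simpa [hq] using FiniteField.pow_card_sub_one_eq_one c hc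
  rw [hq, show (q + 1) ^ 2 - 1 = q * (q + 2) by rw [Nat.sub_eq_iff_eq_add (Nat.one_le_pow _ _ (by omega))]; ring] at hy
  have hω : (QuadraticAlgebra.omega : K) ≠ 0 := fun e => by simpa using congrArg QuadraticAlgebra.im e
  refine ⟨s.1, hs' _ ⟨Units.mk0 _ hω, congrArg (QuotientGroup.mk' _) (Units.ext ((hψ _).trans (by simp)))⟩,
    ⟨θ (y ^ q), hG _ ?_⟩, hs' _ ⟨_, rfl⟩, Subtype.ext ?_, fun h => ?_⟩
  · rw [map_pow, Units.val_pow_eq_pow_val, det_pow]
    exact hF _ (GeneralLinearGroup.det_ne_zero _)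
  · have : ((y ^ q) ^ C : Kˣ).1 ^ 2 = 1 := by
      obtain ⟨c, hc⟩ := hC
      rw [← Units.val_pow_eq_pow_val, ← pow_mul, ← pow_mul, mul_comm C, hc, hq, ← mul_assoc, pow_mul, ← hy,
        pow_orderOf_eq_one, one_pow, Units.val_one]
    show θ _ ^ C = 1
    rw [← map_pow]
    rcases mul_self_eq_one_iff.1 ((sq _).symm.trans this) with e | e
    · exact scal (c := 1) (by simp only [Units.coe_map, e]; simp)
    · exact scal (c := -1) (by simp only [Units.coe_map, e]; simp)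
  · induction a using Projectivization.ind with | _ v hv =>
    change act (θ _ ^ 2) _ = _ at h
    rw [← map_pow] at h
    obtain ⟨c, hc⟩ := (act_iff _ hv hv).1 h
    obtain ⟨z, hz⟩ : ∃ z, z = (y ^ q) ^ 2 := ⟨_, rfl⟩
    rw [← hz] at hc
    change _ = ψ z.1 *ᵥ v at hc
    rw [hψ, add_mulVec, smul_mulVec, smul_mulVec, one_mulVec] at hc
    have h0 : z.1.im = 0 := by
      by_contra h0
      refine hv (hγ v ((c - z.1.re) / z.1.im) (smul_right_injective _ h0 ?_))
      simp only [smul_smul, mul_div_cancel₀ _ h0, sub_smul, hc, add_sub_cancel_left]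
    have h1 : z.1 = algebraMap F K z.1.re := QuadraticAlgebra.ext rfl h0
    have h2 : z ^ q = 1 := Units.ext (by
      rw [Units.val_pow_eq_pow_val, h1, ← map_pow, hF _ (fun e => z.ne_zero (by rw [h1, e, map_zero])), map_one,
        Units.val_one])
    rw [hz, ← pow_mul, ← pow_mul, ← orderOf_dvd_iff_pow_eq_one, hy, Nat.mul_dvd_mul_iff_left (by omega)] at h2
    have h3 : q + 2 ∣ 4 := (Nat.dvd_add_right h2).1 ⟨2, by ring⟩
    have := Nat.le_of_dvd (by omega) h3
    omega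

theorem main [Fintype F] {n : ℕ} (hn : 3 ≤ n ∨ (n = 2 ∧ 4 ≤ Fintype.card F)) (G : Subgroup (PG n F))
    (hG : ∀ g : GL (Fin n) F, g.1.det = 1 → (g : PG n F) ∈ G) {𝓐 : Finset (Subgroup G)} (h : NC 𝓐) : False := by
  classical
  obtain ⟨p, hp⟩ := CharP.exists F
  haveI := Fact.mk (CharP.char_is_prime F p)
  obtain ⟨m, rfl⟩ : ∃ m, n = m + 2 := ⟨n - 2, by omega⟩
  obtain ⟨J, h1, h2, h3, h4⟩ := exists_J (F := F) (p := p) (m + 1)
  have hp : (⟨J, hG J h2⟩ : G) ^ p ^ (m + 1 + 1) = 1 := Subtype.ext (congrArg (QuotientGroup.mk' _) h1)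
  have htr : ∀ a x : ℙ F (Fin (m + 2) → F), ∃ g : G, (act.comp G.subtype) g a = x := fun a x => by
    obtain ⟨g, rfl⟩ := MulAction.exists_smul_eq (SpecialLinearGroup (Fin (m + 2)) F) a x
    exact ⟨⟨_, hG (SpecialLinearGroup.toGL g) g.2⟩, by induction a using Projectivization.ind with | _ v hv => rfl⟩
  have hab : Projectivization.mk F (Pi.single 0 1 : Fin (m + 2) → F) (by simp) ≠ .mk F (Pi.single 1 1) (by simp) :=
    fun e => by
      obtain ⟨c, hc⟩ := (Projectivization.mk_eq_mk_iff' F _ _ _ _).1 e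
      simpa using congrFun hc 0
  rcases hn with hn | ⟨hn, hq⟩
  · obtain ⟨g, hg⟩ := htr (.mk F (Pi.single 0 1) (by simp)) (.mk F (Pi.single 1 1) (by simp))
    have hl : Fin.last (m + 1) ≠ 1 := by simp [Fin.ext_iff]; omega
    let t := SpecialLinearGroup.toGL (⟨transvection (Fin.last (m + 1)) 1 (1 : F), det_transvection_of_ne _ _ hl _⟩ :
      SpecialLinearGroup (Fin (m + 2)) F)
    refine case1 (act.comp G.subtype) (act.comp (trq.comp G.subtype)) (card_P (m + 1)) hp h3 h4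
      (t := (⟨t, hG t (det_transvection_of_ne _ _ hl _)⟩ : G)⁻¹) ?_ (fun e => ?_) (hg ▸ hab.symm) h
    · rw [map_inv, Perm.inv_eq_iff_eq]
      refine ((act_iff t _ _).2 ⟨1, ?_⟩).symm
      change _ = transvection _ _ _ *ᵥ _
      ext i; simp [transvection, one_apply, Pi.single_apply]
    · obtain ⟨c, hc⟩ := (act_iff (tr t⁻¹) _ _).1 e
      change _ = (transvection _ _ _)ᵀ *ᵥ _ at hc
      have := congrFun hc 1
      simp [transvection, hl.symm] at this
  · obtain rfl : m = 0 := by omega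
    obtain ⟨l, hl, hl2⟩ := exists_sq_ne_one hq
    obtain ⟨B, C, hB, hB', hC, hCB⟩ : ∃ B C, Fintype.card F - 1 ∣ 2 * B ∧ B ∣ Fintype.card F - 1 ∧
        Fintype.card F + 1 ∣ 2 * C ∧ C.Coprime B := by
      obtain ⟨k, hk | hk⟩ := Nat.even_or_odd' (Fintype.card F)
      · refine ⟨_, _, dvd_mul_left _ _, dvd_rfl, dvd_mul_left _ _, ?_⟩
        rw [show Fintype.card F + 1 = 2 + (Fintype.card F - 1) by omega, Nat.coprime_add_self_left,
          Nat.coprime_two_left]
        exact ⟨k - 1, by omega⟩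
      · exact ⟨k, k + 1, by simp [hk], by simp [hk], ⟨1, by omega⟩, by simp⟩
    have hd : (diagonal ![l, l⁻¹]).det = 1 := by simp [hl]
    let t := SpecialLinearGroup.toGL (⟨diagonal ![l, l⁻¹], hd⟩ : SpecialLinearGroup (Fin 2) F)
    refine case2 (act.comp G.subtype) (card_P 1) hp h3 (htr _) hab (t := ⟨t, hG t hd⟩) (fun y => ?_)
      (Subtype.ext ?_) ?_ hCB (fun g hg => nonsplit hq hC G hG g hg _) h
    · induction y using Projectivization.ind with | _ v hv =>
      refine (act_iff t hv hv).trans ?_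
      change (∃ c : F, c • v = diagonal ![l, l⁻¹] *ᵥ v) ↔ _
      simp only [Projectivization.mk_eq_mk_iff', funext_iff, mulVec_diagonal, Nat.reduceAdd, Fin.forall_fin_two]
      simp only [Pi.smul_apply, smul_eq_mul, cons_val_zero, cons_val_one, mul_eq_mul_right_iff]
      constructor
      · rintro ⟨c, rfl | h0, h | h1⟩
        · exact absurd (by rw [sq]; nth_rewrite 2 [h]; exact mul_inv_cancel₀ hl) hl2
        · exact .inl ⟨v 0, by simp, by simp [h1]⟩
        · exact .inr ⟨v 1, by simp [h0], by simp⟩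
        · exact .inr ⟨v 1, by simp [h0], by simp⟩
      · rintro (⟨c, -, h⟩ | ⟨c, h, -⟩)
        · exact ⟨l, .inl rfl, .inr (by simpa using h.symm)⟩
        · exact ⟨l⁻¹, .inr (by simpa using h.symm), .inl rfl⟩
    · have : (l ^ B) * l ^ B = 1 := by
        obtain ⟨c, hc⟩ := hB
        rw [← pow_add, ← two_mul, hc, pow_mul, FiniteField.pow_card_sub_one_eq_one l hl, one_pow]
      refine scal (g := t ^ B) (c := l ^ B) ?_
      change (diagonal ![l, l⁻¹]) ^ B = _
      rw [diagonal_pow, smul_one_eq_diagonal]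
      congr 1; ext i; fin_cases i
      · simp
      · simpa using (eq_inv_of_mul_eq_one_left this).symm
    · obtain ⟨k, -, hk⟩ := FiniteField.card F p
      refine Nat.Coprime.coprime_dvd_right hB' ((Nat.coprime_self_sub_right (by omega)).2 ?_ |>.coprime_dvd_left
        (hk ▸ dvd_pow_self p k.ne_zero))
      simp

end Cfsg.Agent.Classical.NCov
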