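import Cfsg.Agent.Lib.Classical.NMax1

/-! Non-maximality of small decomposition stabilisers in `SL`. -/

set_option autoImplicit false

namespace Cfsg.Agent.Classical.NMax
open Matrix Cfsg.Geo Module

variable {ι : Type} [Fintype ι] [DecidableEq ι] {F : Type*} [Field F]
variable {t m : ℕ} {D : Fin t → Submodule F (ι → F)}

theorem wt_sub (B : Basis (Σ _ : Fin t, Fin m) F (ι → F)) {r : ℕ} (e : Fin r ↪ Fin t) (f : (Fin m → F) → F)
    (hf0 : f 0 = 0) (hf1 : ∀ z, z ≠ 0 → f z = 1) (x y : ι → F)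
    (hy : ∀ i, (∀ j, e j ≠ i) → ∀ a, B.repr y ⟨i, a⟩ = 0) :
    wt B (x + y) - wt B x =
      ∑ j, (f (fun a => B.repr x ⟨e j, a⟩ + B.repr y ⟨e j, a⟩) - f fun a => B.repr x ⟨e j, a⟩) := by
  classical
  have w : ∀ x, wt B x = ∑ i, f fun a => B.repr x ⟨i, a⟩ := fun x => Finset.sum_congr rfl fun i _ => by
    split_ifs with h
    · rw [← hf0]; congr 1; exact funext fun a => (h a).symm
    · exact (hf1 _ fun k => h (congrFun k)).symm
  rw [w, w, ← Finset.sum_sub_distrib, ← Finset.sum_subset (Finset.subset_univ (Finset.univ.map e)), Finset.sum_map]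
  · simp
  · intro i _ hi
    have : ∀ a, B.repr y ⟨i, a⟩ = 0 := hy i fun j hj => hi (by simp [← hj])
    simp [this]

theorem two_cases [Fintype F] (hq : Fintype.card F = 2) (x : F) : x = 0 ∨ x = 1 := by
  by_cases h : x = 0
  · exact .inl h
  · have := FiniteField.pow_card_sub_one_eq_one x h
    rw [hq] at this
    exact .inr (by simpa using this)

theorem two_zero [Fintype F] (hq : Fintype.card F = 2 ∨ Fintype.card F = 4) : (2 : F) = 0 := by
  have := FiniteField.cast_card_eq_zero F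
  rcases hq with h | h <;> rw [h] at this
  · exact_mod_cast this
  · have k : (2 : F) ^ 2 = 0 := by norm_num; exact_mod_cast this
    exact pow_eq_zero_iff (by norm_num) |>.1 k

theorem nmax_one [Fintype F] (hq : Fintype.card F ≤ 4) (ht : 5 ≤ t) (hD : IsMDecomposition 1 D) :
    ∃ K : Subgroup (GL ι F), decompositionStabilizer D ⊓ specialLinear ι F < K ∧ K < specialLinear ι F := by
  obtain ⟨B, h⟩ := exists_AB hD
  obtain ⟨e⟩ : Nonempty (Fin 5 ↪ Fin t) := ⟨Fin.castLEEmb ht⟩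
  have q2 : 2 ≤ Fintype.card F := Fintype.one_lt_card
  set f : (Fin 1 → F) → F := fun z => z 0 ^ (Fintype.card F - 1) with hf
  have f0 : f 0 = 0 := by simp [hf]; omega
  have f1 : ∀ z, z ≠ 0 → f z = 1 := fun z hz => FiniteField.pow_card_sub_one_eq_one _ fun k =>
    hz (funext fun a => by rw [Subsingleton.elim a 0]; exact k)
  have c : (2 : F) = 0 ∧ Fintype.card F ≠ 3 ∨ (3 : F) = 0 ∧ Fintype.card F = 3 := by
    by_cases k : Fintype.card F = 3
    · have := FiniteField.cast_card_eq_zero F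
      rw [k] at this
      exact .inr ⟨by exact_mod_cast this, k⟩
    · exact .inl ⟨two_zero (by omega), k⟩
  have c25 : (5 : F) * 5 = 1 := by
    rcases c with c | c
    · linear_combination 12 * c.1
    · linear_combination 8 * c.1
  have c5 : (5 : F) ≠ 0 := left_ne_zero_of_mul_eq_one c25
  obtain ⟨T, T1, T2⟩ := exists_tr (B.coord ⟨e 0, 0⟩ + B.coord ⟨e 1, 0⟩ + B.coord ⟨e 2, 0⟩ + B.coord ⟨e 3, 0⟩)
    (B ⟨e 0, 0⟩ + B ⟨e 1, 0⟩ + B ⟨e 2, 0⟩ + B ⟨e 3, 0⟩) (by
      simp [Finsupp.single_apply]; convert c5 using 1; norm_num)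
  obtain ⟨d, d1, d2⟩ := exists_tr (B.coord ⟨e 4, 0⟩) ((4 : F) • B ⟨e 4, 0⟩) (by
      simp [Finsupp.single_apply]; convert c5 using 1; norm_num)
  obtain ⟨g, g1, g2⟩ := exists_tr (B.coord ⟨e 0, 0⟩) (B ⟨e 1, 0⟩) (by simp [Finsupp.single_apply])
  have hT : T ∈ fstab (wt B) := fun x => by
    rw [T2, ← sub_eq_zero, wt_sub B e f f0 f1 _ _ fun i hi a => by
      simp [Finsupp.single_apply, hi]]
    simp [Fin.sum_univ_five, Finsupp.single_apply, hf]
    generalize B.repr x ⟨e 0, 0⟩ = a, B.repr x ⟨e 1, 0⟩ = b, B.repr x ⟨e 2, 0⟩ = c', B.repr x ⟨e 3, 0⟩ = d'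
    obtain k | k | k : Fintype.card F = 2 ∨ Fintype.card F = 3 ∨ Fintype.card F = 4 := by omega
    all_goals rw [k] at c ⊢; simp at c ⊢
    · linear_combination (2 * (a + b + c' + d')) * c
    · linear_combination (2 * (a + b + c' + d') ^ 2) * c
    · linear_combination (5 * (a + b + c' + d') ^ 3 - 3 * (a + b + c' + d') *
        (a * b + a * c' + a * d' + b * c' + b * d' + c' * d')) * c
  have hd : d ∈ fstab (wt B) := fun x => by
    rw [d2, ← sub_eq_zero, wt_sub B e f f0 f1 _ _ fun i hi a => by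
      simp [Finsupp.single_apply, hi]]
    simp [Fin.sum_univ_five, Finsupp.single_apply, hf]
    rw [← mul_one_add, mul_pow, show (1 + 4 : F) = 5 by norm_num, FiniteField.pow_card_sub_one_eq_one _ c5]
    simp
  refine between (K := fstab (wt B)) (inf_le_left.trans h.le_fstab) (k := T * d) (g := g) ?_ (mul_mem hT hd) ?_ ?_ ?_
  · rw [mem_SL, Units.val_mul, det_mul, T1, d1]
    simp [Finsupp.single_apply]; convert c25 using 2 <;> norm_num
  · refine h.not_mem (h.mem (e 0) 0) (j := e 1) (l := e 2) (a := 0) (b := 0) (by simp) ?_ ?_ <;>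
      rw [Units.val_mul, ← mulVec_mulVec, d2, T2] <;> simp [Finsupp.single_apply]
  · rw [mem_SL, g1]; simp [Finsupp.single_apply]
  · intro k
    have := k (B ⟨e 0, 0⟩)
    rw [g2, ← sub_eq_zero, wt_sub B e f f0 f1 _ _ fun i hi a => by
      simp [Finsupp.single_apply, hi]] at this
    simp [Fin.sum_univ_five, Finsupp.single_apply, hf] at this
    rw [zero_pow (by omega)] at this
    simp at this

/-- The local quadratic form in the case `m = q = 2`. -/
def f2 (z : Fin 2 → F) : F := z 0 + z 1 + z 0 * z 1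

theorem f2_one [Fintype F] (hq : Fintype.card F = 2) (z : Fin 2 → F) (hz : z ≠ 0) : f2 z = 1 := by
  have c : (2 : F) = 0 := two_zero (.inl hq)
  rcases two_cases hq (z 0) with a | a <;> rcases two_cases hq (z 1) with b | b
  · exact absurd (funext fun i => by fin_cases i <;> simp [a, b]) hz
  · simp [f2, a, b]
  · simp [f2, a, b]
  · simp only [f2, a, b]; linear_combination c

theorem nmax_two [Fintype F] (hq : Fintype.card F = 2) (ht : 3 ≤ t) {B : Basis (Σ _ : Fin t, Fin 2) F (ι → F)}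
    (h : AB D B) {X : Subgroup (GL ι F)}
    (hX : ∀ (g : GL ι F) (S : Finset (Fin t)), g.1.det = 1 →
      (∀ x, g.1 *ᵥ x = x + (∑ i ∈ S, B.repr x ⟨i, 1⟩) • ∑ i ∈ S, B ⟨i, 0⟩) → g ∈ X) :
    ∃ K : Subgroup (GL ι F), decompositionStabilizer D ⊓ X < K ∧ K < X := by
  obtain ⟨e⟩ : Nonempty (Fin 3 ↪ Fin t) := ⟨Fin.castLEEmb ht⟩
  have c : (2 : F) = 0 := two_zero (.inl hq)
  have f0 : f2 (0 : Fin 2 → F) = 0 := by simp [f2]
  have f1 := f2_one hq
  obtain ⟨T, T1, T2⟩ := exists_tr (B.coord ⟨e 0, 1⟩ + B.coord ⟨e 1, 1⟩ + B.coord ⟨e 2, 1⟩)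
    (B ⟨e 0, 0⟩ + B ⟨e 1, 0⟩ + B ⟨e 2, 0⟩) (by simp [Finsupp.single_apply])
  obtain ⟨g, g1, g2⟩ := exists_tr (B.coord ⟨e 0, 1⟩ + B.coord ⟨e 1, 1⟩)
    (B ⟨e 0, 0⟩ + B ⟨e 1, 0⟩) (by simp [Finsupp.single_apply])
  have hT : T ∈ fstab (wt B) := fun x => by
    rw [T2, ← sub_eq_zero, wt_sub B e f2 f0 f1 _ _ fun i hi a => by
      simp [Finsupp.single_apply, hi]]
    simp [Fin.sum_univ_three, Finsupp.single_apply, f2]
    generalize B.repr x ⟨e 0, 1⟩ = a, B.repr x ⟨e 1, 1⟩ = b, B.repr x ⟨e 2, 1⟩ = c'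
    have : (a + b + c') * (a + b + c') = a + b + c' := by rcases two_cases hq (a + b + c') with k | k <;> simp [k]
    linear_combination this + 2 * (a + b + c') * c
  refine between (K := fstab (wt B)) (inf_le_left.trans h.le_fstab) (k := T) (g := g) ?_ hT ?_ ?_ ?_
  · refine hX T (Finset.univ.map e) (by rw [T1]; simp [Finsupp.single_apply]) fun x => ?_
    rw [T2]; simp [Fin.sum_univ_three]
  · refine h.not_mem (h.mem (e 0) 1) (j := e 1) (l := e 2) (a := 0) (b := 0) (by simp) ?_ ?_ <;>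
      rw [T2] <;> simp [Finsupp.single_apply]
  · refine hX g {e 0, e 1} (by rw [g1]; simp [Finsupp.single_apply]) fun x => ?_
    rw [g2]; simp
  · intro k
    have := k (B ⟨e 0, 1⟩)
    rw [g2, ← sub_eq_zero, wt_sub B e f2 f0 f1 _ _ fun i hi a => by
      simp [Finsupp.single_apply, hi]] at this
    simp [Fin.sum_univ_three, Finsupp.single_apply, f2] at this
    exact one_ne_zero (α := F) (by linear_combination this - c)

end Cfsg.Agent.Classical.NMax
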