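import Cfsg.Agent.Lib.Classical.NMax2
import Cfsg.Prelude.Def_LieClassical

/-! Hermitian forms over the field with four elements: orthonormal pairs and transvections. -/

set_option autoImplicit false

namespace Cfsg.Agent.Classical.NMax
open Matrix Cfsg.Geo Module

variable {ι : Type} [Fintype ι] [DecidableEq ι] {F : Type*} [Field F]

/-- The elements of a finite group mapping a set into itself. -/
def pstab {G α : Type*} [Group G] [Finite G] [MulAction G α] (P : α → Prop) : Subgroup G where
  carrier := {g | ∀ v, P v → P (g • v)}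
  mul_mem' {a b} ha hb v h := by rw [mul_smul]; exact ha _ (hb _ h)
  one_mem' v h := by simpa using h
  inv_mem' {a} ha := by
    obtain ⟨n, hn⟩ : a⁻¹ ∈ Submonoid.powers a :=
      (isOfFinOrder_of_finite a).mem_powers_iff_mem_zpowers.2 (inv_mem (Subgroup.mem_zpowers a))
    rw [← hn]
    clear hn
    induction n with
    | zero => intro v h; simpa using h
    | succ n ih => intro v h; simp only [pow_succ, mul_smul]; exact ih _ (ha _ h)

/-- Hermitian forms over the field with four elements. -/
structure H4 {V : Type*} [AddCommGroup V] [Module F V] (h : V → V → F) : Prop where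
  two : (2 : F) = 0
  four : ∀ a : F, a ^ 4 = a
  om : ∃ w : F, w + w ^ 2 ≠ 0
  add_left : ∀ x y v, h (x + y) v = h x v + h y v
  smul_left : ∀ (c : F) x v, h (c • x) v = c * h x v
  herm : ∀ v w, h v w = h w v ^ 2

theorem four_facts [Fintype F] (hF : Fintype.card F = 4) :
    (2 : F) = 0 ∧ (∀ a : F, a ^ 4 = a) ∧ ∃ w : F, w + w ^ 2 ≠ 0 := by
  classical
  have two := two_zero (.inr hF)
  refine ⟨two, fun a => hF ▸ FiniteField.pow_card a, by_contra fun k => ?_⟩
  push Not at k
  have : (Finset.univ : Finset F) ⊆ {0, 1} := fun w _ => by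
    have : w * (w - 1) = 0 := by linear_combination k w - w * two
    simpa [sub_eq_zero] using this
  have := (Finset.card_le_card this).trans Finset.card_le_two
  rw [Finset.card_univ] at this
  omega

namespace H4
variable {V : Type*} [AddCommGroup V] [Module F V] {h : V → V → F} (H : H4 h)
include H

theorem add_right (v x y : V) : h v (x + y) = h v x + h v y := by
  rw [H.herm v (x + y), H.add_left, H.herm v x, H.herm v y]
  linear_combination (h x v * h y v) * H.two

theorem smul_right (c : F) (v x : V) : h v (c • x) = c ^ 2 * h v x := by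
  rw [H.herm v (c • x), H.smul_left, H.herm v x]; ring

theorem symm0 {x y : V} (k : h x y = 0) : h y x = 0 := by rw [H.herm, k]; ring

theorem norm1 {x : V} (k : h x x ≠ 0) : h x x = 1 :=
  mul_left_cancel₀ k (by linear_combination -H.herm x x)

theorem cube {c : F} (k : c ≠ 0) : c * c ^ 2 = 1 := mul_left_cancel₀ k (by linear_combination H.four c)

/-- The linear functional `x ↦ h x v`. -/
def fn (v : V) : V →ₗ[F] F where
  toFun x := h x v
  map_add' x y := H.add_left x y v
  map_smul' c x := H.smul_left c x v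

theorem tr_iso {v : V} (hv : h v v = 0) (x y : V) : h (x + h x v • v) (y + h y v • v) = h x y := by
  simp only [H.add_left, H.add_right, H.smul_left, H.smul_right, hv, H.herm v y]
  linear_combination (h x v * h y v ^ 2) * H.two

theorem exists_on [FiniteDimensional F V] {W : Submodule F V} (h2 : finrank F W = 2)
    (hW : ∀ w ∈ W, w ≠ 0 → ∃ x ∈ W, h x w ≠ 0) :
    ∃ a ∈ W, ∃ b ∈ W, h a a = 1 ∧ h b b = 1 ∧ h a b = 0 ∧ h b a = 0 ∧
      ∀ x ∈ W, h x x ≠ 0 → (∃ c : F, c ≠ 0 ∧ x = c • a) ∨ ∃ c : F, c ≠ 0 ∧ x = c • b := by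
  obtain ⟨a, aW, aa⟩ : ∃ a ∈ W, h a a ≠ 0 := by_contra fun k => by
    push Not at k
    obtain ⟨w, w1, w2⟩ := Submodule.exists_mem_ne_zero_of_ne_bot (p := W) (by rintro rfl; simp at h2)
    obtain ⟨x, x1, x2⟩ := hW w w1 w2
    obtain ⟨o, ho⟩ := H.om
    have e1 := k _ (W.add_mem x1 w1)
    have e2 := k _ (W.add_mem (W.smul_mem o x1) w1)
    simp only [H.add_left, H.add_right, H.smul_left, H.smul_right, k x x1, k w w1] at e1 e2
    exact mul_ne_zero ho x2 (by linear_combination e2 - o ^ 2 * e1 + o ^ 2 * h x w * H.two)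
  have a1 := H.norm1 aa
  have a0 : a ≠ 0 := by rintro rfl; exact aa ((H.fn 0).map_zero)
  obtain ⟨z, zW, z1⟩ : ∃ z ∈ W, z ∉ Submodule.span F {a} := by_contra fun k => by
    push Not at k
    have := Submodule.finrank_mono (show W ≤ Submodule.span F {a} from k)
    rw [finrank_span_singleton a0] at this
    omega
  obtain ⟨b, bW, ba, b0⟩ : ∃ b ∈ W, h b a = 0 ∧ b ≠ 0 :=
    ⟨z + h z a • a, W.add_mem zW (W.smul_mem _ aW), by
      rw [H.add_left, H.smul_left, a1]; linear_combination h z a * H.two, fun k => z1 (by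
        rw [eq_neg_of_add_eq_zero_left k]
        exact Submodule.neg_mem _ (Submodule.smul_mem _ _ (Submodule.mem_span_singleton_self a)))⟩
  have ab := H.symm0 ba
  have li : LinearIndependent F ![a, b] := LinearIndependent.pair_iff.2 fun s r k => by
    have : s = 0 := by
      have := congrArg (H.fn a) k
      simpa [fn, H.add_left, H.smul_left, a1, ba, show h 0 a = 0 from (H.fn a).map_zero] using this
    exact ⟨this, by simpa [this, b0] using k⟩
  have sp : Submodule.span F {a, b} = W := Submodule.eq_of_le_of_finrank_eq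
    (Submodule.span_le.2 (by simp [Set.insert_subset_iff, aW, bW])) (by
      have := finrank_span_eq_card li
      rw [Matrix.range_cons, Matrix.range_cons, Matrix.range_empty, Set.union_empty, Set.singleton_union] at this
      rw [this, h2]; simp)
  have dec : ∀ x ∈ W, ∃ s r : F, s • a + r • b = x := fun x hx => Submodule.mem_span_pair.1 (sp ▸ hx)
  have b1 : h b b = 1 := H.norm1 fun k => by
    obtain ⟨x, x1, x2⟩ := hW b bW b0
    obtain ⟨s, r, rfl⟩ := dec x x1
    simp [H.add_left, H.smul_left, ab, k] at x2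
  refine ⟨a, aW, b, bW, a1, b1, ab, ba, fun x hx k => ?_⟩
  obtain ⟨s, r, rfl⟩ := dec x hx
  simp only [H.add_left, H.add_right, H.smul_left, H.smul_right, a1, b1, ab, ba] at k
  by_cases s0 : s = 0
  · exact .inr ⟨r, by rintro rfl; simp [s0] at k, by simp [s0]⟩
  · by_cases r0 : r = 0
    · exact .inl ⟨s, s0, by simp [r0]⟩
    · exact absurd (by linear_combination H.cube s0 + H.cube r0 + H.two) k

end H4

theorem h4_herm [Fintype F] (hF : Fintype.card F = 4) (n : ℕ) : H4 (hermForm n F 2) := by
  obtain ⟨a, b, c⟩ := four_facts hF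
  haveI : CharP F 2 := (CharP.charP_iff_prime_eq_zero Nat.prime_two).2 (by exact_mod_cast a)
  refine ⟨a, b, c, fun x y v => by simp [hermForm, add_mul, Finset.sum_add_distrib],
    fun c x v => by simp [hermForm, Finset.mul_sum, mul_assoc], fun v w => ?_⟩
  simp only [hermForm]
  rw [sum_pow_char]
  exact Finset.sum_congr rfl fun i _ => by linear_combination (-w i ^ 2) * b (v i)

theorem exists_utr [Fintype F] (hF : Fintype.card F = 4) {n : ℕ} {v : Fin n → F} (hv : hermForm n F 2 v v = 0) :
    ∃ g ∈ GU n F 2 ⊓ specialLinear (Fin n) F, ∀ x, g.1 *ᵥ x = x + hermForm n F 2 x v • v := by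
  have H := h4_herm hF n
  obtain ⟨g, g1, g2⟩ := exists_tr (H.fn v) v (by simp [H4.fn, hv])
  refine ⟨g, ⟨fun x y => ?_, mem_SL.2 (by rw [g1]; simp [H4.fn, hv])⟩, g2⟩
  change hermForm n F 2 (g.1 *ᵥ x) (g.1 *ᵥ y) = _
  rw [g2, g2]; exact H.tr_iso hv x y

end Cfsg.Agent.Classical.NMax
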