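import Cfsg.Agent.Lib.Classical.NMax3

/-! Non-maximality of tensor decomposition stabilisers: the general frame. -/

set_option autoImplicit false

namespace Cfsg.Agent.Classical.NMax
open Matrix Cfsg.Geo Module
open scoped Kronecker

variable {ι : Type} [Fintype ι] [DecidableEq ι] {F : Type*} [Field F]

/-- Pure tensors in the coordinates given by `e` and `P`. -/
noncomputable def tp {n₁ n₂ : ℕ} (e : ι ≃ Fin n₁ × Fin n₂) (P : GL ι F) :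
    (Fin n₁ → F) →ₗ[F] (Fin n₂ → F) →ₗ[F] (ι → F) :=
  LinearMap.mk₂ F (fun x y => P.1 *ᵥ ((fun a : Fin n₁ × Fin n₂ => x a.1 * y a.2) ∘ e))
    (fun x x' y => by rw [← mulVec_add]; congr 1; ext i; simp [add_mul])
    (fun c x y => by rw [← mulVec_smul]; congr 1; ext i; simp [mul_assoc])
    (fun x y y' => by rw [← mulVec_add]; congr 1; ext i; simp [mul_add])
    (fun c x y => by rw [← mulVec_smul]; congr 1; ext i; simp [mul_left_comm])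

theorem tp_apply {n₁ n₂ : ℕ} (e : ι ≃ Fin n₁ × Fin n₂) (P : GL ι F) (x : Fin n₁ → F) (y : Fin n₂ → F) :
    tp e P x y = P.1 *ᵥ ((fun a : Fin n₁ × Fin n₂ => x a.1 * y a.2) ∘ e) := rfl

theorem act_of_mem {n₁ n₂ : ℕ} {e : ι ≃ Fin n₁ × Fin n₂} {P g : GL ι F} (hg : g ∈ tensorProductSubgroup n₁ n₂ e P) :
    ∃ (A : GL (Fin n₁) F) (B : GL (Fin n₂) F), ∀ z : Fin n₁ × Fin n₂ → F,
      g.1 *ᵥ (P.1 *ᵥ (z ∘ e)) = P.1 *ᵥ (((A.1 ⊗ₖ B.1) *ᵥ z) ∘ e) := by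
  obtain ⟨_, ⟨k, ⟨A, B, hk⟩, rfl⟩, rfl⟩ := hg
  refine ⟨A, B, fun z => ?_⟩
  change (P * glReindex e.symm k * P⁻¹).1 *ᵥ _ = _
  rw [mulVec_mulVec, ← Units.val_mul, inv_mul_cancel_right, Units.val_mul, ← mulVec_mulVec, ← hk]
  congr 1
  change (k.1.submatrix e e) *ᵥ _ = _
  rw [submatrix_mulVec_equiv]
  congr 2
  ext i; simp

theorem tp_of_mem {n₁ n₂ : ℕ} {e : ι ≃ Fin n₁ × Fin n₂} {P g : GL ι F} (hg : g ∈ tensorProductSubgroup n₁ n₂ e P) :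
    ∃ (A : (Fin n₁ → F) ≃ (Fin n₁ → F)) (B : (Fin n₂ → F) ≃ (Fin n₂ → F)), (A 0 = 0 ∧ B 0 = 0) ∧
      ∀ x y, g.1 *ᵥ tp e P x y = tp e P (A x) (B y) := by
  obtain ⟨A, B, h⟩ := act_of_mem hg
  refine ⟨MulAction.toPerm A, MulAction.toPerm B, ⟨smul_zero A, smul_zero B⟩, fun x y => ?_⟩
  rw [tp_apply, h, tp_apply]
  congr 2
  ext ⟨i, j⟩
  change _ = (A.1 *ᵥ x) i * (B.1 *ᵥ y) j
  simp only [mulVec, dotProduct, kroneckerMap_apply, Fintype.sum_prod_type, Finset.sum_mul_sum]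
  exact Finset.sum_congr rfl fun a _ => Finset.sum_congr rfl fun b _ => by ring

theorem form_gram {n : ℕ} {σ : F → F} {f : (Fin n → F) → (Fin n → F) → F}
    (h1 : ∀ x y v, f (x + y) v = f x v + f y v) (h2 : ∀ (c : F) x v, f (c • x) v = c * f x v)
    (h3 : ∀ v x y, f v (x + y) = f v x + f v y) (h4 : ∀ (c : F) v x, f v (c • x) = σ c * f v x) (x y : Fin n → F) :
    f x y = ∑ a, ∑ b, x a * gramMatrix f a b * σ (y b) := by
  have l : ∀ v, f x v = ∑ a, x a * f (Pi.single a 1) v := fun v => by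
    conv_lhs => rw [pi_eq_sum_univ' x]
    have := map_sum (AddMonoidHom.mk' (fun x => f x v) fun a b => h1 a b v) (fun a => x a • Pi.single a 1) Finset.univ
    exact this.trans (Finset.sum_congr rfl fun a _ => h2 _ _ _)
  have r : ∀ v, f v y = ∑ a, σ (y a) * f v (Pi.single a 1) := fun v => by
    conv_lhs => rw [pi_eq_sum_univ' y]
    have := map_sum (AddMonoidHom.mk' (fun x => f v x) fun a b => h3 v a b) (fun a => y a • Pi.single a 1) Finset.univ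
    exact this.trans (Finset.sum_congr rfl fun a _ => h4 _ _ _)
  rw [l]
  refine Finset.sum_congr rfl fun a _ => ?_
  rw [r, Finset.mul_sum]
  exact Finset.sum_congr rfl fun b _ => by simp only [gramMatrix]; ring

theorem tp_form {n₁ n₂ : ℕ} {e : ι ≃ Fin n₁ × Fin n₂} {P : GL ι F} {σ : F → F} (hσ : ∀ a b, σ (a * b) = σ a * σ b)
    {f : (ι → F) → (ι → F) → F} {f₁ : (Fin n₁ → F) → (Fin n₁ → F) → F} {f₂ : (Fin n₂ → F) → (Fin n₂ → F) → F}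
    (h1 : ∀ x y, f₁ x y = ∑ a, ∑ b, x a * gramMatrix f₁ a b * σ (y b))
    (h2 : ∀ x y, f₂ x y = ∑ a, ∑ b, x a * gramMatrix f₂ a b * σ (y b))
    (hT : IsTensorFormStructure σ f f₁ f₂ e P) :
    ∃ c : F, c ≠ 0 ∧ ∀ x y x' y', f (tp e P x y) (tp e P x' y') = c * (f₁ x x' * f₂ y y') := by
  obtain ⟨c, c0, h⟩ := hT
  refine ⟨c, c0, fun x y x' y' => ?_⟩
  rw [tp_apply, tp_apply, h, h1 x, h2 y]
  congr 1
  simp only [formOfGram, kroneckerMap_apply, Fintype.sum_prod_type, Finset.sum_mul_sum, hσ]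
  exact Finset.sum_congr rfl fun a _ => Finset.sum_congr rfl fun b _ =>
    Finset.sum_congr rfl fun a _ => Finset.sum_congr rfl fun b _ => by ring

theorem nd_of {W : Type*} [AddCommGroup W] [Module F W] {f : W → W → F}
    (h1 : ∀ x y v, f (x + y) v = f x v + f y v) (h2 : ∀ (c : F) x v, f (c • x) v = c * f x v)
    (h3 : ∀ v, v ≠ 0 → ∃ x, f v x ≠ 0) (s r : F) (y y' : W) (h : ∀ z, s * f y z = r * f y' z) : s • y = r • y' := by
  by_contra k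
  obtain ⟨z, hz⟩ := h3 (s • y + (-r) • y') fun e => k (by rwa [neg_smul, ← sub_eq_add_neg, sub_eq_zero] at e)
  exact hz (by rw [h1, h2, h2]; linear_combination h z)

theorem tens_nmax [Fintype F] {U W : Type*} [AddCommGroup U] [Module F U] [AddCommGroup W] [Module F W]
    (τ : U → W → (ι → F)) {f : (ι → F) → (ι → F) → F} {fU : U → U → F} {fW : W → W → F} {c : F} (c0 : c ≠ 0)
    (hf : ∀ x y x' y', f (τ x y) (τ x' y') = c * (fU x x' * fW y y'))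
    (nd : ∀ (s r : F) y y', (∀ z, s * fW y z = r * fW y' z) → s • y = r • y') {H X : Subgroup (GL ι F)}
    (hH : ∀ g ∈ H, ∃ (A : U ≃ U) (B : W → W), A 0 = 0 ∧ ∀ x y, g.1 *ᵥ τ x y = τ (A x) (B y))
    (hX : ∀ g ∈ X, ∀ u v, f (g.1 *ᵥ u) (g.1 *ᵥ v) = f u v) (N : U → Prop)
    (hN : ∀ A : U ≃ U, A 0 = 0 → (∀ x x', fU (A x) (A x') = 0 → fU x x' = 0) → ∀ x, N x → N (A x))
    {a₁ a₂ : U} (h1 : fU a₁ a₁ ≠ 0) (h2 : fU a₂ a₂ ≠ 0) {k : GL ι F} (kX : k ∈ X) {L : W → W}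
    (k1 : ∀ y, k.1 *ᵥ τ a₁ y = τ a₁ (L y)) (k2 : ∀ y, k.1 *ᵥ τ a₂ y = τ a₂ y)
    (hk : ∀ x y, N x → ∃ y', k.1 *ᵥ τ x y = τ x y') (hL : ¬ ∃ ρ : F, ∀ y, L y = ρ • y)
    {g : GL ι F} (gX : g ∈ X) {x₀ : U} {y₀ : W} (h0 : N x₀) (hg : ∀ x y, N x → g.1 *ᵥ τ x₀ y₀ ≠ τ x y) :
    ∃ K : Subgroup (GL ι F), H ⊓ X < K ∧ K < X := by
  obtain ⟨w, w', hw⟩ : ∃ w w', fW w w' ≠ 0 := by_contra fun e => by
    push Not at e
    exact hL ⟨1, fun y => by simpa using nd 1 1 (L y) y fun z => by rw [e, e]⟩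
  refine between (K := pstab fun v : ι → F => ∃ x y, N x ∧ v = τ x y) (k := k) (g := g) ?_ kX ?_ ?_ gX ?_
  · rintro s ⟨s1, s2⟩ _ ⟨x, y, hx, rfl⟩
    obtain ⟨A, B, A0, h⟩ := hH s s1
    refine ⟨A x, B y, hN A A0 (fun x x' e => ?_) x hx, h x y⟩
    have := hX s s2 (τ x w) (τ x' w')
    rw [h, h, hf, hf, e] at this
    simpa [c0, hw] using this.symm
  · rintro _ ⟨x, y, hx, rfl⟩
    obtain ⟨y', h⟩ := hk x y hx
    exact ⟨x, y', hx, h⟩
  · intro kH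
    obtain ⟨A, B, -, h⟩ := hH k kH
    have e2 : ∀ y, fU (A a₂) a₂ • B y = fU a₂ a₂ • y := fun y => nd _ _ _ _ fun z =>
      mul_left_cancel₀ c0 (by rw [← hf, ← hf, ← h, k2])
    have e1 : ∀ y, fU (A a₁) a₁ • B y = fU a₁ a₁ • L y := fun y => nd _ _ _ _ fun z =>
      mul_left_cancel₀ c0 (by rw [← hf, ← hf, ← h, k1])
    by_cases m : fU (A a₂) a₂ = 0
    · refine hL ⟨0, fun y => ?_⟩
      have := e2 (L y)
      rw [m, zero_smul] at this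
      rw [zero_smul]; exact (smul_eq_zero.1 this.symm).resolve_left h2
    · refine hL ⟨(fU a₁ a₁)⁻¹ * fU (A a₁) a₁ * (fU (A a₂) a₂)⁻¹ * fU a₂ a₂, fun y => ?_⟩
      rw [mul_smul, ← e2, mul_smul, inv_smul_smul₀ m, mul_smul, e1, inv_smul_smul₀ h1]
  · intro e
    obtain ⟨x, y, hx, h⟩ := e _ ⟨x₀, y₀, h0, rfl⟩
    exact hg x y hx h

end Cfsg.Agent.Classical.NMax
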