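import Cfsg.Agent.Lib.Classical.NMax4

/-! Non-maximality of tensor decomposition stabilisers: groups with transvections; frames over `F₃`. -/

set_option autoImplicit false

namespace Cfsg.Agent.Classical.NMax
open Matrix Cfsg.Geo Module

variable {ι : Type} [Fintype ι] [DecidableEq ι] {F : Type*} [Field F]

theorem tens_tr [Fintype F] {U W : Type*} [AddCommGroup U] [Module F U] [AddCommGroup W] [Module F W]
    (τ : U →ₗ[F] W →ₗ[F] (ι → F)) {f : (ι → F) → (ι → F) → F} {fU : U → U → F} {fW : W → W → F} {c : F} (c0 : c ≠ 0)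
    (hf : ∀ x y x' y', f (τ x y) (τ x' y') = c * (fU x x' * fW y y'))
    (f1 : ∀ x y v, f (x + y) v = f x v + f y v) (f2 : ∀ (s : F) x v, f (s • x) v = s * f x v)
    (f3 : ∀ v x y, f v (x + y) = f v x + f v y)
    (nd : ∀ (s r : F) y y', (∀ z, s * fW y z = r * fW y' z) → s • y = r • y') {H X : Subgroup (GL ι F)}
    (hH : ∀ g ∈ H, ∃ (A : U ≃ U) (B : W → W), A 0 = 0 ∧ ∀ x y, g.1 *ᵥ τ x y = τ (A x) (B y))
    (hX : ∀ g ∈ X, ∀ u v, f (g.1 *ᵥ u) (g.1 *ᵥ v) = f u v)
    (hT : ∀ v, f v v = 0 → ∃ g ∈ X, ∀ x, g.1 *ᵥ x = x + f x v • v) (N : U → Prop)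
    (hN : ∀ A : U ≃ U, A 0 = 0 → (∀ x x', fU (A x) (A x') = 0 → fU x x' = 0) → ∀ x, N x → N (A x))
    {κ : Type} {a : κ → U} (ha : ∀ i, fU (a i) (a i) ≠ 0) (ho : ∀ i j, i ≠ j → fU (a i) (a j) = 0)
    (hN' : ∀ x, N x → ∃ i, ∃ s : F, x = s • a i) {i j : κ} (ij : i ≠ j) (Ni : N (a i))
    {w y₀ z₀ : W} (ww : fW w w = 0) (hy : fW y₀ w ≠ 0) (hz : fW w z₀ ≠ 0) :
    ∃ K : Subgroup (GL ι F), H ⊓ X < K ∧ K < X := by
  have w0 : w ≠ 0 := by
    rintro rfl
    have := hf (a i) 0 (a i) z₀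
    rw [map_zero, ← zero_smul F (0 : ι → F), f2, zero_mul] at this
    exact mul_ne_zero c0 (mul_ne_zero (ha i) hz) this.symm
  obtain ⟨k, kX, hk⟩ := hT (τ (a i) w) (by rw [hf, ww]; simp)
  obtain ⟨g, gX, hg⟩ := hT (τ (a i) w + τ (a j) w) (by simp [f1, f3, hf, ww])
  have k1 : ∀ y, k.1 *ᵥ τ (a i) y = τ (a i) (y + (c * (fU (a i) (a i) * fW y w)) • w) := fun y => by
    rw [hk, hf]; simp
  have k2 : ∀ l, l ≠ i → ∀ y, k.1 *ᵥ τ (a l) y = τ (a l) y := fun l hl y => by
    rw [hk, hf, ho l i hl]; simp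
  refine tens_nmax (fun x y => τ x y) c0 hf nd hH hX N hN (ha i) (ha j) kX k1 (k2 j ij.symm) ?_ ?_ gX
    (y₀ := y₀) Ni ?_
  · intro x y hx
    obtain ⟨l, s, rfl⟩ := hN' x hx
    simp only [map_smul, LinearMap.smul_apply, mulVec_smul]
    by_cases hl : l = i
    · exact ⟨_, by rw [hl, k1]⟩
    · exact ⟨_, by rw [k2 l hl]⟩
  · rintro ⟨ρ, h⟩
    have h1 := h w
    rw [ww, mul_zero, mul_zero, zero_smul, add_zero] at h1
    have : ρ = 1 := smul_left_injective F w0 (h1.symm.trans (one_smul F w).symm)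
    have h2 := h y₀
    simp [this, c0, ha i, hy, w0] at h2
  · intro x y hx e
    obtain ⟨l, s, rfl⟩ := hN' x hx
    rw [hg] at e
    simp only [map_smul, LinearMap.smul_apply] at e
    by_cases hl : l = j
    · have := congrArg (f · (τ (a i) w)) e
      simp [f1, f2, f3, hf, ww, hl, ho j i ij.symm, c0, ha i, hy] at this
    · have := congrArg (f · (τ (a j) z₀)) e
      simp [f1, f2, f3, hf, ho l j hl, ho i j ij, c0, ha i, ha j, hy, hz] at this

theorem three_cases [Fintype F] (hq : Fintype.card F = 3) : (3 : F) = 0 ∧ ∀ x : F, x ≠ 0 → x * x = 1 := by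
  refine ⟨by have := FiniteField.cast_card_eq_zero F; rw [hq] at this; exact_mod_cast this, fun x h => ?_⟩
  have := FiniteField.pow_card_sub_one_eq_one x h
  rw [hq] at this
  simpa [pow_two] using this

theorem exists_orth {n : ℕ} {f : (Fin n → F) → (Fin n → F) → F} (hf : IsSymmetricForm f) (h2 : (2 : F) ≠ 0) :
    ∃ b : Basis (Fin n) F (Fin n → F), (∀ i, f (b i) (b i) ≠ 0) ∧ ∀ i j, i ≠ j → f (b i) (b j) = 0 := by
  haveI : Invertible (2 : F) := invertibleOfNonzero h2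
  set B : LinearMap.BilinForm F (Fin n → F) := LinearMap.mk₂ F f hf.bilinear.add_left hf.bilinear.smul_left
    hf.bilinear.add_right hf.bilinear.smul_right with hB
  obtain ⟨v, hv⟩ := LinearMap.BilinForm.exists_orthogonal_basis (B := B) ⟨fun x y => hf.symm x y⟩
  have o : ∀ i j, i ≠ j → f (v i) (v j) = 0 := fun i j h => hv h
  refine ⟨v.reindex (finCongr (by simp)), fun i k => ?_, fun i j h => by
    simpa using o _ _ (by simpa [Fin.ext_iff] using h)⟩
  simp only [Basis.reindex_apply] at k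
  generalize (finCongr _).symm i = i at k
  obtain ⟨x, hx⟩ := (hf.nondegenerate _ (v.ne_zero i)).1
  refine hx ?_
  change B x (v i) = 0
  rw [← v.sum_repr x, map_sum, LinearMap.sum_apply]
  refine Finset.sum_eq_zero fun j _ => ?_
  rw [map_smul, LinearMap.smul_apply]
  change _ • f (v j) (v i) = 0
  by_cases e : j = i
  · rw [e, k, smul_zero]
  · rw [o j i e, smul_zero]

/-- The similarity-invariant set of vectors with anisotropic perp. -/
def N3 {U : Type*} [Zero U] (f : U → U → F) (x : U) : Prop := x ≠ 0 ∧ ∀ z, f x z = 0 → f z z = 0 → z = 0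

theorem N3_map {U : Type*} [Zero U] (f : U → U → F) (A : U ≃ U) (A0 : A 0 = 0)
    (h : ∀ x x', f (A x) (A x') = 0 → f x x' = 0) (x : U) (hx : N3 f x) : N3 f (A x) :=
  ⟨fun e => hx.1 (A.injective (e.trans A0.symm)), fun z h1 h2 => by
    obtain ⟨z, rfl⟩ := A.surjective z
    rw [hx.2 z (h _ _ h1) (h _ _ h2), A0]⟩

theorem frame_of [Fintype F] (hq : Fintype.card F = 3) {f : (Fin 3 → F) → (Fin 3 → F) → F} (hf : IsSymmetricForm f)
    {a : Fin 3 → Fin 3 → F} {ε : F} (ε0 : ε ≠ 0) (h1 : ∀ i, f (a i) (a i) = ε) (h2 : ∀ i j, i ≠ j → f (a i) (a j) = 0)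
    (h3 : ∀ x, ∃ s r u : F, x = s • a 0 + r • a 1 + u • a 2) :
    N3 f (a 0) ∧ ∀ x, N3 f x → ∃ i, ∃ s : F, x = s • a i := by
  obtain ⟨c3, sq⟩ := three_cases hq
  have ev : ∀ s r u s' r' u' : F, f (s • a 0 + r • a 1 + u • a 2) (s' • a 0 + r' • a 1 + u' • a 2) =
      ε * (s * s' + r * r' + u * u') := fun s r u s' r' u' => by
    simp [hf.bilinear.add_left, hf.bilinear.smul_left, hf.bilinear.add_right, hf.bilinear.smul_right, h1, h2]; ring
  have z0 : ∀ x, f 0 x = 0 := fun x => by rw [← zero_smul F (0 : Fin 3 → F), hf.bilinear.smul_left, zero_mul]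
  have two : (2 : F) ≠ 0 := fun e => one_ne_zero (α := F) (by linear_combination c3 - e)
  refine ⟨⟨fun e => ε0 (by rw [← h1 0, e, z0]), fun z e1 e2 => ?_⟩, fun x hx => ?_⟩
  · obtain ⟨s, r, u, rfl⟩ := h3 z
    have := ev 1 0 0 s r u
    simp only [one_smul, zero_smul, add_zero] at this
    rw [this] at e1
    rw [ev] at e2
    have s0 : s = 0 := by simpa [ε0] using e1
    have e3 : r * r + u * u = 0 := by simpa [ε0, s0] using e2
    by_cases r0 : r = 0 <;> by_cases u0 : u = 0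
    · simp [*]
    · simp [r0, u0] at e3
    · simp [r0, u0] at e3
    · exact absurd (by linear_combination e3 - sq r r0 - sq u u0) two
  · obtain ⟨s, r, u, rfl⟩ := h3 x
    have key : ∀ s' r' u' : F, s' ≠ 0 → r' ≠ 0 → u' ≠ 0 → s * s' + r * r' + u * u' ≠ 0 := fun s' r' u' k1 k2 k3 e => by
      have z := hx.2 (s' • a 0 + r' • a 1 + u' • a 2) (by rw [ev, e, mul_zero])
        (by rw [ev, sq _ k1, sq _ k2, sq _ k3]; linear_combination ε * c3)
      have := ev s' r' u' 1 0 0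
      rw [z, z0] at this
      simp [ε0, k1] at this
    by_cases s0 : s = 0 <;> by_cases r0 : r = 0 <;> by_cases u0 : u = 0
    · exact ⟨0, 0, by simp [*]⟩
    · exact ⟨2, u, by simp [*]⟩
    · exact ⟨1, r, by simp [*]⟩
    · exact absurd (by rw [s0]; ring) (key 1 u (-r) one_ne_zero u0 (neg_ne_zero.2 r0))
    · exact ⟨0, s, by simp [*]⟩
    · exact absurd (by rw [r0]; ring) (key u 1 (-s) u0 one_ne_zero (neg_ne_zero.2 s0))
    · exact absurd (by rw [u0]; ring) (key r (-s) 1 r0 (neg_ne_zero.2 s0) one_ne_zero)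
    · exact absurd (by rw [sq _ s0, sq _ r0, sq _ u0]; linear_combination c3) (key s r u s0 r0 u0)

theorem exists_frame [Fintype F] (hq : Fintype.card F = 3) {f : (Fin 3 → F) → (Fin 3 → F) → F}
    (hf : IsSymmetricForm f) : ∃ (a : Fin 3 → Fin 3 → F) (ε : F), ε ≠ 0 ∧ (∀ i, f (a i) (a i) = ε) ∧
      (∀ i j, i ≠ j → f (a i) (a j) = 0) ∧ N3 f (a 0) ∧ ∀ x, N3 f x → ∃ i, ∃ s : F, x = s • a i := by
  obtain ⟨c3, sq⟩ := three_cases hq
  have two : (2 : F) ≠ 0 := fun e => one_ne_zero (α := F) (by linear_combination c3 - e)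
  obtain ⟨b, b1, b2⟩ := exists_orth hf two
  have alt : ∀ x y : F, x ≠ 0 → y ≠ 0 → x ≠ y → y = x + x := fun x y hx hy e => by
    have : (x - y) * (x + y) = 0 := by linear_combination sq x hx - sq y hy
    have := (mul_eq_zero.1 this).resolve_left (sub_ne_zero.2 e)
    linear_combination this - x * c3
  have main : ∀ p q r : Fin 3 → F, f p p = f q q → f p p ≠ 0 → f r r ≠ 0 → f p q = 0 → f p r = 0 → f q r = 0 →
      (∀ x, ∃ s t u : F, x = s • p + t • q + u • r) → ∃ (a : Fin 3 → Fin 3 → F) (ε : F), ε ≠ 0 ∧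
      (∀ i, f (a i) (a i) = ε) ∧ (∀ i j, i ≠ j → f (a i) (a j) = 0) ∧ N3 f (a 0) ∧
        ∀ x, N3 f x → ∃ i, ∃ s : F, x = s • a i := fun p q r e1 p0 r0 pq pr qr sp => by
    have qp := (hf.symm _ _).trans pq
    have rp := (hf.symm _ _).trans pr
    have rq := (hf.symm _ _).trans qr
    by_cases e : f p p = f r r
    · have k1 : ∀ i, f (![p, q, r] i) (![p, q, r] i) = f r r := fun i => by fin_cases i <;> simp [← e1, e]
      have k2 : ∀ i j, i ≠ j → f (![p, q, r] i) (![p, q, r] j) = 0 := fun i j h => by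
        fin_cases i <;> fin_cases j <;> simp [*] at h ⊢
      exact ⟨_, _, r0, k1, k2, frame_of hq hf r0 k1 k2 sp⟩
    · have e2 := alt _ _ p0 r0 e
      have k1 : ∀ i, f (![p + q, p + (-1 : F) • q, r] i) (![p + q, p + (-1 : F) • q, r] i) = f r r := fun i => by
        fin_cases i <;> simp only [Fin.zero_eta, Fin.mk_one, Fin.reduceFinMk, cons_val, cons_val_zero, cons_val_one,
          hf.bilinear.add_left, hf.bilinear.smul_left, hf.bilinear.add_right, hf.bilinear.smul_right, ← e1, e2, pq,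
          qp] <;> ring
      have k2 : ∀ i j, i ≠ j → f (![p + q, p + (-1 : F) • q, r] i) (![p + q, p + (-1 : F) • q, r] j) = 0 :=
        fun i j h => by
        fin_cases i <;> fin_cases j <;> first | exact absurd rfl h | skip
        all_goals simp only [Fin.zero_eta, Fin.mk_one, Fin.reduceFinMk, cons_val, cons_val_zero, cons_val_one,
          hf.bilinear.add_left, hf.bilinear.smul_left, hf.bilinear.add_right, hf.bilinear.smul_right, ← e1, pq,
          qp, pr, rp, qr, rq]; ring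
      refine ⟨_, _, r0, k1, k2, frame_of hq hf r0 k1 k2 fun x => ?_⟩
      obtain ⟨s, t, u, rfl⟩ := sp x
      refine ⟨-(s + t), -(s - t), u, ?_⟩
      ext i
      simp only [cons_val, cons_val_zero, cons_val_one, Pi.add_apply, Pi.smul_apply, smul_eq_mul]
      linear_combination (s * p i + t * q i) * c3
  have sp : ∀ x, x = b.repr x 0 • b 0 + b.repr x 1 • b 1 + b.repr x 2 • b 2 := fun x => by
    conv_lhs => rw [← b.sum_repr x, Fin.sum_univ_three]
  by_cases e1 : f (b 0) (b 0) = f (b 1) (b 1)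
  · exact main _ _ _ e1 (b1 0) (b1 2) (b2 _ _ (by simp)) (b2 _ _ (by simp)) (b2 _ _ (by simp))
      fun x => ⟨_, _, _, sp x⟩
  · by_cases e2 : f (b 0) (b 0) = f (b 2) (b 2)
    · exact main _ _ _ e2 (b1 0) (b1 1) (b2 _ _ (by simp)) (b2 _ _ (by simp)) (b2 _ _ (by simp))
        fun x => ⟨_, _, _, (sp x).trans (add_right_comm _ _ _)⟩
    · exact main _ _ _ ((alt _ _ (b1 0) (b1 1) e1).trans (alt _ _ (b1 0) (b1 2) e2).symm) (b1 1) (b1 0)
        (b2 _ _ (by simp)) (b2 _ _ (by simp)) (b2 _ _ (by simp))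
        fun x => ⟨_, _, _, (sp x).trans (add_rotate _ _ _)⟩

end Cfsg.Agent.Classical.NMax
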