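import Cfsg.Agent.Lib.Classical.NMax5

/-! Non-maximality of `O₃(3) ⊗ O_m(3)` in `Ω`. -/

set_option autoImplicit false

namespace Cfsg.Agent.Classical.NMax
open Matrix Cfsg.Geo Module QuadraticMap
open scoped commutatorElement

variable {ι : Type} [Fintype ι] [DecidableEq ι] {F : Type*} [Field F]

theorem comm_mem {Q : (ι → F) → F} {r s : GL ι F} (hr : r ∈ isometryGroup F Q) (hs : s ∈ isometryGroup F Q) :
    r * s * r⁻¹ * s⁻¹ ∈ omegaGL Q :=
  ⟨⁅(⟨r, hr⟩ : isometryGroup F Q), ⟨s, hs⟩⁆,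
    Subgroup.commutator_mem_commutator (Subgroup.mem_top _) (Subgroup.mem_top _), rfl⟩

theorem polar_of_mem {Q : (ι → F) → F} {g : GL ι F} (hg : g ∈ omegaGL Q) (u v : ι → F) :
    polar Q (g.1 *ᵥ u) (g.1 *ᵥ v) = polar Q u v := by
  obtain ⟨g, -, rfl⟩ := hg
  have : ∀ u, Q (g.1.1 *ᵥ u) = Q u := fun u => g.2 u u
  change polar Q (g.1.1 *ᵥ u) (g.1.1 *ᵥ v) = _
  simp only [polar, ← mulVec_add, this]

theorem exists_refl3 [Fintype F] (hq : Fintype.card F = 3) {Q : (ι → F) → F}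
    (h1 : ∀ (c : F) v, Q (c • v) = c ^ 2 * Q v) (h2 : IsBilinearForm (polar Q)) {v : ι → F} (hv : polar Q v v ≠ 0) :
    ∃ r ∈ isometryGroup F Q, r⁻¹ = r ∧ ∀ x, r.1 *ᵥ x = x + (polar Q v v * polar Q x v) • v := by
  obtain ⟨c3, sq⟩ := three_cases hq
  have NN := sq _ hv
  have vv : polar Q v v = 2 * Q v := by rw [polar, ← two_smul F v, h1]; ring
  obtain ⟨r, -, r2⟩ := exists_tr (polar Q v v • LinearMap.mk₂ F (polar Q) h2.add_left h2.smul_left h2.add_right
    h2.smul_right |>.flip v) v (by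
      simp only [LinearMap.flip_apply, LinearMap.smul_apply, LinearMap.mk₂_apply, smul_eq_mul, NN]
      exact fun e => one_ne_zero (α := F) (by linear_combination c3 - e))
  have r3 : ∀ x, r.1 *ᵥ x = x + (polar Q v v * polar Q x v) • v := r2
  refine ⟨r, fun x _ => ?_, inv_eq_of_mul_eq_one_right (Units.ext (Matrix.ext_of_mulVec_single fun i => ?_)), r3⟩
  · change Q (r.1 *ᵥ x) = Q x
    have := h2.smul_right (polar Q v v * polar Q x v) x v
    rw [polar, h1] at this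
    rw [r3]
    generalize polar Q x v = β at *
    linear_combination this + (polar Q v v ^ 2 * β ^ 2) * vv - (polar Q v v * β ^ 2) * NN +
      (polar Q v v ^ 2 * β ^ 2 * Q v) * c3
  · rw [Units.val_mul, ← mulVec_mulVec, Units.val_one, one_mulVec]
    generalize (Pi.single i 1 : ι → F) = x
    rw [r3, r3, h2.add_left, h2.smul_left]
    ext j
    simp only [Pi.add_apply, Pi.smul_apply, smul_eq_mul]
    linear_combination (polar Q v v * polar Q x v * v j) * c3 + (polar Q v v * polar Q x v * v j) * NN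

theorem exists_three [Fintype F] (hq : Fintype.card F = 3) {n : ℕ} (hn : 3 ≤ n) {f : (Fin n → F) → (Fin n → F) → F}
    (hf : IsSymmetricForm f) : ∃ p q r, f q q = f p p ∧ f p p ≠ 0 ∧ f r r ≠ 0 ∧ f p q = 0 ∧ f p r = 0 ∧ f q r = 0 := by
  obtain ⟨c3, sq⟩ := three_cases hq
  have two : (2 : F) ≠ 0 := fun e => one_ne_zero (α := F) (by linear_combination c3 - e)
  obtain ⟨b, b1, b2⟩ := exists_orth hf two
  obtain ⟨e⟩ : Nonempty (Fin 3 ↪ Fin n) := ⟨Fin.castLEEmb hn⟩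
  have alt : ∀ x y : F, x ≠ 0 → y ≠ 0 → y ≠ x → y = x + x := fun x y hx hy e => by
    have : (y - x) * (x + y) = 0 := by linear_combination sq y hy - sq x hx
    have := (mul_eq_zero.1 this).resolve_left (sub_ne_zero.2 e)
    linear_combination this - x * c3
  by_cases e1 : f (b (e 1)) (b (e 1)) = f (b (e 0)) (b (e 0))
  · exact ⟨_, _, _, e1, b1 _, b1 (e 2), b2 _ _ (by simp), b2 _ _ (by simp), b2 _ _ (by simp)⟩
  · by_cases e2 : f (b (e 2)) (b (e 2)) = f (b (e 0)) (b (e 0))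
    · exact ⟨_, _, _, e2, b1 _, b1 (e 1), b2 _ _ (by simp), b2 _ _ (by simp), b2 _ _ (by simp)⟩
    · exact ⟨_, _, _, (alt _ _ (b1 _) (b1 _) e1).trans (alt _ _ (b1 _) (b1 _) e2).symm, b1 _, b1 (e 0),
        b2 _ _ (by simp), b2 _ _ (by simp), b2 _ _ (by simp)⟩

theorem tens_orth [Fintype F] (hq : Fintype.card F = 3) {Q : (ι → F) → F}
    (h1 : ∀ (c : F) v, Q (c • v) = c ^ 2 * Q v) (h2 : IsBilinearForm (polar Q)) {n : ℕ} (hn : 3 ≤ n)
    {e : ι ≃ Fin 3 × Fin n} {P : GL ι F} {f₁ : (Fin 3 → F) → (Fin 3 → F) → F} {f₂ : (Fin n → F) → (Fin n → F) → F}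
    (hf₁ : IsSymmetricForm f₁) (hf₂ : IsSymmetricForm f₂) (hT : IsTensorFormStructure id (polar Q) f₁ f₂ e P) :
    ∃ K : Subgroup (GL ι F), tensorProductSubgroup 3 n e P ⊓ omegaGL Q < K ∧ K < omegaGL Q := by
  obtain ⟨c3, sq⟩ := three_cases hq
  obtain ⟨c, c0, hc⟩ := tp_form (σ := id) (fun _ _ => rfl)
    (form_gram hf₁.bilinear.add_left hf₁.bilinear.smul_left hf₁.bilinear.add_right hf₁.bilinear.smul_right)
    (form_gram hf₂.bilinear.add_left hf₂.bilinear.smul_left hf₂.bilinear.add_right hf₂.bilinear.smul_right) hT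
  obtain ⟨a, ε, ε0, a1, a2, a3, a4⟩ := exists_frame hq hf₁
  obtain ⟨b₁, b₂, b₃, n2, n1, n3, o12, o13, o23⟩ := exists_three hq hn hf₂
  have o21 := (hf₂.symm _ _).trans o12
  have o31 := (hf₂.symm _ _).trans o13
  have o32 := (hf₂.symm _ _).trans o23
  have hH : ∀ g ∈ tensorProductSubgroup 3 n e P, ∃ (A : (Fin 3 → F) ≃ (Fin 3 → F)) (B : (Fin n → F) → (Fin n → F)),
      A 0 = 0 ∧ ∀ x y, g.1 *ᵥ tp e P x y = tp e P (A x) (B y) := fun g hg => by
    obtain ⟨A, B, h0, h⟩ := tp_of_mem hg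
    exact ⟨A, B, h0.1, h⟩
  generalize tp e P = τ at hc hH
  have N0 : c * (ε * f₂ b₁ b₁) ≠ 0 := by simp [*]
  have NN := sq _ N0
  have two : (2 : F) ≠ 0 := fun e => one_ne_zero (α := F) (by linear_combination c3 - e)
  obtain ⟨u, u1, u2, u3⟩ := exists_refl3 hq h1 h2 (v := τ (a 0) b₁) (by rw [hc, a1]; exact N0)
  obtain ⟨v, v1, v2, v3⟩ := exists_refl3 hq h1 h2 (v := τ (a 0) b₁ + τ (a 0) b₂) (by
    simp only [h2.add_left, h2.add_right, hc, a1, o12, o21, n2]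
    exact fun k => mul_ne_zero two N0 (by linear_combination k))
  obtain ⟨w, w1, w2, w3⟩ := exists_refl3 hq h1 h2 (v := τ (a 0) b₁ + τ (a 1) b₁ + τ (a 2) b₁ + τ (a 0) b₂) (by
    simp [h2.add_left, h2.add_right, hc, a1, a2, o12, o21, n2]
    exact fun k => N0 (by linear_combination k - c * (ε * f₂ b₁ b₁) * c3))
  have kX := comm_mem u1 v1
  have gX := comm_mem w1 u1
  rw [u2, v2] at kX
  rw [u2, w2] at gX
  have ua : ∀ y, ∃ y', u.1 *ᵥ τ (a 0) y = τ (a 0) y' := fun y => ⟨y + _ • b₁, by rw [u3, map_add, map_smul]⟩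
  have va : ∀ y, ∃ y', v.1 *ᵥ τ (a 0) y = τ (a 0) y' := fun y =>
    ⟨y + _ • (b₁ + b₂), by rw [v3, map_add, map_smul, map_add]⟩
  have ka : ∀ y, ∃ y', (u * v * u * v).1 *ᵥ τ (a 0) y = τ (a 0) y' := fun y => by
    obtain ⟨y1, e1⟩ := va y
    obtain ⟨y2, e2⟩ := ua y1
    obtain ⟨y3, e3⟩ := va y2
    obtain ⟨y4, e4⟩ := ua y3
    exact ⟨y4, by simp only [Units.val_mul, ← mulVec_mulVec, e1, e2, e3, e4]⟩
  have kl : ∀ l, l ≠ 0 → ∀ y, (u * v * u * v).1 *ᵥ τ (a l) y = τ (a l) y := fun l hl y => by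
    have e1 : u.1 *ᵥ τ (a l) y = τ (a l) y := by rw [u3, hc (a l), a2 l 0 hl]; simp
    have e2 : v.1 *ᵥ τ (a l) y = τ (a l) y := by
      rw [v3, h2.add_right (τ (a l) y), hc (a l), hc (a l), a2 l 0 hl]; simp
    simp only [Units.val_mul, ← mulVec_mulVec, e1, e2]
  choose L hL using ka
  refine tens_nmax (fun x y => τ x y) c0 hc
    (nd_of hf₂.bilinear.add_left hf₂.bilinear.smul_left fun v hv => (hf₂.nondegenerate v hv).2) hH
    (fun g hg => polar_of_mem hg) (N3 f₁) (N3_map f₁) ((a1 0).trans_ne ε0) ((a1 1).trans_ne ε0) kX hL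
    (kl 1 (by simp)) ?_ ?_ gX (y₀ := b₂) a3 ?_
  · intro x y hx
    obtain ⟨l, s, rfl⟩ := a4 x hx
    simp only [map_smul, LinearMap.smul_apply, mulVec_smul]
    by_cases hl : l = 0
    · exact ⟨_, by rw [hl, hL]⟩
    · exact ⟨_, by rw [kl l hl]⟩
  · rintro ⟨ρ, h⟩
    have z1 : u.1 *ᵥ τ (a 0) b₃ = τ (a 0) b₃ := by rw [u3, hc (a 0) b₃, o31]; simp
    have z2 : v.1 *ᵥ τ (a 0) b₃ = τ (a 0) b₃ := by
      rw [v3, h2.add_right (τ (a 0) b₃), hc (a 0) b₃, hc (a 0) b₃, o31, o32]; simp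
    have z3 := hL b₃
    simp only [Units.val_mul, ← mulVec_mulVec, z1, z2, h, map_smul] at z3
    have z4 := congrArg (polar Q · (τ (a 0) b₃)) z3
    simp only [h2.smul_left, hc, a1] at z4
    have ρ1 : ρ = 1 := by simpa [c0, ε0, n3] using z4.symm
    have p1 : v.1 *ᵥ τ (a 0) b₁ = (-1 : F) • τ (a 0) b₂ := by
      rw [v3]; simp only [h2.add_left, h2.add_right, hc, a1, o12, o21, n2]
      ext i; simp only [Pi.add_apply, Pi.smul_apply, smul_eq_mul]
      linear_combination (τ (a 0) b₁ i + τ (a 0) b₂ i) * c3 + 2 * (τ (a 0) b₁ i + τ (a 0) b₂ i) * NN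
    have p2 : u.1 *ᵥ τ (a 0) b₂ = τ (a 0) b₂ := by rw [u3, hc (a 0) b₂, o21]; simp
    have p3 : v.1 *ᵥ τ (a 0) b₂ = (-1 : F) • τ (a 0) b₁ := by
      rw [v3]; simp only [h2.add_left, h2.add_right, hc, a1, o12, o21, n2]
      ext i; simp only [Pi.add_apply, Pi.smul_apply, smul_eq_mul]
      linear_combination (τ (a 0) b₁ i + τ (a 0) b₂ i) * c3 + 2 * (τ (a 0) b₁ i + τ (a 0) b₂ i) * NN
    have p5 := hL b₁
    simp only [Units.val_mul, ← mulVec_mulVec, p1, p2, p3, h, mulVec_smul, ρ1, one_smul, smul_smul] at p5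
    rw [u3] at p5
    have p6 := congrArg (polar Q · (τ (a 0) b₁)) p5
    simp only [h2.smul_left, h2.add_left, hc, a1] at p6
    exact N0 (by linear_combination p6 - c * (ε * f₂ b₁ b₁) * NN)
  · intro x y hx k
    obtain ⟨l, s, rfl⟩ := a4 x hx
    have p2 : u.1 *ᵥ τ (a 0) b₂ = τ (a 0) b₂ := by rw [u3, hc (a 0) b₂, o21]; simp
    simp only [Units.val_mul, ← mulVec_mulVec, p2, map_smul, LinearMap.smul_apply] at k
    rw [w3, u3, w3] at k
    by_cases hl : l = 1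
    · have := congrArg (polar Q · (τ (a 2) b₁)) k
      simp [h2.smul_left, h2.add_left, h2.add_right, hc, a1, a2, hl, o12, o21, n2] at this
      generalize c * (ε * f₂ b₁ b₁) = N at this NN
      rcases mul_self_eq_one_iff.1 NN with rfl | rfl <;> norm_num at this <;>
        exact one_ne_zero (α := F) (by linear_combination this - 29 * c3)
    · have := congrArg (polar Q · (τ (a 1) b₁)) k
      simp [h2.smul_left, h2.add_left, h2.add_right, hc, a1, a2, hl, o12, o21, n2] at this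
      generalize c * (ε * f₂ b₁ b₁) = N at this NN
      rcases mul_self_eq_one_iff.1 NN with rfl | rfl <;> norm_num at this <;>
        exact one_ne_zero (α := F) (by linear_combination this - 29 * c3)

end Cfsg.Agent.Classical.NMax
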