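import Cfsg.Agent.Lib.Classical.NMax6

/-! Non-maximality of tensor stabilisers with a two-dimensional factor over `F₂`. -/

set_option autoImplicit false

namespace Cfsg.Agent.Classical.NMax
open Matrix Cfsg.Geo Module QuadraticMap

variable {ι : Type} [Fintype ι] [DecidableEq ι] {F : Type*} [Field F] {n : ℕ}

/-- The vector with the two rows `y`, `y'`. -/
noncomputable def D2 (e : ι ≃ Fin 2 × Fin n) (P : GL ι F) (y y' : Fin n → F) : ι → F :=
  tp e P (Pi.single 0 1) y + tp e P (Pi.single 1 1) y'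

variable {e : ι ≃ Fin 2 × Fin n} {P : GL ι F}

theorem D2_eq (y y' : Fin n → F) : D2 e P y y' = P.1 *ᵥ ((fun a : Fin 2 × Fin n => ![y, y'] a.1 a.2) ∘ e) := by
  rw [D2, tp_apply, tp_apply, ← mulVec_add]
  congr 1
  ext i
  simp only [Pi.add_apply, Function.comp_apply]
  generalize e i = a
  obtain ⟨a, b⟩ := a
  fin_cases a <;> simp

theorem D2_inj {y y' w w' : Fin n → F} (h : D2 e P y y' = D2 e P w w') : y = w ∧ y' = w' := by
  rw [D2_eq, D2_eq] at h
  have := mulVec_injective_iff_isUnit.2 P.isUnit h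
  exact ⟨funext fun j => by simpa using congrFun this (e.symm (0, j)),
    funext fun j => by simpa using congrFun this (e.symm (1, j))⟩

theorem D2_surj (v : ι → F) : ∃ y y', v = D2 e P y y' := by
  refine ⟨fun j => (P⁻¹.1 *ᵥ v) (e.symm (0, j)), fun j => (P⁻¹.1 *ᵥ v) (e.symm (1, j)), ?_⟩
  rw [D2_eq]
  conv_lhs => rw [← one_mulVec v, ← P.mul_inv, ← mulVec_mulVec]
  congr 1
  ext i
  obtain ⟨⟨a, b⟩, rfl⟩ := e.symm.surjective i
  fin_cases a <;> simp

theorem D2_add (y y' w w' : Fin n → F) : D2 e P y y' + D2 e P w w' = D2 e P (y + w) (y' + w') := by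
  simp only [D2, map_add]; abel

theorem D2_smul (s : F) (y y' : Fin n → F) : s • D2 e P y y' = D2 e P (s • y) (s • y') := by
  simp only [D2, map_smul, smul_add]

theorem D2_of_mem {g : GL ι F} (hg : g ∈ tensorProductSubgroup 2 n e P) :
    ∃ (a b c d : F) (B : (Fin n → F) →ₗ[F] (Fin n → F)), a * d - b * c ≠ 0 ∧
      ∀ y y', g.1 *ᵥ D2 e P y y' = D2 e P (a • B y + b • B y') (c • B y + d • B y') := by
  obtain ⟨A, B, h⟩ := act_of_mem hg
  refine ⟨A.1 0 0, A.1 0 1, A.1 1 0, A.1 1 1, B.1.mulVecLin, det_fin_two A.1 ▸ A.det_ne_zero, fun y y' => ?_⟩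
  rw [D2_eq, h, D2_eq]
  congr 2
  ext ⟨i, j⟩
  fin_cases i <;>
    simp [mulVec, dotProduct, Fintype.sum_prod_type, Fin.sum_univ_two, Finset.mul_sum, mul_assoc]

/-- The relation "`w` is `ω v` or `ω² v`". -/
def R2 (e : ι ≃ Fin 2 × Fin n) (P : GL ι F) (p : (ι → F) × (ι → F)) : Prop :=
  ∃ y y', p.1 = D2 e P y y' ∧ (p.2 = D2 e P (y + y') y ∨ p.2 = D2 e P y' (y + y'))

theorem le_R2 [Fintype F] (hq : Fintype.card F = 2) : tensorProductSubgroup 2 n e P ≤ pstab (R2 e P) := by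
  rintro g hg ⟨_, w⟩ ⟨y, y', rfl, h⟩
  obtain ⟨a, b, c, d, B, hd, hB⟩ := D2_of_mem hg
  have two : (2 : F) = 0 := two_zero (.inl hq)
  have self : ∀ x : Fin n → F, x + x = 0 := fun x => by rw [← two_smul F x, two, zero_smul]
  have self' : ∀ x y : Fin n → F, x + (x + y) = y := fun x y => by rw [← add_assoc, self, zero_add]
  refine ⟨_, _, hB y y', ?_⟩
  change g.1 *ᵥ w = _ ∨ g.1 *ᵥ w = _
  change w = _ ∨ w = _ at h
  rcases two_cases hq a with rfl | rfl <;> rcases two_cases hq b with rfl | rfl <;>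
    rcases two_cases hq c with rfl | rfl <;> rcases two_cases hq d with rfl | rfl <;>
    first | (simp at hd; done) | skip
  all_goals rcases h with rfl | rfl <;> rw [hB] <;> simp [add_assoc, add_comm, add_left_comm, self, self']

theorem mem_R2 [Fintype F] (hq : Fintype.card F = 2) {k : GL ι F}
    (h : ∀ y y' w w', k.1 *ᵥ D2 e P y y' = D2 e P w w' → k.1 *ᵥ D2 e P (y + y') y = D2 e P (w + w') w) :
    k ∈ pstab (R2 e P) := by
  rintro ⟨_, w⟩ ⟨y, y', rfl, k1⟩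
  have two : (2 : F) = 0 := two_zero (.inl hq)
  have self : ∀ x : Fin n → F, x + x = 0 := fun x => by rw [← two_smul F x, two, zero_smul]
  have self' : ∀ x y : Fin n → F, x + (x + y) = y := fun x y => by rw [← add_assoc, self, zero_add]
  obtain ⟨u, u', hu⟩ := D2_surj (e := e) (P := P) (k.1 *ᵥ D2 e P y y')
  refine ⟨u, u', hu, ?_⟩
  change k.1 *ᵥ w = _ ∨ k.1 *ᵥ w = _
  change w = _ ∨ w = _ at k1
  rcases k1 with rfl | rfl
  · exact .inl (h _ _ _ _ hu)
  · have := h _ _ _ _ (h _ _ _ _ hu)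
    simp only [add_comm _ y, add_comm _ u, self'] at this
    exact .inr this

theorem not_mem2 {k : GL ι F} {y₁ y₃ w w' : Fin n → F} (h3 : y₃ ≠ 0) (h1 : k.1 *ᵥ D2 e P y₃ 0 = D2 e P y₃ 0)
    (h2 : k.1 *ᵥ D2 e P y₁ 0 = D2 e P w w') (hw : w' ≠ 0) : k ∉ tensorProductSubgroup 2 n e P := fun hk => by
  obtain ⟨a, b, c, d, B, -, hB⟩ := D2_of_mem hk
  rw [hB] at h1 h2
  obtain ⟨e1, e2⟩ := D2_inj h1
  obtain ⟨-, e3⟩ := D2_inj h2
  simp only [map_zero, smul_zero, add_zero, smul_eq_zero] at e1 e2 e3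
  rcases e2 with e2 | e2
  · exact hw (by rw [← e3, e2, zero_smul])
  · exact h3 (by rw [← e1, e2, smul_zero])

/-- Row coordinates as linear functionals. -/
theorem exists_coord (e : ι ≃ Fin 2 × Fin n) (P : GL ι F) (j : Fin n) : ∃ f g : (ι → F) →ₗ[F] F,
    ∀ y y', f (D2 e P y y') = y j ∧ g (D2 e P y y') = y' j :=
  ⟨LinearMap.proj (e.symm (0, j)) ∘ₗ P⁻¹.1.mulVecLin, LinearMap.proj (e.symm (1, j)) ∘ₗ P⁻¹.1.mulVecLin,
    fun y y' => by simp [D2_eq]⟩

theorem nmax_SL2 [Fintype F] (hq : Fintype.card F = 2) (hn : 2 ≤ n) :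
    ∃ K : Subgroup (GL ι F), tensorProductSubgroup 2 n e P ⊓ specialLinear ι F < K ∧ K < specialLinear ι F := by
  have two : (2 : F) = 0 := two_zero (.inl hq)
  have sl : ∀ g : GL ι F, g ∈ specialLinear ι F := fun g => mem_SL.2 ((two_cases hq _).resolve_left g.det_ne_zero)
  have ne : (⟨0, by omega⟩ : Fin n) ≠ ⟨1, by omega⟩ := by simp
  generalize (⟨0, by omega⟩ : Fin n) = i, (⟨1, by omega⟩ : Fin n) = j at ne
  obtain ⟨f, g, h⟩ := exists_coord e P i
  obtain ⟨S, -, S2⟩ := exists_tr f (D2 e P 0 (Pi.single i 1)) (by simp [(h _ _).1])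
  obtain ⟨T, -, T2⟩ := exists_tr g (D2 e P (Pi.single i 1) 0) (by simp [(h _ _).2])
  have S3 : ∀ y y', S.1 *ᵥ D2 e P y y' = D2 e P y (y' + y i • Pi.single i 1) := fun y y' => by
    rw [S2, (h _ _).1, D2_smul, D2_add]; simp
  have T3 : ∀ y y', T.1 *ᵥ D2 e P y y' = D2 e P (y + y' i • Pi.single i 1) y' := fun y y' => by
    rw [T2, (h _ _).2, D2_smul, D2_add]; simp
  refine between (inf_le_left.trans (le_R2 hq)) (sl (S * T)) (mem_R2 hq fun y y' w w' k => ?_) ?_ (sl S) fun k => ?_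
  · simp only [Units.val_mul, ← mulVec_mulVec, S3, T3] at k ⊢
    obtain ⟨rfl, rfl⟩ := D2_inj k
    congr 1 <;> ext l <;> by_cases hl : l = i <;> simp [hl] <;> grind
  · refine not_mem2 (y₁ := Pi.single i 1) (y₃ := Pi.single j 1) (w := Pi.single i 1) (w' := Pi.single i 1)
      (fun k => by simpa using congrFun k j) ?_ ?_ (fun k => by simpa using congrFun k i) <;>
      simp [← mulVec_mulVec, S3, T3, ne]
  · obtain ⟨y, y', k1, k2⟩ := k (D2 e P (Pi.single i 1 + Pi.single j 1) 0,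
      D2 e P (Pi.single i 1 + Pi.single j 1 + 0) (Pi.single i 1 + Pi.single j 1)) ⟨_, _, rfl, .inl rfl⟩
    change S.1 *ᵥ D2 e P _ _ = _ at k1
    change S.1 *ᵥ D2 e P _ _ = _ ∨ S.1 *ᵥ D2 e P _ _ = _ at k2
    rw [S3] at k1 k2
    obtain ⟨rfl, rfl⟩ := D2_inj k1
    rcases k2 with k2 | k2
    · simpa [ne] using congrFun (D2_inj k2).1 i
    · simpa [ne.symm] using congrFun (D2_inj k2).1 j

end Cfsg.Agent.Classical.NMax
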