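import Cfsg.Agent.Lib.Classical.NMax7

/-! Non-maximality of `Sp₂(2) ⊗ Sp_m(2)` in `Ω⁺`. -/

set_option autoImplicit false

namespace Cfsg.Agent.Classical.NMax
open Matrix Cfsg.Geo Module QuadraticMap

variable {ι : Type} [Fintype ι] [DecidableEq ι] {F : Type*} [Field F] {n : ℕ}

theorem exists_refl2 (two : (2 : F) = 0) {Q : (ι → F) → F}
    (h1 : ∀ (c : F) v, Q (c • v) = c ^ 2 * Q v) (h2 : IsBilinearForm (polar Q)) {v : ι → F} (hv : Q v = 1) :
    ∃ r ∈ isometryGroup F Q, r⁻¹ = r ∧ ∀ x, r.1 *ᵥ x = x + polar Q x v • v := by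
  have vv : polar Q v v = 0 := by rw [polar, ← two_smul F v, h1]; linear_combination Q v * two
  obtain ⟨r, -, r2⟩ := exists_tr (LinearMap.mk₂ F (polar Q) h2.add_left h2.smul_left h2.add_right
    h2.smul_right |>.flip v) v (by simp [vv])
  have r3 : ∀ x, r.1 *ᵥ x = x + polar Q x v • v := r2
  refine ⟨r, fun x _ => ?_, inv_eq_of_mul_eq_one_right (Units.ext (Matrix.ext_of_mulVec_single fun i => ?_)), r3⟩
  · change Q (r.1 *ᵥ x) = Q x
    have := h2.smul_right (polar Q x v) x v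
    rw [polar, h1, hv] at this
    rw [r3]
    generalize polar Q x v = β at *
    linear_combination this + β ^ 2 * two
  · rw [Units.val_mul, ← mulVec_mulVec, Units.val_one, one_mulVec]
    generalize (Pi.single i 1 : ι → F) = x
    rw [r3, r3, h2.add_left, h2.smul_left, vv]
    ext j
    simp only [Pi.add_apply, Pi.smul_apply, smul_eq_mul]
    linear_combination (polar Q x v * v j) * two

theorem exists_rot2 (two : (2 : F) = 0) {Q : (ι → F) → F}
    (h1 : ∀ (c : F) v, Q (c • v) = c ^ 2 * Q v) (h2 : IsBilinearForm (polar Q)) {u v : ι → F} (hu : Q u = 1)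
    (hv : Q v = 1) (uv : polar Q u v = 1) :
    ∃ r ∈ omegaGL Q, ∀ x, r.1 *ᵥ x = x + (polar Q x u + polar Q x v) • u + polar Q x v • v := by
  have uu : polar Q u u = 0 := by rw [polar, ← two_smul F u, h1]; linear_combination Q u * two
  have vv : polar Q v v = 0 := by rw [polar, ← two_smul F v, h1]; linear_combination Q v * two
  have vu : polar Q v u = 1 := (polar_comm _ _ _).trans uv
  obtain ⟨r, r1, r2, r3⟩ := exists_refl2 two h1 h2 hv
  obtain ⟨s, s1, s2, s3⟩ := exists_refl2 two h1 h2 hu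
  have k := comm_mem r1 s1
  rw [r2, s2] at k
  refine ⟨_, k, fun x => ?_⟩
  simp only [Units.val_mul, ← mulVec_mulVec]
  rw [r3, s3, r3, s3]
  simp only [h2.add_left, h2.smul_left, uu, vv, uv, vu]
  ext j
  simp only [Pi.add_apply, Pi.smul_apply, smul_eq_mul]
  generalize polar Q x u = p, polar Q x v = s
  grind

theorem nmax_Om2 [Fintype F] (hq : Fintype.card F = 2) (hn : 2 < n) {Q : (ι → F) → F}
    (h1 : ∀ (c : F) v, Q (c • v) = c ^ 2 * Q v) (h2 : IsBilinearForm (polar Q)) {e : ι ≃ Fin 2 × Fin n} {P : GL ι F}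
    {f₁ : (Fin 2 → F) → (Fin 2 → F) → F} {f₂ : (Fin n → F) → (Fin n → F) → F} (hf₁ : IsSymplecticForm f₁)
    (hf₂ : IsSymplecticForm f₂) (hT : IsTensorFormStructure id (polar Q) f₁ f₂ e P)
    (hp : ∀ x y, Q (tp e P x y) = 0) :
    ∃ K : Subgroup (GL ι F), tensorProductSubgroup 2 n e P ⊓ omegaGL Q < K ∧ K < omegaGL Q := by
  classical
  have two : (2 : F) = 0 := two_zero (.inl hq)
  have one : ∀ {x : F}, x ≠ 0 → x = 1 := fun h => (two_cases hq _).resolve_left h
  have sy₁ : ∀ x y, f₁ x y = f₁ y x := fun x y => by rw [hf₁.skew]; linear_combination -f₁ y x * two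
  have sy : ∀ x y, f₂ x y = f₂ y x := fun x y => by rw [hf₂.skew]; linear_combination -f₂ y x * two
  obtain ⟨al, sl, ar, sr⟩ := hf₂.bilinear
  have alt := hf₂.alternating
  have z1 : ∀ x, f₂ 0 x = 0 := fun x => by rw [← zero_smul F (0 : Fin n → F), sl, zero_mul]
  have z2 : ∀ x, f₂ x 0 = 0 := fun x => by rw [sy, z1]
  obtain ⟨c, c0, hc⟩ := tp_form (σ := id) (fun _ _ => rfl)
    (form_gram hf₁.bilinear.add_left hf₁.bilinear.smul_left hf₁.bilinear.add_right hf₁.bilinear.smul_right)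
    (form_gram al sl ar sr) hT
  have e01 : f₁ (Pi.single 0 1) (Pi.single 1 1) = 1 := one fun k => by
    obtain ⟨x, hx⟩ := (hf₁.nondegenerate (Pi.single 1 1) fun k => by simpa using congrFun k 1).1
    rw [pi_eq_sum_univ' x, Fin.sum_univ_two, hf₁.bilinear.add_left, hf₁.bilinear.smul_left, hf₁.bilinear.smul_left,
      k, hf₁.alternating] at hx
    simp at hx
  have e10 := (sy₁ _ _).trans e01
  have fD : ∀ y y' w w', polar Q (D2 e P y y') (D2 e P w w') = f₂ y w' + f₂ y' w := fun y y' w w' => by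
    simp [D2, h2.add_left, h2.add_right, hc, one c0, e01, e10, hf₁.alternating, add_comm]
  have QD : ∀ y y', Q (D2 e P y y') = f₂ y y' := fun y y' => by
    have := hc (Pi.single 0 1) y (Pi.single 1 1) y'
    rw [polar, hp, hp, e01, one c0] at this
    rw [D2]; linear_combination this
  obtain ⟨y₁, y0⟩ : ∃ y : Fin n → F, y ≠ 0 := ⟨fun _ => 1, fun k => one_ne_zero (congrFun k ⟨0, by omega⟩)⟩
  obtain ⟨y₂, a12⟩ := (hf₂.nondegenerate y₁ y0).2
  replace a12 := one a12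
  have a21 := (sy _ _).trans a12
  have proj : ∀ y, ∃ y', f₂ y' y₁ = 0 ∧ f₂ y' y₂ = 0 ∧ y' = y + f₂ y y₂ • y₁ + f₂ y y₁ • y₂ := fun y =>
    ⟨_, by simp only [al, sl, alt, a21]; linear_combination f₂ y y₁ * two,
      by simp only [al, sl, alt, a12]; linear_combination f₂ y y₂ * two, rfl⟩
  obtain ⟨y₃, a31, a32, y30⟩ : ∃ y, f₂ y y₁ = 0 ∧ f₂ y y₂ = 0 ∧ y ≠ 0 := by
    obtain ⟨y, hy⟩ : ∃ y, y ∉ Submodule.span F {y₁, y₂} := by_contra fun k => by
      push Not at k
      have h3 := Submodule.finrank_mono (show (⊤ : Submodule F (Fin n → F)) ≤ Submodule.span F {y₁, y₂} from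
        fun y _ => k y)
      have h4 := finrank_span_finset_le_card (R := F) ({y₁, y₂} : Finset (Fin n → F))
      have h5 := Finset.card_le_two (a := y₁) (b := y₂)
      rw [Set.finrank, Finset.coe_pair] at h4
      simp at h3
      omega
    obtain ⟨y', k1, k2, k3⟩ := proj y
    refine ⟨y', k1, k2, fun k => hy (Submodule.mem_span_pair.2 ⟨-f₂ y y₂, -f₂ y y₁, ?_⟩)⟩
    rw [k, add_assoc] at k3
    exact Eq.trans (by rw [neg_smul, neg_smul, neg_add]) (eq_neg_of_add_eq_zero_left k3.symm).symm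
  obtain ⟨y₄, a41, a42, a43⟩ : ∃ y, f₂ y y₁ = 0 ∧ f₂ y y₂ = 0 ∧ f₂ y y₃ = 1 := by
    obtain ⟨y, hy⟩ := (hf₂.nondegenerate y₃ y30).1
    obtain ⟨y', k1, k2, k3⟩ := proj y
    exact ⟨y', k1, k2, by rw [k3]; simp [al, sl, sy _ y₃, a31, a32, (sy _ _).trans (one hy)]⟩
  have a13 := (sy _ _).trans a31
  have a23 := (sy _ _).trans a32
  obtain ⟨k, kX, hk⟩ := exists_rot2 two h1 h2 (u := D2 e P (y₁ + y₂) y₁) (v := D2 e P y₁ y₂)
    (by simp [QD, al, alt, a21]) (by simp [QD, a12]) (by simp [fD, al, alt, a12])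
  obtain ⟨g, gX, hg⟩ := exists_rot2 two h1 h2 (u := D2 e P (y₁ + y₂ + y₃) y₁) (v := D2 e P y₁ y₂)
    (by simp [QD, al, alt, a21, a31]) (by simp [QD, a12]) (by simp [fD, al, alt, a12, a32])
  refine between (inf_le_left.trans (le_R2 hq)) kX (mem_R2 hq fun y y' w w' h => ?_) ?_ gX fun h => ?_
  · simp only [hk, fD, D2_smul, D2_add, al, ar] at h ⊢
    obtain ⟨rfl, rfl⟩ := D2_inj h
    congr 1 <;> ext l <;> simp only [Pi.add_apply, Pi.smul_apply, smul_eq_mul] <;> grind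
  · refine not_mem2 (y₁ := y₁) y30 (by simp [hk, fD, z1, a31, a32]) (by
      rw [hk, D2_smul, D2_smul, D2_add, D2_add]) fun h => ?_
    have := congrArg (f₂ · y₂) h
    simp [fD, z1, al, sl, alt, a12] at this
  · obtain ⟨y, y', k1, k2⟩ := h (D2 e P y₄ 0, D2 e P (y₄ + 0) y₄) ⟨_, _, rfl, .inl rfl⟩
    change g.1 *ᵥ D2 e P _ _ = _ at k1
    change g.1 *ᵥ D2 e P _ _ = _ ∨ g.1 *ᵥ D2 e P _ _ = _ at k2
    simp only [hg, fD, z1, ar, a41, a42, a43, add_zero, zero_add, zero_smul, one_smul, D2_add] at k1 k2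
    obtain ⟨rfl, rfl⟩ := D2_inj k1
    rcases k2 with k2 | k2 <;> simpa [al, a42, a12, z1] using congrArg (f₂ · y₂) (D2_inj k2).2

end Cfsg.Agent.Classical.NMax
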