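import Cfsg.Agent.Lib.Classical.NMax3

/-! Non-maximality of extension-field normalisers of composite degree. -/

set_option autoImplicit false

namespace Cfsg.Agent.Classical.NMax
open Matrix Cfsg.Geo Module

variable {ι : Type} [Fintype ι] [DecidableEq ι] {F : Type*} [Field F] {L : Type*} [Field L] [Algebra F L]

theorem det_one_add_sq_zero [Fintype F] {M : Matrix ι ι F} (h : M * M = 0) : (1 + M).det = 1 := by
  obtain ⟨p, hp⟩ := CharP.exists F
  haveI : Fact p.Prime := ⟨CharP.char_is_prime F p⟩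
  have k : ∀ j : ℕ, (1 + M) ^ j = 1 + (j : F) • M := fun j => by
    induction j with
    | zero => simp
    | succ j ih => rw [pow_succ, ih]; simp [add_mul, mul_add, h, add_smul, add_assoc, add_comm, add_left_comm]
  have := congrArg det (k p)
  rw [CharP.cast_eq_zero, zero_smul, add_zero, det_pow, det_one] at this
  have e := sub_pow_char (p := p) (1 + M).det 1
  rw [this, one_pow, sub_self] at e
  exact sub_eq_zero.1 (pow_eq_zero_iff (Fact.out : p.Prime).ne_zero |>.1 e)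

theorem exists_phi [FiniteDimensional F L] (ρ : L →ₐ[F] Matrix ι ι F) (h : finrank F L < Fintype.card ι) :
    ∃ (φ : (ι → F) →ₗ[F] L) (u w : ι → F), u ≠ 0 ∧ φ u = 0 ∧ φ w = 1 ∧ ∀ a v, φ (ρ a *ᵥ v) = a * φ v := by
  haveI : Nonempty ι := Fintype.card_pos_iff.1 (by omega)
  letI : Module L (ι → F) := Module.compHom (ι → F) ((Matrix.toLinAlgEquiv' (n := ι) (R := F)).toAlgHom.comp ρ).toRingHom
  have sm : ∀ (a : L) (v : ι → F), a • v = ρ a *ᵥ v := fun a v => Matrix.toLinAlgEquiv'_apply _ _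
  obtain ⟨u, u0⟩ := exists_ne (0 : ι → F)
  obtain ⟨w, hw⟩ : ∃ w, w ∉ Submodule.span L {u} := by_contra fun k => by
    push Not at k
    have := LinearMap.finrank_le_finrank_of_surjective
      (f := (Matrix.mulVecBilin F F (m := ι) (n := ι)).flip u ∘ₗ ρ.toLinearMap) fun v => by
        obtain ⟨a, ha⟩ := Submodule.mem_span_singleton.1 (k v)
        exact ⟨a, (sm a u).symm.trans ha⟩
    simp at this
    omega
  obtain ⟨f, f1, f2⟩ := Submodule.exists_le_ker_of_notMem hw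
  refine ⟨⟨⟨f, f.map_add⟩, fun c v => ?_⟩, u, (f w)⁻¹ • w, u0, f2 (Submodule.mem_span_singleton_self u), ?_,
    fun a v => ?_⟩
  · have : c • v = (algebraMap F L c) • v := by rw [sm, ρ.commutes, Algebra.algebraMap_eq_smul_one, smul_mulVec]; simp
    change f (c • v) = c • f v
    rw [this, f.map_smul, smul_eq_mul, Algebra.smul_def]
  · change f _ = 1
    rw [f.map_smul, smul_eq_mul, inv_mul_cancel₀ f1]
  · change f _ = a * f v
    rw [← sm, f.map_smul, smul_eq_mul]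

theorem exists_kT [Fintype F] (ρ : L →ₐ[F] Matrix ι ι F) {φ : (ι → F) →ₗ[F] L} {u w : ι → F} (u0 : u ≠ 0)
    (h0 : φ u = 0) (h1 : φ w = 1) (h : ∀ a v, φ (ρ a *ᵥ v) = a * φ v) (T : L →ₗ[F] L) :
    ∃ k ∈ specialLinear ι F, (∀ x, (∀ a, T (x * a) = x * T a) → k.1 * ρ x * k⁻¹.1 = ρ x) ∧
      ∀ x y, k.1 * ρ x * k⁻¹.1 = ρ y → ∀ a, T (x * a) = x * T a := by
  obtain ⟨M, hM⟩ : ∃ M : Matrix ι ι F, ∀ v, M *ᵥ v = ρ (T (φ v)) *ᵥ u :=
    ⟨LinearMap.toMatrix' ((Matrix.mulVecBilin F F (m := ι) (n := ι)).flip u ∘ₗ ρ.toLinearMap ∘ₗ T ∘ₗ φ), fun v => by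
      rw [LinearMap.toMatrix'_mulVec]; rfl⟩
  have d : (1 + M).det = 1 := det_one_add_sq_zero (Matrix.ext_of_mulVec_single fun i => by
    rw [← mulVec_mulVec, hM, hM, h, h0, zero_mulVec]; simp)
  have inj : ∀ a b, ρ a *ᵥ u = ρ b *ᵥ u → a = b := fun a b e => by_contra fun k => u0 (by
    have : ρ (a - b) *ᵥ u = 0 := by rw [map_sub, sub_mulVec, e, sub_self]
    rw [← one_mulVec u, ← map_one ρ, ← inv_mul_cancel₀ (sub_ne_zero.2 k), map_mul, ← mulVec_mulVec, this, mulVec_zero])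
  obtain ⟨k, hk⟩ : ∃ k : GL ι F, k.1 = 1 + M := ⟨GeneralLinearGroup.mkOfDetNeZero _ (d.trans_ne one_ne_zero), rfl⟩
  have kv : ∀ v, k.1 *ᵥ v = v + ρ (T (φ v)) *ᵥ u := fun v => by rw [hk, add_mulVec, one_mulVec, hM]
  refine ⟨k, mem_SL.2 (hk ▸ d), fun x hx => ?_, fun x y e a => ?_⟩
  · rw [Units.mul_inv_eq_iff_eq_mul]
    refine Matrix.ext_of_mulVec_single fun i => ?_
    rw [← mulVec_mulVec, ← mulVec_mulVec, kv, kv, h, hx, mulVec_add, mulVec_mulVec, map_mul]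
  · rw [Units.mul_inv_eq_iff_eq_mul] at e
    have e1 := congrArg (· *ᵥ u) e
    simp only [← mulVec_mulVec, kv, h, h0, mul_zero, map_zero, zero_mulVec, add_zero] at e1
    obtain rfl := inj _ _ e1
    have e2 := congrArg (· *ᵥ (ρ a *ᵥ w)) e
    simp only [← mulVec_mulVec, kv, h, h1, mul_one, mulVec_add, add_right_inj] at e2
    rw [mulVec_mulVec, ← map_mul] at e2
    exact inj _ _ e2

theorem exists_frob [Fintype F] (s : ℕ) : ∃ σ : L →ₐ[F] L, ∀ x, σ x = x ^ Fintype.card F ^ s := by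
  induction s with
  | zero => exact ⟨AlgHom.id F L, fun x => by simp⟩
  | succ s ih =>
    obtain ⟨σ, h⟩ := ih
    exact ⟨(FiniteField.frobeniusAlgHom F L).comp σ, fun x => by simp [h, pow_succ, pow_mul]⟩

theorem exists_elts [Fintype F] [Finite L] {s : ℕ} (h1 : 1 < s) (h2 : s < finrank F L) (h3 : s ∣ finrank F L) :
    (∃ y : L, y ^ Fintype.card F ^ s ≠ y) ∧ ∃ x : L, x ^ Fintype.card F ^ s = x ∧ x ^ Fintype.card F ≠ x := by
  have q2 : 1 < Fintype.card F := Fintype.one_lt_card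
  obtain ⟨γ, hγ⟩ := IsCyclic.exists_ofOrder_eq_natCard (α := Lˣ)
  rw [Nat.card_units, Module.natCard_eq_pow_finrank (K := F), Nat.card_eq_fintype_card] at hγ
  have key : ∀ (x : Lˣ) (N : ℕ), 1 ≤ N → ((x : L) ^ N = x ↔ orderOf x ∣ N - 1) := fun x N hN => by
    rw [orderOf_dvd_iff_pow_eq_one, ← Units.val_pow_eq_pow_val, Units.val_inj]
    obtain ⟨N, rfl⟩ := Nat.exists_eq_add_of_le' hN
    simp [pow_succ]
  have l1 := Nat.pow_lt_pow_right q2 h2
  have l2 := Nat.pow_lt_pow_right q2 h1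
  rw [pow_one] at l2
  refine ⟨⟨γ, fun e => ?_⟩, ?_⟩
  · have := Nat.le_of_dvd (by omega) ((key γ _ (by omega)).1 e)
    omega
  · have o := orderOf_pow_orderOf_div (x := γ) (n := Fintype.card F ^ s - 1) (by omega)
      (hγ ▸ Nat.pow_sub_one_dvd_pow_sub_one _ h3)
    refine ⟨_, (key _ _ (by omega)).2 (dvd_of_eq o), fun e => ?_⟩
    have := Nat.le_of_dvd (by omega) ((key _ _ (by omega)).1 e)
    omega

theorem fld_core [Fintype F] [Finite L] (ρ : L →ₐ[F] Matrix ι ι F) {s : ℕ} (h1 : 1 < s) (h2 : s < finrank F L)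
    (h3 : s ∣ finrank F L) (h : finrank F L < Fintype.card ι) :
    ∃ M : Subgroup (GL ι F), subalgebraNormalizer ρ.range ≤ M ∧
      (∃ k ∈ specialLinear ι F, k ∈ M ∧ k ∉ subalgebraNormalizer ρ.range) ∧ ∃ g ∈ specialLinear ι F, g ∉ M := by
  haveI : Nonempty ι := Fintype.card_pos_iff.1 (by omega)
  obtain ⟨φ, u, w, u0, p0, p1, p2⟩ := exists_phi ρ h
  obtain ⟨σ, hσ⟩ := exists_frob (F := F) (L := L) s
  obtain ⟨⟨y, hy⟩, x, hx1, hx2⟩ := exists_elts h1 h2 h3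
  obtain ⟨l, hl⟩ : ∃ l : Module.Dual F L, l 1 ≠ 0 := by_contra fun k => by
    push Not at k
    exact one_ne_zero ((Module.forall_dual_apply_eq_zero_iff F (1 : L)).1 k)
  obtain ⟨k, k1, k2, k3⟩ := exists_kT ρ u0 p0 p1 p2 σ.toLinearMap
  obtain ⟨g, g1, -, g3⟩ := exists_kT ρ u0 p0 p1 p2 (Algebra.linearMap F L ∘ₗ l)
  refine ⟨@pstab (GL ι F) (Matrix ι ι F) _ _
    (MulAction.compHom _ (ConjAct.toConjAct (G := GL ι F)).toMonoidHom)
    fun a => a ∈ ρ.range ∧ a ^ Fintype.card F ^ s = a, ?_, ⟨k, k1, ?_, fun e => ?_⟩, g, g1, fun e => ?_⟩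
  · rintro c hc a ⟨a1, a2⟩
    change c.1 * a * c⁻¹.1 ∈ _ ∧ (c.1 * a * c⁻¹.1) ^ _ = c.1 * a * c⁻¹.1
    exact ⟨(hc a).1 a1, by rw [Units.conj_pow, a2]⟩
  · rintro _ ⟨⟨a, rfl⟩, a2⟩
    change k.1 * ρ a * k⁻¹.1 ∈ _ ∧ (k.1 * ρ a * k⁻¹.1) ^ _ = k.1 * ρ a * k⁻¹.1
    have : σ a = a := ρ.toRingHom.injective (by rw [hσ, map_pow]; exact a2)
    rw [k2 a fun b => by simp [this]]
    exact ⟨⟨a, rfl⟩, a2⟩
  · obtain ⟨z, hz⟩ := (e (ρ y)).1 ⟨y, rfl⟩
    have := k3 y z hz.symm 1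
    exact hy (by simpa [hσ] using this)
  · obtain ⟨⟨z, hz⟩, -⟩ := e (ρ x) ⟨⟨x, rfl⟩, by rw [← map_pow, hx1]⟩
    have := g3 x z hz.symm 1
    simp only [mul_one, LinearMap.comp_apply, Algebra.linearMap_apply] at this
    have e2 : x = algebraMap F L (l x / l 1) := by
      rw [map_div₀, this, mul_div_cancel_right₀ _ ((_root_.map_ne_zero _).2 hl)]
    exact hx2 (by rw [e2, ← map_pow, FiniteField.pow_card])

end Cfsg.Agent.Classical.NMax
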