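import Mathlib

/-! Regular subgroups of `GL₂(p)` by computation. -/
set_option autoImplicit false
open Matrix

namespace Cfsg.Agent.Classical.Near

abbrev T4 := ℕ × ℕ × ℕ × ℕ
def mulT (p : ℕ) (x y : T4) : T4 := ((x.1 * y.1 + x.2.1 * y.2.2.1) % p, (x.1 * y.2.1 + x.2.1 * y.2.2.2) % p,
  (x.2.2.1 * y.1 + x.2.2.2 * y.2.2.1) % p, (x.2.2.1 * y.2.1 + x.2.2.2 * y.2.2.2) % p)
def toM (p : ℕ) (x : T4) : Matrix (Fin 2) (Fin 2) (ZMod p) := !![x.1, x.2.1; x.2.2.1, x.2.2.2]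
theorem toM_mul (p : ℕ) (x y : T4) : toM p (mulT p x y) = toM p x * toM p y := by simp [toM, mulT]
theorem toM_one (p : ℕ) : toM p (1, 0, 0, 1) = 1 := by simp [toM, one_fin_two]
def ok (p : ℕ) (G : List T4) : List T4 → Bool
  | [] => true
  | x :: L => (x == (1, 0, 0, 1) || G.any fun g => L.any fun y => x == mulT p g y) && ok p G L
def mask (p : ℕ) (L : List T4) : ℕ := L.foldr (fun x m => 2 ^ (x.1 * p + x.2.2.1) ||| m) 0
def all (p c m : ℕ) (L : List T4) : List T4 := (List.range m).flatMap fun k => L.map (mulT p (c ^ k % p, 0, 0, c ^ k % p))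

theorem ok_ind {p : ℕ} {G : List T4} {P : T4 → Prop} (h1 : P (1, 0, 0, 1)) (h2 : ∀ g ∈ G, ∀ y, P y → P (mulT p g y)) :
    ∀ L, ok p G L = true → ∀ x ∈ L, P x
  | [], _ => by simp
  | x :: L, h => by
    simp only [ok, Bool.and_eq_true, Bool.or_eq_true, beq_iff_eq, List.any_eq_true] at h
    have ih := ok_ind h1 h2 L h.2
    rw [List.forall_mem_cons]
    refine ⟨?_, ih⟩
    rcases h.1 with rfl | ⟨g, hg, y, hy, rfl⟩
    exacts [h1, h2 g hg y (ih y hy)]

theorem mask_mem {p n : ℕ} : ∀ L, (mask p L).testBit n = true → ∃ x ∈ L, x.1 * p + x.2.2.1 = n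
  | [], h => by simp [mask] at h
  | x :: L, h => by
    rw [mask, List.foldr_cons, Nat.testBit_or, Bool.or_eq_true, Nat.testBit_two_pow] at h
    rcases h with h | h
    · exact ⟨x, by simp, by simpa using h⟩
    · obtain ⟨y, hy, e⟩ := mask_mem L h
      exact ⟨y, by simp [hy], e⟩

theorem toM_sc (p c k : ℕ) (x : T4) : toM p (mulT p (c ^ k % p, 0, 0, c ^ k % p) x) = (c : ZMod p) ^ k • toM p x := by
  simp [toM, mulT]

theorem regular (p : ℕ) [Fact p.Prime] (G L : List T4) (c m : ℕ) (hm : 0 < m) (hc : (c : ZMod p) ^ m = 1)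
    (S : Set (GL (Fin 2) (ZMod p))) (hS : ∀ g ∈ S, (∃ a ∈ G, g.1 = toM p a) ∨ g.1 = (c : ZMod p) • 1)
    (hG : ∀ a ∈ G, ∃ g ∈ S, g.1 = toM p a) (hC : m = 1 ∨ ∃ g ∈ S, g.1 = (c : ZMod p) • 1)
    (h1 : ok p G L = true) (h2 : (1, 0, 0, 1) ∈ L) (h3 : ∀ a ∈ G, ∀ x ∈ L, mulT p a x ∈ L)
    (h4 : ∀ y ∈ all p c m L, ((y.1 + (p - 1)) * (y.2.2.2 + (p - 1))) % p = (y.2.1 * y.2.2.1) % p → y = (1, 0, 0, 1))
    (h5 : mask p (all p c m L) ||| 1 = 2 ^ (p * p) - 1) :
    Nat.card (Subgroup.closure S) = p ^ 2 - 1 ∧ ∀ v w : Fin 2 → ZMod p, v ≠ 0 → w ≠ 0 →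
      ∃! h : Subgroup.closure S, (h.1 : Matrix (Fin 2) (Fin 2) (ZMod p)) *ᵥ v = w := by
  have hp := (Fact.out : p.Prime).pos
  have a1 : ∀ g ∈ Subgroup.closure S, ∃ y ∈ all p c m L, g.1 = toM p y := by
    have : ∀ g ∈ Submonoid.closure S, ∃ k, ∃ x ∈ L, g.1 = (c : ZMod p) ^ k • toM p x := fun g hg => by
      induction hg using Submonoid.closure_induction_left with
      | one => exact ⟨0, _, h2, by simp [toM_one]⟩
      | mul_left s hs g _ ih =>
        obtain ⟨k, x, hx, e⟩ := ih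
        rcases hS s hs with ⟨a, ha, e'⟩ | e'
        · exact ⟨k, _, h3 a ha x hx, by rw [Units.val_mul, e, e', toM_mul, mul_smul_comm]⟩
        · exact ⟨k + 1, x, hx, by rw [Units.val_mul, e, e', smul_mul_assoc, one_mul, smul_smul, pow_succ']⟩
    intro g hg
    obtain ⟨k, x, hx, e⟩ := this g (by rw [← Subgroup.closure_toSubmonoid_of_finite]; exact hg)
    refine ⟨_, List.mem_flatMap.2 ⟨k % m, List.mem_range.2 (Nat.mod_lt _ hm), List.mem_map_of_mem hx⟩, ?_⟩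
    rw [toM_sc, e, ← pow_eq_pow_mod _ hc]
  have a2 : ∀ y ∈ all p c m L, ∃ g ∈ Subgroup.closure S, g.1 = toM p y := fun y hy => by
    obtain ⟨k, hk, hy⟩ := List.mem_flatMap.1 hy
    obtain ⟨x, hx, rfl⟩ := List.mem_map.1 hy
    obtain ⟨g, hg, e⟩ := ok_ind (P := fun x => ∃ g ∈ Subgroup.closure S, g.1 = toM p x) ⟨1, one_mem _, (toM_one p).symm⟩
      (fun a ha y ⟨g, hg, e⟩ => by
        obtain ⟨s, hs, e'⟩ := hG a ha
        exact ⟨_, mul_mem (Subgroup.subset_closure hs) hg, by rw [toM_mul, ← e, ← e']; rfl⟩) L h1 x hx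
    rcases hC with rfl | ⟨s, hs, e'⟩
    · obtain rfl : k = 0 := by simpa using hk
      exact ⟨g, hg, by rw [toM_sc, e]; simp⟩
    · exact ⟨_, mul_mem (pow_mem (Subgroup.subset_closure hs) k) hg, by
        rw [toM_sc, Units.val_mul, Units.val_pow_eq_pow_val, e, e', smul_pow, one_pow, smul_mul_assoc, one_mul]⟩
  have a3 : ∀ g ∈ Subgroup.closure S, ∀ v, v ≠ 0 → g.1 *ᵥ v = v → g = 1 := fun g hg v hv e => by
    obtain ⟨y, hy, e'⟩ := a1 g hg
    have : (g.1 - 1).det = 0 := exists_mulVec_eq_zero_iff.1 ⟨v, hv, by rw [sub_mulVec, e, one_mulVec, sub_self]⟩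
    rw [Units.ext_iff, e', h4 y hy ?_, toM_one, Units.val_one]
    rw [← ZMod.natCast_eq_natCast_iff']
    rw [e', det_fin_two] at this
    simp [toM] at this
    push_cast [hp]
    simp only [CharP.cast_eq_zero]
    linear_combination this
  have a4 : ∀ v : Fin 2 → ZMod p, v ≠ 0 → ∃ g ∈ Subgroup.closure S, g.1 *ᵥ ![1, 0] = v := fun v hv => by
    have l0 := ZMod.val_lt (v 0)
    have l1 := ZMod.val_lt (v 1)
    have : (mask p (all p c m L) ||| 1).testBit ((v 0).val * p + (v 1).val) = true := by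
      rw [h5, Nat.testBit_two_pow_sub_one, decide_eq_true_eq]; nlinarith
    rw [Nat.testBit_or, Bool.or_eq_true] at this
    rcases this with h | h
    · obtain ⟨y, hy, e⟩ := mask_mem _ h
      obtain ⟨g, hg, e'⟩ := a2 y hy
      have l2 : y.2.2.1 < p := by
        obtain ⟨k, -, hy⟩ := List.mem_flatMap.1 hy
        obtain ⟨x, -, rfl⟩ := List.mem_map.1 hy
        exact Nat.mod_lt _ hp
      have e1 : y.2.2.1 = (v 1).val := by
        simpa [Nat.mod_eq_of_lt l2, Nat.mod_eq_of_lt l1] using congrArg (· % p) e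
      have e0 : y.1 = (v 0).val := Nat.eq_of_mul_eq_mul_right hp (by omega)
      refine ⟨g, hg, ?_⟩
      rw [e']; ext i; fin_cases i <;> simp [toM, e0, e1]
    · rw [Nat.testBit_one_eq_true_iff_self_eq_zero, add_eq_zero, mul_eq_zero, ZMod.val_eq_zero, ZMod.val_eq_zero] at h
      exact absurd (funext fun i => by fin_cases i; exacts [h.1.resolve_right hp.ne', h.2]) hv
  have a5 : ∀ v w : Fin 2 → ZMod p, v ≠ 0 → w ≠ 0 →
      ∃! h : Subgroup.closure S, (h.1 : Matrix (Fin 2) (Fin 2) (ZMod p)) *ᵥ v = w := fun v w hv hw => by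
    obtain ⟨g, hg, rfl⟩ := a4 v hv
    obtain ⟨g', hg', rfl⟩ := a4 w hw
    refine ⟨⟨g' * g⁻¹, mul_mem hg' (inv_mem hg)⟩, by
      show (g' * g⁻¹).1 *ᵥ _ = _
      rw [mulVec_mulVec, ← Units.val_mul, inv_mul_cancel_right], fun h e => Subtype.ext ?_⟩
    have := a3 _ (mul_mem (inv_mem hg') (mul_mem h.2 hg)) ![1, 0] (by simp) (by
      rw [Units.val_mul, Units.val_mul, ← mulVec_mulVec, ← mulVec_mulVec, e, mulVec_mulVec]; simp)
    rw [inv_mul_eq_one] at this
    simp [this]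
  refine ⟨?_, a5⟩
  have : Function.Bijective fun h : Subgroup.closure S => (⟨h.1.1 *ᵥ ![1, 0], fun e => by
      have := congrArg (h.1⁻¹.1 *ᵥ ·) e
      simp only [mulVec_mulVec, Units.inv_mul, one_mulVec, mulVec_zero] at this
      simp at this⟩ : {v : Fin 2 → ZMod p // v ≠ 0}) :=
    (Function.bijective_iff_existsUnique _).2 fun v => by simpa [Subtype.ext_iff] using a5 ![1, 0] v (by simp) v.2
  rw [Nat.card_eq_of_bijective _ this, Nat.card_eq_fintype_card, Fintype.card_subtype_compl]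
  simp

end Cfsg.Agent.Classical.Near
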