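import Cfsg.Prelude.Def_G2
import Cfsg.Agent.S0242

/-! The automorphism group of the split octonions: idempotents, their stabiliser, the order bound. -/
set_option autoImplicit false
open Matrix Cfsg.Lie

namespace Cfsg.Agent.Classical.Oct
variable {F : Type*} [Field F]

abbrev V (F : Type*) := Fin 8 → F
scoped infixl:70 " ⋆ " => zornMul

theorem ext8 {x y : V F} (h0 : x 0 = y 0) (h1 : x 1 = y 1) (h2 : x 2 = y 2) (h3 : x 3 = y 3) (h4 : x 4 = y 4)
    (h5 : x 5 = y 5) (h6 : x 6 = y 6) (h7 : x 7 = y 7) : x = y := by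
  funext i; fin_cases i <;> assumption

theorem m0 (x y : V F) : (x ⋆ y) 0 = x 0 * y 0 + (x 1 * y 4 + x 2 * y 5 + x 3 * y 6) := rfl
theorem m1 (x y : V F) : (x ⋆ y) 1 = x 0 * y 1 + y 7 * x 1 - (x 5 * y 6 - x 6 * y 5) := rfl
theorem m2 (x y : V F) : (x ⋆ y) 2 = x 0 * y 2 + y 7 * x 2 - (x 6 * y 4 - x 4 * y 6) := rfl
theorem m3 (x y : V F) : (x ⋆ y) 3 = x 0 * y 3 + y 7 * x 3 - (x 4 * y 5 - x 5 * y 4) := rfl
theorem m4 (x y : V F) : (x ⋆ y) 4 = y 0 * x 4 + x 7 * y 4 + (x 2 * y 3 - x 3 * y 2) := rfl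
theorem m5 (x y : V F) : (x ⋆ y) 5 = y 0 * x 5 + x 7 * y 5 + (x 3 * y 1 - x 1 * y 3) := rfl
theorem m6 (x y : V F) : (x ⋆ y) 6 = y 0 * x 6 + x 7 * y 6 + (x 1 * y 2 - x 2 * y 1) := rfl
theorem m7 (x y : V F) : (x ⋆ y) 7 = x 4 * y 1 + x 5 * y 2 + x 6 * y 3 + x 7 * y 7 := rfl

/-- multiplicative linear maps -/
def MA (F : Type*) [Field F] : Submonoid (Module.End F (V F)) where
  carrier := {f | ∀ x y, f (x ⋆ y) = f x ⋆ f y}
  mul_mem' ha hb x y := by rw [Module.End.mul_apply, hb, ha]; rfl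
  one_mem' _ _ := rfl

abbrev A (F : Type*) [Field F] := (MA F)ˣ

theorem smul_mul (g : A F) (x y : V F) : g • (x ⋆ y) = g • x ⋆ g • y := g.1.2 x y
theorem smul_def (g : A F) (x : V F) : g • x = g.1.1 x := rfl
theorem A_ext {g h : A F} (e : ∀ x : V F, g • x = h • x) : g = h := Units.ext (Subtype.ext (LinearMap.ext e))
theorem smul_smul' (g : A F) (c : F) (x : V F) : g • c • x = c • g • x := g.1.1.map_smul c x

noncomputable def toA : G2 F →* A F := MonoidHom.toHomUnits
  { toFun := fun g => ⟨toLin' (g.1 : Matrix (Fin 8) (Fin 8) F), g.2⟩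
    map_one' := Subtype.ext toLin'_one
    map_mul' := fun _ _ => Subtype.ext (toLin'_mul _ _) }

noncomputable def equivG2 : G2 F ≃* A F := MulEquiv.ofBijective toA
  ⟨fun g h e => Subtype.ext (Units.ext (toLin'.injective (congrArg (fun z : A F => z.1.1) e))), fun g =>
    ⟨⟨GeneralLinearGroup.toLin.symm (Units.map (MA F).subtype g), fun x y => by
      have k : ∀ v, (Units.coeHom _ (GeneralLinearGroup.toLin.symm (Units.map (MA F).subtype g))) *ᵥ v = g • v := fun v =>
        congrArg (fun z : LinearMap.GeneralLinearGroup F (V F) => z.1 v)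
          (GeneralLinearGroup.toLin.apply_symm_apply (Units.map (MA F).subtype g))
      rw [k, k, k, smul_mul]⟩, A_ext fun v => congrArg (fun z : LinearMap.GeneralLinearGroup F (V F) => z.1 v)
          (GeneralLinearGroup.toLin.apply_symm_apply (Units.map (MA F).subtype g))⟩⟩

instance [Finite F] : Finite (A F) := Finite.of_equiv _ equivG2.toEquiv

def o : V F := ![1, 0, 0, 0, 0, 0, 0, 1]
def e : V F := ![1, 0, 0, 0, 0, 0, 0, 0]

theorem mul_o (x : V F) : x ⋆ o = x := by
  apply ext8 <;> simp [m0, m1, m2, m3, m4, m5, m6, m7, o]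
theorem o_mul (x : V F) : o ⋆ x = x := by
  apply ext8 <;> simp [m0, m1, m2, m3, m4, m5, m6, m7, o]
theorem smul_o (g : A F) : g • (o : V F) = o := by
  have := smul_mul g o (g⁻¹ • o)
  rwa [o_mul, smul_inv_smul, mul_o, eq_comm] at this

def d1m (p q r : F) : MA F :=
  ⟨{ toFun := fun x => ![x 0 - (p * x 4 + q * x 5 + r * x 6), x 1 + (x 0 - x 7 - (p * x 4 + q * x 5 + r * x 6)) * p,
        x 2 + (x 0 - x 7 - (p * x 4 + q * x 5 + r * x 6)) * q, x 3 + (x 0 - x 7 - (p * x 4 + q * x 5 + r * x 6)) * r,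
        x 4 - (x 2 * r - x 3 * q), x 5 - (x 3 * p - x 1 * r), x 6 - (x 1 * q - x 2 * p), x 7 + (p * x 4 + q * x 5 + r * x 6)]
     map_add' := fun x y => by apply ext8 <;> simp only [cons_val, Pi.add_apply] <;> ring
     map_smul' := fun c x => by apply ext8 <;> simp only [cons_val, Pi.smul_apply, smul_eq_mul, RingHom.id_apply] <;> ring },
   fun x y => by
    apply ext8 <;> simp only [LinearMap.coe_mk, AddHom.coe_mk, cons_val, m0, m1, m2, m3, m4, m5, m6, m7] <;> ring⟩

def d2m (p q r : F) : MA F :=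
  ⟨{ toFun := fun x => ![x 0 + (p * x 1 + q * x 2 + r * x 3), x 1 + (x 5 * r - x 6 * q), x 2 + (x 6 * p - x 4 * r),
        x 3 + (x 4 * q - x 5 * p), x 4 + (x 7 - x 0 - (p * x 1 + q * x 2 + r * x 3)) * p,
        x 5 + (x 7 - x 0 - (p * x 1 + q * x 2 + r * x 3)) * q, x 6 + (x 7 - x 0 - (p * x 1 + q * x 2 + r * x 3)) * r,
        x 7 - (p * x 1 + q * x 2 + r * x 3)]
     map_add' := fun x y => by apply ext8 <;> simp only [cons_val, Pi.add_apply] <;> ring
     map_smul' := fun c x => by apply ext8 <;> simp only [cons_val, Pi.smul_apply, smul_eq_mul, RingHom.id_apply] <;> ring },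
   fun x y => by
    apply ext8 <;> simp only [LinearMap.coe_mk, AddHom.coe_mk, cons_val, m0, m1, m2, m3, m4, m5, m6, m7] <;> ring⟩

theorem d1m_neg (p q r : F) : d1m p q r * d1m (-p) (-q) (-r) = 1 := Subtype.ext <| LinearMap.ext fun x => by
  apply ext8 <;> simp only [d1m, Submonoid.coe_mul, Module.End.mul_apply, LinearMap.coe_mk, AddHom.coe_mk, cons_val,
    Submonoid.coe_one, Module.End.one_apply] <;> ring
theorem d2m_neg (p q r : F) : d2m p q r * d2m (-p) (-q) (-r) = 1 := Subtype.ext <| LinearMap.ext fun x => by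
  apply ext8 <;> simp only [d2m, Submonoid.coe_mul, Module.End.mul_apply, LinearMap.coe_mk, AddHom.coe_mk, cons_val,
    Submonoid.coe_one, Module.End.one_apply] <;> ring

def d1 (p q r : F) : A F := ⟨d1m p q r, d1m (-p) (-q) (-r), d1m_neg p q r, by simpa using d1m_neg (-p) (-q) (-r)⟩
def d2 (p q r : F) : A F := ⟨d2m p q r, d2m (-p) (-q) (-r), d2m_neg p q r, by simpa using d2m_neg (-p) (-q) (-r)⟩

theorem d1_smul (p q r : F) (x : V F) : d1 p q r • x =
    ![x 0 - (p * x 4 + q * x 5 + r * x 6), x 1 + (x 0 - x 7 - (p * x 4 + q * x 5 + r * x 6)) * p,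
        x 2 + (x 0 - x 7 - (p * x 4 + q * x 5 + r * x 6)) * q, x 3 + (x 0 - x 7 - (p * x 4 + q * x 5 + r * x 6)) * r,
        x 4 - (x 2 * r - x 3 * q), x 5 - (x 3 * p - x 1 * r), x 6 - (x 1 * q - x 2 * p),
        x 7 + (p * x 4 + q * x 5 + r * x 6)] := rfl
theorem d2_smul (p q r : F) (x : V F) : d2 p q r • x =
    ![x 0 + (p * x 1 + q * x 2 + r * x 3), x 1 + (x 5 * r - x 6 * q), x 2 + (x 6 * p - x 4 * r),
        x 3 + (x 4 * q - x 5 * p), x 4 + (x 7 - x 0 - (p * x 1 + q * x 2 + r * x 3)) * p,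
        x 5 + (x 7 - x 0 - (p * x 1 + q * x 2 + r * x 3)) * q, x 6 + (x 7 - x 0 - (p * x 1 + q * x 2 + r * x 3)) * r,
        x 7 - (p * x 1 + q * x 2 + r * x 3)] := rfl

/-- the idempotents other than `0` and `1` -/
def E (F : Type*) [Field F] : Set (V F) := {x | x 0 + x 7 = 1 ∧ x 0 * x 7 = x 1 * x 4 + x 2 * x 5 + x 3 * x 6}

theorem mem_E {x : V F} : x ∈ E F ↔ x ⋆ x = x ∧ x ≠ 0 ∧ x ≠ o := by
  constructor
  · rintro ⟨h1, h2⟩
    refine ⟨?_, ?_, ?_⟩
    · apply ext8 <;> simp only [m0, m1, m2, m3, m4, m5, m6, m7]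
      · linear_combination x 0 * h1 - h2
      · linear_combination x 1 * h1
      · linear_combination x 2 * h1
      · linear_combination x 3 * h1
      · linear_combination x 4 * h1
      · linear_combination x 5 * h1
      · linear_combination x 6 * h1
      · linear_combination x 7 * h1 - h2
    · rintro rfl; simp at h1
    · rintro rfl; simp [o] at h2
  · rintro ⟨h, h0, h1⟩
    have k := fun i => congrFun h i
    have k0 := k 0; have k1 := k 1; have k2 := k 2; have k3 := k 3; have k4 := k 4; have k5 := k 5; have k6 := k 6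
    have k7 := k 7
    simp only [m0, m1, m2, m3, m4, m5, m6, m7] at k0 k1 k2 k3 k4 k5 k6 k7
    have t : x 0 + x 7 = 1 := by
      by_contra t
      have c : ∀ a : F, a * (x 0 + x 7 - 1) = 0 → a = 0 := fun a ha => (mul_eq_zero.1 ha).resolve_right (sub_ne_zero.2 t)
      have a1 := c (x 1) (by linear_combination k1); have a2 := c (x 2) (by linear_combination k2)
      have a3 := c (x 3) (by linear_combination k3); have a4 := c (x 4) (by linear_combination k4)
      have a5 := c (x 5) (by linear_combination k5); have a6 := c (x 6) (by linear_combination k6)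
      have a0 := c (x 0 - x 7) (by linear_combination k0 - k7)
      rcases mul_eq_zero.1 (show x 0 * (x 0 - 1) = 0 by rw [a1, a2, a3] at k0; linear_combination k0) with b | b
      · exact h0 (by apply ext8 <;> first | assumption | (rw [Pi.zero_apply]; linear_combination b - a0))
      · exact h1 (by apply ext8 <;> simp only [o, cons_val] <;>
          first | assumption | linear_combination b | linear_combination b - a0)
    exact ⟨t, by linear_combination x 0 * t - k0⟩

theorem e_mem : e ∈ E F := by simp [E, e]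

theorem smul_mem_E (g : A F) {x : V F} (h : x ∈ E F) : g • x ∈ E F := by
  rw [mem_E] at h ⊢
  exact ⟨by rw [← smul_mul, h.1], fun k => h.2.1 ((smul_eq_zero_iff_eq g).1 k),
    fun k => h.2.2 (MulAction.injective g (k.trans (smul_o g).symm))⟩

theorem exists_dot {a b c : F} (h : ¬ (a = 0 ∧ b = 0 ∧ c = 0)) (s : F) : ∃ p q r, p * a + q * b + r * c = s := by
  by_cases ha : a = 0
  · by_cases hb : b = 0
    · exact ⟨0, 0, s / c, by have : c ≠ 0 := fun hc => h ⟨ha, hb, hc⟩; field_simp; simp⟩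
    · exact ⟨0, s / b, 0, by field_simp; simp⟩
  · exact ⟨s / a, 0, 0, by field_simp; simp⟩

theorem to_e {x : V F} (h : x ∈ E F) : ∃ g : A F, g • x = e := by
  have s1 : ∀ x ∈ E F, x 0 = 1 → ∃ g : A F, g • x = e := fun x ⟨h1, h2⟩ h0 => by
    have h7 : x 7 = 0 := by linear_combination h1 - h0
    rw [h7, mul_zero] at h2
    refine ⟨d2 (x 4) (x 5) (x 6) * d1 (-x 1) (-x 2) (-x 3), ?_⟩
    have : d1 (-x 1) (-x 2) (-x 3) • x = ![1, 0, 0, 0, x 4, x 5, x 6, 0] := by
      apply ext8 <;> simp only [d1_smul, cons_val, h0, h7]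
      · linear_combination -h2
      · linear_combination x 1 * h2
      · linear_combination x 2 * h2
      · linear_combination x 3 * h2
      · ring
      · ring
      · ring
      · linear_combination h2
    rw [mul_smul, this]
    apply ext8 <;> simp only [d2_smul, cons_val, e] <;> ring
  have s2 : ∀ x ∈ E F, ∀ g : A F, (g • x) 0 = 1 → ∃ g : A F, g • x = e := fun x hx g h0 =>
    (s1 _ (smul_mem_E g hx) h0).elim fun g' k => ⟨g' * g, by rw [mul_smul, k]⟩
  have s3 : ∀ x ∈ E F, ¬ (x 1 = 0 ∧ x 2 = 0 ∧ x 3 = 0) → ∃ g : A F, g • x = e := fun x hx h0 => by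
    obtain ⟨p, q, r, k⟩ := exists_dot h0 (1 - x 0)
    exact s2 x hx (d2 p q r) (by simp only [d2_smul, cons_val, k]; ring)
  by_cases ha : x 1 = 0 ∧ x 2 = 0 ∧ x 3 = 0
  swap; · exact s3 x h ha
  by_cases hb : x 4 = 0 ∧ x 5 = 0 ∧ x 6 = 0
  swap
  · obtain ⟨p, q, r, k⟩ := exists_dot hb (x 0 - 1)
    exact s2 x h (d1 p q r) (by simp only [d1_smul, cons_val, k]; ring)
  by_cases h0 : x 0 = 1
  · exact s1 x h h0
  have h7 : x 0 * (x 0 - 1) = 0 := by
    have := h.2; rw [ha.1, ha.2.1, ha.2.2] at this; linear_combination x 0 * h.1 - this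
  have h7 : x 0 = 0 := (mul_eq_zero.1 h7).resolve_right (sub_ne_zero.2 h0)
  obtain ⟨g, k⟩ := s3 _ (smul_mem_E (d1 1 0 0) h) fun k => by
    have := k.1
    simp only [d1_smul, cons_val, ha.1, hb.1, h7] at this
    exact h0 (by linear_combination h.1 + this)
  exact ⟨g * d1 1 0 0, by rw [mul_smul, k]⟩

theorem orbit_e : MulAction.orbit (A F) (e : V F) = E F :=
  Set.ext fun _ => ⟨fun ⟨g, k⟩ => k ▸ smul_mem_E g e_mem, fun h => (to_e h).elim fun g k => ⟨g⁻¹, by simp [← k]⟩⟩

theorem card_fib [Fintype F] {a : Fin 3 → F} (ha : a ≠ 0) (c : F) :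
    Nat.card {b : Fin 3 → F // c = a ⬝ᵥ b} = Fintype.card F ^ 2 := by
  classical
  let f : (Fin 3 → F) →+ F := (dotProductBilin F F a).toAddMonoidHom
  have hf : ∀ s, s ∈ Set.range f := fun s => by
    obtain ⟨p, q, r, k⟩ := exists_dot (a := a 0) (b := a 1) (c := a 2)
      (fun h => ha (funext fun i => by fin_cases i; exacts [h.1, h.2.1, h.2.2])) s
    exact ⟨![p, q, r], by simp [f, dotProduct, Fin.sum_univ_three, ← k, mul_comm]⟩
  have h := Finset.card_eq_sum_card_fiberwise (s := Finset.univ) (t := Finset.univ) (f := f) fun _ _ => Finset.mem_univ _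
  rw [Finset.sum_congr rfl fun s _ => AddMonoidHom.card_fiber_eq_of_mem_range f (hf s) (hf c)] at h
  simp only [Finset.card_univ, Fintype.card_pi, Finset.prod_const, Fintype.card_fin, Finset.sum_const, smul_eq_mul] at h
  rw [Nat.card_eq_fintype_card, Fintype.card_subtype]
  refine Nat.eq_of_mul_eq_mul_left (Fintype.card_pos (α := F)) ?_
  rw [← pow_succ', h]
  congr 2; ext b; simp [f, eq_comm]

theorem card_E [Fintype F] : Nat.card (E F) = Fintype.card F ^ 6 + Fintype.card F ^ 3 := by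
  classical
  let φ : E F ≃ Σ a : Fin 3 → F, Σ α : F, {b : Fin 3 → F // α * (1 - α) = a ⬝ᵥ b} :=
    { toFun := fun x => ⟨![x.1 1, x.1 2, x.1 3], x.1 0, ![x.1 4, x.1 5, x.1 6], by
        simp only [dotProduct, Fin.sum_univ_three, cons_val]; linear_combination x.2.2 - x.1 0 * x.2.1⟩
      invFun := fun p => ⟨![p.2.1, p.1 0, p.1 1, p.1 2, p.2.2.1 0, p.2.2.1 1, p.2.2.1 2, 1 - p.2.1], by simp,
        by simpa [dotProduct, Fin.sum_univ_three] using p.2.2.2⟩
      left_inv := fun x => Subtype.ext (by apply ext8 <;> simp only [cons_val]; linear_combination -x.2.1)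
      right_inv := fun ⟨a, α, b, h⟩ => by
        have ea : ![a 0, a 1, a 2] = a := by ext i; fin_cases i <;> rfl
        have eb : ![b 0, b 1, b 2] = b := by ext i; fin_cases i <;> rfl
        simp only [cons_val]
        congr! }
  rw [Nat.card_congr φ, Nat.card_sigma, ← Finset.add_sum_erase _ _ (Finset.mem_univ 0),
    Finset.sum_congr rfl (g := fun _ => Fintype.card F ^ 3) fun a ha => by
      rw [Nat.card_sigma, Finset.sum_congr rfl fun α _ => card_fib (Finset.ne_of_mem_erase ha) _]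
      simp [pow_succ']]
  rw [Nat.card_sigma, Finset.sum_congr rfl (g := fun α => if α ∈ ({0, 1} : Finset F) then Fintype.card F ^ 3 else 0)
    fun α _ => by
      split_ifs with h
      · rw [Nat.card_congr (Equiv.subtypeUnivEquiv fun b => by rcases Finset.mem_insert.1 h with rfl | h <;> simp_all)]
        simp
      · exact Nat.card_eq_zero.2 (Or.inl ⟨fun b => h (by simpa [sub_eq_zero, eq_comm (b := α)] using b.2)⟩)]
  have : 1 ≤ Fintype.card F ^ 3 := Nat.one_le_pow _ _ Fintype.card_pos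
  simp only [Finset.sum_ite_mem, Finset.univ_inter, Finset.sum_const, smul_eq_mul, Finset.card_erase_of_mem (Finset.mem_univ _),
    Finset.card_univ, Fintype.card_pi, Finset.prod_const, Fintype.card_fin, Finset.card_pair (zero_ne_one (α := F))]
  zify [this]; ring

abbrev St (F : Type*) [Field F] := MulAction.stabilizer (A F) (e : V F)

/-- the vectors of the Peirce space -/
def u (a : Fin 3 → F) : V F := ![0, a 0, a 1, a 2, 0, 0, 0, 0]

def sm (g : A F) : Matrix (Fin 3) (Fin 3) F := of fun i j => (g • u (Pi.single j (1 : F))) (i.succ.castLE (by omega))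

theorem St_u (g : St F) (a : Fin 3 → F) : g.1 • u a = u (sm g.1 *ᵥ a) := by
  have k : ∀ a : Fin 3 → F, g.1 • u a = u ![(g.1 • u a) 1, (g.1 • u a) 2, (g.1 • u a) 3] := fun a => by
    have h1 : e ⋆ u a = u a := by apply ext8 <;> simp [m0, m1, m2, m3, m4, m5, m6, m7, e, u]
    have h2 : u a ⋆ e = 0 := by apply ext8 <;> simp [m0, m1, m2, m3, m4, m5, m6, m7, e, u]
    have h3 := smul_mul g.1 e (u a); have h4 := smul_mul g.1 (u a) e
    rw [h1, show g.1 • e = e from g.2] at h3; rw [h2, smul_zero, show g.1 • e = e from g.2] at h4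
    generalize g.1 • u a = y at h3 h4
    have k0 := congrFun h4 0; have k4 := congrFun h3 4; have k5 := congrFun h3 5; have k6 := congrFun h3 6
    have k7 := congrFun h3 7
    simp [m0, m4, m5, m6, m7, e] at k0 k4 k5 k6 k7
    apply ext8 <;> simp only [u, cons_val] <;> first | assumption | exact k0.symm
  have : u a = a 0 • u (Pi.single 0 1) + a 1 • u (Pi.single 1 1) + a 2 • u (Pi.single 2 1) := by
    apply ext8 <;> simp [u]
  rw [this, smul_add, smul_add, smul_smul', smul_smul', smul_smul', k, k (Pi.single 1 1), k (Pi.single 2 1)]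
  apply ext8 <;> simp [u, sm, mulVec, dotProduct, Fin.sum_univ_three, mul_comm] <;> rfl

theorem u_inj {a b : Fin 3 → F} (h : u a = u b) : a = b := by
  funext i; fin_cases i; exacts [congrFun h 1, congrFun h 2, congrFun h 3]

theorem St_ext (g : St F) (h : ∀ a : Fin 3 → F, g.1 • u a = u a) : g = 1 := Subtype.ext <| A_ext fun x => by
  have : x = x 7 • o + (x 0 - x 7) • e + u ![x 1, x 2, x 3] + u ![0, x 4, 0] ⋆ u ![0, 0, 1] + u ![0, 0, x 5] ⋆ u ![1, 0, 0] +
      u ![x 6, 0, 0] ⋆ u ![0, 1, 0] := by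
    apply ext8 <;> simp only [u, e, o, m0, m1, m2, m3, m4, m5, m6, m7, Pi.add_apply, Pi.smul_apply, cons_val, smul_eq_mul] <;>
      ring
  rw [this]
  simp only [smul_add, smul_smul', smul_mul, h, smul_o, show g.1 • e = e from g.2, OneMemClass.coe_one, one_smul]

def toSL : St F →* SpecialLinearGroup (Fin 3) F where
  toFun g := ⟨sm g.1, by
    have h : u (Pi.single 0 1) ⋆ (u (Pi.single 1 1) ⋆ u (Pi.single 2 (1 : F))) = e := by
      apply ext8 <;> simp [u, e, m0, m1, m2, m3, m4, m5, m6, m7]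
    have := congrArg (g.1 • ·) h
    simp only [smul_mul, St_u, show g.1 • e = e from g.2] at this
    have := congrFun this 0
    simp [m0, m4, m5, m6, u, e] at this
    rw [det_fin_three]; linear_combination this⟩
  map_one' := Subtype.ext (toLin'.injective (LinearMap.ext fun a => u_inj (by simpa using (St_u 1 a).symm)))
  map_mul' g h := Subtype.ext (toLin'.injective (LinearMap.ext fun a => u_inj (by
    change u (sm (g * h).1 *ᵥ a) = u ((sm g.1 * sm h.1) *ᵥ a)
    rw [← mulVec_mulVec, ← St_u, ← St_u, ← St_u, Subgroup.coe_mul, mul_smul])))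

theorem toSL_inj : Function.Injective (toSL (F := F)) := (injective_iff_map_eq_one _).2 fun g h =>
  St_ext g fun a => by rw [St_u, show sm g.1 = 1 from congrArg Subtype.val h, one_mulVec]

theorem card_A [Fintype F] : Nat.card (A F) = (Fintype.card F ^ 6 + Fintype.card F ^ 3) * Nat.card (St F) := by
  rw [← card_E, ← orbit_e, ← Nat.card_prod, Nat.card_congr (MulAction.orbitProdStabilizerEquivGroup (A F) e)]

theorem card_SL3 [Fintype F] : Nat.card (SpecialLinearGroup (Fin 3) F) =
    Fintype.card F ^ 3 * (Fintype.card F ^ 2 - 1) * (Fintype.card F ^ 3 - 1) := by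
  have h := S0242.result (F := F) rfl 3 (by omega)
  have h1 := Fintype.one_lt_card (α := F)
  generalize Fintype.card F = q at h h1
  refine Nat.eq_of_mul_eq_mul_left (show 0 < q - 1 by omega) ?_
  rw [h, Fin.prod_univ_three]
  have k : ∀ i j, i ≤ j → q ^ i ≤ q ^ j := fun i j => Nat.pow_le_pow_right h1.le
  have k1 : ∀ j, 1 ≤ q ^ j := fun j => Nat.one_le_pow _ _ (by omega)
  simp only [Fin.val_zero, Fin.val_one, Fin.val_two]
  zify [k 0 3 (by omega), k 1 3 (by omega), k 2 3 (by omega), k1, h1.le]; ring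

end Cfsg.Agent.Classical.Oct
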