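import Mathlib

/-! Tori of `GL_n(q)` and exponents. -/
set_option autoImplicit false
open Matrix Polynomial Module

namespace Cfsg.Agent.Classical.Torus
variable {F : Type*} [Field F]

theorem dvd_pow_deg (f χ : F[X]) (h0 : χ ≠ 0) (h : ∀ π, Irreducible π → π ∣ χ → π ∣ f) : χ ∣ f ^ χ.natDegree := by
  induction χ using UniqueFactorizationMonoid.induction_on_prime with
  | h₁ => exact absurd rfl h0
  | h₂ x hx => exact hx.dvd
  | h₃ a π ha hπ ih =>
    rw [natDegree_mul hπ.ne_zero ha, pow_add]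
    exact mul_dvd_mul ((h π hπ.irreducible (dvd_mul_right _ _)).trans
      (dvd_pow_self _ hπ.irreducible.natDegree_pos.ne')) (ih ha fun ρ a b => h ρ a (b.mul_left _))

theorem pow_eq_one [Fintype F] {p : ℕ} [Fact p.Prime] [CharP F p] {ι : Type*} [Fintype ι] [DecidableEq ι]
    {A : Matrix ι ι F} (hA : A.det ≠ 0) {M t : ℕ}
    (hM : ∀ i, 1 ≤ i → i ≤ Fintype.card ι → Fintype.card F ^ i - 1 ∣ M) (ht : Fintype.card ι ≤ p ^ t) :
    A ^ (M * p ^ t) = 1 := by
  have h1 : A.charpoly ∣ (X ^ M - 1) ^ A.charpoly.natDegree := by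
    refine dvd_pow_deg _ _ A.charpoly_monic.ne_zero fun π hπ hd => ?_
    have a1 := hπ.natDegree_dvd_iff_dvd_X_pow_card_pow_sub_X.1 (dvd_refl π.natDegree)
    have a2 : π.natDegree ≤ Fintype.card ι :=
      (natDegree_le_of_dvd hd A.charpoly_monic.ne_zero).trans_eq A.charpoly_natDegree_eq_dim
    obtain ⟨c, hc⟩ := hM _ hπ.natDegree_pos a2
    obtain ⟨k, hk⟩ : ∃ k, Fintype.card F ^ π.natDegree = k + 1 :=
      ⟨_, (Nat.succ_pred_eq_of_pos (pow_pos Fintype.card_pos _)).symm⟩
    rw [Nat.card_eq_fintype_card, hk, pow_succ', ← mul_sub_one] at a1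
    rcases hπ.prime.dvd_or_dvd a1 with a | a
    · have := (hπ.associated_of_dvd irreducible_X a).symm.dvd.trans hd
      rw [X_dvd_iff] at this
      exact absurd (by rw [det_eq_sign_charpoly_coeff, this, mul_zero]) hA
    · rw [hc, hk, Nat.add_sub_cancel, pow_mul]
      exact a.trans (by simpa using sub_dvd_pow_sub_pow (X ^ k : F[X]) 1 c)
  have h2 : A.charpoly ∣ X ^ (M * p ^ t) - 1 := by
    rw [pow_mul, ← one_pow (M := F[X]) (p ^ t), ← sub_pow_char_pow]
    exact h1.trans (pow_dvd_pow _ (A.charpoly_natDegree_eq_dim.trans_le ht))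
  have := aeval_eq_zero_of_dvd_aeval_eq_zero h2 A.aeval_self_charpoly
  simpa [sub_eq_zero] using this

theorem exists_emb (K : Type*) [Field K] [Algebra F K] [FiniteDimensional F K] {a e n : ℕ}
    (h : a * finrank F K + e = n) : ∃ φ : (Fin a → Kˣ) →* GL (Fin n) F, Function.Injective φ := by
  let b := finBasisOfFinrankEq F ((Fin a → K) × (Fin e → F)) (n := n) (by
    simp [finrank_pi_fintype, h])
  refine ⟨(Units.map (Algebra.leftMulMatrix b : _ →* _)).comp
    ((Units.map (MonoidHom.inl (Fin a → K) (Fin e → F))).comp MulEquiv.piUnits.symm.toMonoidHom), ?_⟩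
  exact (Units.map_injective (Algebra.leftMulMatrix_injective b)).comp
    ((Units.map_injective fun _ _ h => congrArg Prod.fst h).comp MulEquiv.piUnits.symm.injective)

theorem exists_order [Fintype F] {i n : ℕ} (hi : 1 ≤ i) (h : i ≤ n) :
    ∃ g : GL (Fin n) F, orderOf g = Fintype.card F ^ i - 1 := by
  obtain ⟨p, hp⟩ := CharP.exists F
  haveI : Fact p.Prime := ⟨CharP.char_is_prime F p⟩
  haveI : NeZero i := ⟨by omega⟩
  obtain ⟨φ, hφ⟩ := exists_emb (F := F) (FiniteField.Extension F p i) (a := 1) (e := n - i) (n := n) (by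
    rw [FiniteField.finrank_extension]; omega)
  obtain ⟨c, hc⟩ := IsCyclic.exists_ofOrder_eq_natCard (α := (FiniteField.Extension F p i)ˣ)
  refine ⟨φ fun _ => c, ?_⟩
  rw [orderOf_injective φ hφ, Pi.orderOf]
  simp [hc, Nat.card_units, FiniteField.natCard_extension]

end Cfsg.Agent.Classical.Torus
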