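import Cfsg.Agent.Lib.Classical.Oct8
import Cfsg.Agent.Lib.Classical.Torus

/-! Element orders in `G₂(q)`: elements of the maximal orders. -/
set_option autoImplicit false
open Matrix Cfsg.Lie Module Polynomial
namespace Cfsg.Agent.Classical.Oct
variable {F : Type*} [Field F]

theorem pow_iff (g : A F) (n : ℕ) : g ^ n = 1 ↔ ∀ i : Fin 8, (g • ·)^[n] (Pi.single i 1 : V F) = Pi.single i 1 := by
  simp only [smul_iterate]
  exact ⟨fun h i => by rw [h, one_smul], fun h => Units.ext (Subtype.ext ((Pi.basisFun F _).ext fun i => by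
    rw [Pi.basisFun_apply]; exact h i))⟩

theorem pow_iff2 (n : ℕ) : (y 7 1 * y 6 1 : A F) ^ n = 1 ↔
    ∀ i : Fin 8, (fun x => yv 7 1 (yv 6 1 x))^[n] (Pi.single i 1 : V F) = Pi.single i 1 := pow_iff _ _
theorem pow_iff3 (n : ℕ) : (y 0 1 * (y 2 1 * y 9 1) : A F) ^ n = 1 ↔
    ∀ i : Fin 8, (fun x => yv 0 1 (yv 2 1 (yv 9 1 x)))^[n] (Pi.single i 1 : V F) = Pi.single i 1 := pow_iff _ _

theorem o8 : orderOf (y 7 1 * y 6 1 : A (ZMod 2)) = 2 ^ (2 + 1) :=
  orderOf_eq_prime_pow (by rw [pow_iff2]; decide +kernel) (by rw [pow_iff2]; decide +kernel)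
theorem o9 : orderOf (y 7 1 * y 6 1 : A (ZMod 3)) = 3 ^ (1 + 1) :=
  orderOf_eq_prime_pow (by rw [pow_iff2]; decide +kernel) (by rw [pow_iff2]; decide +kernel)
instance f5 : Fact (Nat.Prime 5) := ⟨by norm_num⟩
theorem o25 : orderOf (y 7 1 * y 6 1 : A (ZMod 5)) = 5 ^ (1 + 1) :=
  orderOf_eq_prime_pow (by rw [pow_iff2]; decide +kernel) (by rw [pow_iff2]; decide +kernel)
theorem o12 : orderOf (y 0 1 * (y 2 1 * y 9 1) : A (ZMod 2)) = 12 :=
  (orderOf_eq_iff (by norm_num)).2 ⟨by rw [pow_iff3]; decide +kernel, by simp only [ne_eq, pow_iff3]; decide +kernel⟩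

theorem ex_small (p : ℕ) [Fact p.Prime] [CharP F p] (g : A (ZMod p)) : orderOf g ∈ Set.range (orderOf : A F → ℕ) :=
  ⟨bc (ZMod.castHom dvd_rfl F) g, orderOf_injective _ (bc_inj _) g⟩

theorem ex_dvd [Finite F] {n : ℕ} {g : A F} (h : n ∣ orderOf g) : n ∈ Set.range (orderOf : A F → ℕ) :=
  ⟨_, orderOf_pow_orderOf_div (orderOf_pos g).ne' h⟩

theorem tri {y : M2 F} (h : y 1 0 = 0) (n : ℕ) : (y ^ n) 1 0 = 0 ∧ (y ^ n) 0 0 = y 0 0 ^ n := by
  induction n with
  | zero => simp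
  | succ n ih => simp [pow_succ, Matrix.mul_apply, ih, h]

theorem ord_ph (w : H F) (h1 : w.1.2.1 1 0 = 0) (h0 : w.1.2.1 0 0 = 1) :
    w.1.1 ^ orderOf (ph w) = 1 ∧ w.1.2 ^ orderOf (ph w) = 1 := by
  obtain ⟨c, hc⟩ := ker_ph.le (show w ^ orderOf (ph w) ∈ ph.ker from (map_pow _ _ _).trans (pow_orderOf_eq_one _))
  have : c = 1 := Units.ext (by
    have := congrArg (fun z : H F => z.1.2.1 0 0) hc
    exact Eq.trans (Eq.trans (by simp [sc, GeneralLinearGroup.scalar]) this) ((tri h1 _).2.trans (by rw [h0, one_pow]; rfl)))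
  rw [this, map_one] at hc
  exact Prod.ext_iff.1 (congrArg Subtype.val hc).symm

theorem ex_mixed [Finite F] (p : ℕ) [Fact p.Prime] [CharP F p] (x : GL (Fin 2) F) (hx : GeneralLinearGroup.det x = 1) {n : ℕ}
    (hn : ∀ m, x ^ m = 1 → n ∣ m) (hp : ¬ p ∣ n) : p * n ∈ Set.range (orderOf : A F → ℕ) := by
  obtain ⟨h1, h2⟩ := ord_ph ⟨(x, GeneralLinearGroup.mkOfDetNeZero !![1, 1; 0, 1] (by simp)), hx.trans (Units.ext (by simp))⟩ rfl rfl
  refine ex_dvd (((Nat.Prime.coprime_iff_not_dvd Fact.out).2 hp).mul_dvd_of_dvd_of_dvd ?_ (hn _ h1))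
  have k : ∀ m : ℕ, (!![1, 1; 0, 1] : M2 F) ^ m = !![1, (m : F); 0, 1] := fun m => by
    induction m with
    | zero => simp [one_fin_two]
    | succ m ih => rw [pow_succ, ih]; simp [add_comm]
  have := congrArg (fun z : GL (Fin 2) F => z.1 0 1) h2
  simp only [Units.val_pow_eq_pow_val, GeneralLinearGroup.val_mkOfDetNeZero, k] at this
  exact (CharP.cast_eq_zero_iff F p _).1 (by simpa using this)

theorem ex_ph [Fintype F] (p : ℕ) [Fact p.Prime] [CharP F p] : Fintype.card F ^ 2 - 1 ∈ Set.range (orderOf : A F → ℕ) ∧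
    p * (Fintype.card F + 1) ∈ Set.range (orderOf : A F → ℕ) ∧ p * (Fintype.card F - 1) ∈ Set.range (orderOf : A F → ℕ) := by
  classical
  have h1 := Fintype.one_lt_card (α := F)
  have hp : p.Prime := Fact.out
  have hq : p ∣ Fintype.card F := (CharP.cast_eq_zero_iff F p _).1 (FiniteField.cast_card_eq_zero F)
  obtain ⟨φ, hφ⟩ := Torus.exists_emb (F := F) (FiniteField.Extension F p 2) (a := 1) (e := 0) (n := 2) (by
    simp [FiniteField.finrank_extension])
  obtain ⟨c, hc⟩ := IsCyclic.exists_ofOrder_eq_natCard (α := (FiniteField.Extension F p 2)ˣ)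
  rw [Nat.card_units, FiniteField.natCard_extension, Nat.card_eq_fintype_card] at hc
  have hx : ∀ m, φ (fun _ => c) ^ m = 1 → Fintype.card F ^ 2 - 1 ∣ m := fun m h => hc ▸ orderOf_dvd_of_pow_eq_one
    (congrFun (hφ ((map_pow φ _ _).trans (h.trans (map_one φ).symm))) 0)
  generalize φ (fun _ => c) = x at hx
  obtain ⟨a, ha⟩ := IsCyclic.exists_ofOrder_eq_natCard (α := Fˣ)
  rw [Nat.card_units, Nat.card_eq_fintype_card] at ha
  refine ⟨ex_dvd (hx _ (ord_ph ⟨(x, GeneralLinearGroup.mkOfDetNeZero !![1, 0; 0, x.1.det] (by simp [x.det_ne_zero])),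
    Units.ext (by simp)⟩ rfl rfl).1), ex_mixed p (x ^ (Fintype.card F - 1)) (by
      rw [map_pow, ← ha, ha, ← Nat.card_eq_fintype_card, ← Nat.card_units, pow_card_eq_one']) (fun m h => ?_) fun h => ?_,
    ex_mixed p (GeneralLinearGroup.mkOfDetNeZero !![a.1, 0; 0, (a⁻¹).1] (by simp)) (Units.ext (by simp)) (fun m h => ?_) fun h => ?_⟩
  · have := hx _ ((pow_mul _ _ _).trans h)
    rwa [show Fintype.card F ^ 2 - 1 = (Fintype.card F - 1) * (Fintype.card F + 1) by
      rw [mul_comm, ← Nat.sq_sub_sq, one_pow], Nat.mul_dvd_mul_iff_left (by omega)] at this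
  · exact hp.one_lt.ne' (Nat.dvd_one.1 ((Nat.dvd_add_right hq).1 h))
  · refine ha ▸ orderOf_dvd_of_pow_eq_one (Units.ext ?_)
    exact ((tri (y := !![a.1, 0; 0, (a⁻¹).1]) rfl m).2.symm.trans (congrArg (fun z : GL (Fin 2) F => z.1 0 0) h))
  · exact hp.one_lt.ne' (Nat.dvd_one.1 (by simpa [Nat.sub_sub_self h1.le] using Nat.dvd_sub hq h))

def stb (a b : F) : A F := y 7 (a + 1) * (y 4 (-1) * (y 7 1 * (y 6 b * (y 5 (-1) * y 6 1))))

theorem stb_smul (a b : F) (x : V F) : stb a b • x = ![x 7 - a * x 6, x 5 + x 6 - a * x 1 - b * x 6, x 6, -x 4 - a * x 2, x 2,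
    -x 2 + x 3 - a * x 0 + a * x 7 + b * x 2 - a * a * x 6, -x 1, x 0 + a * x 6] := by
  simp only [stb, mul_smul, y_smul]
  apply ext8 <;> simp only [Y4, Y5, Y6, Y7, cons_val] <;> ring

theorem bc_stb {L : Type*} [Field L] (f : F →+* L) (a b : F) : bc f (stb a b) = stb (f a) (f b) :=
  Units.ext (Subtype.ext ((Pi.basisFun L _).ext fun i => by
    rw [Pi.basisFun_apply, ← smul_def, ← smul_def, ← comp_single f, bc_smul, stb_smul, stb_smul]
    apply ext8 <;> simp))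

theorem ex_su' [Fintype F] (hq : 3 ≤ Fintype.card F) {L : Type*} [Field L] [Algebra F L] {a : L}
    (ha : IsPrimitiveRoot a (Fintype.card F ^ 2 - Fintype.card F + 1)) :
    Fintype.card F ^ 2 - Fintype.card F + 1 ∈ Set.range (orderOf : A F → ℕ) := by
  let f := algebraMap F L
  let fr : L →+* L := FiniteField.frobeniusAlgHom F L
  have hfr : ∀ x, fr x = x ^ Fintype.card F := fun _ => rfl
  have rg : ∀ x, fr x = x → ∃ a, f a = x := fun x hx => Splits.mem_range_of_isRoot (f := X ^ Fintype.card F - X)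
    (splits_iff_card_roots.2 (by
      rw [FiniteField.roots_X_pow_card_sub_X, FiniteField.X_pow_card_sub_X_natDegree_eq _ Fintype.one_lt_card]; rfl))
    (FiniteField.X_pow_card_sub_X_ne_zero _ Fintype.one_lt_card) (by simp [← hfr, hx])
  have k2 : Fintype.card F ≤ Fintype.card F ^ 2 := Nat.le_self_pow (by omega) _
  have n3 : 2 < Fintype.card F ^ 2 - Fintype.card F + 1 := by
    have : 3 * Fintype.card F ≤ Fintype.card F ^ 2 := by rw [pow_two]; exact Nat.mul_le_mul_right _ hq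
    omega
  have a0 : a ≠ 0 := ha.ne_zero (by omega)
  have a1 : 1 + a ≠ 0 := fun k => ha.pow_ne_one_of_pos_of_lt two_ne_zero n3 (by linear_combination (a - 1) * k)
  have b0 : fr a ≠ 0 := (map_ne_zero fr).2 a0
  have r : fr (fr a) = fr a / a := by
    rw [eq_div_iff a0, hfr, hfr, ← pow_mul, ← pow_succ, show Fintype.card F * Fintype.card F + 1 =
      Fintype.card F ^ 2 - Fintype.card F + 1 + Fintype.card F by rw [← pow_two]; omega, pow_add, ha.pow_eq_one, one_mul]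
  have t1 : fr (a + fr a / a + 1 / fr a) = 1 / a + a / fr a + fr a := by simp only [map_add, map_div₀, map_one, r]; field_simp; ring
  have t2 : fr (1 / a + a / fr a + fr a) = a + fr a / a + 1 / fr a := by simp only [map_add, map_div₀, map_one, r]; field_simp; ring
  obtain ⟨σ, hσ⟩ := rg (a + fr a / a + 1 / fr a + (1 / a + a / fr a + fr a)) (by rw [map_add, t1, t2, add_comm])
  obtain ⟨π, hπ⟩ := rg ((a + fr a / a + 1 / fr a) * (1 / a + a / fr a + fr a)) (by rw [map_mul, t1, t2, mul_comm])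
  obtain ⟨A, hA⟩ : ∃ A, A = f (-σ - 2) := ⟨_, rfl⟩
  obtain ⟨B, hB⟩ : ∃ B, B = f (-3 * σ - 1 - π) := ⟨_, rfl⟩
  have sx : a ^ 6 + (A + 2) * a ^ 5 + (2 * A + 3 - B) * a ^ 4 + (-A ^ 2 + 2 * A + 4 - 2 * B) * a ^ 3 + (2 * A + 3 - B) * a ^ 2 +
      (A + 2) * a + 1 = 0 := by
    simp only [hA, hB, map_sub, map_neg, map_mul, map_ofNat, map_one, hσ, hπ]; field_simp; ring
  let v : V L := ![-A * a ^ 3, -a ^ 4 * (1 + a), a ^ 2 * (1 + a), -(1 + A * a) * (1 + a), a * (1 + a),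
      (-a ^ 4 - a ^ 2 - A * a ^ 3 + B * a ^ 2) * (a * (1 + a)), a ^ 3 * (1 + a), A * a ^ 3]
  have ev : stb A B • v = a • v := by
    rw [stb_smul]
    apply ext8 <;> simp only [v, cons_val, Pi.smul_apply, smul_eq_mul]
    iterate 5 ring
    · linear_combination (a - 1) * sx
    iterate 2 ring
  refine ex_dvd (g := stb (-σ - 2) (-3 * σ - 1 - π)) (ha.dvd_of_pow_eq_one _ ?_)
  have k : ∀ (n : ℕ) (v : V L), stb A B • v = a • v → stb A B ^ n • v = a ^ n • v := fun n v hv => by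
    induction n with
    | zero => simp
    | succ n ih => rw [pow_succ, mul_smul, hv, smul_smul', ih, smul_smul, pow_succ']
  have := congrFun (k (orderOf (stb (-σ - 2) (-3 * σ - 1 - π))) _ ev) 4
  rw [show stb A B = _ by rw [hA, hB, ← bc_stb], ← map_pow, pow_orderOf_eq_one, map_one, one_smul] at this
  exact mul_right_cancel₀ (mul_ne_zero a0 a1) (this.symm.trans (one_mul _).symm)

theorem ex_su [Fintype F] (hq : 3 ≤ Fintype.card F) :
    Fintype.card F ^ 2 - Fintype.card F + 1 ∈ Set.range (orderOf : A F → ℕ) := by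
  have k2 : Fintype.card F ≤ Fintype.card F ^ 2 := Nat.le_self_pow (by omega) _
  have : NeZero ((Fintype.card F ^ 2 - Fintype.card F + 1 : ℕ) : F) := ⟨by simp [k2]⟩
  obtain ⟨a, ha⟩ := HasEnoughRootsOfUnity.exists_primitiveRoot (AlgebraicClosure F) (Fintype.card F ^ 2 - Fintype.card F + 1)
  exact ex_su' hq ha

end Cfsg.Agent.Classical.Oct
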