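import Cfsg.Agent.Lib.Classical.Oct9
import Cfsg.Agent.Lib.Classical.Oct10

/-! The spectrum of `G₂(q)`. -/
set_option autoImplicit false
open Matrix Cfsg.Lie Module

namespace Cfsg.Agent.Classical.Oct
variable {F : Type*} [Field F]

theorem UB [Fintype F] (p : ℕ) [Fact p.Prime] [CharP F p] (hq : 3 ≤ Fintype.card F) (g : A F) :
    (∃ k, g ^ p ^ k = 1) ∨ g ^ (Fintype.card F ^ 2 - 1) = 1 ∨ g ^ (Fintype.card F ^ 2 + Fintype.card F + 1) = 1 ∨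
      g ^ (Fintype.card F ^ 2 - Fintype.card F + 1) = 1 ∨ g ^ (p * (Fintype.card F - 1)) = 1 ∨
      g ^ (p * (Fintype.card F + 1)) = 1 ∨ (p = 2 ∧ g ^ 12 = 1) := by
  have hp : p.Prime := Fact.out
  obtain ⟨k, m, hm, e⟩ := Nat.exists_eq_pow_mul_and_not_dvd (orderOf_pos g).ne' p hp.ne_one
  by_cases h1 : g ^ p ^ k = 1
  · exact .inl ⟨k, h1⟩
  right
  let L := AlgebraicClosure F
  let f := algebraMap F L
  let fr : L →+* L := FiniteField.frobeniusAlgHom F L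
  have hf : fr.comp f = f := RingHom.ext fun x => (FiniteField.frobeniusAlgHom F L).commutes x
  have hm' : (m : L) ≠ 0 := fun k => hm ((CharP.cast_eq_zero_iff L p m).1 k)
  have hs : (bc f g ^ p ^ k) ^ m = 1 := by rw [← pow_mul, ← e, ← map_pow, pow_orderOf_eq_one, map_one]
  obtain ⟨x, hx, hx'⟩ := fix_idem hs hm' fun h2 => by
    obtain ⟨v, h0, h3, h4⟩ := exists_fix0 hq (fun k => h2 (by rw [← map_ofNat f, k, map_zero])) (g ^ p ^ k)
    exact ⟨f ∘ v, fun k => h0 (f.injective.comp_left (k.trans (by ext; simp))), by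
      rw [tr_apply] at h3 ⊢; simp only [Function.comp_apply, ← map_add, h3, map_zero], by rw [← map_pow, bc_smul, h4]⟩
  obtain ⟨h, t, ht⟩ := conj_St hx hx'
  have c : ∀ n : ℕ, (h * bc f g * h⁻¹) ^ n = 1 → g ^ n = 1 := fun n hn => bc_inj f (by
    rw [conj_pow] at hn; simpa using hn)
  refine (UBL p fr (q := Fintype.card F) (by omega) (fun _ => rfl) (g := h * bc f g * h⁻¹) (k := k) (m := m) (fun i => by
    rw [conj_pow, T_conj, ← map_pow, T_bc, ← RingHom.comp_apply, hf]) (fun v a hv k => ⟨h • (fr ∘ (h⁻¹ • v)), fun k => hv (by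
      rw [smul_eq_zero_iff_eq] at k
      exact (smul_eq_zero_iff_eq h⁻¹).1 (fr.injective.comp_left (k.trans (by ext; simp)))), by
      rw [conj_pow, mul_smul, mul_smul, ← eq_inv_smul_iff, smul_smul', ← map_pow] at k
      rw [conj_pow, mul_smul, mul_smul, inv_smul_smul, ← map_pow, ← hf, ← bc_bc, bc_smul, k,
        show fr ∘ (a • h⁻¹ • v) = fr a • fr ∘ (h⁻¹ • v) by ext; simp, smul_smul']⟩) hm' (by rw [conj_pow, conj_pow, hs]; simp) (fun k => h1 (c _ k)) (by rw [conj_pow, ← ht]; exact t.2)).imp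
    (c _) (.imp (c _) (.imp (c _) (.imp (c _) (.imp (c _) (.imp_right (c _))))))

theorem range_iso {G : Type*} [Group G] (φ : G ≃* A F) : Set.range (orderOf : G → ℕ) = Set.range (orderOf : A F → ℕ) :=
  Set.ext fun _ => ⟨fun ⟨g, h⟩ => ⟨φ g, (φ.orderOf_eq g).trans h⟩, fun ⟨g, h⟩ => ⟨φ.symm g, (φ.symm.orderOf_eq g).trans h⟩⟩

theorem max_sub {W S : Set ℕ} (h1 : S ⊆ W) (h2 : ∀ n ∈ W, ∃ s ∈ S, n ∣ s) : {n | n ∈ W ∧ ∀ m ∈ W, n ∣ m → m = n} ⊆ S :=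
  fun n ⟨hn, h⟩ => (h2 n hn).elim fun s hs => h s (h1 hs.1) hs.2 ▸ hs.1

theorem max_eq {W S : Set ℕ} (h1 : S ⊆ W) (h2 : ∀ n ∈ W, ∃ s ∈ S, n ∣ s)
    (h3 : ∀ a ∈ S, ∀ b ∈ S, a ∣ b → a = b) : {n | n ∈ W ∧ ∀ m ∈ W, n ∣ m → m = n} = S :=
  (max_sub h1 h2).antisymm fun n hn => ⟨h1 hn, fun m hm h => (h2 m hm).elim fun s hs =>
    Nat.dvd_antisymm (h3 n hn s hs.1 (h.trans hs.2) ▸ hs.2) h⟩

end Cfsg.Agent.Classical.Oct
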