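import Cfsg.Agent.Lib.Classical.Syl2b
import Cfsg.Agent.S0261

/-! Sylow 2-subgroups of `Sp` and `SL`, `q` odd. -/
set_option autoImplicit false
open Equiv SemidirectProduct Module Matrix commutatorElement

namespace Cfsg.Agent.Classical.Syl2
variable {F : Type*} [Field F]

theorem quat {k : ℕ} (hk : 1 ≤ k) (x : QuaternionGroup (2 ^ k)) : x ^ 2 ∈ commutator (QuaternionGroup (2 ^ k)) := by
  have h : ∀ i, QuaternionGroup.a i ^ 2 ∈ commutator (QuaternionGroup (2 ^ k)) := fun i => by
    have : QuaternionGroup.a i ^ 2 = ⁅(QuaternionGroup.a i : QuaternionGroup (2 ^ k)), QuaternionGroup.xa 0⁆ := by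
      rw [commutatorElement_def, eq_mul_inv_iff_mul_eq, eq_mul_inv_iff_mul_eq, sq]; simp
    exact this ▸ Subgroup.commutator_mem_commutator (Subgroup.mem_top _) (Subgroup.mem_top _)
  rcases x with i | i
  · exact h i
  · obtain ⟨j, rfl⟩ : ∃ j, k = j + 1 := ⟨k - 1, by omega⟩
    convert h ((2 ^ j : ℕ) : ZMod _) using 1
    rw [QuaternionGroup.xa_sq, sq, QuaternionGroup.a_mul_a]
    congr 1; push_cast; ring

theorem sl2 [Fintype F] (hq : Odd (Fintype.card F)) (P : Sylow 2 (SpecialLinearGroup (Fin 2) F)) (x : P.1) :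
    x ^ 2 ∈ commutator P.1 := by
  obtain ⟨k, hk, ⟨e⟩⟩ := S0261.result hq P
  exact (mem_commutator_congr e _).1 (map_pow e _ _ ▸ quat hk _)

theorem val_odd {q : ℕ} (hq : Odd q) (h1 : 1 < q) (k : ℕ) : padicValNat 2 (q ^ (2 * k + 1) - 1) = padicValNat 2 (q - 1) := by
  have h : Odd (∑ i ∈ Finset.range (2 * k + 1), q ^ i) := by
    induction k with
    | zero => simp
    | succ k ih =>
      rw [mul_add, mul_one, add_right_comm, Finset.sum_range_succ, Finset.sum_range_succ, add_assoc]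
      exact ih.add_even (hq.pow.add_odd hq.pow)
  rw [← geom_sum_mul_of_one_le h1.le, padicValNat.mul h.pos.ne' (by omega),
    padicValNat.eq_zero_of_not_dvd (by simpa [← even_iff_two_dvd] using h), zero_add]

theorem val_GL [Fintype F] (hq : Odd (Fintype.card F)) (n : ℕ) : padicValNat 2 (Nat.card (GL (Fin n) F)) =
    padicValNat 2 (∏ i ∈ Finset.range n, (Fintype.card F ^ (i + 1) - 1)) := by
  have h1 := Fintype.one_lt_card (α := F)
  rw [card_GL_field, Fin.prod_univ_eq_prod_range (fun i => Fintype.card F ^ n - Fintype.card F ^ i),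
    ← Finset.prod_range_reflect _ n, Finset.prod_congr rfl (g := fun i => Fintype.card F ^ (n - 1 - i) *
      (Fintype.card F ^ (i + 1) - 1)) fun i hi => by
        rw [Nat.mul_sub, ← pow_add, mul_one, show n - 1 - i + (i + 1) = n by have := Finset.mem_range.1 hi; omega],
    Finset.prod_mul_distrib, Finset.prod_pow_eq_pow_sum, padicValNat.mul (by positivity) (Finset.prod_ne_zero_iff.2
      fun i _ => Nat.sub_ne_zero_of_lt (Nat.one_lt_pow (by omega) h1)),
    padicValNat.eq_zero_of_not_dvd (by simpa only [← even_iff_two_dvd, Nat.not_even_iff_odd] using hq.pow), zero_add]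

theorem val_even {q : ℕ} (hq : Odd q) (h1 : 1 < q) (m : ℕ) : padicValNat 2 (∏ i ∈ Finset.range (2 * m), (q ^ (i + 1) - 1)) =
    m * (padicValNat 2 (q ^ 2 - 1) + padicValNat 2 (q - 1)) + padicValNat 2 m.factorial := by
  have h : ∀ i, q ^ (i + 1) - 1 ≠ 0 := fun i => Nat.sub_ne_zero_of_lt (Nat.one_lt_pow (by omega) h1)
  have h' : ∀ i, q ^ (2 * (i + 1)) - 1 ≠ 0 := fun i => h (2 * i + 1)
  rw [mul_add, add_right_comm, ← val_prod hq h1]
  induction m with
  | zero => simp
  | succ m ih =>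
    rw [mul_add, mul_one, Finset.prod_range_succ, Finset.prod_range_succ, Finset.prod_range_succ,
      padicValNat.mul (mul_ne_zero (Finset.prod_ne_zero_iff.2 fun i _ => h _) (h _)) (h _),
      padicValNat.mul (Finset.prod_ne_zero_iff.2 fun i _ => h _) (h _), ih, val_odd hq h1,
      padicValNat.mul (Finset.prod_ne_zero_iff.2 fun i _ => h' i) (h' m)]
    ring_nf

theorem mem_range_toGL {n : Type} [Fintype n] [DecidableEq n] (g : GL n F) :
    g ∈ (Matrix.SpecialLinearGroup.toGL (n := n) (R := F)).range ↔ GeneralLinearGroup.det g = 1 :=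
  ⟨by rintro ⟨g, rfl⟩; exact Units.ext g.2, fun h => ⟨⟨g.1, congrArg Units.val h⟩, Units.ext rfl⟩⟩

theorem card_SL2 [Fintype F] (hq : Odd (Fintype.card F)) (P : Sylow 2 (SpecialLinearGroup (Fin 2) F)) :
    Nat.card P.1 = 2 ^ padicValNat 2 (Fintype.card F ^ 2 - 1) := by
  have h1 := Fintype.one_lt_card (α := F)
  have h := Subgroup.card_mul_index (GeneralLinearGroup.det (n := Fin 2) (R := F)).ker
  rw [Subgroup.index_ker, MonoidHom.range_eq_top.2 GeneralLinearGroup.det_surjective, Subgroup.card_top,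
    ← (Subgroup.ext mem_range_toGL : _ = MonoidHom.ker _), ← Nat.card_congr (MonoidHom.ofInjective
      SpecialLinearGroup.toGL_injective).toEquiv] at h
  have h2 := val_GL hq 2
  rw [← h, padicValNat.mul Nat.card_pos.ne' Nat.card_pos.ne', val_even hq h1 1, Nat.card_units,
    Nat.card_eq_fintype_card (α := F)] at h2
  rw [P.card_eq_multiplicity, Nat.factorization_def _ Nat.prime_two]
  congr 1; simpa using h2

def spf (I : Type) [Fintype I] : Form (Kind.symp F) ((I × Fin 2) ⊕ Empty → F) :=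
  Form.ofAlt (LinearMap.mk₂ F (fun u v => ∑ i, (u (.inl (i, 0)) * v (.inl (i, 1)) - u (.inl (i, 1)) * v (.inl (i, 0))))
      (by intros; rw [← Finset.sum_add_distrib]; exact Finset.sum_congr rfl fun _ _ => by simp; ring)
      (by intros; rw [Finset.smul_sum]; exact Finset.sum_congr rfl fun _ _ => by simp; ring)
      (by intros; rw [← Finset.sum_add_distrib]; exact Finset.sum_congr rfl fun _ _ => by simp; ring)
      (by intros; rw [Finset.smul_sum]; exact Finset.sum_congr rfl fun _ _ => by simp; ring))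
    fun v => by simp [mul_comm]

theorem spf_B {I : Type} [Fintype I] (u v : (I × Fin 2) ⊕ Empty → F) : (spf (F := F) I).B u v =
    ∑ i, (u (.inl (i, 0)) * v (.inl (i, 1)) - u (.inl (i, 1)) * v (.inl (i, 0))) := rfl

theorem sp_main [Fintype F] (hq : Odd (Fintype.card F)) (n : ℕ) (P : Sylow 2 (symplecticGroup (Fin (n + 1)) F)) (x : P.1) :
    x ^ 2 ∈ commutator P.1 := by
  classical
  have h1 := Fintype.one_lt_card (α := F)
  have hΦ : (spf (F := F) (Fin (n + 1))).Nondeg := fun v hv => funext fun p => by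
    rcases p with ⟨i, k⟩ | j
    · fin_cases k
      · simpa [spf_B, Pi.single_apply] using hv (Pi.single (.inl (i, 1)) 1)
      · simpa [spf_B, Pi.single_apply] using hv (Pi.single (.inl (i, 0)) 1)
    · exact j.elim
  obtain ⟨e⟩ := (symp_iso_std _ hΦ (m := n + 1) (by simp; ring)).nonempty_equiv
  obtain ⟨D⟩ : Nonempty (Sylow 2 (SpecialLinearGroup (Fin 2) F)) := inferInstance
  obtain ⟨T⟩ : Nonempty (Sylow 2 (Perm (Fin (n + 1)))) := inferInstance
  let δ := SpecialLinearGroup.toLin'.comp D.1.subtype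
  have hρ : ∀ g, rho (I := Fin (n + 1)) δ (sg Empty) g ∈ (spf (F := F) (Fin (n + 1))).Isom := fun g =>
    Form.mem_Isom_symp.2 fun u v => by
      simp only [spf_B, rho_inl]
      refine Fintype.sum_equiv g.1.right⁻¹ _ _ fun i => ?_
      have := (g.1.left i).1.2
      rw [det_fin_two] at this
      simp [δ, SpecialLinearGroup.toLin'_apply, mulVec, dotProduct]
      linear_combination (u (.inl (g.1.right.symm i, 0)) * v (.inl (g.1.right.symm i, 1)) -
        u (.inl (g.1.right.symm i, 1)) * v (.inl (g.1.right.symm i, 0))) * this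
  refine transfer (.id _) Function.injective_id (1 : _ →* Unit) (by simp)
    ((e.trans (spEquiv _ F).symm).toMonoidHom.comp ((rho δ (sg Empty)).codRestrict _ hρ))
    ((e.trans (spEquiv _ F).symm).injective.comp fun a b h => rho_inj δ _
      (SpecialLinearGroup.toLin'_injective.comp Subtype.val_injective) (sg_inj (two_ne_zero_of_odd hq) _)
      (congrArg Subtype.val h)) (WT _ _ T.1) (e := _) (by rw [card_WT, card_SL2 hq, card_T, ← pow_mul, ← pow_add]; simp; rfl) ?_
    (core _ (fun σ => rfl) T (fun x => Subsingleton.elim _ _) (i0 := 0) fun d =>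
      ⟨1, 1, d, one_pow _, one_pow _, .inl rfl, rfl, Subgroup.commutator_mono (fun _ _ => rfl) (fun _ _ => rfl)
        (sl2 hq D d), by simp⟩) P x
  rw [Nat.card_congr (spEquiv _ F).toEquiv, card_symp (n + 1) _ (spForm_nondeg _) (by simp; ring),
    Nat.card_eq_fintype_card, padicValNat.mul (by positivity) (Finset.prod_ne_zero_iff.2 fun i _ =>
      Nat.sub_ne_zero_of_lt (Nat.one_lt_pow (by omega) h1)), val_prod hq h1,
    padicValNat.eq_zero_of_not_dvd (n := _ ^ _) (by simpa [← even_iff_two_dvd] using hq.pow), zero_add, mul_comm]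

section core2
variable {I : Type} [Fintype I] [DecidableEq I] {D X C : Type*} [CommGroup D] [Group X] [Subsingleton X] [CommGroup C]

theorem core2 (ν : Wr I D X →* C) (T : Sylow 2 (Perm I)) (hT : ∀ i j, ∃ t ∈ T.1, t i = j) {i0 : I}
    (h0 : ∀ d, ν (io i0 d) = 1 → d = 1) (hν : ∀ σ, ∃ u : D, u ^ 2 * u ^ 2 = 1 ∧ ν (io i0 (u ^ 2) * pm σ) = 1) :
    ∀ x ∈ WT D X T.1 ⊓ ν.ker, x ^ 2 ∈ ⁅WT D X T.1 ⊓ ν.ker, WT D X T.1 ⊓ ν.ker⁆ := by
  obtain ⟨S, hS⟩ := exists_S (WT D X T.1 ⊓ ν.ker)
  have hb : ∀ d, bs d ∈ WT D X T.1 := fun d => T.1.one_mem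
  have ni : ∀ i d, ν (io i d) = ν (io i0 d) := fun i d => by
    conv_lhs => rw [← swap_apply_left i0 i, io_conj]
    rw [map_mul, map_mul, map_inv, mul_inv_cancel_comm]
  have cm : ∀ a b : I → D, Commute (bs a : Wr I D X) (bs b) := fun a b => (Commute.all a b).map bs
  have cm' : ∀ i j (a b : D), Commute (io i a : Wr I D X) (io j b) := fun i j a b => cm _ _
  have hz : ∀ i j d, io i d * io j d⁻¹ ∈ WT D X T.1 ⊓ ν.ker := fun i j d =>
    ⟨mul_mem (hb _) (hb _), by simp [ni i, ni j]⟩
  have k1 : T.1 ≤ ⟨⟨⟨{σ | ∀ i d, io i d * io (σ i) d⁻¹ ∈ S}, fun {σ τ} hσ hτ i d => by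
      simpa [mul_assoc] using mul_mem (hτ i d) (hσ (τ i) d)⟩, fun i d => by simpa using one_mem S⟩,
      fun {σ} hσ i d => by simpa using inv_mem (hσ (σ⁻¹ i) d)⟩ :=
    Fusion.Sym.gen_sym _ I rfl T _ fun t ht h i d => by
      obtain ⟨u, -, hu⟩ := hν t
      refine (hS _).2 ⟨hz _ _ _, ?_⟩
      have e : (io i d * io (t i) d⁻¹ : Wr I D X) ^ 2 =
          ⁅(io i d * io (t i) d⁻¹ : Wr I D X), (io i0 (u ^ 2) * pm t : Wr I D X)⁆ := by
        have : (pm t : Wr I D X) * (io i d * io (t i) d⁻¹ : Wr I D X)⁻¹ * (pm t : Wr I D X)⁻¹ =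
            (io i d * io (t i) d⁻¹ : Wr I D X) := by
          have h2 : t (t i) = i := by rw [← Perm.mul_apply, ← sq, h, Perm.one_apply]
          rw [_root_.mul_inv_rev, ← map_inv, ← map_inv, inv_inv, ← conj_mul, ← io_conj, ← io_conj, h2]
        have c := (cm' i0 i (u ^ 2) d).mul_right (cm' i0 (t i) (u ^ 2) d⁻¹)
        generalize (io i d * io (t i) d⁻¹ : Wr I D X) = z at this c ⊢
        calc z ^ 2 = z * (io i0 (u ^ 2) * z * (io i0 (u ^ 2))⁻¹) := by rw [c.eq, mul_inv_cancel_right, sq]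
          _ = z * (io i0 (u ^ 2) * (pm t * z⁻¹ * (pm t)⁻¹) * (io i0 (u ^ 2))⁻¹) := by rw [this]
          _ = _ := by rw [commutatorElement_def]; group
      exact e ▸ Subgroup.commutator_mem_commutator (hz _ _ _) ⟨mul_mem (hb _) ht, hu⟩
  have k3 : ∀ i j d, io i d * io j d⁻¹ ∈ S := fun i j d => by
    obtain ⟨t, ht, rfl⟩ := hT i j
    exact k1 ht i d
  have k4 : ∀ (s : Finset I) (d : I → D), (∀ i, i ≠ i0 → i ∉ s → d i = 1) → ν (bs d) = 1 → bs d ∈ S := fun s => by
    induction s using Finset.induction_on with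
    | empty =>
      intro d h1 h2
      have e : (bs d : Wr I D X) = io i0 (d i0) := congrArg bs (funext fun i => by
        by_cases h : i = i0
        · simp [h]
        · simp [h, h1 i h])
      rw [e] at h2 ⊢
      rw [h0 _ h2, map_one]; exact one_mem _
    | insert j s _ ih =>
      intro d h1 h2
      by_cases hj : j = i0
      · exact ih d (fun i hi hi' => h1 i hi (by simp [hi', hj, hi])) h2
      have h3 := k3 i0 j (d j)
      rw [← mul_mem_cancel_left h3]
      have e : io i0 (d j) * io j (d j)⁻¹ * (bs d : Wr I D X) =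
          bs (Pi.mulSingle i0 (d j) * Pi.mulSingle j (d j)⁻¹ * d) := by rw [map_mul, map_mul]; rfl
      rw [e]
      refine ih _ (fun i hi hi' => ?_) (by rw [← e, map_mul, h2, mul_one]; exact ((hS _).1 h3).1.2)
      by_cases h : i = j
      · simp [h, hj]
      · simp [h, hi, h1 i hi (by simp [h, hi'])]
  intro g hg
  obtain ⟨s, hs, e⟩ : g.1.right ∈ S.map (rightHom.comp (MonoidHom.fst _ _)) :=
    Fusion.Sym.gen_sym _ I rfl T _ (fun t ht h => by
      obtain ⟨u, hu', hu⟩ := hν t
      refine ⟨io i0 (u ^ 2) * pm t, (hS _).2 ⟨⟨mul_mem (hb _) ht, hu⟩, ?_⟩, one_mul t⟩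
      have e : (pm t : Wr I D X)⁻¹ = pm t := by rw [← map_inv, inv_eq_of_mul_eq_one_left ((sq t).symm.trans h)]
      convert ((hS _).1 (k3 i0 (t i0) u)).2 using 1
      rw [(cm' ..).mul_pow, ← map_pow, ← map_pow, inv_pow, inv_eq_of_mul_eq_one_left hu', io_conj, e, sq]
      simp only [mul_assoc]) hg.1
  refine ((hS _).1 ((mul_mem_cancel_right (inv_mem hs)).1 ?_)).2
  have e' : g * s⁻¹ = bs (g * s⁻¹).1.left := Prod.ext (SemidirectProduct.ext rfl (mul_inv_eq_one.2 e.symm))
    (Subsingleton.elim _ _)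
  rw [e']
  exact k4 Finset.univ _ (by simp) (e' ▸ (mul_mem hg (inv_mem ((hS _).1 hs).1)).2)

end core2

section SL
variable {I κ J : Type} [Fintype I] [DecidableEq I] [Fintype κ] [DecidableEq κ] [Fintype J] [DecidableEq J] {n : ℕ}
  (b : Basis (Fin n) F ((I × κ) ⊕ J → F)) {D : Type*} [Group D] (δ : D →* GL κ F)

noncomputable def rg : Wr I D (J → ℤˣ) →* GL (Fin n) F :=
  ((LinearMap.toMatrixAlgEquiv b : Module.End F _ →* _).comp (rho0 (glEquiv.toMonoidHom.comp δ) (sg J))).toHomUnits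

theorem rg_inj [Nonempty κ] (h2 : (2 : F) ≠ 0) (hδ : Function.Injective δ) : Function.Injective (rg b δ) := fun _ _ h =>
  rho_inj (glEquiv.toMonoidHom.comp δ) _ (glEquiv.injective.comp hδ) (sg_inj h2 J) (LinearEquiv.toLinearMap_injective
    ((LinearMap.toMatrixAlgEquiv b).injective (congrArg Units.val h)))

theorem det_io (i : I) (d : D) : GeneralLinearGroup.det (rg b δ (io i d)) = GeneralLinearGroup.det (δ d) := by
  refine Units.ext ((LinearMap.det_toMatrix b _).trans ?_)
  have : rho0 (glEquiv.toMonoidHom.comp δ) (sg J) (io i d) = toLin' (fromBlocks ((blockDiagonal fun j =>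
      (δ (Pi.mulSingle (M := fun _ => D) i d j)).1).submatrix Prod.swap Prod.swap) 0 0 1) := by
    refine LinearMap.ext fun v => funext fun p => ?_
    rcases p with ⟨j, k⟩ | j
    · change (_ *ᵥ _) k = _
      simp [mulVec, dotProduct, Fintype.sum_prod_type, blockDiagonal_apply, io, bs]
    · change (1 : ℤˣ) • v _ = _
      simp [fromBlocks_mulVec]
  rw [this, LinearMap.det_toLin', det_fromBlocks_zero₂₁, det_one, mul_one]
  refine (det_submatrix_equiv_self (Equiv.prodComm I κ) _).trans ?_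
  rw [det_blockDiagonal, Finset.prod_eq_single i (fun j _ h => by simp [h]) (by simp)]
  simp

theorem det_pm (σ : Perm I) (h : Perm.sign σ ^ Fintype.card κ = 1) : GeneralLinearGroup.det (rg b δ (pm σ)) = 1 := by
  let π : Perm (I × κ) →* Module.End F ((I × κ) ⊕ J → F) :=
    { toFun := fun σ => LinearMap.funLeft F F (Equiv.sumCongr σ⁻¹ (Equiv.refl J))
      map_one' := by ext v i; cases i <;> rfl
      map_mul' := fun σ τ => LinearMap.ext fun v => funext fun i => by cases i <;> rfl }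
  refine Units.ext ((LinearMap.det_toMatrix b _).trans (Eq.trans (congrArg LinearMap.det ?_) (congrArg Units.val
    (hom_sign (LinearMap.det.comp π).toHomUnits (σ := Equiv.prodCongrLeft fun _ => σ)
        (by simpa [Perm.sign_prodCongrLeft] using h)))))
  refine LinearMap.ext fun v => funext fun i => ?_
  rcases i with ⟨i, k⟩ | j
  · exact congrFun (LinearEquiv.congr_fun (map_one (glEquiv.toMonoidHom.comp δ)) _) _
  · exact one_smul ℤˣ (v (.inr j))

end SL

theorem sl3 [Fintype F] (hq : Odd (Fintype.card F)) (h4 : 4 ∣ Fintype.card F + 1) {m : ℕ} (j : Fin 2)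
    (P : Sylow 2 (Matrix.SpecialLinearGroup (Fin (2 * (m + 1) + j)) F)) (x : P.1) : x ^ 2 ∈ commutator P.1 := by
  classical
  have h1 := Fintype.one_lt_card (α := F)
  have h2 := two_ne_zero_of_odd hq
  obtain ⟨Q⟩ : Nonempty (Sylow 2 (Matrix.SpecialLinearGroup (Fin 2) F)) := inferInstance
  obtain ⟨D, hD⟩ := Q.exists_comap_eq_of_injective Matrix.SpecialLinearGroup.toGL_injective
  obtain ⟨r, hr, hr'⟩ : ∃ r : D.1, r ^ 2 = 1 ∧ GeneralLinearGroup.det r.1 = -1 := by
    have h : (diagonal ![1, -1] : Matrix (Fin 2) (Fin 2) F) ^ 2 = 1 := by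
      ext i j; fin_cases i <;> fin_cases j <;> simp [diagonal_pow]
    have h' : Units.ofPowEqOne _ _ h two_ne_zero ^ 2 = 1 := Units.ext (by simpa using h)
    obtain ⟨R, hR⟩ := (IsPGroup.of_card ((Nat.card_zpowers _).trans ((Nat.dvd_prime_pow Nat.prime_two (m := 1)).1
      (orderOf_dvd_of_pow_eq_one h')).choose_spec.2)).exists_le_sylow
    obtain ⟨g, rfl⟩ := MulAction.exists_smul_eq (GL (Fin 2) F) R D
    refine ⟨⟨_, Subgroup.smul_mem_pointwise_smul _ _ _ (hR (Subgroup.mem_zpowers _))⟩,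
      Subtype.ext ((map_pow (MulAut.conj g) _ _).symm.trans (by rw [h', map_one]; rfl)), ?_⟩
    simp [mul_comm, Units.ext_iff]
  obtain ⟨T⟩ : Nonempty (Sylow 2 (Perm (Fin (m + 1)))) := inferInstance
  let b := finBasisOfFinrankEq F ((Fin (m + 1) × Fin 2) ⊕ Fin j → F) (n := 2 * (m + 1) + j) (by simp; ring)
  have hv : padicValNat 2 (Fintype.card F - 1) = 1 := by
    obtain ⟨t, ht⟩ : ∃ t, Fintype.card F - 1 = 2 * (2 * t + 1) := ⟨(Fintype.card F - 3) / 4, by omega⟩
    rw [ht, padicValNat.mul (by omega) (by omega), padicValNat.eq_zero_of_not_dvd (n := _ + _) (by omega)]; simp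
  have k : ∀ y : D.1, GeneralLinearGroup.det y.1 = 1 → ∃ z : Q.1, Matrix.SpecialLinearGroup.toGL z.1 = y.1 := fun y hy => by
    obtain ⟨z, hz⟩ := (mem_range_toGL _).2 hy
    exact ⟨⟨z, by rw [← hD, Subgroup.mem_comap, hz]; exact y.2⟩, hz⟩
  let f : Q.1 →* D.1 := (Matrix.SpecialLinearGroup.toGL.comp Q.1.subtype).codRestrict _ fun z => hD.ge z.2
  have k2 : ∀ y : D.1, GeneralLinearGroup.det y.1 = 1 → y ^ 2 ∈ ⁅(((GeneralLinearGroup.det).comp (rg b D.1.subtype)).comp
      (io 0)).ker, (((GeneralLinearGroup.det).comp (rg b D.1.subtype)).comp (io 0)).ker⁆ := fun y hy => by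
    obtain ⟨z, hz⟩ := k y hy
    have h5 := Subgroup.mem_map_of_mem f (sl2 hq Q z)
    have h6 : (⊤ : Subgroup Q.1).map f ≤ (((GeneralLinearGroup.det).comp (rg b D.1.subtype)).comp (io 0)).ker := by
      rintro _ ⟨w, -, rfl⟩
      exact (det_io b _ _ _).trans (Units.ext w.1.2)
    rw [commutator_def, Subgroup.map_commutator, map_pow, show f z = y from Subtype.ext hz] at h5
    exact Subgroup.commutator_mono h6 h6 h5
  refine transfer _ Matrix.SpecialLinearGroup.toGL_injective _ mem_range_toGL (rg b D.1.subtype)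
    (rg_inj b _ h2 Subtype.val_injective) (WT _ _ T.1) (e := _) (by
      rw [card_WT, D.card_eq_multiplicity, Nat.factorization_def _ Nat.prime_two, val_GL hq, val_even hq h1 1, card_T,
        Nat.card_fun, Nat.card_eq_fintype_card (α := ℤˣ), Fintype.card_units_int, ← pow_mul, ← pow_add, ← pow_add]) ?_
    (core _ (fun σ => det_pm b _ σ (Int.units_sq _)) T (fun x => funext fun j => Int.units_sq _) (i0 := 0) fun d => ?_) P x
  · rw [val_GL hq]
    fin_cases j
    · simp [val_even hq h1, mul_comm (m + 1)]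
    · have h : ∀ i, Fintype.card F ^ (i + 1) - 1 ≠ 0 := fun i => Nat.sub_ne_zero_of_lt (Nat.one_lt_pow (by omega) h1)
      simp only [Fin.mk_one, Fin.val_one]
      rw [Finset.prod_range_succ, padicValNat.mul (Finset.prod_ne_zero_iff.2 fun i _ => h _) (h _), val_even hq h1,
        val_odd hq h1]
      simp [hv, mul_comm]
  have h5 : ∀ (k : ℕ) (c : F), c ^ 2 ^ k = 1 → c * c = 1 := fun k => by
    induction k with
    | zero => intro c h; simp at h; simp [h]
    | succ k ih =>
      intro c h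
      rcases mul_self_eq_one_iff.1 (ih (c * c) (by rw [← sq, ← pow_mul, ← pow_succ', h])) with e | e
      · exact e
      · exact absurd (FiniteField.isSquare_neg_one_iff.1 ⟨c, e.symm⟩) (by omega)
  obtain ⟨k, hk⟩ := D.2 d
  rcases mul_self_eq_one_iff.1 (h5 k (GeneralLinearGroup.det d.1).1 (by
    rw [← Units.val_pow_eq_pow_val, ← map_pow, ← SubmonoidClass.coe_pow, hk]; simp)) with e | e
  · exact ⟨1, 1, d, one_pow _, one_pow _, .inl rfl, (det_io b _ _ _).trans (Units.ext e), k2 d (Units.ext e), by simp⟩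
  · have e' : GeneralLinearGroup.det (r * d).1 = 1 := by
      rw [Subgroup.coe_mul, map_mul, hr', show GeneralLinearGroup.det d.1 = -1 from Units.ext e]; simp
    exact ⟨r, 1, r * d, hr, one_pow _, .inl rfl, (det_io b _ _ _).trans e', k2 _ e', by
      rw [mul_one, ← mul_assoc, ← sq, hr, one_mul]⟩

theorem sl1 [Fintype F] (hq : Odd (Fintype.card F)) (h4 : 4 ∣ Fintype.card F - 1) {m j : ℕ} (hm : m = 2 ^ j)
    (P : Sylow 2 (Matrix.SpecialLinearGroup (Fin (2 * m)) F)) (x : P.1) : x ^ 2 ∈ commutator P.1 := by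
  classical
  have h1 := Fintype.one_lt_card (α := F)
  have h2 := two_ne_zero_of_odd hq
  have h3 : 2 ≤ 2 * m := by have := Nat.two_pow_pos j; omega
  obtain ⟨ι, hι⟩ := (FiniteField.isSquare_neg_one_iff (F := F)).2 (by omega)
  have h0 : ι ≠ 0 := fun e => by simp [e] at hι
  have h5 : Units.mk0 ι h0 ^ 2 = -1 := Units.ext (by simp [hι, sq])
  obtain ⟨D, hD⟩ := (IsPGroup.of_card ((Nat.card_zpowers _).trans ((Nat.dvd_prime_pow Nat.prime_two (m := 2)).1
      (orderOf_dvd_of_pow_eq_one (x := Units.mk0 ι h0) (by rw [sq, pow_mul, h5]; simp))).choose_spec.2)).exists_le_sylow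
  have hc := isCycle_finRotate_of_le h3
  obtain ⟨T, hT⟩ := (IsPGroup.of_card (p := 2) (n := j + 1) ((Nat.card_zpowers _).trans (hc.orderOf.trans (by
    rw [support_finRotate_of_le h3]; simp [hm, pow_succ'])))).exists_le_sylow
  let b := finBasisOfFinrankEq F ((Fin (2 * m) × Unit) ⊕ Empty → F) (n := 2 * m) (by simp)
  let δ : D.1 →* GL Unit F := (GeneralLinearGroup.scalar Unit).comp D.1.subtype
  have hδ : ∀ d, GeneralLinearGroup.det (δ d) = d.1 := fun d => Units.ext (by simp [δ])
  refine transfer _ Matrix.SpecialLinearGroup.toGL_injective _ mem_range_toGL (rg b δ)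
    (rg_inj b _ h2 fun a b h => Subtype.ext (by rw [← hδ, h, hδ])) (WT _ _ T.1) (e := _) (by
      rw [card_WT, D.card_eq_multiplicity, Nat.factorization_def _ Nat.prime_two, card_T, Nat.card_units,
        Nat.card_unique (α := Empty → ℤˣ), mul_one, ← pow_mul, ← pow_add]) ?_
    (core2 _ T (fun i j => ?_) (i0 := ⟨0, by omega⟩) (fun d h => Subtype.ext ((hδ d).symm.trans
      ((det_io b _ _ _).symm.trans h))) fun σ => ?_) P x
  · have a := padicValNat.pow_two_sub_one h1 (by simpa [← even_iff_two_dvd] using hq) two_ne_zero even_two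
    obtain ⟨t, ht⟩ : ∃ t, Fintype.card F + 1 = 2 * (2 * t + 1) := ⟨(Fintype.card F - 1) / 4, by omega⟩
    rw [ht, padicValNat.mul (by omega) (by omega), padicValNat.eq_zero_of_not_dvd (n := _ + _) (by omega)] at a
    simp only [padicValNat_self, add_zero, add_left_inj] at a
    rw [val_GL hq, val_even hq h1, a, padicValNat_factorial_mul]
    simp; linarith
  · obtain ⟨k, hk⟩ := hc.exists_zpow_eq (Perm.mem_support.1 (support_finRotate_of_le h3 ▸ Finset.mem_univ i))
      (Perm.mem_support.1 (support_finRotate_of_le h3 ▸ Finset.mem_univ j))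
    exact ⟨_, hT ⟨k, rfl⟩, hk⟩
  have h6 := congrArg Units.val (det_pm b δ (σ * σ) (by simp [Int.units_mul_self]))
  rw [map_mul, map_mul, map_mul, Units.val_mul] at h6
  rcases mul_self_eq_one_iff.1 h6 with e | e
  · exact ⟨1, by simp, by simpa [Units.ext_iff] using e⟩
  · refine ⟨⟨_, hD (Subgroup.mem_zpowers _)⟩, Subtype.ext (by simp [h5]), ?_⟩
    rw [map_mul, MonoidHom.comp_apply, det_io, hδ, MonoidHom.comp_apply, SubmonoidClass.coe_pow, h5,
      show GeneralLinearGroup.det _ = -1 from Units.ext e]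
    simp

end Cfsg.Agent.Classical.Syl2
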