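import Cfsg.Agent.Lib.Classical.Oct1
import Cfsg.Agent.Lib.Classical.Syl2c

/-! The split octonions as a Cayley–Dickson double of `M₂(F)`; the subgroup `SO₄⁺`; Sylow 2-subgroups. -/
set_option autoImplicit false
open Matrix Cfsg.Lie

namespace Cfsg.Agent.Classical.Oct
variable {F : Type*} [Field F]

abbrev M2 (F : Type*) := Matrix (Fin 2) (Fin 2) F

def cd : (M2 F × M2 F) ≃ₗ[F] V F where
  toFun p := ![p.1 0 0, p.1 0 1, p.2 0 0, p.2 1 0, p.1 1 0, -p.2 1 1, p.2 0 1, p.1 1 1]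
  invFun x := (!![x 0, x 1; x 4, x 7], !![x 2, x 6; x 3, -x 5])
  map_add' p q := by apply ext8 <;> simp [add_comm]
  map_smul' c p := by apply ext8 <;> simp
  left_inv p := Prod.ext (by ext i j; fin_cases i <;> fin_cases j <;> simp) (by ext i j; fin_cases i <;> fin_cases j <;> simp)
  right_inv x := by apply ext8 <;> simp

theorem cd_apply (m n : M2 F) : cd (m, n) = ![m 0 0, m 0 1, n 0 0, n 1 0, m 1 0, -n 1 1, n 0 1, m 1 1] := rfl

theorem cd_mul (m n m' n' : M2 F) :
    cd (m, n) ⋆ cd (m', n') = cd (m * m' - adjugate n' * n, n' * m + n * adjugate m') := by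
  apply ext8 <;> simp only [cd_apply, m0, m1, m2, m3, m4, m5, m6, m7, cons_val, adjugate_fin_two, Matrix.mul_apply,
    Fin.sum_univ_two, Matrix.sub_apply, Matrix.add_apply, of_apply] <;> ring

def H (F : Type*) [Field F] : Subgroup (GL (Fin 2) F × GL (Fin 2) F) :=
  (GeneralLinearGroup.det.comp (MonoidHom.fst _ _)).eqLocus (GeneralLinearGroup.det.comp (MonoidHom.snd _ _))

theorem adj_gl (g : GL (Fin 2) F) : adjugate g.1 = g.1.det • (g⁻¹).1 := by
  rw [← mul_one (adjugate g.1), ← g.mul_inv, ← mul_assoc, adjugate_mul, smul_mul_assoc, one_mul]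

noncomputable def phL (p : GL (Fin 2) F × GL (Fin 2) F) : Module.End F (V F) :=
  cd.toLinearMap ∘ₗ ((LinearMap.mulLeftRight F (p.2.1, (p.2⁻¹).1)).prodMap (LinearMap.mulLeftRight F (p.1.1, (p.2⁻¹).1))) ∘ₗ
    cd.symm.toLinearMap

theorem phL_cd (p : GL (Fin 2) F × GL (Fin 2) F) (m n : M2 F) :
    phL p (cd (m, n)) = cd (p.2.1 * m * (p.2⁻¹).1, p.1.1 * n * (p.2⁻¹).1) := by simp [phL]

noncomputable def ph : H F →* A F := MonoidHom.toHomUnits
  { toFun := fun p => ⟨phL p.1, fun x y => by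
      obtain ⟨⟨m, n⟩, rfl⟩ := cd.surjective x
      obtain ⟨⟨m', n'⟩, rfl⟩ := cd.surjective y
      obtain ⟨⟨g, h⟩, e⟩ := p
      have e : g.1.det = h.1.det := congrArg Units.val e
      have e2 : h.1.det * (h⁻¹).1.det = 1 := by rw [← det_mul, h.mul_inv, det_one]
      simp only [cd_mul, phL_cd, adjugate_mul_distrib, adj_gl, inv_inv, e, smul_mul_assoc, mul_smul_comm, smul_smul, e2,
        mul_comm (h⁻¹).1.det, one_smul, mul_assoc, Units.inv_mul_cancel_left, mul_sub, sub_mul, mul_add, add_mul]⟩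
    map_one' := Subtype.ext (LinearMap.ext fun x => by
      obtain ⟨⟨m, n⟩, rfl⟩ := cd.surjective x
      simp [phL_cd])
    map_mul' := fun p q => Subtype.ext (LinearMap.ext fun x => by
      obtain ⟨⟨m, n⟩, rfl⟩ := cd.surjective x
      simp only [phL_cd, Submonoid.coe_mul, Module.End.mul_apply, Subgroup.coe_mul, Prod.fst_mul, Prod.snd_mul, _root_.mul_inv_rev,
        Units.val_mul, mul_assoc]) }

theorem ph_cd (p : H F) (m n : M2 F) :
    ph p • cd (m, n) = cd (p.1.2.1 * m * (p.1.2⁻¹).1, p.1.1.1 * n * (p.1.2⁻¹).1) := phL_cd _ _ _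

def sc : Fˣ →* H F := ((GeneralLinearGroup.scalar (Fin 2)).prod (GeneralLinearGroup.scalar (Fin 2))).codRestrict _ fun _ => rfl

theorem sc_inj : Function.Injective (sc (F := F)) := fun a b h =>
  Units.ext (by simpa [sc, GeneralLinearGroup.scalar] using congrArg (fun p : H F => p.1.1.1 0 0) h)

theorem ker_ph : (ph (F := F)).ker = sc.range := by
  ext ⟨⟨g, h⟩, e⟩
  constructor
  · intro k
    have k : ∀ m n : M2 F, h.1 * m * (h⁻¹).1 = m ∧ g.1 * n * (h⁻¹).1 = n := fun m n => by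
      have := ph_cd ⟨(g, h), e⟩ m n
      rw [MonoidHom.mem_ker.1 k, one_smul] at this
      exact Prod.ext_iff.1 (cd.injective this).symm
    have k1 : g = h := by have := (k 1 1).2; rw [mul_one, ← Units.val_mul, Units.val_eq_one, mul_inv_eq_one] at this; exact this
    have k2 : h ∈ Subgroup.center (GL (Fin 2) F) := Subgroup.mem_center_iff.2 fun x => by
      have := (k x.1 1).1
      rw [← Units.val_mul, ← Units.val_mul, Units.val_inj, mul_inv_eq_iff_eq_mul] at this; exact this.symm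
    rw [GeneralLinearGroup.center_eq_range_scalar] at k2
    obtain ⟨c, rfl⟩ := k2
    subst k1; exact ⟨c, rfl⟩
  · rintro ⟨c, k⟩
    rw [← k]
    refine A_ext fun x => ?_
    obtain ⟨⟨m, n⟩, rfl⟩ := cd.surjective x
    have : ∀ m : M2 F, (GeneralLinearGroup.scalar (Fin 2) c).1 * m * ((GeneralLinearGroup.scalar (Fin 2) c)⁻¹).1 = m := fun m => by
      rw [show (GeneralLinearGroup.scalar (Fin 2) c).1 * m = m * (GeneralLinearGroup.scalar (Fin 2) c).1 from
        scalar_commute _ (Commute.all _) _, Units.mul_inv_cancel_right]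
    rw [ph_cd, one_smul]; exact congrArg _ (Prod.ext (this m) (this n))

abbrev S2 (F : Type*) [Field F] := SpecialLinearGroup (Fin 2) F

def io : S2 F × S2 F →* H F := (SpecialLinearGroup.toGL.prodMap SpecialLinearGroup.toGL).codRestrict _ fun p =>
  Units.ext (p.1.2.trans p.2.2.symm)

def dt : H F →* Fˣ := GeneralLinearGroup.det.comp ((MonoidHom.fst _ _).comp (H F).subtype)

theorem io_inj : Function.Injective (io (F := F)) := fun _ _ h =>
  Prod.ext (SpecialLinearGroup.toGL_injective (congrArg (fun p : H F => p.1.1) h))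
    (SpecialLinearGroup.toGL_injective (congrArg (fun p : H F => p.1.2) h))

theorem range_io : (io (F := F)).range = dt.ker := by
  ext ⟨⟨g, h⟩, e⟩
  constructor
  · rintro ⟨p, k⟩; rw [← k]; exact Units.ext p.1.2
  · intro k
    obtain ⟨a, rfl⟩ := (Syl2.mem_range_toGL g).2 k
    obtain ⟨b, rfl⟩ := (Syl2.mem_range_toGL h).2 (Eq.trans (Eq.symm e) k)
    exact ⟨(a, b), rfl⟩

noncomputable def dd (c : Fˣ) : H F :=
  ⟨(GeneralLinearGroup.mkOfDetNeZero !![0, -c.1; 1, 0] (by simp), GeneralLinearGroup.mkOfDetNeZero !![0, -c.1; 1, 0] (by simp)), rfl⟩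

theorem dt_dd (c : Fˣ) : dt (dd c) = c := Units.ext (by simp [dt, dd])

theorem dd_sq (c : Fˣ) : dd c ^ 2 = sc (-c) := by
  have : GeneralLinearGroup.mkOfDetNeZero !![0, -c.1; 1, 0] (by simp) ^ 2 = GeneralLinearGroup.scalar (Fin 2) (-c) := by
    ext i j; fin_cases i <;> fin_cases j <;> simp [pow_two, GeneralLinearGroup.scalar, Matrix.mul_apply]
  exact Subtype.ext (Prod.ext this this)

theorem card_H [Fintype F] : Nat.card (H F) = Nat.card (S2 F) ^ 2 * (Fintype.card F - 1) := by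
  classical
  rw [← (dt (F := F)).ker.card_mul_index, Subgroup.index_ker, MonoidHom.range_eq_top.2 fun c => ⟨_, dt_dd c⟩, ← range_io,
    ← Nat.card_congr (MonoidHom.ofInjective io_inj).toEquiv, Nat.card_prod, Subgroup.card_top, Nat.card_units,
    Nat.card_eq_fintype_card (α := F), pow_two]

theorem rev {G N : Type*} [Group G] [Finite G] [Group N] (f : N →* G) (hf : Function.Injective f) [f.range.Normal]
    (P : Sylow 2 N) (h : ∀ x : P.1, x ^ 2 ∈ commutator P.1) (R : Sylow 2 G) {x : G} (hx : x ∈ R) (hx' : x ∈ f.range) :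
    x ^ 2 ∈ ⁅R.1, R.1⁆ := by
  obtain ⟨Q, hQ⟩ := P.exists_comap_eq_of_injective hf
  obtain ⟨g, rfl⟩ := MulAction.exists_smul_eq G Q R
  obtain ⟨z, hz, rfl⟩ := (show x ∈ Q.1.map (MulAut.conj g).toMonoidHom from hx)
  obtain ⟨y, rfl⟩ : z ∈ f.range := by simpa [mul_assoc] using (inferInstance : f.range.Normal).conj_mem _ hx' g⁻¹
  have h1 := Subgroup.mem_map_of_mem (((MulAut.conj g).toMonoidHom.comp f).comp P.1.subtype) (h ⟨y, hQ ▸ hz⟩)
  have h2 : (⊤ : Subgroup P.1).map (((MulAut.conj g).toMonoidHom.comp f).comp P.1.subtype) ≤ (g • Q).1 := by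
    rintro _ ⟨w, -, rfl⟩
    exact ⟨f w.1, show w.1 ∈ Q.1.comap f from hQ.symm ▸ w.2, rfl⟩
  rw [commutator_def, Subgroup.map_commutator, map_pow] at h1
  exact Subgroup.commutator_mono h2 h2 h1

theorem val_S2 [Fintype F] (hq : Odd (Fintype.card F)) :
    padicValNat 2 (Nat.card (S2 F)) = padicValNat 2 (Fintype.card F ^ 2 - 1) := by
  obtain ⟨Q⟩ : Nonempty (Sylow 2 (S2 F)) := inferInstance
  have := (Syl2.card_SL2 hq Q).symm.trans Q.card_eq_multiplicity
  rw [Nat.factorization_def _ Nat.prime_two] at this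
  exact (Nat.pow_right_injective le_rfl this).symm

theorem sl2sq [Fintype F] (hq : Odd (Fintype.card F)) (P : Sylow 2 (S2 F × S2 F)) (x : P.1) : x ^ 2 ∈ commutator P.1 := by
  obtain ⟨Q⟩ : Nonempty (Sylow 2 (S2 F)) := inferInstance
  refine Syl2.transfer (C := Multiplicative (ZMod 1)) (MonoidHom.id _) Function.injective_id 1 (by simp) (Q.1.subtype.prodMap Q.1.subtype)
    (Subtype.val_injective.prodMap Subtype.val_injective) ⊤
    (e := padicValNat 2 (Fintype.card F ^ 2 - 1) + padicValNat 2 (Fintype.card F ^ 2 - 1))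
    (by rw [Subgroup.card_top, Nat.card_prod, pow_add]; exact congrArg₂ _ (Syl2.card_SL2 hq Q) (Syl2.card_SL2 hq Q))
    (by rw [Nat.card_prod, padicValNat.mul Nat.card_pos.ne' Nat.card_pos.ne', val_S2 hq]) (fun y _ => ?_) P x
  rw [MonoidHom.one_comp, MonoidHom.ker_one, top_inf_eq]
  have h1 := Subgroup.mem_map_of_mem (MonoidHom.inl _ Q.1) (Syl2.sl2 hq Q y.1)
  have h2 := Subgroup.mem_map_of_mem (MonoidHom.inr Q.1 _) (Syl2.sl2 hq Q y.2)
  rw [commutator_def, Subgroup.map_commutator] at h1 h2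
  have := mul_mem (Subgroup.commutator_mono le_top le_top h1) (Subgroup.commutator_mono le_top le_top h2)
  simp at this; exact this

theorem val_A [Fintype F] (hq : Odd (Fintype.card F)) :
    padicValNat 2 (Nat.card (A F)) ≤ 2 * padicValNat 2 (Fintype.card F ^ 2 - 1) := by
  have h1 := Fintype.one_lt_card (α := F)
  have h := mul_dvd_mul_left (Fintype.card F ^ 6 + Fintype.card F ^ 3) (Subgroup.card_dvd_of_injective _ (toSL_inj (F := F)))
  rw [← card_A, card_SL3] at h
  generalize Fintype.card F = q at *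
  have k1 : ∀ j, 1 ≤ q ^ j := fun j => Nat.one_le_pow _ _ (by omega)
  have k2 : 1 < q ^ 2 := Nat.one_lt_pow (by omega) h1
  have k3 : 1 < (q ^ 2) ^ (2 * 1 + 1) := Nat.one_lt_pow (by omega) k2
  rw [show (q ^ 6 + q ^ 3) * (q ^ 3 * (q ^ 2 - 1) * (q ^ 3 - 1)) = q ^ 6 * (((q ^ 2) ^ (2 * 1 + 1) - 1) * (q ^ 2 - 1)) by
    zify [k1, k3.le]; ring] at h
  have := (padicValNat_dvd_iff_le (p := 2) (by apply mul_ne_zero (by positivity) (mul_ne_zero (by omega) (by omega)))).1
    (pow_padicValNat_dvd.trans h)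
  rwa [padicValNat.mul (by positivity) (mul_ne_zero (by omega) (by omega)), padicValNat.mul (by omega) (by omega),
    Syl2.val_odd hq.pow k2, padicValNat.eq_zero_of_not_dvd (n := _ ^ _) (by simpa [← even_iff_two_dvd] using hq.pow), zero_add,
    ← two_mul] at this

theorem g2_main [Fintype F] (hq : Odd (Fintype.card F)) (P : Sylow 2 (G2 F)) (x : P.1) : x ^ 2 ∈ commutator P.1 := by
  classical
  have h1 := Fintype.one_lt_card (α := F)
  obtain ⟨T⟩ : Nonempty (Sylow 2 Fˣ) := inferInstance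
  obtain ⟨δ, hδ⟩ := IsCyclic.exists_generator (α := T.1)
  obtain ⟨k, hk⟩ := T.isPGroup' δ
  have hk : δ.1 ^ 2 ^ k = 1 := congrArg Subtype.val hk
  obtain ⟨R, hR⟩ := IsPGroup.exists_le_sylow (p := 2) (P := Subgroup.zpowers (dd δ.1)) fun ⟨_, n, rfl⟩ => ⟨k + 2, Subtype.ext (by
    have : dd δ.1 ^ 2 ^ (k + 2) = 1 := by
      rw [pow_succ', pow_mul, dd_sq, ← map_pow, pow_succ', pow_mul, neg_sq, ← pow_mul, mul_comm, pow_mul, hk, one_pow, map_one]
    change (dd δ.1 ^ n) ^ 2 ^ (k + 2) = 1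
    rw [← zpow_natCast, ← _root_.zpow_mul, mul_comm, _root_.zpow_mul, zpow_natCast, this, _root_.one_zpow])⟩
  obtain ⟨e, he⟩ := IsPGroup.iff_card.1 (R.isPGroup'.map ph)
  obtain ⟨f, hf⟩ := IsPGroup.iff_card.1 (R.isPGroup'.to_subgroup (ph.comp R.1.subtype).ker)
  have c1 := (ph.comp R.1.subtype).ker.card_mul_index
  rw [Subgroup.index_ker, MonoidHom.range_comp, Subgroup.range_subtype, he, hf, R.card_eq_multiplicity, Nat.factorization_def _ Nat.prime_two, card_H,
    padicValNat.mul (pow_ne_zero _ Nat.card_pos.ne') (by omega), padicValNat.pow, val_S2 hq, ← pow_add] at c1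
  have c2 : 2 ^ f ∣ Fintype.card F - 1 := by
    rw [← hf, ← Subgroup.card_map_of_injective R.1.subtype_injective, ← Nat.card_eq_fintype_card, ← Nat.card_units,
      Nat.card_congr (MonoidHom.ofInjective (sc_inj (F := F))).toEquiv, ← ker_ph]
    exact Subgroup.card_dvd_of_le (by rintro _ ⟨y, hy, rfl⟩; exact hy)
  have c3 := (padicValNat_dvd_iff_le (by omega)).1 c2
  have c4 := Nat.pow_right_injective le_rfl c1
  refine Syl2.transfer (C := Multiplicative (ZMod 1)) (equivG2 (F := F)).toMonoidHom (equivG2 (F := F)).injective 1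
    (fun g => by simpa using equivG2.surjective g) (MonoidHom.id _) Function.injective_id (R.1.map ph) he
    ((val_A hq).trans (by omega)) ?_ P x
  rw [MonoidHom.one_comp, MonoidHom.ker_one, inf_top_eq]
  obtain ⟨S, hS⟩ := Syl2.exists_S (R.1.map ph)
  rintro _ ⟨r, hr, rfl⟩
  obtain ⟨n, hn⟩ := hδ ⟨dt r, (R.isPGroup'.map dt).le_sylow_of_normal T ⟨r, hr, rfl⟩⟩
  have hd : dd δ.1 ∈ R := hR (Subgroup.mem_zpowers _)
  have r1 : r * dd δ.1 ^ (-n) ∈ R := mul_mem hr (zpow_mem hd _)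
  have : (io (F := F)).range.Normal := range_io (F := F) ▸ inferInstance
  obtain ⟨Q⟩ : Nonempty (Sylow 2 (S2 F × S2 F)) := inferInstance
  have r2 := Subgroup.mem_map_of_mem ph (rev io io_inj Q (sl2sq hq Q) R r1 (by
    rw [range_io, MonoidHom.mem_ker, map_mul, map_zpow, dt_dd, show dt r = δ.1 ^ n from (congrArg Subtype.val hn).symm]; simp))
  rw [Subgroup.map_commutator, map_pow] at r2
  have s1 := (hS _).2 ⟨Subgroup.mem_map_of_mem ph r1, r2⟩
  have s2 := (hS _).2 ⟨Subgroup.mem_map_of_mem ph hd, by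
    rw [← map_pow, dd_sq, show ph (sc (-δ.1)) = 1 from (ker_ph (F := F)).ge ⟨_, rfl⟩]; exact one_mem _⟩
  have := ((hS _).1 (mul_mem s1 (zpow_mem s2 n))).2
  rwa [← map_zpow, ← map_mul, mul_assoc, ← _root_.zpow_add, neg_add_cancel, zpow_zero, mul_one] at this

end Cfsg.Agent.Classical.Oct
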