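import Cfsg.Agent.Lib.Classical.Oct1
import Cfsg.Agent.Lib.Chev.Emb

/-! The Chevalley group `G₂(q)` is the automorphism group of the split octonions. -/
set_option autoImplicit false
set_option linter.unusedSimpArgs false
set_option linter.unnecessarySeqFocus false
set_option linter.unusedTactic false
set_option linter.unreachableTactic false
open Matrix Cfsg.Lie

namespace Cfsg.Agent.Classical.Oct
open Cfsg.Agent.Chev
variable {F : Type*} [Field F]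

def yv (r : ℕ) (t : F) (x : V F) : V F := match r with
  | 0 => ![x 0, x 1, x 2, x 3 - t * x 1, x 4 + t * x 6, x 5, x 6, x 7]
  | 1 => ![x 0, x 1, x 2 - t * x 1, x 3, x 4 + t * x 5, x 5, x 6, x 7]
  | 2 => ![x 0 - t * x 1, x 1, x 2 - t * x 6, x 3 + t * x 5, x 4 + t * x 0 - t * x 7 - t * t * x 1, x 5, x 6, x 7 + t * x 1]
  | 3 => ![x 0 + t * x 6, x 1, x 2, x 3 - t * x 0 + t * x 7 - t * t * x 6, x 4 + t * x 2, x 5 - t * x 1, x 6, x 7 - t * x 6]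
  | 4 => ![x 0 + t * x 5, x 1, x 2 - t * x 0 + t * x 7 - t * t * x 5, x 3, x 4 - t * x 3, x 5, x 6 + t * x 1, x 7 - t * x 5]
  | 5 => ![x 0, x 1, x 2, x 3 - t * x 2, x 4, x 5 + t * x 6, x 6, x 7]
  | 6 => ![x 0, x 1, x 2 - t * x 3, x 3, x 4, x 5, x 6 + t * x 5, x 7]
  | 7 => ![x 0 - t * x 2, x 1 + t * x 6, x 2, x 3 - t * x 4, x 4, x 5 + t * x 0 - t * x 7 - t * t * x 2, x 6, x 7 + t * x 2]
  | 8 => ![x 0 - t * x 3, x 1 - t * x 5, x 2 + t * x 4, x 3, x 4, x 5, x 6 + t * x 0 - t * x 7 - t * t * x 3, x 7 + t * x 3]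
  | 9 => ![x 0 + t * x 4, x 1 - t * x 0 + t * x 7 - t * t * x 4, x 2, x 3, x 4, x 5 + t * x 3, x 6 - t * x 2, x 7 - t * x 4]
  | 10 => ![x 0, x 1 - t * x 2, x 2, x 3, x 4, x 5 + t * x 4, x 6, x 7]
  | 11 => ![x 0, x 1 - t * x 3, x 2, x 3, x 4, x 5, x 6 + t * x 4, x 7]
  | _ => x

theorem cases13 {P : ℕ → Prop} (h0 : P 0) (h1 : P 1) (h2 : P 2) (h3 : P 3) (h4 : P 4) (h5 : P 5) (h6 : P 6) (h7 : P 7)
    (h8 : P 8) (h9 : P 9) (h10 : P 10) (h11 : P 11) (h : ∀ n, P (n + 12)) (r : ℕ) : P r := by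
  rcases Nat.lt_or_ge r 12 with k | k
  · interval_cases r <;> assumption
  · obtain ⟨n, rfl⟩ := Nat.exists_eq_add_of_le' k; exact h n

theorem Y0 (t : F) (x : V F) : yv 0 t x 0 = x 0 ∧
    yv 0 t x 1 = x 1 ∧
    yv 0 t x 2 = x 2 ∧
    yv 0 t x 3 = x 3 - t * x 1 ∧
    yv 0 t x 4 = x 4 + t * x 6 ∧
    yv 0 t x 5 = x 5 ∧
    yv 0 t x 6 = x 6 ∧
    yv 0 t x 7 = x 7 :=
  ⟨rfl, rfl, rfl, rfl, rfl, rfl, rfl, rfl⟩
theorem Y1 (t : F) (x : V F) : yv 1 t x 0 = x 0 ∧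
    yv 1 t x 1 = x 1 ∧
    yv 1 t x 2 = x 2 - t * x 1 ∧
    yv 1 t x 3 = x 3 ∧
    yv 1 t x 4 = x 4 + t * x 5 ∧
    yv 1 t x 5 = x 5 ∧
    yv 1 t x 6 = x 6 ∧
    yv 1 t x 7 = x 7 :=
  ⟨rfl, rfl, rfl, rfl, rfl, rfl, rfl, rfl⟩
theorem Y2 (t : F) (x : V F) : yv 2 t x 0 = x 0 - t * x 1 ∧
    yv 2 t x 1 = x 1 ∧
    yv 2 t x 2 = x 2 - t * x 6 ∧
    yv 2 t x 3 = x 3 + t * x 5 ∧
    yv 2 t x 4 = x 4 + t * x 0 - t * x 7 - t * t * x 1 ∧
    yv 2 t x 5 = x 5 ∧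
    yv 2 t x 6 = x 6 ∧
    yv 2 t x 7 = x 7 + t * x 1 :=
  ⟨rfl, rfl, rfl, rfl, rfl, rfl, rfl, rfl⟩
theorem Y3 (t : F) (x : V F) : yv 3 t x 0 = x 0 + t * x 6 ∧
    yv 3 t x 1 = x 1 ∧
    yv 3 t x 2 = x 2 ∧
    yv 3 t x 3 = x 3 - t * x 0 + t * x 7 - t * t * x 6 ∧
    yv 3 t x 4 = x 4 + t * x 2 ∧
    yv 3 t x 5 = x 5 - t * x 1 ∧
    yv 3 t x 6 = x 6 ∧
    yv 3 t x 7 = x 7 - t * x 6 :=
  ⟨rfl, rfl, rfl, rfl, rfl, rfl, rfl, rfl⟩
theorem Y4 (t : F) (x : V F) : yv 4 t x 0 = x 0 + t * x 5 ∧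
    yv 4 t x 1 = x 1 ∧
    yv 4 t x 2 = x 2 - t * x 0 + t * x 7 - t * t * x 5 ∧
    yv 4 t x 3 = x 3 ∧
    yv 4 t x 4 = x 4 - t * x 3 ∧
    yv 4 t x 5 = x 5 ∧
    yv 4 t x 6 = x 6 + t * x 1 ∧
    yv 4 t x 7 = x 7 - t * x 5 :=
  ⟨rfl, rfl, rfl, rfl, rfl, rfl, rfl, rfl⟩
theorem Y5 (t : F) (x : V F) : yv 5 t x 0 = x 0 ∧
    yv 5 t x 1 = x 1 ∧
    yv 5 t x 2 = x 2 ∧
    yv 5 t x 3 = x 3 - t * x 2 ∧
    yv 5 t x 4 = x 4 ∧
    yv 5 t x 5 = x 5 + t * x 6 ∧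
    yv 5 t x 6 = x 6 ∧
    yv 5 t x 7 = x 7 :=
  ⟨rfl, rfl, rfl, rfl, rfl, rfl, rfl, rfl⟩
theorem Y6 (t : F) (x : V F) : yv 6 t x 0 = x 0 ∧
    yv 6 t x 1 = x 1 ∧
    yv 6 t x 2 = x 2 - t * x 3 ∧
    yv 6 t x 3 = x 3 ∧
    yv 6 t x 4 = x 4 ∧
    yv 6 t x 5 = x 5 ∧
    yv 6 t x 6 = x 6 + t * x 5 ∧
    yv 6 t x 7 = x 7 :=
  ⟨rfl, rfl, rfl, rfl, rfl, rfl, rfl, rfl⟩
theorem Y7 (t : F) (x : V F) : yv 7 t x 0 = x 0 - t * x 2 ∧
    yv 7 t x 1 = x 1 + t * x 6 ∧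
    yv 7 t x 2 = x 2 ∧
    yv 7 t x 3 = x 3 - t * x 4 ∧
    yv 7 t x 4 = x 4 ∧
    yv 7 t x 5 = x 5 + t * x 0 - t * x 7 - t * t * x 2 ∧
    yv 7 t x 6 = x 6 ∧
    yv 7 t x 7 = x 7 + t * x 2 :=
  ⟨rfl, rfl, rfl, rfl, rfl, rfl, rfl, rfl⟩
theorem Y8 (t : F) (x : V F) : yv 8 t x 0 = x 0 - t * x 3 ∧
    yv 8 t x 1 = x 1 - t * x 5 ∧
    yv 8 t x 2 = x 2 + t * x 4 ∧
    yv 8 t x 3 = x 3 ∧
    yv 8 t x 4 = x 4 ∧
    yv 8 t x 5 = x 5 ∧
    yv 8 t x 6 = x 6 + t * x 0 - t * x 7 - t * t * x 3 ∧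
    yv 8 t x 7 = x 7 + t * x 3 :=
  ⟨rfl, rfl, rfl, rfl, rfl, rfl, rfl, rfl⟩
theorem Y9 (t : F) (x : V F) : yv 9 t x 0 = x 0 + t * x 4 ∧
    yv 9 t x 1 = x 1 - t * x 0 + t * x 7 - t * t * x 4 ∧
    yv 9 t x 2 = x 2 ∧
    yv 9 t x 3 = x 3 ∧
    yv 9 t x 4 = x 4 ∧
    yv 9 t x 5 = x 5 + t * x 3 ∧
    yv 9 t x 6 = x 6 - t * x 2 ∧
    yv 9 t x 7 = x 7 - t * x 4 :=
  ⟨rfl, rfl, rfl, rfl, rfl, rfl, rfl, rfl⟩
theorem Y10 (t : F) (x : V F) : yv 10 t x 0 = x 0 ∧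
    yv 10 t x 1 = x 1 - t * x 2 ∧
    yv 10 t x 2 = x 2 ∧
    yv 10 t x 3 = x 3 ∧
    yv 10 t x 4 = x 4 ∧
    yv 10 t x 5 = x 5 + t * x 4 ∧
    yv 10 t x 6 = x 6 ∧
    yv 10 t x 7 = x 7 :=
  ⟨rfl, rfl, rfl, rfl, rfl, rfl, rfl, rfl⟩
theorem Y11 (t : F) (x : V F) : yv 11 t x 0 = x 0 ∧
    yv 11 t x 1 = x 1 - t * x 3 ∧
    yv 11 t x 2 = x 2 ∧
    yv 11 t x 3 = x 3 ∧
    yv 11 t x 4 = x 4 ∧
    yv 11 t x 5 = x 5 ∧
    yv 11 t x 6 = x 6 + t * x 4 ∧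
    yv 11 t x 7 = x 7 :=
  ⟨rfl, rfl, rfl, rfl, rfl, rfl, rfl, rfl⟩

theorem Yn (n : ℕ) (t : F) (x : V F) : yv (n + 12) t x = x := (rfl)

theorem yv_add (r : ℕ) (t : F) (x z : V F) : yv r t (x + z) = yv r t x + yv r t z := by
  induction r using cases13
  case h => simp only [Yn]
  all_goals apply ext8 <;> simp only [Y0, Y1, Y2, Y3, Y4, Y5, Y6, Y7, Y8, Y9, Y10, Y11, Pi.add_apply] <;> ring
theorem yv_smul (r : ℕ) (t c : F) (x : V F) : yv r t (c • x) = c • yv r t x := by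
  induction r using cases13
  case h => simp only [Yn]
  all_goals apply ext8 <;> simp only [Y0, Y1, Y2, Y3, Y4, Y5, Y6, Y7, Y8, Y9, Y10, Y11, Pi.smul_apply, smul_eq_mul] <;> ring
theorem yv_mul (r : ℕ) (t : F) (x z : V F) : yv r t (x ⋆ z) = yv r t x ⋆ yv r t z := by
  induction r using cases13
  case h => simp only [Yn]
  all_goals apply ext8 <;> simp only [Y0, Y1, Y2, Y3, Y4, Y5, Y6, Y7, Y8, Y9, Y10, Y11, m0, m1, m2, m3, m4, m5, m6, m7] <;> ring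
theorem yv_yv (r : ℕ) (t u : F) (x : V F) : yv r t (yv r u x) = yv r (t + u) x := by
  induction r using cases13
  case h => simp only [Yn]
  all_goals apply ext8 <;> simp only [Y0, Y1, Y2, Y3, Y4, Y5, Y6, Y7, Y8, Y9, Y10, Y11] <;> ring
theorem yv_zero (r : ℕ) (x : V F) : yv r 0 x = x := by
  induction r using cases13
  case h => simp only [Yn]
  all_goals apply ext8 <;> simp only [Y0, Y1, Y2, Y3, Y4, Y5, Y6, Y7, Y8, Y9, Y10, Y11] <;> ring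

def ym (r : ℕ) (t : F) : MA F := ⟨⟨⟨yv r t, yv_add r t⟩, yv_smul r t⟩, yv_mul r t⟩

def y (r : ℕ) (t : F) : A F := ⟨ym r t, ym r (-t),
  Subtype.ext (LinearMap.ext fun x => (yv_yv r _ _ x).trans (by rw [add_neg_cancel, yv_zero]; rfl)),
  Subtype.ext (LinearMap.ext fun x => (yv_yv r _ _ x).trans (by rw [neg_add_cancel, yv_zero]; rfl))⟩

theorem y_smul (r : ℕ) (t : F) (x : V F) : y r t • x = yv r t x := (rfl)

def tb : List (List (List (ℕ × ℤ × ℕ × ℕ))) := [[[], [], [], [], [], [], [(1, 1, 1, 1)], [], [(2, 1, 1, 1), (4, 1, 1, 2), (6, -1, 1, 3), (1, -2, 2, 3)], [(3, -1, 1, 1), (7, -1, 1, 2), (10, -1, 1, 3), (5, 2, 2, 3)], [(5, -1, 1, 1)], []], [[], [], [], [], [], [(0, 1, 1, 1)], [], [(2, 1, 1, 1), (3, -1, 1, 2), (5, 1, 1, 3), (0, 2, 2, 3)], [], [(4, -1, 1, 1), (8, 1, 1, 2), (11, 1, 1, 3), (6, -2, 2, 3)], [], [(6, -1, 1, 1)]], [[], [], [], [(0, 3, 1, 1)], [(1, 3, 1,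 1)], [], [], [(3, -2, 1, 1), (0, -3, 2, 1), (5, 3, 1, 2)], [(4, 2, 1, 1), (1, 3, 2, 1), (6, -3, 1, 2)], [], [(7, -1, 1, 1), (3, 1, 2, 1), (0, 1, 3, 1), (5, 1, 3, 2)], [(8, -1, 1, 1), (4, -1, 2, 1), (1, -1, 3, 1), (6, -1, 3, 2)]], [[], [], [(0, -3, 1, 1)], [], [(2, -2, 1, 1), (0, 3, 2, 1), (1, -3, 1, 2)], [], [(4, 1, 1, 1), (2, -1, 2, 1), (0, 1, 3, 1), (1, -1, 3, 2)], [(5, -3, 1, 1)], [], [(7, 2, 1, 1), (5, -3, 2, 1), (10, 3, 1, 2)], [], [(9, 1, 1, 1), (7, 1, 2, 1), (5, -1, 3, 1), (10, 1, 3, 2)]], [[], [], [(1, -3, 1, 1)], [(2, 2, 1, 1), (1, -3, 2, 1), (0, 3, 1, 2)], [], [(3, 1, 1, 1), (2, 1, 2, 1), (1, -1, 3, 1), (0, 1, 3, 2)], [], [], [(6, -3, 1, 1)], [(8, -2, 1, 1), (6, 3, 2, 1), (11, -3, 1, 2)], [(9, 1, 1, 1), (8, -1, 2, 1), (6, 1, 3, 1), (11, -1, 3, 2)], []], [[], [(0, -1, 1, 1)], [], [], [(3, -1, 1, 1), (2, 1, 1, 2), (1, 1, 1, 3), (0, -2, 2, 3)], [], [], [],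 [(7, 1, 1, 1), (9, -1, 1, 2), (11, 1, 1, 3), (10, 2, 2, 3)], [], [], [(10, 1, 1, 1)]], [[(1, -1, 1, 1)], [], [], [(4, -1, 1, 1), (2, -1, 1, 2), (0, -1, 1, 3), (1, 2, 2, 3)], [], [], [], [(8, 1, 1, 1), (9, 1, 1, 2), (10, -1, 1, 3), (11, -2, 2, 3)], [], [], [(11, 1, 1, 1)], []], [[], [(2, -1, 1, 1), (3, -1, 2, 1), (5, -1, 3, 1), (0, -1, 3, 2)], [(3, 2, 1, 1), (5, 3, 2, 1), (0, -3, 1, 2)], [(5, 3, 1, 1)], [], [], [(8, -1, 1, 1), (9, 1, 2, 1), (10, 1, 3, 1), (11, 1, 3, 2)], [], [(9, -2, 1, 1), (10, -3, 2, 1), (11, 3, 1, 2)], [(10, 3, 1, 1)], [], []], [[(2, -1, 1, 1), (4, 1, 2, 1), (6, 1, 3, 1), (1, 1, 3, 2)], [], [(4, -2, 1, 1), (6, -3, 2, 1), (1, 3, 1, 2)], [], [(6, 3, 1, 1)], [(7, -1, 1, 1), (9, -1, 2, 1), (11, -1, 3, 1), (10, -1, 3, 2)], [], [(9, 2, 1, 1), (11, 3, 2, 1), (10, -3, 1, 2)], [], [(11, 3, 1, 1)], [], []], [[(3, 1, 1, 1), (7, -1, 2, 1), (10, 1, 3, 1), (5,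 -1, 3, 2)], [(4, 1, 1, 1), (8, 1, 2, 1), (11, -1, 3, 1), (6, 1, 3, 2)], [], [(7, -2, 1, 1), (10, 3, 2, 1), (5, -3, 1, 2)], [(8, 2, 1, 1), (11, -3, 2, 1), (6, 3, 1, 2)], [], [], [(10, -3, 1, 1)], [(11, -3, 1, 1)], [], [], []], [[(5, 1, 1, 1)], [], [(7, 1, 1, 1), (3, 1, 1, 2), (0, -1, 1, 3), (5, -2, 2, 3)], [], [(9, -1, 1, 1), (8, -1, 1, 2), (6, -1, 1, 3), (11, 2, 2, 3)], [], [(11, -1, 1, 1)], [], [], [], [], []], [[], [(6, 1, 1, 1)], [(8, 1, 1, 1), (4, -1, 1, 2), (1, 1, 1, 3), (6, 2, 2, 3)], [(9, -1, 1, 1), (7, 1, 1, 2), (5, 1, 1, 3), (10, -2, 2, 3)], [], [(10, -1, 1, 1)], [], [], [], [], [], []]]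

theorem tb_eq : ∀ r < 12, ∀ s < 12, (chevG2.commTerms r s == (tb.getD r []).getD s []) = true := by decide +kernel

theorem cm0 (s : ℕ) (hs : s < 12) (t u : F) (h1 : s ≠ 0) (h2 : s ≠ 11) :
    y s u * y 0 t = y 0 t * y s u * (evT y (-t) u ((tb.getD 0 []).getD s [])).prod := by
  refine A_ext fun x => ?_
  interval_cases s
  · exact absurd rfl h1
  · change _ = (_ * (1 : A F)) • x
    simp only [mul_smul, one_smul, y_smul]; apply ext8 <;> simp only [Y0, Y1] <;> push_cast <;> ring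
  · change _ = (_ * (1 : A F)) • x
    simp only [mul_smul, one_smul, y_smul]; apply ext8 <;> simp only [Y0, Y2] <;> push_cast <;> ring
  · change _ = (_ * (1 : A F)) • x
    simp only [mul_smul, one_smul, y_smul]; apply ext8 <;> simp only [Y0, Y3] <;> push_cast <;> ring
  · change _ = (_ * (1 : A F)) • x
    simp only [mul_smul, one_smul, y_smul]; apply ext8 <;> simp only [Y0, Y4] <;> push_cast <;> ring
  · change _ = (_ * (1 : A F)) • x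
    simp only [mul_smul, one_smul, y_smul]; apply ext8 <;> simp only [Y0, Y5] <;> push_cast <;> ring
  · change _ = (_ * (y 1 (((1 : ℤ) : F) * (-t) ^ 1 * u ^ 1) * (1 : A F))) • x
    simp only [mul_smul, one_smul, y_smul]; apply ext8 <;> simp only [Y0, Y1, Y6] <;> push_cast <;> ring
  · change _ = (_ * (1 : A F)) • x
    simp only [mul_smul, one_smul, y_smul]; apply ext8 <;> simp only [Y0, Y7] <;> push_cast <;> ring
  · change _ = (_ * (y 2 (((1 : ℤ) : F) * (-t) ^ 1 * u ^ 1) * (y 4 (((1 : ℤ) : F) * (-t) ^ 1 * u ^ 2) * (y 6 (((-1 : ℤ) : F) * (-t) ^ 1 * u ^ 3) * (y 1 (((-2 : ℤ) : F) * (-t) ^ 2 * u ^ 3) * (1 : A F)))))) • x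
    simp only [mul_smul, one_smul, y_smul]; apply ext8 <;> simp only [Y0, Y1, Y2, Y4, Y6, Y8] <;> push_cast <;> ring
  · change _ = (_ * (y 3 (((-1 : ℤ) : F) * (-t) ^ 1 * u ^ 1) * (y 7 (((-1 : ℤ) : F) * (-t) ^ 1 * u ^ 2) * (y 10 (((-1 : ℤ) : F) * (-t) ^ 1 * u ^ 3) * (y 5 (((2 : ℤ) : F) * (-t) ^ 2 * u ^ 3) * (1 : A F)))))) • x
    simp only [mul_smul, one_smul, y_smul]; apply ext8 <;> simp only [Y0, Y3, Y5, Y7, Y9, Y10] <;> push_cast <;> ring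
  · change _ = (_ * (y 5 (((-1 : ℤ) : F) * (-t) ^ 1 * u ^ 1) * (1 : A F))) • x
    simp only [mul_smul, one_smul, y_smul]; apply ext8 <;> simp only [Y0, Y5, Y10] <;> push_cast <;> ring
  · exact absurd rfl h2

theorem cm1 (s : ℕ) (hs : s < 12) (t u : F) (h1 : s ≠ 1) (h2 : s ≠ 10) :
    y s u * y 1 t = y 1 t * y s u * (evT y (-t) u ((tb.getD 1 []).getD s [])).prod := by
  refine A_ext fun x => ?_
  interval_cases s
  · change _ = (_ * (1 : A F)) • x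
    simp only [mul_smul, one_smul, y_smul]; apply ext8 <;> simp only [Y0, Y1] <;> push_cast <;> ring
  · exact absurd rfl h1
  · change _ = (_ * (1 : A F)) • x
    simp only [mul_smul, one_smul, y_smul]; apply ext8 <;> simp only [Y1, Y2] <;> push_cast <;> ring
  · change _ = (_ * (1 : A F)) • x
    simp only [mul_smul, one_smul, y_smul]; apply ext8 <;> simp only [Y1, Y3] <;> push_cast <;> ring
  · change _ = (_ * (1 : A F)) • x
    simp only [mul_smul, one_smul, y_smul]; apply ext8 <;> simp only [Y1, Y4] <;> push_cast <;> ring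
  · change _ = (_ * (y 0 (((1 : ℤ) : F) * (-t) ^ 1 * u ^ 1) * (1 : A F))) • x
    simp only [mul_smul, one_smul, y_smul]; apply ext8 <;> simp only [Y0, Y1, Y5] <;> push_cast <;> ring
  · change _ = (_ * (1 : A F)) • x
    simp only [mul_smul, one_smul, y_smul]; apply ext8 <;> simp only [Y1, Y6] <;> push_cast <;> ring
  · change _ = (_ * (y 2 (((1 : ℤ) : F) * (-t) ^ 1 * u ^ 1) * (y 3 (((-1 : ℤ) : F) * (-t) ^ 1 * u ^ 2) * (y 5 (((1 : ℤ) : F) * (-t) ^ 1 * u ^ 3) * (y 0 (((2 : ℤ) : F) * (-t) ^ 2 * u ^ 3) * (1 : A F)))))) • x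
    simp only [mul_smul, one_smul, y_smul]; apply ext8 <;> simp only [Y0, Y1, Y2, Y3, Y5, Y7] <;> push_cast <;> ring
  · change _ = (_ * (1 : A F)) • x
    simp only [mul_smul, one_smul, y_smul]; apply ext8 <;> simp only [Y1, Y8] <;> push_cast <;> ring
  · change _ = (_ * (y 4 (((-1 : ℤ) : F) * (-t) ^ 1 * u ^ 1) * (y 8 (((1 : ℤ) : F) * (-t) ^ 1 * u ^ 2) * (y 11 (((1 : ℤ) : F) * (-t) ^ 1 * u ^ 3) * (y 6 (((-2 : ℤ) : F) * (-t) ^ 2 * u ^ 3) * (1 : A F)))))) • x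
    simp only [mul_smul, one_smul, y_smul]; apply ext8 <;> simp only [Y1, Y4, Y6, Y8, Y9, Y11] <;> push_cast <;> ring
  · exact absurd rfl h2
  · change _ = (_ * (y 6 (((-1 : ℤ) : F) * (-t) ^ 1 * u ^ 1) * (1 : A F))) • x
    simp only [mul_smul, one_smul, y_smul]; apply ext8 <;> simp only [Y1, Y6, Y11] <;> push_cast <;> ring

theorem cm2 (s : ℕ) (hs : s < 12) (t u : F) (h1 : s ≠ 2) (h2 : s ≠ 9) :
    y s u * y 2 t = y 2 t * y s u * (evT y (-t) u ((tb.getD 2 []).getD s [])).prod := by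
  refine A_ext fun x => ?_
  interval_cases s
  · change _ = (_ * (1 : A F)) • x
    simp only [mul_smul, one_smul, y_smul]; apply ext8 <;> simp only [Y0, Y2] <;> push_cast <;> ring
  · change _ = (_ * (1 : A F)) • x
    simp only [mul_smul, one_smul, y_smul]; apply ext8 <;> simp only [Y1, Y2] <;> push_cast <;> ring
  · exact absurd rfl h1
  · change _ = (_ * (y 0 (((3 : ℤ) : F) * (-t) ^ 1 * u ^ 1) * (1 : A F))) • x
    simp only [mul_smul, one_smul, y_smul]; apply ext8 <;> simp only [Y0, Y2, Y3] <;> push_cast <;> ring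
  · change _ = (_ * (y 1 (((3 : ℤ) : F) * (-t) ^ 1 * u ^ 1) * (1 : A F))) • x
    simp only [mul_smul, one_smul, y_smul]; apply ext8 <;> simp only [Y1, Y2, Y4] <;> push_cast <;> ring
  · change _ = (_ * (1 : A F)) • x
    simp only [mul_smul, one_smul, y_smul]; apply ext8 <;> simp only [Y2, Y5] <;> push_cast <;> ring
  · change _ = (_ * (1 : A F)) • x
    simp only [mul_smul, one_smul, y_smul]; apply ext8 <;> simp only [Y2, Y6] <;> push_cast <;> ring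
  · change _ = (_ * (y 3 (((-2 : ℤ) : F) * (-t) ^ 1 * u ^ 1) * (y 0 (((-3 : ℤ) : F) * (-t) ^ 2 * u ^ 1) * (y 5 (((3 : ℤ) : F) * (-t) ^ 1 * u ^ 2) * (1 : A F))))) • x
    simp only [mul_smul, one_smul, y_smul]; apply ext8 <;> simp only [Y0, Y2, Y3, Y5, Y7] <;> push_cast <;> ring
  · change _ = (_ * (y 4 (((2 : ℤ) : F) * (-t) ^ 1 * u ^ 1) * (y 1 (((3 : ℤ) : F) * (-t) ^ 2 * u ^ 1) * (y 6 (((-3 : ℤ) : F) * (-t) ^ 1 * u ^ 2) * (1 : A F))))) • x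
    simp only [mul_smul, one_smul, y_smul]; apply ext8 <;> simp only [Y1, Y2, Y4, Y6, Y8] <;> push_cast <;> ring
  · exact absurd rfl h2
  · change _ = (_ * (y 7 (((-1 : ℤ) : F) * (-t) ^ 1 * u ^ 1) * (y 3 (((1 : ℤ) : F) * (-t) ^ 2 * u ^ 1) * (y 0 (((1 : ℤ) : F) * (-t) ^ 3 * u ^ 1) * (y 5 (((1 : ℤ) : F) * (-t) ^ 3 * u ^ 2) * (1 : A F)))))) • x
    simp only [mul_smul, one_smul, y_smul]; apply ext8 <;> simp only [Y0, Y2, Y3, Y5, Y7, Y10] <;> push_cast <;> ring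
  · change _ = (_ * (y 8 (((-1 : ℤ) : F) * (-t) ^ 1 * u ^ 1) * (y 4 (((-1 : ℤ) : F) * (-t) ^ 2 * u ^ 1) * (y 1 (((-1 : ℤ) : F) * (-t) ^ 3 * u ^ 1) * (y 6 (((-1 : ℤ) : F) * (-t) ^ 3 * u ^ 2) * (1 : A F)))))) • x
    simp only [mul_smul, one_smul, y_smul]; apply ext8 <;> simp only [Y1, Y2, Y4, Y6, Y8, Y11] <;> push_cast <;> ring

theorem cm3 (s : ℕ) (hs : s < 12) (t u : F) (h1 : s ≠ 3) (h2 : s ≠ 8) :
    y s u * y 3 t = y 3 t * y s u * (evT y (-t) u ((tb.getD 3 []).getD s [])).prod := by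
  refine A_ext fun x => ?_
  interval_cases s
  · change _ = (_ * (1 : A F)) • x
    simp only [mul_smul, one_smul, y_smul]; apply ext8 <;> simp only [Y0, Y3] <;> push_cast <;> ring
  · change _ = (_ * (1 : A F)) • x
    simp only [mul_smul, one_smul, y_smul]; apply ext8 <;> simp only [Y1, Y3] <;> push_cast <;> ring
  · change _ = (_ * (y 0 (((-3 : ℤ) : F) * (-t) ^ 1 * u ^ 1) * (1 : A F))) • x
    simp only [mul_smul, one_smul, y_smul]; apply ext8 <;> simp only [Y0, Y2, Y3] <;> push_cast <;> ring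
  · exact absurd rfl h1
  · change _ = (_ * (y 2 (((-2 : ℤ) : F) * (-t) ^ 1 * u ^ 1) * (y 0 (((3 : ℤ) : F) * (-t) ^ 2 * u ^ 1) * (y 1 (((-3 : ℤ) : F) * (-t) ^ 1 * u ^ 2) * (1 : A F))))) • x
    simp only [mul_smul, one_smul, y_smul]; apply ext8 <;> simp only [Y0, Y1, Y2, Y3, Y4] <;> push_cast <;> ring
  · change _ = (_ * (1 : A F)) • x
    simp only [mul_smul, one_smul, y_smul]; apply ext8 <;> simp only [Y3, Y5] <;> push_cast <;> ring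
  · change _ = (_ * (y 4 (((1 : ℤ) : F) * (-t) ^ 1 * u ^ 1) * (y 2 (((-1 : ℤ) : F) * (-t) ^ 2 * u ^ 1) * (y 0 (((1 : ℤ) : F) * (-t) ^ 3 * u ^ 1) * (y 1 (((-1 : ℤ) : F) * (-t) ^ 3 * u ^ 2) * (1 : A F)))))) • x
    simp only [mul_smul, one_smul, y_smul]; apply ext8 <;> simp only [Y0, Y1, Y2, Y3, Y4, Y6] <;> push_cast <;> ring
  · change _ = (_ * (y 5 (((-3 : ℤ) : F) * (-t) ^ 1 * u ^ 1) * (1 : A F))) • x
    simp only [mul_smul, one_smul, y_smul]; apply ext8 <;> simp only [Y3, Y5, Y7] <;> push_cast <;> ring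
  · exact absurd rfl h2
  · change _ = (_ * (y 7 (((2 : ℤ) : F) * (-t) ^ 1 * u ^ 1) * (y 5 (((-3 : ℤ) : F) * (-t) ^ 2 * u ^ 1) * (y 10 (((3 : ℤ) : F) * (-t) ^ 1 * u ^ 2) * (1 : A F))))) • x
    simp only [mul_smul, one_smul, y_smul]; apply ext8 <;> simp only [Y3, Y5, Y7, Y9, Y10] <;> push_cast <;> ring
  · change _ = (_ * (1 : A F)) • x
    simp only [mul_smul, one_smul, y_smul]; apply ext8 <;> simp only [Y3, Y10] <;> push_cast <;> ring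
  · change _ = (_ * (y 9 (((1 : ℤ) : F) * (-t) ^ 1 * u ^ 1) * (y 7 (((1 : ℤ) : F) * (-t) ^ 2 * u ^ 1) * (y 5 (((-1 : ℤ) : F) * (-t) ^ 3 * u ^ 1) * (y 10 (((1 : ℤ) : F) * (-t) ^ 3 * u ^ 2) * (1 : A F)))))) • x
    simp only [mul_smul, one_smul, y_smul]; apply ext8 <;> simp only [Y3, Y5, Y7, Y9, Y10, Y11] <;> push_cast <;> ring

theorem cm4 (s : ℕ) (hs : s < 12) (t u : F) (h1 : s ≠ 4) (h2 : s ≠ 7) :
    y s u * y 4 t = y 4 t * y s u * (evT y (-t) u ((tb.getD 4 []).getD s [])).prod := by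
  refine A_ext fun x => ?_
  interval_cases s
  · change _ = (_ * (1 : A F)) • x
    simp only [mul_smul, one_smul, y_smul]; apply ext8 <;> simp only [Y0, Y4] <;> push_cast <;> ring
  · change _ = (_ * (1 : A F)) • x
    simp only [mul_smul, one_smul, y_smul]; apply ext8 <;> simp only [Y1, Y4] <;> push_cast <;> ring
  · change _ = (_ * (y 1 (((-3 : ℤ) : F) * (-t) ^ 1 * u ^ 1) * (1 : A F))) • x
    simp only [mul_smul, one_smul, y_smul]; apply ext8 <;> simp only [Y1, Y2, Y4] <;> push_cast <;> ring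
  · change _ = (_ * (y 2 (((2 : ℤ) : F) * (-t) ^ 1 * u ^ 1) * (y 1 (((-3 : ℤ) : F) * (-t) ^ 2 * u ^ 1) * (y 0 (((3 : ℤ) : F) * (-t) ^ 1 * u ^ 2) * (1 : A F))))) • x
    simp only [mul_smul, one_smul, y_smul]; apply ext8 <;> simp only [Y0, Y1, Y2, Y3, Y4] <;> push_cast <;> ring
  · exact absurd rfl h1
  · change _ = (_ * (y 3 (((1 : ℤ) : F) * (-t) ^ 1 * u ^ 1) * (y 2 (((1 : ℤ) : F) * (-t) ^ 2 * u ^ 1) * (y 1 (((-1 : ℤ) : F) * (-t) ^ 3 * u ^ 1) * (y 0 (((1 : ℤ) : F) * (-t) ^ 3 * u ^ 2) * (1 : A F)))))) • x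
    simp only [mul_smul, one_smul, y_smul]; apply ext8 <;> simp only [Y0, Y1, Y2, Y3, Y4, Y5] <;> push_cast <;> ring
  · change _ = (_ * (1 : A F)) • x
    simp only [mul_smul, one_smul, y_smul]; apply ext8 <;> simp only [Y4, Y6] <;> push_cast <;> ring
  · exact absurd rfl h2
  · change _ = (_ * (y 6 (((-3 : ℤ) : F) * (-t) ^ 1 * u ^ 1) * (1 : A F))) • x
    simp only [mul_smul, one_smul, y_smul]; apply ext8 <;> simp only [Y4, Y6, Y8] <;> push_cast <;> ring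
  · change _ = (_ * (y 8 (((-2 : ℤ) : F) * (-t) ^ 1 * u ^ 1) * (y 6 (((3 : ℤ) : F) * (-t) ^ 2 * u ^ 1) * (y 11 (((-3 : ℤ) : F) * (-t) ^ 1 * u ^ 2) * (1 : A F))))) • x
    simp only [mul_smul, one_smul, y_smul]; apply ext8 <;> simp only [Y4, Y6, Y8, Y9, Y11] <;> push_cast <;> ring
  · change _ = (_ * (y 9 (((1 : ℤ) : F) * (-t) ^ 1 * u ^ 1) * (y 8 (((-1 : ℤ) : F) * (-t) ^ 2 * u ^ 1) * (y 6 (((1 : ℤ) : F) * (-t) ^ 3 * u ^ 1) * (y 11 (((-1 : ℤ) : F) * (-t) ^ 3 * u ^ 2) * (1 : A F)))))) • x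
    simp only [mul_smul, one_smul, y_smul]; apply ext8 <;> simp only [Y4, Y6, Y8, Y9, Y10, Y11] <;> push_cast <;> ring
  · change _ = (_ * (1 : A F)) • x
    simp only [mul_smul, one_smul, y_smul]; apply ext8 <;> simp only [Y4, Y11] <;> push_cast <;> ring

theorem cm5 (s : ℕ) (hs : s < 12) (t u : F) (h1 : s ≠ 5) (h2 : s ≠ 6) :
    y s u * y 5 t = y 5 t * y s u * (evT y (-t) u ((tb.getD 5 []).getD s [])).prod := by
  refine A_ext fun x => ?_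
  interval_cases s
  · change _ = (_ * (1 : A F)) • x
    simp only [mul_smul, one_smul, y_smul]; apply ext8 <;> simp only [Y0, Y5] <;> push_cast <;> ring
  · change _ = (_ * (y 0 (((-1 : ℤ) : F) * (-t) ^ 1 * u ^ 1) * (1 : A F))) • x
    simp only [mul_smul, one_smul, y_smul]; apply ext8 <;> simp only [Y0, Y1, Y5] <;> push_cast <;> ring
  · change _ = (_ * (1 : A F)) • x
    simp only [mul_smul, one_smul, y_smul]; apply ext8 <;> simp only [Y2, Y5] <;> push_cast <;> ring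
  · change _ = (_ * (1 : A F)) • x
    simp only [mul_smul, one_smul, y_smul]; apply ext8 <;> simp only [Y3, Y5] <;> push_cast <;> ring
  · change _ = (_ * (y 3 (((-1 : ℤ) : F) * (-t) ^ 1 * u ^ 1) * (y 2 (((1 : ℤ) : F) * (-t) ^ 1 * u ^ 2) * (y 1 (((1 : ℤ) : F) * (-t) ^ 1 * u ^ 3) * (y 0 (((-2 : ℤ) : F) * (-t) ^ 2 * u ^ 3) * (1 : A F)))))) • x
    simp only [mul_smul, one_smul, y_smul]; apply ext8 <;> simp only [Y0, Y1, Y2, Y3, Y4, Y5] <;> push_cast <;> ring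
  · exact absurd rfl h1
  · exact absurd rfl h2
  · change _ = (_ * (1 : A F)) • x
    simp only [mul_smul, one_smul, y_smul]; apply ext8 <;> simp only [Y5, Y7] <;> push_cast <;> ring
  · change _ = (_ * (y 7 (((1 : ℤ) : F) * (-t) ^ 1 * u ^ 1) * (y 9 (((-1 : ℤ) : F) * (-t) ^ 1 * u ^ 2) * (y 11 (((1 : ℤ) : F) * (-t) ^ 1 * u ^ 3) * (y 10 (((2 : ℤ) : F) * (-t) ^ 2 * u ^ 3) * (1 : A F)))))) • x
    simp only [mul_smul, one_smul, y_smul]; apply ext8 <;> simp only [Y5, Y7, Y8, Y9, Y10, Y11] <;> push_cast <;> ring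
  · change _ = (_ * (1 : A F)) • x
    simp only [mul_smul, one_smul, y_smul]; apply ext8 <;> simp only [Y5, Y9] <;> push_cast <;> ring
  · change _ = (_ * (1 : A F)) • x
    simp only [mul_smul, one_smul, y_smul]; apply ext8 <;> simp only [Y5, Y10] <;> push_cast <;> ring
  · change _ = (_ * (y 10 (((1 : ℤ) : F) * (-t) ^ 1 * u ^ 1) * (1 : A F))) • x
    simp only [mul_smul, one_smul, y_smul]; apply ext8 <;> simp only [Y5, Y10, Y11] <;> push_cast <;> ring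

theorem cm6 (s : ℕ) (hs : s < 12) (t u : F) (h1 : s ≠ 6) (h2 : s ≠ 5) :
    y s u * y 6 t = y 6 t * y s u * (evT y (-t) u ((tb.getD 6 []).getD s [])).prod := by
  refine A_ext fun x => ?_
  interval_cases s
  · change _ = (_ * (y 1 (((-1 : ℤ) : F) * (-t) ^ 1 * u ^ 1) * (1 : A F))) • x
    simp only [mul_smul, one_smul, y_smul]; apply ext8 <;> simp only [Y0, Y1, Y6] <;> push_cast <;> ring
  · change _ = (_ * (1 : A F)) • x
    simp only [mul_smul, one_smul, y_smul]; apply ext8 <;> simp only [Y1, Y6] <;> push_cast <;> ring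
  · change _ = (_ * (1 : A F)) • x
    simp only [mul_smul, one_smul, y_smul]; apply ext8 <;> simp only [Y2, Y6] <;> push_cast <;> ring
  · change _ = (_ * (y 4 (((-1 : ℤ) : F) * (-t) ^ 1 * u ^ 1) * (y 2 (((-1 : ℤ) : F) * (-t) ^ 1 * u ^ 2) * (y 0 (((-1 : ℤ) : F) * (-t) ^ 1 * u ^ 3) * (y 1 (((2 : ℤ) : F) * (-t) ^ 2 * u ^ 3) * (1 : A F)))))) • x
    simp only [mul_smul, one_smul, y_smul]; apply ext8 <;> simp only [Y0, Y1, Y2, Y3, Y4, Y6] <;> push_cast <;> ring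
  · change _ = (_ * (1 : A F)) • x
    simp only [mul_smul, one_smul, y_smul]; apply ext8 <;> simp only [Y4, Y6] <;> push_cast <;> ring
  · exact absurd rfl h2
  · exact absurd rfl h1
  · change _ = (_ * (y 8 (((1 : ℤ) : F) * (-t) ^ 1 * u ^ 1) * (y 9 (((1 : ℤ) : F) * (-t) ^ 1 * u ^ 2) * (y 10 (((-1 : ℤ) : F) * (-t) ^ 1 * u ^ 3) * (y 11 (((-2 : ℤ) : F) * (-t) ^ 2 * u ^ 3) * (1 : A F)))))) • x
    simp only [mul_smul, one_smul, y_smul]; apply ext8 <;> simp only [Y6, Y7, Y8, Y9, Y10, Y11] <;> push_cast <;> ring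
  · change _ = (_ * (1 : A F)) • x
    simp only [mul_smul, one_smul, y_smul]; apply ext8 <;> simp only [Y6, Y8] <;> push_cast <;> ring
  · change _ = (_ * (1 : A F)) • x
    simp only [mul_smul, one_smul, y_smul]; apply ext8 <;> simp only [Y6, Y9] <;> push_cast <;> ring
  · change _ = (_ * (y 11 (((1 : ℤ) : F) * (-t) ^ 1 * u ^ 1) * (1 : A F))) • x
    simp only [mul_smul, one_smul, y_smul]; apply ext8 <;> simp only [Y6, Y10, Y11] <;> push_cast <;> ring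
  · change _ = (_ * (1 : A F)) • x
    simp only [mul_smul, one_smul, y_smul]; apply ext8 <;> simp only [Y6, Y11] <;> push_cast <;> ring

theorem cm7 (s : ℕ) (hs : s < 12) (t u : F) (h1 : s ≠ 7) (h2 : s ≠ 4) :
    y s u * y 7 t = y 7 t * y s u * (evT y (-t) u ((tb.getD 7 []).getD s [])).prod := by
  refine A_ext fun x => ?_
  interval_cases s
  · change _ = (_ * (1 : A F)) • x
    simp only [mul_smul, one_smul, y_smul]; apply ext8 <;> simp only [Y0, Y7] <;> push_cast <;> ring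
  · change _ = (_ * (y 2 (((-1 : ℤ) : F) * (-t) ^ 1 * u ^ 1) * (y 3 (((-1 : ℤ) : F) * (-t) ^ 2 * u ^ 1) * (y 5 (((-1 : ℤ) : F) * (-t) ^ 3 * u ^ 1) * (y 0 (((-1 : ℤ) : F) * (-t) ^ 3 * u ^ 2) * (1 : A F)))))) • x
    simp only [mul_smul, one_smul, y_smul]; apply ext8 <;> simp only [Y0, Y1, Y2, Y3, Y5, Y7] <;> push_cast <;> ring
  · change _ = (_ * (y 3 (((2 : ℤ) : F) * (-t) ^ 1 * u ^ 1) * (y 5 (((3 : ℤ) : F) * (-t) ^ 2 * u ^ 1) * (y 0 (((-3 : ℤ) : F) * (-t) ^ 1 * u ^ 2) * (1 : A F))))) • x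
    simp only [mul_smul, one_smul, y_smul]; apply ext8 <;> simp only [Y0, Y2, Y3, Y5, Y7] <;> push_cast <;> ring
  · change _ = (_ * (y 5 (((3 : ℤ) : F) * (-t) ^ 1 * u ^ 1) * (1 : A F))) • x
    simp only [mul_smul, one_smul, y_smul]; apply ext8 <;> simp only [Y3, Y5, Y7] <;> push_cast <;> ring
  · exact absurd rfl h2
  · change _ = (_ * (1 : A F)) • x
    simp only [mul_smul, one_smul, y_smul]; apply ext8 <;> simp only [Y5, Y7] <;> push_cast <;> ring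
  · change _ = (_ * (y 8 (((-1 : ℤ) : F) * (-t) ^ 1 * u ^ 1) * (y 9 (((1 : ℤ) : F) * (-t) ^ 2 * u ^ 1) * (y 10 (((1 : ℤ) : F) * (-t) ^ 3 * u ^ 1) * (y 11 (((1 : ℤ) : F) * (-t) ^ 3 * u ^ 2) * (1 : A F)))))) • x
    simp only [mul_smul, one_smul, y_smul]; apply ext8 <;> simp only [Y6, Y7, Y8, Y9, Y10, Y11] <;> push_cast <;> ring
  · exact absurd rfl h1
  · change _ = (_ * (y 9 (((-2 : ℤ) : F) * (-t) ^ 1 * u ^ 1) * (y 10 (((-3 : ℤ) : F) * (-t) ^ 2 * u ^ 1) * (y 11 (((3 : ℤ) : F) * (-t) ^ 1 * u ^ 2) * (1 : A F))))) • x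
    simp only [mul_smul, one_smul, y_smul]; apply ext8 <;> simp only [Y7, Y8, Y9, Y10, Y11] <;> push_cast <;> ring
  · change _ = (_ * (y 10 (((3 : ℤ) : F) * (-t) ^ 1 * u ^ 1) * (1 : A F))) • x
    simp only [mul_smul, one_smul, y_smul]; apply ext8 <;> simp only [Y7, Y9, Y10] <;> push_cast <;> ring
  · change _ = (_ * (1 : A F)) • x
    simp only [mul_smul, one_smul, y_smul]; apply ext8 <;> simp only [Y7, Y10] <;> push_cast <;> ring
  · change _ = (_ * (1 : A F)) • x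
    simp only [mul_smul, one_smul, y_smul]; apply ext8 <;> simp only [Y7, Y11] <;> push_cast <;> ring

theorem cm8 (s : ℕ) (hs : s < 12) (t u : F) (h1 : s ≠ 8) (h2 : s ≠ 3) :
    y s u * y 8 t = y 8 t * y s u * (evT y (-t) u ((tb.getD 8 []).getD s [])).prod := by
  refine A_ext fun x => ?_
  interval_cases s
  · change _ = (_ * (y 2 (((-1 : ℤ) : F) * (-t) ^ 1 * u ^ 1) * (y 4 (((1 : ℤ) : F) * (-t) ^ 2 * u ^ 1) * (y 6 (((1 : ℤ) : F) * (-t) ^ 3 * u ^ 1) * (y 1 (((1 : ℤ) : F) * (-t) ^ 3 * u ^ 2) * (1 : A F)))))) • x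
    simp only [mul_smul, one_smul, y_smul]; apply ext8 <;> simp only [Y0, Y1, Y2, Y4, Y6, Y8] <;> push_cast <;> ring
  · change _ = (_ * (1 : A F)) • x
    simp only [mul_smul, one_smul, y_smul]; apply ext8 <;> simp only [Y1, Y8] <;> push_cast <;> ring
  · change _ = (_ * (y 4 (((-2 : ℤ) : F) * (-t) ^ 1 * u ^ 1) * (y 6 (((-3 : ℤ) : F) * (-t) ^ 2 * u ^ 1) * (y 1 (((3 : ℤ) : F) * (-t) ^ 1 * u ^ 2) * (1 : A F))))) • x
    simp only [mul_smul, one_smul, y_smul]; apply ext8 <;> simp only [Y1, Y2, Y4, Y6, Y8] <;> push_cast <;> ring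
  · exact absurd rfl h2
  · change _ = (_ * (y 6 (((3 : ℤ) : F) * (-t) ^ 1 * u ^ 1) * (1 : A F))) • x
    simp only [mul_smul, one_smul, y_smul]; apply ext8 <;> simp only [Y4, Y6, Y8] <;> push_cast <;> ring
  · change _ = (_ * (y 7 (((-1 : ℤ) : F) * (-t) ^ 1 * u ^ 1) * (y 9 (((-1 : ℤ) : F) * (-t) ^ 2 * u ^ 1) * (y 11 (((-1 : ℤ) : F) * (-t) ^ 3 * u ^ 1) * (y 10 (((-1 : ℤ) : F) * (-t) ^ 3 * u ^ 2) * (1 : A F)))))) • x
    simp only [mul_smul, one_smul, y_smul]; apply ext8 <;> simp only [Y5, Y7, Y8, Y9, Y10, Y11] <;> push_cast <;> ring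
  · change _ = (_ * (1 : A F)) • x
    simp only [mul_smul, one_smul, y_smul]; apply ext8 <;> simp only [Y6, Y8] <;> push_cast <;> ring
  · change _ = (_ * (y 9 (((2 : ℤ) : F) * (-t) ^ 1 * u ^ 1) * (y 11 (((3 : ℤ) : F) * (-t) ^ 2 * u ^ 1) * (y 10 (((-3 : ℤ) : F) * (-t) ^ 1 * u ^ 2) * (1 : A F))))) • x
    simp only [mul_smul, one_smul, y_smul]; apply ext8 <;> simp only [Y7, Y8, Y9, Y10, Y11] <;> push_cast <;> ring
  · exact absurd rfl h1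
  · change _ = (_ * (y 11 (((3 : ℤ) : F) * (-t) ^ 1 * u ^ 1) * (1 : A F))) • x
    simp only [mul_smul, one_smul, y_smul]; apply ext8 <;> simp only [Y8, Y9, Y11] <;> push_cast <;> ring
  · change _ = (_ * (1 : A F)) • x
    simp only [mul_smul, one_smul, y_smul]; apply ext8 <;> simp only [Y8, Y10] <;> push_cast <;> ring
  · change _ = (_ * (1 : A F)) • x
    simp only [mul_smul, one_smul, y_smul]; apply ext8 <;> simp only [Y8, Y11] <;> push_cast <;> ring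

theorem cm9 (s : ℕ) (hs : s < 12) (t u : F) (h1 : s ≠ 9) (h2 : s ≠ 2) :
    y s u * y 9 t = y 9 t * y s u * (evT y (-t) u ((tb.getD 9 []).getD s [])).prod := by
  refine A_ext fun x => ?_
  interval_cases s
  · change _ = (_ * (y 3 (((1 : ℤ) : F) * (-t) ^ 1 * u ^ 1) * (y 7 (((-1 : ℤ) : F) * (-t) ^ 2 * u ^ 1) * (y 10 (((1 : ℤ) : F) * (-t) ^ 3 * u ^ 1) * (y 5 (((-1 : ℤ) : F) * (-t) ^ 3 * u ^ 2) * (1 : A F)))))) • x
    simp only [mul_smul, one_smul, y_smul]; apply ext8 <;> simp only [Y0, Y3, Y5, Y7, Y9, Y10] <;> push_cast <;> ring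
  · change _ = (_ * (y 4 (((1 : ℤ) : F) * (-t) ^ 1 * u ^ 1) * (y 8 (((1 : ℤ) : F) * (-t) ^ 2 * u ^ 1) * (y 11 (((-1 : ℤ) : F) * (-t) ^ 3 * u ^ 1) * (y 6 (((1 : ℤ) : F) * (-t) ^ 3 * u ^ 2) * (1 : A F)))))) • x
    simp only [mul_smul, one_smul, y_smul]; apply ext8 <;> simp only [Y1, Y4, Y6, Y8, Y9, Y11] <;> push_cast <;> ring
  · exact absurd rfl h2
  · change _ = (_ * (y 7 (((-2 : ℤ) : F) * (-t) ^ 1 * u ^ 1) * (y 10 (((3 : ℤ) : F) * (-t) ^ 2 * u ^ 1) * (y 5 (((-3 : ℤ) : F) * (-t) ^ 1 * u ^ 2) * (1 : A F))))) • x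
    simp only [mul_smul, one_smul, y_smul]; apply ext8 <;> simp only [Y3, Y5, Y7, Y9, Y10] <;> push_cast <;> ring
  · change _ = (_ * (y 8 (((2 : ℤ) : F) * (-t) ^ 1 * u ^ 1) * (y 11 (((-3 : ℤ) : F) * (-t) ^ 2 * u ^ 1) * (y 6 (((3 : ℤ) : F) * (-t) ^ 1 * u ^ 2) * (1 : A F))))) • x
    simp only [mul_smul, one_smul, y_smul]; apply ext8 <;> simp only [Y4, Y6, Y8, Y9, Y11] <;> push_cast <;> ring
  · change _ = (_ * (1 : A F)) • x
    simp only [mul_smul, one_smul, y_smul]; apply ext8 <;> simp only [Y5, Y9] <;> push_cast <;> ring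
  · change _ = (_ * (1 : A F)) • x
    simp only [mul_smul, one_smul, y_smul]; apply ext8 <;> simp only [Y6, Y9] <;> push_cast <;> ring
  · change _ = (_ * (y 10 (((-3 : ℤ) : F) * (-t) ^ 1 * u ^ 1) * (1 : A F))) • x
    simp only [mul_smul, one_smul, y_smul]; apply ext8 <;> simp only [Y7, Y9, Y10] <;> push_cast <;> ring
  · change _ = (_ * (y 11 (((-3 : ℤ) : F) * (-t) ^ 1 * u ^ 1) * (1 : A F))) • x
    simp only [mul_smul, one_smul, y_smul]; apply ext8 <;> simp only [Y8, Y9, Y11] <;> push_cast <;> ring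
  · exact absurd rfl h1
  · change _ = (_ * (1 : A F)) • x
    simp only [mul_smul, one_smul, y_smul]; apply ext8 <;> simp only [Y9, Y10] <;> push_cast <;> ring
  · change _ = (_ * (1 : A F)) • x
    simp only [mul_smul, one_smul, y_smul]; apply ext8 <;> simp only [Y9, Y11] <;> push_cast <;> ring

theorem cm10 (s : ℕ) (hs : s < 12) (t u : F) (h1 : s ≠ 10) (h2 : s ≠ 1) :
    y s u * y 10 t = y 10 t * y s u * (evT y (-t) u ((tb.getD 10 []).getD s [])).prod := by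
  refine A_ext fun x => ?_
  interval_cases s
  · change _ = (_ * (y 5 (((1 : ℤ) : F) * (-t) ^ 1 * u ^ 1) * (1 : A F))) • x
    simp only [mul_smul, one_smul, y_smul]; apply ext8 <;> simp only [Y0, Y5, Y10] <;> push_cast <;> ring
  · exact absurd rfl h2
  · change _ = (_ * (y 7 (((1 : ℤ) : F) * (-t) ^ 1 * u ^ 1) * (y 3 (((1 : ℤ) : F) * (-t) ^ 1 * u ^ 2) * (y 0 (((-1 : ℤ) : F) * (-t) ^ 1 * u ^ 3) * (y 5 (((-2 : ℤ) : F) * (-t) ^ 2 * u ^ 3) * (1 : A F)))))) • x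
    simp only [mul_smul, one_smul, y_smul]; apply ext8 <;> simp only [Y0, Y2, Y3, Y5, Y7, Y10] <;> push_cast <;> ring
  · change _ = (_ * (1 : A F)) • x
    simp only [mul_smul, one_smul, y_smul]; apply ext8 <;> simp only [Y3, Y10] <;> push_cast <;> ring
  · change _ = (_ * (y 9 (((-1 : ℤ) : F) * (-t) ^ 1 * u ^ 1) * (y 8 (((-1 : ℤ) : F) * (-t) ^ 1 * u ^ 2) * (y 6 (((-1 : ℤ) : F) * (-t) ^ 1 * u ^ 3) * (y 11 (((2 : ℤ) : F) * (-t) ^ 2 * u ^ 3) * (1 : A F)))))) • x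
    simp only [mul_smul, one_smul, y_smul]; apply ext8 <;> simp only [Y4, Y6, Y8, Y9, Y10, Y11] <;> push_cast <;> ring
  · change _ = (_ * (1 : A F)) • x
    simp only [mul_smul, one_smul, y_smul]; apply ext8 <;> simp only [Y5, Y10] <;> push_cast <;> ring
  · change _ = (_ * (y 11 (((-1 : ℤ) : F) * (-t) ^ 1 * u ^ 1) * (1 : A F))) • x
    simp only [mul_smul, one_smul, y_smul]; apply ext8 <;> simp only [Y6, Y10, Y11] <;> push_cast <;> ring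
  · change _ = (_ * (1 : A F)) • x
    simp only [mul_smul, one_smul, y_smul]; apply ext8 <;> simp only [Y7, Y10] <;> push_cast <;> ring
  · change _ = (_ * (1 : A F)) • x
    simp only [mul_smul, one_smul, y_smul]; apply ext8 <;> simp only [Y8, Y10] <;> push_cast <;> ring
  · change _ = (_ * (1 : A F)) • x
    simp only [mul_smul, one_smul, y_smul]; apply ext8 <;> simp only [Y9, Y10] <;> push_cast <;> ring
  · exact absurd rfl h1
  · change _ = (_ * (1 : A F)) • x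
    simp only [mul_smul, one_smul, y_smul]; apply ext8 <;> simp only [Y10, Y11] <;> push_cast <;> ring

theorem cm11 (s : ℕ) (hs : s < 12) (t u : F) (h1 : s ≠ 11) (h2 : s ≠ 0) :
    y s u * y 11 t = y 11 t * y s u * (evT y (-t) u ((tb.getD 11 []).getD s [])).prod := by
  refine A_ext fun x => ?_
  interval_cases s
  · exact absurd rfl h2
  · change _ = (_ * (y 6 (((1 : ℤ) : F) * (-t) ^ 1 * u ^ 1) * (1 : A F))) • x
    simp only [mul_smul, one_smul, y_smul]; apply ext8 <;> simp only [Y1, Y6, Y11] <;> push_cast <;> ring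
  · change _ = (_ * (y 8 (((1 : ℤ) : F) * (-t) ^ 1 * u ^ 1) * (y 4 (((-1 : ℤ) : F) * (-t) ^ 1 * u ^ 2) * (y 1 (((1 : ℤ) : F) * (-t) ^ 1 * u ^ 3) * (y 6 (((2 : ℤ) : F) * (-t) ^ 2 * u ^ 3) * (1 : A F)))))) • x
    simp only [mul_smul, one_smul, y_smul]; apply ext8 <;> simp only [Y1, Y2, Y4, Y6, Y8, Y11] <;> push_cast <;> ring
  · change _ = (_ * (y 9 (((-1 : ℤ) : F) * (-t) ^ 1 * u ^ 1) * (y 7 (((1 : ℤ) : F) * (-t) ^ 1 * u ^ 2) * (y 5 (((1 : ℤ) : F) * (-t) ^ 1 * u ^ 3) * (y 10 (((-2 : ℤ) : F) * (-t) ^ 2 * u ^ 3) * (1 : A F)))))) • x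
    simp only [mul_smul, one_smul, y_smul]; apply ext8 <;> simp only [Y3, Y5, Y7, Y9, Y10, Y11] <;> push_cast <;> ring
  · change _ = (_ * (1 : A F)) • x
    simp only [mul_smul, one_smul, y_smul]; apply ext8 <;> simp only [Y4, Y11] <;> push_cast <;> ring
  · change _ = (_ * (y 10 (((-1 : ℤ) : F) * (-t) ^ 1 * u ^ 1) * (1 : A F))) • x
    simp only [mul_smul, one_smul, y_smul]; apply ext8 <;> simp only [Y5, Y10, Y11] <;> push_cast <;> ring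
  · change _ = (_ * (1 : A F)) • x
    simp only [mul_smul, one_smul, y_smul]; apply ext8 <;> simp only [Y6, Y11] <;> push_cast <;> ring
  · change _ = (_ * (1 : A F)) • x
    simp only [mul_smul, one_smul, y_smul]; apply ext8 <;> simp only [Y7, Y11] <;> push_cast <;> ring
  · change _ = (_ * (1 : A F)) • x
    simp only [mul_smul, one_smul, y_smul]; apply ext8 <;> simp only [Y8, Y11] <;> push_cast <;> ring
  · change _ = (_ * (1 : A F)) • x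
    simp only [mul_smul, one_smul, y_smul]; apply ext8 <;> simp only [Y9, Y11] <;> push_cast <;> ring
  · change _ = (_ * (1 : A F)) • x
    simp only [mul_smul, one_smul, y_smul]; apply ext8 <;> simp only [Y10, Y11] <;> push_cast <;> ring
  · exact absurd rfl h1

theorem rel : checkedG2.toCD.Rel fun r (t : F) => y r t :=
  checkedG2.rel_of (fun r _ t u => A_ext fun x => by rw [mul_smul]; exact yv_yv r t u x) fun r hr s hs t u h1 h2 => by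
    rw [beq_iff_eq.1 (tb_eq r hr s hs)]
    change r < 12 at hr
    interval_cases r
    exacts [cm0 s hs t u h1 h2, cm1 s hs t u h1 h2, cm2 s hs t u h1 h2, cm3 s hs t u h1 h2, cm4 s hs t u h1 h2, cm5 s hs t u h1 h2, cm6 s hs t u h1 h2, cm7 s hs t u h1 h2, cm8 s hs t u h1 h2, cm9 s hs t u h1 h2, cm10 s hs t u h1 h2, cm11 s hs t u h1 h2]

end Cfsg.Agent.Classical.Oct
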