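import Cfsg.Agent.Lib.Classical.Oct3
import Cfsg.Agent.S1055

/-! The isomorphism of the Chevalley group `G₂(q)` with the automorphism group of the split octonions. -/
set_option autoImplicit false
open Matrix Cfsg.Lie

namespace Cfsg.Agent.Classical.Oct
open Cfsg.Agent.Chev
variable {F : Type*} [Field F]

theorem u_eq (a : Fin 3 → F) : u a = a 0 • u (Pi.single 0 1) + a 1 • u (Pi.single 1 1) + a 2 • u (Pi.single 2 1) := by
  apply ext8 <;> simp [u]

theorem central {g : A F} (h : ∀ r < 12, ∀ t, Commute g (y r t)) : g = 1 := by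
  have k : ∀ r < 12, ∀ t, g • yv r t (e : V F) = yv r t (g • e) := fun r hr t => by
    rw [← y_smul, ← y_smul, ← mul_smul, ← mul_smul, (h r hr t).eq]
  have hE := smul_mem_E g e_mem
  have k0 := k 0 (by omega) 1; have k1 := k 1 (by omega) 1; have k5 := k 5 (by omega) 1; have k6 := k 6 (by omega) 1
  have k10 := k 10 (by omega) 1; have k9 := k 9 (by omega) (-1); have k4 := k 4 (by omega) (-1); have k3 := k 3 (by omega) (-1)
  rw [show yv 0 1 (e : V F) = e by apply ext8 <;> simp [Y0, e]] at k0
  rw [show yv 1 1 (e : V F) = e by apply ext8 <;> simp [Y1, e]] at k1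
  rw [show yv 5 1 (e : V F) = e by apply ext8 <;> simp [Y5, e]] at k5
  rw [show yv 6 1 (e : V F) = e by apply ext8 <;> simp [Y6, e]] at k6
  rw [show yv 10 1 (e : V F) = e by apply ext8 <;> simp [Y10, e]] at k10
  rw [show yv 9 (-1) (e : V F) = e + u (Pi.single 0 1) by apply ext8 <;> simp [Y9, e, u], smul_add, ← eq_sub_iff_add_eq'] at k9
  rw [show yv 4 (-1) (e : V F) = e + u (Pi.single 1 1) by apply ext8 <;> simp [Y4, e, u], smul_add, ← eq_sub_iff_add_eq'] at k4
  rw [show yv 3 (-1) (e : V F) = e + u (Pi.single 2 1) by apply ext8 <;> simp [Y3, e, u], smul_add, ← eq_sub_iff_add_eq'] at k3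
  have hm := smul_mul g e (u (Pi.single 0 1))
  rw [show e ⋆ u (Pi.single 0 (1 : F)) = u (Pi.single 0 1) by apply ext8 <;> simp [m0, m1, m2, m3, m4, m5, m6, m7, e, u], k9] at hm
  have he : g • (e : V F) = e := by
    generalize g • (e : V F) = x at *
    have a1 := congrFun k0 3; have a6 := congrFun k0 4; have a5 := congrFun k1 4; have a2 := congrFun k5 3
    have a3 := congrFun k6 2; have a4 := congrFun k10 5; have b := congrFun hm 1
    simp only [Y0, Y1, Y5, Y6, Y10] at a1 a2 a3 a4 a5 a6
    replace a1 : x 1 = 0 := by linear_combination a1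
    replace a2 : x 2 = 0 := by linear_combination a2
    replace a3 : x 3 = 0 := by linear_combination a3
    replace a4 : x 4 = 0 := by linear_combination -a4
    replace a5 : x 5 = 0 := by linear_combination -a5
    replace a6 : x 6 = 0 := by linear_combination -a6
    obtain ⟨c1, c2⟩ := hE
    simp only [m1, Y9, Pi.sub_apply, a1, a2, a3, a4, a5, a6] at b c2
    have h0 : x 0 = 1 := by
      linear_combination (x 7 - x 0) * b + (1 - x 0) * (x 0 + x 7 + 1) * c1 - 4 * (1 - x 0) * c2
    have h7 : x 7 = 0 := by linear_combination c1 - h0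
    apply ext8 <;> assumption
  refine congrArg Subtype.val (St_ext ⟨g, he⟩ fun a => ?_)
  rw [he] at k3 k4 k9
  rw [u_eq, smul_add, smul_add, smul_smul', smul_smul', smul_smul', k3, k4, k9]
  apply ext8 <;> simp only [Pi.add_apply, Pi.smul_apply, Pi.sub_apply, Y3, Y4, Y9] <;> simp [e, u]

theorem card_le [Fintype F] : (Fintype.card F ^ 6 + Fintype.card F ^ 3) * Nat.card (SpecialLinearGroup (Fin 3) F) =
    Nat.card (chevG2.group F) := by
  rw [card_SL3, card_G2 rfl]
  have k1 : ∀ j, 1 ≤ Fintype.card F ^ j := fun j => Nat.one_le_pow _ _ Fintype.card_pos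
  zify [k1]; ring

theorem exists_iso [Fintype F] (hF : 3 ≤ Fintype.card F) :
    Nonempty (chevG2.group F ≃* A F) ∧ Function.Bijective (toSL (F := F)) := by
  classical
  obtain ⟨φ, hφ⟩ := checkedG2.adj_lift (rel (F := F)) fun g _ h => central fun r hr t => h ⟨r, hr⟩ t
  have := (S1055.result (F := F) (by
    obtain ⟨a, -, ha⟩ := Finset.exists_mem_notMem_of_card_lt_card (s := {0, 1}) (t := (Finset.univ : Finset F))
      (Finset.card_le_two.trans_lt hF)
    exact ⟨a, by simpa using ha⟩)).1
  have h1 : Function.Injective φ := (MonoidHom.ker_eq_bot_iff _).1 ((IsSimpleGroup.eq_bot_or_eq_top_of_normal φ.ker inferInstance).resolve_right fun h => by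
    have h2 : y 0 (1 : F) = 1 := (hφ ⟨0, by decide⟩ 1).symm.trans (h.ge (Subgroup.mem_top _))
    have := congrArg (fun g : A F => (g • u (Pi.single 0 (1 : F))) 3) h2
    simp [y_smul, Y0, u] at this)
  have h2 := Nat.card_le_card_of_injective _ (toSL_inj (F := F))
  have h3 := Nat.card_le_card_of_injective _ h1
  refine ⟨⟨MulEquiv.ofBijective φ (h1.bijective_of_nat_card_le ?_)⟩, toSL_inj.bijective_of_nat_card_le ?_⟩
  · rw [card_A, ← card_le]; exact Nat.mul_le_mul_left _ h2
  · rw [card_A, ← card_le] at h3; exact Nat.le_of_mul_le_mul_left h3 (by positivity)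

end Cfsg.Agent.Classical.Oct
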