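import Cfsg.Agent.Lib.Classical.Oct4

/-! A self-centralising cyclic subgroup of order `q² + q + 1` in `G₂(q)`. -/
set_option autoImplicit false
open Matrix Cfsg.Lie Module

namespace Cfsg.Agent.Classical.Oct
variable {F : Type*} [Field F]

theorem singer3 [Fintype F] : ∃ M : SpecialLinearGroup (Fin 3) F, orderOf M = Fintype.card F ^ 2 + Fintype.card F + 1 ∧
    (M.1 - 1).det ≠ 0 ∧ ∀ X, X * M = M * X → X ∈ Subgroup.zpowers M := by
  classical
  obtain ⟨p, hp⟩ := CharP.exists F
  haveI : Fact p.Prime := ⟨CharP.char_is_prime F p⟩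
  let K := FiniteField.Extension F p 3
  have hK : finrank F K = 3 := FiniteField.finrank_extension F p 3
  let b := finBasisOfFinrankEq F K hK
  let N := (Units.map (Algebra.norm F (S := K))).ker
  have h1 := Fintype.one_lt_card (α := F)
  have hN : Nat.card N = Fintype.card F ^ 2 + Fintype.card F + 1 := by
    have := N.card_mul_index
    rw [Subgroup.index_ker, MonoidHom.range_eq_top.2 (FiniteField.unitsMap_norm_surjective F K), Subgroup.card_top,
      Nat.card_units, Nat.card_units, FiniteField.natCard_extension, Nat.card_eq_fintype_card (α := F)] at this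
    refine Nat.eq_of_mul_eq_mul_right (show 0 < Fintype.card F - 1 by omega) (this.trans ?_)
    zify [h1.le, Nat.one_le_pow 3 _ (show 0 < Fintype.card F by omega)]; ring
  let ρ : N →* SpecialLinearGroup (Fin 3) F :=
    { toFun := fun c => ⟨Algebra.leftMulMatrix b c.1.1, (Algebra.norm_eq_matrix_det b _).symm.trans (congrArg Units.val c.2)⟩
      map_one' := Subtype.ext (map_one _)
      map_mul' := fun _ _ => Subtype.ext (map_mul _ _ _) }
  have hρ : Function.Injective ρ := fun _ _ h =>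
    Subtype.ext (Units.ext (Algebra.leftMulMatrix_injective b (congrArg Subtype.val h)))
  obtain ⟨c, hc⟩ := IsCyclic.exists_generator (α := N)
  have oc : orderOf c = _ := (orderOf_eq_card_of_forall_mem_zpowers hc).trans hN
  have hb : c.1.1 ∉ (⊥ : Subalgebra F K) := by
    rintro ⟨a, ha⟩
    have ha : algebraMap F K a = c.1.1 := ha
    have : c ^ (Fintype.card F - 1) = 1 := Subtype.ext (Units.ext (by
      rw [SubmonoidClass.coe_pow, Units.val_pow_eq_pow_val, ← ha, ← map_pow,
        FiniteField.pow_card_sub_one_eq_one a (by rintro rfl; exact c.1.ne_zero (by simp [← ha])), map_one]; rfl))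
    have := Nat.le_of_dvd (by omega) (oc ▸ orderOf_dvd_of_pow_eq_one this)
    omega
  refine ⟨ρ c, (orderOf_injective ρ hρ c).trans oc, ?_, fun X hX => ?_⟩
  · change (Algebra.leftMulMatrix b c.1.1 - 1).det ≠ 0
    rw [← map_one (Algebra.leftMulMatrix b), ← map_sub, ← Algebra.norm_eq_matrix_det, Ne, Algebra.norm_eq_zero_iff, sub_eq_zero]
    exact fun h => hb (h ▸ one_mem _)
  have h2 := ((Subalgebra.isSimpleOrder_of_finrank_prime F K (by rw [hK]; exact Nat.prime_three)).eq_bot_or_eq_top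
    ((Subalgebra.centralizer F {X.1}).comap (Algebra.leftMulMatrix b))).resolve_left fun h => hb (h ▸ by
      rintro _ rfl; exact congrArg Subtype.val hX)
  obtain ⟨f, hf⟩ := (LinearMap.toMatrixAlgEquiv b).surjective X.1
  have h3 : X.1 = Algebra.leftMulMatrix b (f 1) := by
    rw [← hf]
    refine congrArg (LinearMap.toMatrixAlgEquiv b) (LinearMap.ext fun x => ?_)
    have : X.1 * Algebra.leftMulMatrix b x = Algebra.leftMulMatrix b x * X.1 := h2.ge (Algebra.mem_top (x := x)) _ rfl
    rw [← hf, show Algebra.leftMulMatrix b x = LinearMap.toMatrixAlgEquiv b (Algebra.lmul F K x) from rfl, ← map_mul, ← map_mul,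
      EmbeddingLike.apply_eq_iff_eq] at this
    simpa [mul_comm] using congr($this 1)
  have h4 : Algebra.norm F (f 1) = 1 := by rw [Algebra.norm_eq_matrix_det b, ← h3, X.2]
  obtain ⟨n, hn⟩ := hc ⟨Units.mk0 (f 1) (by rintro h; simp [h] at h4), Units.ext h4⟩
  exact ⟨n, (map_zpow ρ c n).symm.trans ((congrArg ρ hn).trans (Subtype.ext h3.symm))⟩

def swm : MA F :=
  ⟨{ toFun := fun x => ![x 7, -x 4, -x 5, -x 6, -x 1, -x 2, -x 3, x 0]
     map_add' := fun x y => by apply ext8 <;> simp only [cons_val, Pi.add_apply] <;> ring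
     map_smul' := fun c x => by apply ext8 <;> simp only [cons_val, Pi.smul_apply, smul_eq_mul, RingHom.id_apply] <;> ring },
   fun x y => by
    apply ext8 <;> simp only [LinearMap.coe_mk, AddHom.coe_mk, cons_val, m0, m1, m2, m3, m4, m5, m6, m7] <;> ring⟩

theorem swm_sq : (swm * swm : MA F) = 1 := Subtype.ext <| LinearMap.ext fun x => by
  apply ext8 <;> simp [swm]

def sw : A F := ⟨swm, swm, swm_sq, swm_sq⟩

theorem sw_smul (x : V F) : (sw : A F) • x = ![x 7, -x 4, -x 5, -x 6, -x 1, -x 2, -x 3, x 0] := rfl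
theorem sw_sw : (sw * sw : A F) = 1 := Units.ext swm_sq
theorem sw_e : (sw : A F) • (e : V F) = o - e := by apply ext8 <;> simp [sw_smul, e, o]

theorem smul_sub' (g : A F) (x y : V F) : g • (x - y) = g • x - g • y := g.1.1.map_sub x y

/-- conjugation by the swap -/
def st' (g : St F) : St F := ⟨sw * g.1 * sw, by
  rw [MulAction.mem_stabilizer_iff, mul_smul, mul_smul, sw_e, smul_sub', smul_o, show g.1 • e = e from g.2, ← sw_e, ← mul_smul,
    sw_sw, one_smul]⟩

theorem St_v (g : St F) (b : Fin 3 → F) : g.1 • (sw : A F) • u b = (sw : A F) • u (sm (st' g).1 *ᵥ b) := by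
  rw [← St_u, ← mul_smul, ← mul_smul, st', ← mul_assoc, ← mul_assoc, sw_sw, one_mul]

theorem sm_st' (g : St F) : (sm g.1)ᵀ * sm (st' g).1 = 1 := by
  have k : ∀ a b : Fin 3 → F, u a ⋆ (sw : A F) • u b = (-(a ⬝ᵥ b)) • e := fun a b => by
    apply ext8 <;> simp [sw_smul, u, e, m0, m1, m2, m3, m4, m5, m6, m7, dotProduct, Fin.sum_univ_three] <;> ring
  ext i j
  have := smul_mul g.1 (u (Pi.single i 1)) ((sw : A F) • u (Pi.single j 1))
  rw [St_v, St_u, k, k, smul_smul', show g.1 • e = e from g.2] at this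
  have := congrFun this 0
  simp [e, dotProduct, Pi.single_apply] at this
  simp [Matrix.mul_apply, one_apply, ← this, eq_comm]

theorem fix_e (s : St F) (hs : (sm s.1 - 1).det ≠ 0) {x : V F} (hx : x ∈ E F) (h : s.1 • x = x) : x = e ∨ x = o - e := by
  have d : x = x 7 • o + (x 0 - x 7) • e + u ![x 1, x 2, x 3] + (sw : A F) • u ![-x 4, -x 5, -x 6] := by
    apply ext8 <;> simp [sw_smul, u, e, o]
  have h' := h
  conv_lhs at h' => rw [d]
  rw [smul_add, smul_add, smul_add, smul_smul', smul_smul', smul_o, show s.1 • e = e from s.2, St_u, St_v] at h'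
  have h1 : (sm s.1 - 1) *ᵥ ![x 1, x 2, x 3] = 0 := by
    rw [sub_mulVec, one_mulVec, sub_eq_zero]
    generalize sm s.1 *ᵥ _ = a at h'
    have k1 := congrFun h' 1; have k2 := congrFun h' 2; have k3 := congrFun h' 3
    simp [sw_smul, u, e, o] at k1 k2 k3
    ext i; fin_cases i; exacts [k1, k2, k3]
  have h2 : sm (st' s).1 *ᵥ ![-x 4, -x 5, -x 6] = ![-x 4, -x 5, -x 6] := by
    generalize sm (st' s).1 *ᵥ _ = a at h'
    have k1 := congrFun h' 4; have k2 := congrFun h' 5; have k3 := congrFun h' 6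
    simp [sw_smul, u, e, o, neg_eq_iff_eq_neg] at k1 k2 k3
    ext i; fin_cases i; exacts [k1, k2, k3]
  have h3 : (sm s.1 - 1)ᵀ *ᵥ ![-x 4, -x 5, -x 6] = 0 := by
    rw [transpose_sub, transpose_one, sub_mulVec, one_mulVec, sub_eq_zero]
    conv_lhs => rw [← h2, mulVec_mulVec, sm_st', one_mulVec]
  have a := eq_zero_of_mulVec_eq_zero hs h1
  have b := eq_zero_of_mulVec_eq_zero (det_transpose (sm s.1 - 1) ▸ hs) h3
  have a1 : x 1 = 0 := congrFun a 0; have a2 : x 2 = 0 := congrFun a 1; have a3 : x 3 = 0 := congrFun a 2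
  have a4 : x 4 = 0 := neg_eq_zero.1 (congrFun b 0); have a5 : x 5 = 0 := neg_eq_zero.1 (congrFun b 1)
  have a6 : x 6 = 0 := neg_eq_zero.1 (congrFun b 2)
  obtain ⟨c1, c2⟩ := hx
  rw [a1, a2, a3] at c2
  rcases mul_eq_zero.1 (show x 0 * x 7 = 0 by linear_combination c2) with c | c
  · have c7 : x 7 = 1 := by linear_combination c1 - c
    right; apply ext8 <;> simp [e, o, a1, a2, a3, a4, a5, a6, c, c7]
  · have c0 : x 0 = 1 := by linear_combination c1 - c
    left; apply ext8 <;> assumption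

theorem selfcent [Fintype F] (hF : 3 ≤ Fintype.card F) : ∃ s : A F, orderOf s = Fintype.card F ^ 2 + Fintype.card F + 1 ∧
    ∀ g, g * s = s * g → g ∈ Subgroup.zpowers s := by
  obtain ⟨M, h1, h2, h3⟩ := singer3 (F := F)
  obtain ⟨s, rfl⟩ := (exists_iso hF).2.2 M
  refine ⟨s.1, (Subgroup.orderOf_coe s).trans ((orderOf_injective _ toSL_inj s).symm.trans h1), fun g hg => ?_⟩
  rcases fix_e s h2 (smul_mem_E g e_mem) (by rw [← mul_smul, ← hg, mul_smul, show s.1 • e = e from s.2]) with h | h
  · obtain ⟨n, hn⟩ := h3 (toSL ⟨g, h⟩) (by rw [← map_mul, ← map_mul]; exact congrArg _ (Subtype.ext hg))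
    exact ⟨n, congrArg Subtype.val (toSL_inj ((map_zpow _ _ _).trans hn))⟩
  · exfalso
    have h4 : sw * g ∈ St F := by rw [MulAction.mem_stabilizer_iff, mul_smul, h, ← sw_e, ← mul_smul, sw_sw, one_smul]
    have h5 : ⟨_, h4⟩ * s = st' s * ⟨_, h4⟩ := Subtype.ext (by
      change sw * g * s.1 = sw * s.1 * sw * (sw * g)
      rw [mul_assoc, hg, mul_assoc, ← mul_assoc sw sw, sw_sw, one_mul, mul_assoc])
    have h6 : (toSL (st' s)).1.trace = (toSL s).1.trace := by
      have k : ∀ X Y : SpecialLinearGroup (Fin 3) F, (X * Y * X⁻¹).1.trace = Y.1.trace := fun X Y => by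
        change (X.1 * Y.1 * (X⁻¹).1).trace = _
        rw [trace_mul_cycle, show (X⁻¹).1 * X.1 = 1 from congrArg Subtype.val (inv_mul_cancel X), one_mul]
      rw [← mul_inv_eq_iff_eq_mul.2 h5, map_mul, map_mul, map_inv, k]
    have h7 : (toSL (st' s)).1 = adjugate (toSL s).1ᵀ := by
      rw [← mul_one (adjugate _), ← sm_st' s, ← mul_assoc]
      erw [adjugate_mul]
      rw [det_transpose, show (toSL s).1.det = 1 from (toSL s).2, one_smul, one_mul]; rfl
    have h8 := (toSL s).2
    rw [h7] at h6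
    generalize (toSL s).1 = M at h2 h6 h8
    simp [trace_fin_three, adjugate_fin_three, det_fin_three] at h6 h8
    exact h2 (by simp [det_fin_three]; linear_combination h8 - h6)

end Cfsg.Agent.Classical.Oct
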