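import Cfsg.Agent.Lib.Classical.Oct5
import Cfsg.Agent.Lib.Classical.Oct2
import Cfsg.Agent.Lib.Classical.Klein1

/-! Trace and norm of octonions; the stabiliser of the quaternion subalgebra; normal forms. -/
set_option autoImplicit false
open Matrix Cfsg.Lie Module

namespace Cfsg.Agent.Classical.Oct
variable {F : Type*} [Field F]

def tr : V F →ₗ[F] F where
  toFun x := x 0 + x 7
  map_add' x y := by simp only [Pi.add_apply]; ring
  map_smul' c x := by simp [mul_add]

def Bf : V F →ₗ[F] V F →ₗ[F] F :=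
  LinearMap.mk₂ F (fun x y => x 0 * y 7 + x 7 * y 0 - (x 1 * y 4 + x 4 * y 1 + x 2 * y 5 + x 5 * y 2 + x 3 * y 6 + x 6 * y 3))
    (by intros; simp only [Pi.add_apply]; ring) (by intros; simp only [Pi.smul_apply, smul_eq_mul]; ring)
    (by intros; simp only [Pi.add_apply]; ring) (by intros; simp only [Pi.smul_apply, smul_eq_mul]; ring)

def Φ : Form (Kind.orth F) (V F) :=
  Form.ofQuadFun (fun x => x 0 * x 7 - (x 1 * x 4 + x 2 * x 5 + x 3 * x 6)) Bf
    (by intros; simp only [Pi.add_apply, Bf, LinearMap.mk₂_apply]; ring) (by intros; simp only [Pi.smul_apply, smul_eq_mul]; ring)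

theorem tr_apply (x : V F) : tr x = x 0 + x 7 := rfl
theorem N_apply (x : V F) : Φ.N x = x 0 * x 7 - (x 1 * x 4 + x 2 * x 5 + x 3 * x 6) := rfl
theorem B_apply (x y : V F) : Bf x y =
    x 0 * y 7 + x 7 * y 0 - (x 1 * y 4 + x 4 * y 1 + x 2 * y 5 + x 5 * y 2 + x 3 * y 6 + x 6 * y 3) := rfl
theorem N_add (x y : V F) : Φ.N (x + y) = Φ.N x + Φ.N y + Bf x y := by simp only [N_apply, B_apply, Pi.add_apply]; ring

theorem nondeg (v : V F) (h : ∀ u, Bf u v = 0) : v = 0 := by
  have k := fun i => h (Pi.single i 1)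
  have k0 := k 0; have k1 := k 1; have k2 := k 2; have k3 := k 3; have k4 := k 4; have k5 := k 5; have k6 := k 6; have k7 := k 7
  simp [B_apply] at k0 k1 k2 k3 k4 k5 k6 k7
  apply ext8 <;> assumption

theorem quad (x : V F) : x ⋆ x = tr x • x - Φ.N x • o := by
  apply ext8 <;> simp only [m0, m1, m2, m3, m4, m5, m6, m7, tr_apply, N_apply, o, Pi.sub_apply, Pi.smul_apply, cons_val,
    smul_eq_mul] <;> ring

theorem tr_N (g : A F) (x : V F) : tr (g • x) = tr x ∧ Φ.N (g • x) = Φ.N x := by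
  have h := smul_mul g x x
  rw [quad, quad, smul_sub', smul_smul', smul_smul', smul_o] at h
  have h1 : tr (g • x) = tr x := by
    by_contra k
    have : g • x = ((Φ.N (g • x) - Φ.N x) / (tr (g • x) - tr x)) • o := by
      rw [div_eq_inv_mul, mul_smul, eq_inv_smul_iff₀ (sub_ne_zero.2 k), sub_smul, sub_smul]
      linear_combination (exp := 1) -h
    have h2 : x = _ := MulAction.injective g (this.trans ((smul_smul' g _ o).trans (by rw [smul_o])).symm)
    exact k (by rw [this, ← h2])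
  refine ⟨h1, ?_⟩
  rw [h1, sub_right_inj] at h
  simpa [o] using (congrFun h 0).symm

theorem B_smul (g : A F) (x y : V F) : Bf (g • x) (g • y) = Bf x y := by
  have := (tr_N g (x + y)).2
  rw [smul_add, N_add, N_add, (tr_N g x).2, (tr_N g y).2] at this
  exact add_left_cancel this

theorem fix_nondeg {s : A F} {m : ℕ} (hs : s ^ m = 1) (hm : (m : F) ≠ 0) {z : V F} (hz : s • z = z)
    (h : ∀ w, s • w = w → Bf w z = 0) : z = 0 := nondeg z fun x => by
  have k : ∀ i : ℕ, s ^ i • z = z := fun i => (MulAction.stabilizer (A F) z).pow_mem hz i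
  have := h (∑ i ∈ Finset.range m, s ^ i • x) (by
    rw [Finset.smul_sum]
    simp only [← mul_smul, ← pow_succ']
    have := Finset.sum_range_succ' (fun i => s ^ i • x) m
    rw [Finset.sum_range_succ, hs, pow_zero] at this
    exact (add_right_cancel this).symm)
  rw [map_sum, LinearMap.sum_apply, Finset.sum_congr rfl fun i _ => (congrArg _ (k i).symm).trans (B_smul _ _ _)] at this
  simpa [hm] using this

def slf (M : Matrix (Fin 3) (Fin 3) F) (x : V F) : V F :=
  ![x 0, (M *ᵥ zA F x) 0, (M *ᵥ zA F x) 1, (M *ᵥ zA F x) 2, ((adjugate M)ᵀ *ᵥ zB F x) 0, ((adjugate M)ᵀ *ᵥ zB F x) 1,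
    ((adjugate M)ᵀ *ᵥ zB F x) 2, x 7]

theorem slf_apply (M : Matrix (Fin 3) (Fin 3) F) (x : V F) : slf M x 0 = x 0 ∧
    slf M x 1 = M 0 0 * x 1 + M 0 1 * x 2 + M 0 2 * x 3 ∧ slf M x 2 = M 1 0 * x 1 + M 1 1 * x 2 + M 1 2 * x 3 ∧
    slf M x 3 = M 2 0 * x 1 + M 2 1 * x 2 + M 2 2 * x 3 ∧
    slf M x 4 = (M 1 1 * M 2 2 - M 1 2 * M 2 1) * x 4 + (M 1 2 * M 2 0 - M 1 0 * M 2 2) * x 5 + (M 1 0 * M 2 1 - M 1 1 * M 2 0) * x 6 ∧
    slf M x 5 = (M 0 2 * M 2 1 - M 0 1 * M 2 2) * x 4 + (M 0 0 * M 2 2 - M 0 2 * M 2 0) * x 5 + (M 0 1 * M 2 0 - M 0 0 * M 2 1) * x 6 ∧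
    slf M x 6 = (M 0 1 * M 1 2 - M 0 2 * M 1 1) * x 4 + (M 0 2 * M 1 0 - M 0 0 * M 1 2) * x 5 + (M 0 0 * M 1 1 - M 0 1 * M 1 0) * x 6 ∧
    slf M x 7 = x 7 := by
  simp [slf, mulVec, dotProduct, Fin.sum_univ_three, adjugate_fin_three, neg_add_eq_sub]

def sl : SpecialLinearGroup (Fin 3) F →* A F := MonoidHom.toHomUnits
  { toFun := fun M => ⟨⟨⟨slf M.1, fun x y => by apply ext8 <;> simp only [slf_apply, Pi.add_apply] <;> ring⟩,
      fun c x => by apply ext8 <;> simp only [slf_apply, Pi.smul_apply, smul_eq_mul, RingHom.id_apply] <;> ring⟩, fun x y => by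
      have h := M.2
      rw [det_fin_three] at h
      change slf M.1 _ = slf M.1 x ⋆ slf M.1 y
      generalize M.1 = M at h
      apply ext8 <;> simp only [slf_apply, m0, m1, m2, m3, m4, m5, m6, m7]
      · linear_combination (-(x 1 * y 4 + x 2 * y 5 + x 3 * y 6)) * h
      · linear_combination (M 0 0 * (x 5 * y 6 - x 6 * y 5) + M 0 1 * (x 6 * y 4 - x 4 * y 6) + M 0 2 * (x 4 * y 5 - x 5 * y 4)) * h
      · linear_combination (M 1 0 * (x 5 * y 6 - x 6 * y 5) + M 1 1 * (x 6 * y 4 - x 4 * y 6) + M 1 2 * (x 4 * y 5 - x 5 * y 4)) * h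
      · linear_combination (M 2 0 * (x 5 * y 6 - x 6 * y 5) + M 2 1 * (x 6 * y 4 - x 4 * y 6) + M 2 2 * (x 4 * y 5 - x 5 * y 4)) * h
      · ring
      · ring
      · ring
      · linear_combination (-(x 4 * y 1 + x 5 * y 2 + x 6 * y 3)) * h⟩
    map_one' := Subtype.ext (LinearMap.ext fun x => by
      change slf 1 x = x
      apply ext8 <;> simp [slf_apply])
    map_mul' := fun M N => Subtype.ext (LinearMap.ext fun x => by
      change slf (M.1 * N.1) x = slf M.1 (slf N.1 x)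
      apply ext8 <;> simp only [slf_apply, Matrix.mul_apply, Fin.sum_univ_three] <;> ring) }

theorem sl_smul (M : SpecialLinearGroup (Fin 3) F) (x : V F) : sl M • x = slf M.1 x := rfl

theorem exists_P {a b : Fin 3 → F} (h : a 0 * b 0 + a 1 * b 1 + a 2 * b 2 = 1) :
    ∃ P : SpecialLinearGroup (Fin 3) F, (∀ i, P.1 i 0 = a i) ∧ ∀ j, j ≠ 0 → P.1 0 j * b 0 + P.1 1 j * b 1 + P.1 2 j * b 2 = 0 := by
  by_cases h0 : b 0 = 0
  · by_cases h1 : b 1 = 0
    · have h2 : b 2 ≠ 0 := fun h2 => by simp [h0, h1, h2] at h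
      exact ⟨⟨!![a 0, b 2, 0; a 1, 0, 1; a 2, -b 0, -b 1 / b 2], by simp [det_fin_three]; field_simp; linear_combination h⟩,
        fun i => by fin_cases i <;> rfl, fun j hj => by fin_cases j <;> simp_all⟩
    · exact ⟨⟨!![a 0, -b 1, 0; a 1, b 0, -b 2 / b 1; a 2, 0, 1], by simp [det_fin_three]; field_simp; linear_combination h⟩,
        fun i => by fin_cases i <;> rfl, fun j hj => by fin_cases j <;> simp_all⟩
  · exact ⟨⟨!![a 0, -b 1, -b 2 / b 0; a 1, b 0, 0; a 2, 0, 1], by simp [det_fin_three]; field_simp; linear_combination h⟩,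
      fun i => by fin_cases i <;> rfl, fun j hj => by fin_cases j <;> simp_all [mul_comm, mul_div_cancel₀]⟩

theorem ph_io (x : S2 F) (m n : M2 F) : ph (io (x, 1)) • cd (m, n) = cd (m, x.1 * n) := by
  rw [ph_cd, show (io (x, 1)).1.2 = 1 from map_one SpecialLinearGroup.toGL, inv_one, Units.val_one, one_mul, mul_one, mul_one]; rfl

theorem fixQ {g : A F} (h : ∀ m : M2 F, g • cd (m, 0) = cd (m, 0)) : ∃ x : S2 F, g = ph (io (x, 1)) := by
  obtain ⟨⟨z, x⟩, hx⟩ := cd.surjective (g • cd ((0 : M2 F), 1))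
  have hz : z = 0 := by
    have k : ∀ m, Bf (cd (m, 0)) (cd (z, x)) = 0 := fun m => by rw [hx, ← h, B_smul]; simp [B_apply, cd_apply]
    have k0 := k (single 0 0 1); have k1 := k (single 0 1 1); have k2 := k (single 1 0 1); have k3 := k (single 1 1 1)
    simp [B_apply, cd_apply] at k0 k1 k2 k3
    ext i j; fin_cases i <;> fin_cases j <;> assumption
  subst hz
  have hd : x.det = 1 := by
    have := (tr_N g (cd (0, 1))).2
    rw [← hx] at this
    simp [N_apply, cd_apply] at this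
    rw [det_fin_two]; linear_combination this
  refine ⟨⟨x, hd⟩, A_ext fun v => ?_⟩
  obtain ⟨⟨m, n⟩, rfl⟩ := cd.surjective v
  have : cd (m, n) = cd (m, 0) + cd (n, 0) ⋆ cd (0, 1) := by rw [cd_mul, ← map_add]; simp
  refine Eq.trans ?_ (ph_io ⟨x, hd⟩ m n).symm
  rw [this, smul_add, smul_mul, h, h, ← hx, cd_mul, ← map_add]
  simp

theorem stabQ {g : A F} (h : ∀ m : M2 F, (cd.symm (g • cd (m, 0))).2 = 0) : g ∈ (ph (F := F)).range := by
  let f : M2 F →ₗ[F] M2 F := LinearMap.fst _ _ _ ∘ₗ cd.symm.toLinearMap ∘ₗ g.1.1 ∘ₗ cd.toLinearMap ∘ₗ LinearMap.inl _ _ _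
  have hf : ∀ m, g • cd (m, 0) = cd (f m, 0) := fun m => cd.symm_apply_eq.1 (Prod.ext rfl (h m))
  have h1 : cd ((1 : M2 F), 0) = o := by apply ext8 <;> simp [cd_apply, o]
  let a : M2 F →ₐ[F] M2 F := AlgHom.ofLinearMap f
    (congrArg Prod.fst (cd.injective ((hf 1).symm.trans (by rw [h1, smul_o])))) fun m n => by
      have := smul_mul g (cd (m, 0)) (cd (n, 0))
      rw [cd_mul, hf, hf, cd_mul] at this
      simp only [mul_zero, zero_mul, sub_zero, add_zero] at this
      exact congrArg Prod.fst (cd.injective ((hf _).symm.trans this))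
  have ha : Function.Injective f := fun m n k =>
    congrArg Prod.fst (cd.injective (MulAction.injective g ((hf m).trans ((congrArg (fun z => cd (z, 0)) k).trans (hf n).symm))))
  obtain ⟨T, hT⟩ := ((toLinAlgEquiv'.symm.trans (AlgEquiv.ofBijective a
    ⟨ha, LinearMap.injective_iff_surjective.1 ha⟩)).trans toLinAlgEquiv').eq_linearEquivConjAlgEquiv
  obtain ⟨y, rfl⟩ := glEquiv.surjective T
  have hy : ∀ m, f m = y.1 * m * (y⁻¹).1 := fun m => toLin'.injective (LinearMap.ext fun v => by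
    have := congr($hT (toLinAlgEquiv' m) v)
    simp only [AlgEquiv.trans_apply, AlgEquiv.symm_apply_apply, LinearEquiv.conjAlgEquiv_apply] at this
    refine Eq.trans this ?_
    rw [toLin'_apply, ← mulVec_mulVec, ← mulVec_mulVec, ← glEquiv_apply y⁻¹, map_inv]; rfl)
  obtain ⟨x, hx⟩ := fixQ (g := (ph ⟨(y, y), rfl⟩)⁻¹ * g) fun m => by
    rw [mul_smul, inv_smul_eq_iff, hf, ph_cd, hy]; simp
  exact ⟨⟨(y, y), rfl⟩ * io (x, 1), by rw [map_mul, ← hx]; exact mul_inv_cancel_left _ _⟩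

theorem comm_ph {x : S2 F} (hx : (x.1 - 1).det ≠ 0) {g : A F} (h : g * ph (io (x, 1)) = ph (io (x, 1)) * g) :
    g ∈ (ph (F := F)).range := stabQ fun m => by
  obtain ⟨⟨z, n⟩, k⟩ := cd.surjective (g • cd (m, 0))
  have := congrArg (· • cd (m, 0)) h
  simp only [mul_smul, ← k, ph_io, mul_zero] at this
  rw [← k, cd.symm_apply_apply]
  exact ((isUnit_iff_isUnit_det _).2 hx.isUnit).mul_right_eq_zero.1 (by
    rw [sub_mul, one_mul, sub_eq_zero]; exact (congrArg Prod.snd (cd.injective this)).symm)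

theorem normal {s : St F} {m : ℕ} (hs : s.1 ^ m = 1) (hm : (m : F) ≠ 0) (h1 : s.1 ≠ 1) (hd : (sm s.1 - 1).det = 0) :
    ∃ (h : A F) (x : S2 F), h⁻¹ * s.1 * h = ph (io (x, 1)) ∧ (x.1 - 1).det ≠ 0 ∧ x ^ m = 1 := by
  obtain ⟨a, ha, ha'⟩ := exists_mulVec_eq_zero_iff.2 hd
  have hu : s.1 • u a = u a := by rw [St_u, sub_eq_zero.1 ((sub_mulVec _ _ _).symm.trans ha'), one_mulVec]
  have he : s.1 • e = e := s.2
  obtain ⟨w, hw, hw'⟩ : ∃ w, s.1 • w = w ∧ Bf w (u a) = -1 := by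
    by_contra! k
    refine ha (u_inj ((fix_nondeg hs hm hu fun w hw => by_contra fun k' => k ((-(Bf w (u a))⁻¹) • w)
      (by rw [smul_smul', hw]) (by simp [k'])).trans (by apply ext8 <;> simp [u])))
  obtain ⟨P, hP, hP'⟩ := exists_P (a := a) (b := zB F w) (by
    simp [B_apply, u] at hw' ⊢; linear_combination -hw')
  have hv : s.1 • ((o - e) ⋆ (w ⋆ e)) = (o - e) ⋆ (w ⋆ e) := by rw [smul_mul, smul_mul, smul_sub', smul_o, he, hw]
  obtain ⟨x, hx⟩ := fixQ (g := (sl P)⁻¹ * s.1 * sl P) fun m => by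
    have : sl P • cd (m, 0) = m 1 1 • o + (m 0 0 - m 1 1) • e + m 0 1 • u a + m 1 0 • ((o - e) ⋆ (w ⋆ e)) := by
      have hd := P.2
      have k1 := hP' 1 (by decide); have k2 := hP' 2 (by decide)
      simp [B_apply, u, ← hP] at hw' k1 k2
      rw [det_fin_three] at hd
      apply ext8 <;> simp only [sl_smul, slf_apply, cd_apply, cons_val, Pi.add_apply, Pi.smul_apply, Pi.sub_apply, smul_eq_mul,
        m0, m1, m2, m3, m4, m5, m6, m7, o, e, u, ← hP, Matrix.zero_apply]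
      iterate 4 ring
      · linear_combination (m 1 0) * ((P.1 1 1 * P.1 2 2 - P.1 1 2 * P.1 2 1) * hw' + w 4 * hd
          - (P.1 1 2 * P.1 2 0 - P.1 1 0 * P.1 2 2) * k1 - (P.1 1 0 * P.1 2 1 - P.1 1 1 * P.1 2 0) * k2)
      · linear_combination (m 1 0) * ((P.1 0 2 * P.1 2 1 - P.1 0 1 * P.1 2 2) * hw' + w 5 * hd
          - (P.1 0 0 * P.1 2 2 - P.1 0 2 * P.1 2 0) * k1 - (P.1 0 1 * P.1 2 0 - P.1 0 0 * P.1 2 1) * k2)
      · linear_combination (m 1 0) * ((P.1 0 1 * P.1 1 2 - P.1 0 2 * P.1 1 1) * hw' + w 6 * hd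
          - (P.1 0 2 * P.1 1 0 - P.1 0 0 * P.1 1 2) * k1 - (P.1 0 0 * P.1 1 1 - P.1 0 1 * P.1 1 0) * k2)
      · ring
    rw [mul_smul, mul_smul, inv_smul_eq_iff, this]
    simp only [smul_add, smul_smul', smul_o, he, hu, hv]
  have hx2 : x ^ m = 1 := by
    have : io (x ^ m, 1) ∈ (sc (F := F)).range := by
      rw [← ker_ph, MonoidHom.mem_ker, show ((x ^ m, 1) : S2 F × S2 F) = (x, 1) ^ m by simp, map_pow, map_pow, ← hx,
        ← inv_inv (sl P), inv_inv (sl P)⁻¹, conj_pow, hs]; simp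
    obtain ⟨c, hc⟩ := this
    exact SpecialLinearGroup.toGL_injective ((congrArg (fun p : H F => p.1.1) hc).symm.trans (congrArg (fun p : H F => p.1.2) hc))
  refine ⟨_, x, hx, fun k => h1 ?_, hx2⟩
  have h2 : (x.1 - 1) * (x.1 - 1) = 0 := by
    have h : x.1 0 0 * x.1 1 1 - x.1 0 1 * x.1 1 0 = 1 := (det_fin_two _).symm.trans x.2
    have k : (x.1 0 0 - 1) * (x.1 1 1 - 1) - x.1 0 1 * x.1 1 0 = 0 := by simpa [det_fin_two] using k
    ext i j; fin_cases i <;> fin_cases j <;> simp only [Matrix.mul_apply, Fin.sum_univ_two, Matrix.sub_apply, Matrix.zero_apply,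
      Fin.zero_eta, Fin.mk_one, one_apply_eq, one_apply_ne Fin.zero_ne_one, one_apply_ne Fin.zero_ne_one.symm]
    · linear_combination (x.1 0 0 - 1) * (h - k) - k
    · linear_combination x.1 0 1 * (h - k)
    · linear_combination x.1 1 0 * (h - k)
    · linear_combination (x.1 1 1 - 1) * (h - k) - k
  have h3 : ∀ n : ℕ, x.1 ^ n = 1 + (n : F) • (x.1 - 1) := fun n => by
    induction n with
    | zero => simp
    | succ n ih =>
      rw [mul_sub, mul_one, sub_eq_zero] at h2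
      rw [pow_succ, ih, Nat.cast_succ, add_smul, add_mul, smul_mul_assoc, h2, one_mul, one_smul]; abel
  have h4 := h3 m
  rw [show x.1 ^ m = 1 from congrArg Subtype.val hx2, left_eq_add, smul_eq_zero_iff_right hm, sub_eq_zero] at h4
  rw [show x = 1 from Subtype.ext h4, show ((1, 1) : S2 F × S2 F) = 1 from rfl, map_one, map_one] at hx
  rwa [mul_assoc, inv_mul_eq_one, right_eq_mul] at hx

theorem conj_St {s : A F} {x : V F} (hx : x ∈ E F) (h : s • x = x) : ∃ (g : A F) (t : St F), t.1 = g * s * g⁻¹ := by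
  obtain ⟨g, rfl⟩ := orbit_e.ge hx
  exact ⟨g⁻¹, ⟨_, by rw [MulAction.mem_stabilizer_iff, inv_inv, mul_smul, mul_smul, inv_smul_eq_iff]; exact h⟩, rfl⟩

theorem inv_fix [Finite F] (h2 : (2 : F) ≠ 0) {z : A F} (hz : z ^ 2 = 1) (h1 : z ≠ 1) : ∃ x ∈ E F, z • x = x := by
  have zz : ∀ x : V F, z • z • x = x := fun x => by rw [← mul_smul, ← pow_two, hz, one_smul]
  let P := LinearMap.ker (z.1.1 - 1)
  let M := LinearMap.ker (z.1.1 + 1)
  have hP : ∀ x, x ∈ P ↔ z • x = x := fun x => sub_eq_zero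
  have hM : ∀ x, x ∈ M ↔ z • x = -x := fun x => add_eq_zero_iff_eq_neg
  obtain ⟨w, hw, hw'⟩ : ∃ w ∈ M, Φ.N w ≠ 0 := by
    by_contra! k
    refine h1 (A_ext fun x => sub_eq_zero.1 (nondeg _ fun y => mul_left_cancel₀ h2 ?_))
    have k1 : ∀ x : V F, z • x - x ∈ M := fun x => (hM _).2 (by rw [smul_sub', zz, neg_sub])
    have := N_add (z • y - y) (z • x - x)
    rw [k _ (add_mem (k1 y) (k1 x)), k _ (k1 x), k _ (k1 y)] at this
    have k2 := B_smul z y (z • x)
    simp only [map_sub, LinearMap.sub_apply, B_smul, zz, one_smul] at this k2 ⊢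
    linear_combination this - k2
  have d1 : finrank F M ≤ finrank F P := LinearMap.finrank_le_finrank_of_injective
    (f := { toFun := fun x => ⟨w ⋆ x.1, (hP _).2 (by
              rw [smul_mul, (hM _).1 hw, (hM _).1 x.2]
              apply ext8 <;> simp only [m0, m1, m2, m3, m4, m5, m6, m7, Pi.neg_apply] <;> ring)⟩
            map_add' := fun x y => Subtype.ext (by
              apply ext8 <;> simp only [m0, m1, m2, m3, m4, m5, m6, m7, Submodule.coe_add, Pi.add_apply] <;> ring)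
            map_smul' := fun c x => Subtype.ext (by
              apply ext8 <;> simp only [m0, m1, m2, m3, m4, m5, m6, m7, Submodule.coe_smul, Pi.smul_apply, smul_eq_mul,
                RingHom.id_apply] <;> ring) })
    ((injective_iff_map_eq_zero _).2 fun x hx => by
      have k : (tr w • o - w) ⋆ (w ⋆ x.1) = Φ.N w • x.1 := by
        apply ext8 <;> simp only [m0, m1, m2, m3, m4, m5, m6, m7, Pi.smul_apply, Pi.sub_apply, smul_eq_mul, o, cons_val, tr_apply,
          N_apply] <;> ring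
      rw [show w ⋆ x.1 = 0 from congrArg Subtype.val hx] at k
      refine Subtype.ext ((smul_eq_zero_iff_right hw').1 (k.symm.trans ?_))
      apply ext8 <;> simp [m0, m1, m2, m3, m4, m5, m6, m7])
  have d2 := (z.1.1 - 1).finrank_range_add_finrank_ker
  have d3 : finrank F (LinearMap.range (z.1.1 - 1)) ≤ finrank F M := Submodule.finrank_mono (by
    rintro _ ⟨x, rfl⟩; exact (hM _).2 (show z • (z • x - x) = -(z • x - x) by rw [smul_sub', zz, neg_sub]))
  have d4 := (tr ∘ₗ P.subtype).finrank_range_add_finrank_ker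
  have d5 := (LinearMap.range (tr ∘ₗ P.subtype)).finrank_le
  simp only [finrank_self, finrank_fintype_fun_eq_card, Fintype.card_fin] at d2 d5
  obtain ⟨v, hv⟩ := orth_represents (V := LinearMap.ker (tr ∘ₗ P.subtype)) (Φ := Φ.comap (P.subtype ∘ₗ (LinearMap.ker (tr ∘ₗ P.subtype)).subtype)) (fun v hv =>
    Subtype.ext (Subtype.ext (fix_nondeg hz (by simpa using h2) ((hP _).1 v.1.2) fun w hw => by
      have k : Bf o v.1.1 = 0 := Eq.trans (by simp [B_apply, o, add_comm]) (show v.1.1 0 + v.1.1 7 = 0 from v.2)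
      have := hv ⟨⟨w - (tr w / 2) • o, (hP _).2 (by rw [smul_sub', smul_smul', smul_o, hw])⟩, by
        change tr (w - _) = 0
        rw [map_sub, map_smul, tr_apply o]; simp [o]; field_simp; ring⟩
      change Bf (w - (tr w / 2) • o) v.1.1 = 0 at this
      simpa [k] using this))) (by change _ + finrank F P = 8 at d2; omega) (-1)
  have h0 : v.1.1 0 + v.1.1 7 = 0 := v.2
  change Φ.N v.1.1 = -1 at hv
  refine ⟨(2 : F)⁻¹ • (o + v.1.1), ⟨?_, ?_⟩, by rw [smul_smul', smul_add, smul_o, (hP _).1 v.1.2]⟩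
  · simp only [o, Pi.smul_apply, Pi.add_apply, cons_val, smul_eq_mul]; field_simp; linear_combination h0
  · rw [N_apply] at hv; simp only [o, Pi.smul_apply, Pi.add_apply, cons_val, smul_eq_mul]; field_simp; linear_combination h0 + hv

noncomputable def z0 : A F := ph (io (-1, 1))

theorem inv_conj [Finite F] (h2 : (2 : F) ≠ 0) {z : A F} (hz : orderOf z = 2) : IsConj z z0 := by
  have h1 : z ≠ 1 := by rintro rfl; simp at hz
  have hz2 : z ^ 2 = 1 := hz ▸ pow_orderOf_eq_one z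
  obtain ⟨x, hx, hx'⟩ := inv_fix h2 hz2 h1
  obtain ⟨g, t, ht⟩ := conj_St hx hx'
  have t2 : t.1 ^ 2 = 1 := by rw [ht, conj_pow, hz2]; simp
  obtain ⟨h, y, k1, k2, k3⟩ := normal (s := t) t2 (by simpa using h2) (by rw [ht]; simpa using h1) (by
    by_contra k
    have k1 : (sm t.1 - 1) * (sm t.1 + 1) = 0 := by
      have : sm t.1 * sm t.1 = 1 := congrArg Subtype.val (show toSL t * toSL t = 1 by
        rw [← map_mul, ← pow_two, show t ^ 2 = 1 from Subtype.ext t2, map_one])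
      rw [sub_mul, mul_add, this]; simp [add_comm]
    have k2 := add_eq_zero_iff_eq_neg.1 (((isUnit_iff_isUnit_det _).2 (Ne.isUnit k)).mul_right_eq_zero.1 k1)
    have k3 : (sm t.1).det = 1 := (toSL t).2
    rw [k2, det_neg] at k3
    norm_num at k3
    exact h2 (by linear_combination -k3))
  have : y = -1 := Subtype.ext (add_eq_zero_iff_eq_neg.1 (((isUnit_iff_isUnit_det _).2 (Ne.isUnit k2)).mul_right_eq_zero.1 (by
    rw [sub_mul, mul_add, ← pow_two, show y.1 ^ 2 = 1 from congrArg Subtype.val k3]; simp [add_comm])))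
  exact isConj_iff.2 ⟨h⁻¹ * g, by rw [z0, ← this, ← k1, ht]; group⟩

theorem cent_z0 (h2 : (2 : F) ≠ 0) : Subgroup.centralizer {(z0 : A F)} = ph.range := by
  ext g
  rw [Subgroup.mem_centralizer_singleton_iff]
  refine ⟨comm_ph (by simp [det_fin_two]; intro h; exact h2 (by linear_combination -h)), ?_⟩
  rintro ⟨p, rfl⟩
  rw [z0, ← map_mul, ← map_mul]
  exact congrArg ph (Subtype.ext (Prod.ext (Units.ext (by simp [io, SpecialLinearGroup.toGL]))
    (Units.ext (by simp [io, SpecialLinearGroup.toGL]))))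

theorem io_sc {x y : S2 F} (h : io (x, y) ∈ (sc (F := F)).range) : x = y ∧ (x = 1 ∨ x = -1) := by
  obtain ⟨c, hc⟩ := h
  have h1 := congrArg (fun p : H F => p.1.1) hc
  have h2 := congrArg (fun p : H F => p.1.2) hc
  refine ⟨SpecialLinearGroup.toGL_injective (h1.symm.trans h2), ?_⟩
  have h3 : x.1 = Matrix.scalar (Fin 2) c.1 := (congrArg Units.val h1).symm
  have h4 := x.2
  rw [h3] at h4
  rcases sq_eq_one_iff.1 (show c.1 ^ 2 = 1 by simpa using h4) with k | k
  · exact .inl (Subtype.ext (by simp [h3, k]))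
  · exact .inr (Subtype.ext (by rw [h3, k, map_neg, map_one]; rfl))

theorem cent_main [Fintype F] (hq : Odd (Fintype.card F)) {G : Type*} [Group G] (f : H F →* G) (hf : f.ker = sc.range) :
    Nat.card f.range = Fintype.card F ^ 2 * (Fintype.card F ^ 2 - 1) ^ 2 ∧ ∃ L₁ L₂ : Subgroup G, Nonempty (L₁ ≃* S2 F) ∧
      Nonempty (L₂ ≃* S2 F) ∧ (∀ x ∈ L₁, ∀ y ∈ L₂, x * y = y * x) ∧ L₁ ⊓ L₂ = Subgroup.zpowers (f (io (-1, 1))) ∧
      L₁ ⊔ L₂ ≤ f.range ∧ (L₁ ⊔ L₂).relIndex f.range = 2 := by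
  classical
  have h1 := Fintype.one_lt_card (α := F)
  have k : ∀ x y, f (io (x, y)) = 1 → x = y ∧ (x = 1 ∨ x = -1) := fun x y h => io_sc (hf ▸ h)
  have km : (GeneralLinearGroup.scalar (Fin 2) (-1 : Fˣ)).1 = -1 := by
    change Matrix.scalar (Fin 2) (-1 : F) = -1
    rw [map_neg, map_one]
  have km : f (io (-1, -1)) = 1 := hf.ge ⟨-1, Subtype.ext (Prod.ext (Units.ext km) (Units.ext km))⟩
  have e0 : (MonoidHom.inl (S2 F) (S2 F)).range ⊔ (MonoidHom.inr (S2 F) (S2 F)).range = ⊤ := eq_top_iff.2 fun p _ => by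
    rw [← Prod.fst_mul_snd p]; exact Subgroup.mul_mem_sup ⟨p.1, rfl⟩ ⟨p.2, rfl⟩
  have es : ((f.comp io).comp (MonoidHom.inl _ _)).range ⊔ ((f.comp io).comp (MonoidHom.inr _ _)).range = io.range.map f := by
    rw [MonoidHom.range_comp, MonoidHom.range_comp (f.comp io) (MonoidHom.inr (S2 F) (S2 F)), ← Subgroup.map_sup, ← MonoidHom.range_comp,
      e0, ← MonoidHom.range_eq_map]
  refine ⟨?_, ((f.comp io).comp (MonoidHom.inl _ _)).range, ((f.comp io).comp (MonoidHom.inr _ _)).range,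
    ⟨(MonoidHom.ofInjective ((injective_iff_map_eq_one _).2 fun x h => (k _ _ h).1)).symm⟩,
    ⟨(MonoidHom.ofInjective ((injective_iff_map_eq_one _).2 fun x h => (k _ _ h).1.symm)).symm⟩, ?_, le_antisymm ?_ ?_, ?_, ?_⟩
  · have := f.ker.card_mul_index
    rw [Subgroup.index_ker, hf, ← Nat.card_congr (MonoidHom.ofInjective sc_inj).toEquiv, card_H, Nat.card_units,
      Nat.card_eq_fintype_card (α := F), mul_comm] at this
    rw [Nat.eq_of_mul_eq_mul_right (by omega) this]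
    have := card_SL_two (F := F)
    zify [Nat.one_le_pow 2 _ (show 0 < Fintype.card F by omega)]
    rw [this, Nat.card_eq_fintype_card]; ring
  · rintro _ ⟨x, rfl⟩ _ ⟨y, rfl⟩
    simp only [MonoidHom.comp_apply, ← map_mul]; simp
  · rintro _ ⟨⟨x, rfl⟩, y, hy⟩
    rcases (k x y⁻¹ (by
      rw [show ((x, y⁻¹) : S2 F × S2 F) = (x, 1) * (1, y)⁻¹ by simp, map_mul, map_mul, map_inv, map_inv, mul_inv_eq_one]
      exact hy.symm)).2 with rfl | rfl
    · rw [map_one]; exact one_mem _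
    · exact Subgroup.mem_zpowers _
  · refine Subgroup.zpowers_le.2 ⟨⟨-1, rfl⟩, -1, ?_⟩
    rw [← mul_one (f _), ← km, ← map_mul, ← map_mul]; simp
  · rw [es]; exact Subgroup.map_le_range _ _
  · rw [es, f.range_eq_map, Subgroup.relIndex_map_map, top_sup_eq, Subgroup.relIndex_top_right, hf, range_io, sup_comm,
      ← Subgroup.comap_map_eq, Subgroup.index_comap_of_surjective _ fun c => ⟨_, dt_dd c⟩, ← MonoidHom.range_comp,
      show dt.comp sc = powMonoidHom (α := Fˣ) 2 from MonoidHom.ext fun c => Units.ext (show (Matrix.scalar (Fin 2) c.1).det = c.1 ^ 2 by simp),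
      IsCyclic.index_powMonoidHom_range, Nat.card_units, Nat.card_eq_fintype_card, Nat.gcd_eq_right]
    exact (Nat.Odd.sub_odd hq odd_one).two_dvd

end Cfsg.Agent.Classical.Oct
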