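import Mathlib

/-! Element orders in `G₂(q)`: matrices of degree three, traces, change of the field. -/
set_option autoImplicit false
open Matrix Module Polynomial

namespace Cfsg.Agent.Classical.Oct
variable {F : Type*} [Field F]

theorem perm3 {G : Type*} [CommGroup G] (ψ : G →* G) (hψ : Function.Injective ψ) {a b c : G} (h : a * b * c = 1)
    (hab : a ≠ b) (hac : a ≠ c) (hbc : b ≠ c) (ha : ψ a = a ∨ ψ a = b ∨ ψ a = c) (hb : ψ b = a ∨ ψ b = b ∨ ψ b = c)
    (hc : ψ c = a ∨ ψ c = b ∨ ψ c = c) : (ψ (ψ a) = a ∧ ψ (ψ b) = b ∧ ψ (ψ c) = c) ∨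
      (ψ (ψ a) * ψ a * a = 1 ∧ ψ (ψ b) * ψ b * b = 1 ∧ ψ (ψ c) * ψ c * c = 1) := by
  rcases ha with ha | ha | ha <;> rcases hb with hb | hb | hb <;> rcases hc with hc | hc | hc <;>
    first | exact absurd (hψ (ha.trans hb.symm)) hab | exact absurd (hψ (ha.trans hc.symm)) hac
          | exact absurd (hψ (hb.trans hc.symm)) hbc | (left; simp only [ha, hb, hc, and_self]; done)
          | (right; simp only [ha, hb, hc]; refine ⟨?_, ?_, ?_⟩ <;> rw [← h] <;> ac_rfl)

theorem rep3 {a c a' c' : F} (h1 : 2 * a' + c' = 2 * a + c) (h : ∀ z, (z - a') * (z - a') * (z - c') = (z - a) * (z - a) * (z - c)) :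
    a' = a ∧ c' = c := by
  have : a' = a := by
    by_contra k
    have k1 := h a'; have k2 := h a
    simp [sub_eq_zero, k, Ne.symm k] at k1 k2
    exact k (by linear_combination h1 + k2 - k1)
  exact ⟨this, by linear_combination h1 - 2 * this⟩

theorem root2 [IsAlgClosed F] (t n : F) : ∃ a, a ^ 2 - t * a + n = 0 := by
  obtain ⟨a, ha⟩ := IsAlgClosed.exists_root (X ^ 2 - C t * X + C n) (by
    rw [show (X ^ 2 - C t * X + C n : F[X]).degree = 2 by compute_degree!]; decide)
  exact ⟨a, by simpa using ha⟩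

theorem root3 [IsAlgClosed F] (t s : F) : ∃ a b c : Fˣ, a * b * c = 1 ∧ a.1 + b + c = t ∧ a.1 * b + a * c + b * c = s := by
  obtain ⟨a, ha⟩ := IsAlgClosed.exists_root (X ^ 3 - C t * X ^ 2 + C s * X - 1) (by
    rw [show (X ^ 3 - C t * X ^ 2 + C s * X - 1 : F[X]).degree = 3 by compute_degree!]; decide)
  obtain ⟨b, hb⟩ := root2 (t - a) (s - a * (t - a))
  have ha : a ^ 3 - t * a ^ 2 + s * a - 1 = 0 := by simpa using ha
  have h : a * b * (t - a - b) = 1 := by linear_combination ha - a * hb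
  exact ⟨.mkOfMulEqOne a _ ((mul_assoc _ _ _).symm.trans h), .mkOfMulEqOne b (a * _) ((mul_left_comm _ _ _).trans
    ((mul_assoc _ _ _).symm.trans h)), .mkOfMulEqOne _ _ ((mul_comm _ _).trans h), Units.ext h, by simp,
    by simp only [Units.val_mkOfMulEqOne]; linear_combination -hb⟩

theorem pow_kill {R : Type*} [Ring R] [Algebra F R] (p : ℕ) [Fact p.Prime] [CharP F p] {M : R} {f : F[X]} (hf : aeval M f = 0)
    {n j k : ℕ} (h : f ∣ (X ^ n - 1) ^ j) (hj : j ≤ p ^ k) : M ^ (p ^ k * n) = 1 := by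
  have := aeval_eq_zero_of_dvd_aeval_eq_zero (h.trans (pow_dvd_pow _ hj)) hf
  rwa [sub_pow_char_pow, one_pow, ← pow_mul, map_sub, map_pow, aeval_X, map_one, sub_eq_zero, mul_comm] at this

theorem dvd1 {a : Fˣ} {n : ℤ} (h : a ^ n = 1) : X - C a.1 ∣ X ^ n.natAbs - 1 :=
  dvd_iff_isRoot.2 (by simp [← Units.val_pow_eq_pow_val, pow_natAbs_eq_one.2 h])

theorem cop {a b : Fˣ} (h : a ≠ b) : IsCoprime (X - C a.1) (X - C b.1) :=
  isCoprime_X_sub_C_of_isUnit_sub (sub_ne_zero.2 (Units.val_injective.ne h)).isUnit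

theorem mat3 {R : Type*} [Ring R] [Algebra F R] (p : ℕ) [Fact p.Prime] [CharP F p] {M : R} {a b c : Fˣ} (h : a * b * c = 1)
    (hf : aeval M ((X - C a.1) * (X - C b.1) * (X - C c.1)) = 0) (k : ℤ) (hk : Function.Injective fun x : Fˣ => x ^ k)
    (e1 : (a ^ k).1 + (b ^ k).1 + (c ^ k).1 = a + b + c)
    (e2 : (a ^ k).1 * (b ^ k).1 + (a ^ k).1 * (c ^ k).1 + (b ^ k).1 * (c ^ k).1 = a * b + a * c + b * c) :
    M ^ (k ^ 2 - 1).natAbs = 1 ∨ M ^ (k ^ 2 + k + 1).natAbs = 1 ∨ M ^ (p * (k - 1).natAbs) = 1 ∨ (p = 2 ∧ M ^ 12 = 1) := by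
  have e3 : (a ^ k).1 * (b ^ k).1 * (c ^ k).1 = a * b * c := by
    simp only [← Units.val_mul, ← mul_zpow, h, _root_.one_zpow]
  have e : ∀ z : F, (z - (a ^ k).1) * (z - (b ^ k).1) * (z - (c ^ k).1) = (z - a) * (z - b) * (z - c) := fun z => by
    linear_combination (-z ^ 2) * e1 + z * e2 - e3
  have rep : ∀ a c : Fˣ, a * a * c = 1 → aeval M ((X - C a.1) * (X - C a.1) * (X - C c.1)) = 0 →
      2 * (a ^ k).1 + (c ^ k).1 = 2 * a + c →
      (∀ z : F, (z - (a ^ k).1) * (z - (a ^ k).1) * (z - (c ^ k).1) = (z - a) * (z - a) * (z - c)) →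
      M ^ (p * (k - 1).natAbs) = 1 ∨ (p = 2 ∧ M ^ 12 = 1) := fun a c h hf e1 e => by
    obtain ⟨h1, h2⟩ := rep3 e1 e
    have h1 := dvd1 (show a ^ (k - 1) = 1 by rw [_root_.zpow_sub_one, Units.ext h1, mul_inv_cancel])
    have h2 := dvd1 (show c ^ (k - 1) = 1 by rw [_root_.zpow_sub_one, Units.ext h2, mul_inv_cancel])
    have hp := (Fact.out : p.Prime).two_le
    by_cases hac : a = c
    · subst hac
      rcases hp.eq_or_lt with rfl | hp
      · have h3 := dvd1 (show a ^ (3 : ℤ) = 1 by rw [← h]; norm_cast; rw [pow_three'])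
        exact .inr ⟨rfl, pow_kill 2 hf (j := 3) (k := 2) (by rw [pow_three']; exact mul_dvd_mul (mul_dvd_mul h3 h3) h3) (by norm_num)⟩
      · exact .inl (by simpa using pow_kill p hf (j := 3) (k := 1) (by
          rw [pow_three']; exact mul_dvd_mul (mul_dvd_mul h1 h1) h1) (by rw [pow_one]; omega))
    · exact .inl (by simpa using pow_kill p hf (j := 2) (k := 1) (by
        rw [mul_assoc, pow_two]; exact mul_dvd_mul h1 ((cop hac).mul_dvd h1 h2)) (by rw [pow_one]; omega))
  by_cases hab : a = b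
  · subst hab; exact .inr (.inr (rep a c h hf (by linear_combination e1) e))
  by_cases hac : a = c
  · subst hac
    exact .inr (.inr (rep a b (by rw [← h]; ac_rfl) (by rw [← hf]; congr 1; ring) (by linear_combination e1)
      fun z => by linear_combination e z))
  by_cases hbc : b = c
  · subst hbc
    exact .inr (.inr (rep b a (by rw [← h]; ac_rfl) (by rw [← hf]; congr 1; ring) (by linear_combination e1)
      fun z => by linear_combination e z))
  have fin : ∀ n : ℤ, a ^ n = 1 → b ^ n = 1 → c ^ n = 1 → M ^ n.natAbs = 1 := fun n h1 h2 h3 => by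
    simpa using pow_kill p hf (j := 1) (k := 0) (by
      rw [pow_one]; exact ((cop hac).mul_left (cop hbc)).mul_dvd ((cop hab).mul_dvd (dvd1 h1) (dvd1 h2)) (dvd1 h3)) le_rfl
  have im : ∀ z : Fˣ, (z.1 - a) * (z - b) * (z - c) = 0 → z = a ∨ z = b ∨ z = c := fun z hz => by
    simpa [sub_eq_zero, or_assoc, Units.val_inj] using hz
  rcases perm3 (zpowGroupHom k) hk h hab hac hbc (im _ ((e _).symm.trans (by simp))) (im _ ((e _).symm.trans (by simp)))
    (im _ ((e _).symm.trans (by simp))) with ⟨h1, h2, h3⟩ | ⟨h1, h2, h3⟩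
  · left; apply fin <;> rw [_root_.zpow_sub_one, pow_two, _root_.zpow_mul, mul_inv_eq_one] <;> assumption
  · right; left; apply fin <;> rw [_root_.zpow_add_one, _root_.zpow_add, pow_two, _root_.zpow_mul] <;> assumption

theorem ch3 {M : Matrix (Fin 3) (Fin 3) F} (hd : M.det = 1) {a b c : Fˣ} (h : a * b * c = 1) (h1 : a.1 + b + c = M.trace)
    (h2 : a.1 * b + a * c + b * c = (adjugate M).trace) : aeval M ((X - C a.1) * (X - C b.1) * (X - C c.1)) = 0 := by
  have : (X - C a.1) * (X - C b.1) * (X - C c.1) = X ^ 3 - C M.trace * X ^ 2 + C (adjugate M).trace * X - C M.det := by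
    rw [← h1, ← h2, hd, ← Units.val_one, ← h]; simp only [Units.val_mul, map_add, map_mul]; ring
  rw [this]
  simp only [map_sub, map_add, map_mul, map_pow, aeval_X, aeval_C, Algebra.algebraMap_eq_smul_one, smul_mul_assoc, one_mul]
  ext i j
  fin_cases i <;> fin_cases j <;> simp [pow_succ, Matrix.mul_apply, Fin.sum_univ_three, trace_fin_three, adjugate_fin_three,
    det_fin_three] <;> ring

theorem mat3' [IsAlgClosed F] (p : ℕ) [Fact p.Prime] [CharP F p] (fr : F →+* F) {q : ℕ} (hq : 1 ≤ q) (hfr : ∀ x, fr x = x ^ q)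
    (M : SpecialLinearGroup (Fin 3) F) (h1 : fr (M.1.trace + (adjugate M.1).trace) = M.1.trace + (adjugate M.1).trace)
    (h2 : fr (M.1.trace * (adjugate M.1).trace) = M.1.trace * (adjugate M.1).trace) :
    M.1 ^ (q ^ 2 - 1) = 1 ∨ M.1 ^ (q ^ 2 + q + 1) = 1 ∨ M.1 ^ (q ^ 2 - q + 1) = 1 ∨ M.1 ^ (p * (q - 1)) = 1 ∨
      M.1 ^ (p * (q + 1)) = 1 ∨ (p = 2 ∧ M.1 ^ 12 = 1) := by
  obtain ⟨a, b, c, h, e1, e2⟩ := root3 M.1.trace (adjugate M.1).trace
  have hf := ch3 M.2 h e1 e2
  rw [map_add] at h1; rw [map_mul] at h2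
  have hk : Function.Injective fun x : Fˣ => x ^ (q : ℤ) := fun x y e => Units.ext (fr.injective (by
    simpa [hfr] using congrArg Units.val e))
  have v : ∀ x : Fˣ, (x ^ (q : ℤ)).1 = fr x := fun x => by simp [hfr]
  have k1 : 1 ≤ q ^ 2 := Nat.one_le_pow _ _ hq
  have k2 : q ≤ q ^ 2 := Nat.le_self_pow (by omega) _
  rcases mul_eq_zero.1 (show (fr M.1.trace - M.1.trace) * (fr M.1.trace - (adjugate M.1).trace) = 0 by
    linear_combination (fr M.1.trace) * h1 - h2) with k | k
  · have := mat3 p h hf q hk (by rw [v, v, v, ← map_add, ← map_add, e1]; linear_combination k)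
      (by rw [v, v, v, ← map_mul, ← map_mul, ← map_mul, ← map_add, ← map_add, e2]; linear_combination h1 - k)
    have n1 : ((q : ℤ) ^ 2 - 1).natAbs = q ^ 2 - 1 := by rw [← Nat.cast_pow]; omega
    have n2 : ((q : ℤ) ^ 2 + q + 1).natAbs = q ^ 2 + q + 1 := by rw [← Nat.cast_pow]; omega
    have n3 : ((q : ℤ) - 1).natAbs = q - 1 := by omega
    rw [n1, n2, n3] at this
    tauto
  · have h' : (a : F) * b * c = 1 := congrArg Units.val h
    have ia : (a⁻¹).1 = b * c := Units.inv_eq_of_mul_eq_one_right (by linear_combination h')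
    have ib : (b⁻¹).1 = a * c := Units.inv_eq_of_mul_eq_one_right (by linear_combination h')
    have ic : (c⁻¹).1 = a * b := Units.inv_eq_of_mul_eq_one_right (by linear_combination h')
    have v' : ∀ x : Fˣ, (x ^ (-q : ℤ)).1 = fr (x⁻¹).1 := fun x => by rw [← v, _root_.inv_zpow']
    have := mat3 p h hf (-q) (fun x y e => inv_injective (hk (by simpa using e)))
      (by rw [v', v', v', ← map_add, ← map_add, ia, ib, ic, show b.1 * c + a * c + a * b = (adjugate M.1).trace by
            linear_combination e2, e1]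
          linear_combination h1 - k)
      (by rw [v', v', v', ← map_mul, ← map_mul, ← map_mul, ← map_add, ← map_add, ia, ib, ic,
            show b.1 * c * (a * c) + b * c * (a * b) + a * c * (a * b) = M.1.trace by linear_combination e1 + (a + b + c) * h', e2]
          linear_combination k)
    have n1 : ((-q : ℤ) ^ 2 - 1).natAbs = q ^ 2 - 1 := by rw [neg_sq, ← Nat.cast_pow]; omega
    have n2 : ((-q : ℤ) ^ 2 + -q + 1).natAbs = q ^ 2 - q + 1 := by rw [neg_sq, ← Nat.cast_pow]; omega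
    have n3 : ((-q : ℤ) - 1).natAbs = q + 1 := by omega
    rw [n1, n2, n3] at this
    tauto

end Cfsg.Agent.Classical.Oct
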