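import Cfsg.Agent.Lib.Classical.Oct6
import Cfsg.Agent.Lib.Classical.Oct7

/-! Element orders in `G₂(q)`: traces, change of the field, fixed idempotents. -/
set_option autoImplicit false
open Matrix Cfsg.Lie Module Polynomial

namespace Cfsg.Agent.Classical.Oct
variable {F : Type*} [Field F]

theorem St_eq (t : St F) : t.1 = sl (toSL t) := by
  have h : sl (toSL t) ∈ St F := by
    rw [MulAction.mem_stabilizer_iff, sl_smul]; apply ext8 <;> simp [slf_apply, e]
  refine congrArg Subtype.val (toSL_inj (a₂ := ⟨_, h⟩) (Subtype.ext ?_))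
  change _ = sm (sl (toSL t))
  ext i j
  fin_cases i <;> fin_cases j <;> simp [sm, sl_smul, slf_apply, u, Fin.castLE]

noncomputable def T (g : A F) : F := LinearMap.trace F _ g.1.1

theorem T_conj (h g : A F) : T (h * g * h⁻¹) = T g := by
  change LinearMap.trace F _ (h.1.1 * g.1.1 * (h⁻¹).1.1) = _
  rw [LinearMap.trace_mul_cycle, show (h⁻¹).1.1 * h.1.1 = 1 from congrArg (fun z : A F => z.1.1) (inv_mul_cancel h), one_mul, T]

theorem T_sl (M : SpecialLinearGroup (Fin 3) F) : T (sl M) = 2 + (M.1.trace + (adjugate M.1).trace) := by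
  rw [T, LinearMap.trace_eq_matrix_trace F (Pi.basisFun F _), LinearMap.toMatrix_eq_toMatrix', Matrix.trace]
  simp only [diag_apply, LinearMap.toMatrix'_apply, Fin.sum_univ_eight, ← smul_def, sl_smul, slf_apply]
  simp [trace_fin_three, adjugate_fin_three]; ring

section bc
variable {L : Type*} [Field L] (f : F →+* L)

noncomputable def bcL : Module.End F (V F) →+* Module.End L (V L) :=
  (toLinAlgEquiv' (R := L) (n := Fin 8)).toRingEquiv.toRingHom.comp
    (f.mapMatrix.comp (LinearMap.toMatrixAlgEquiv' (R := F) (n := Fin 8)).toRingEquiv.toRingHom)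

theorem bcL_apply (g : Module.End F (V F)) (x : V F) : bcL f g (f ∘ x) = f ∘ g x := by
  funext i
  rw [Function.comp_apply, ← LinearMap.toMatrix'_mulVec g, RingHom.map_mulVec]; rfl

theorem comp_mul (x y : V F) : f ∘ (x ⋆ y) = (f ∘ x) ⋆ (f ∘ y) := by
  apply ext8 <;> simp [m0, m1, m2, m3, m4, m5, m6, m7]

def zm : V F →ₗ[F] V F →ₗ[F] V F := LinearMap.mk₂ F zornMul
  (by intros; apply ext8 <;> simp only [m0, m1, m2, m3, m4, m5, m6, m7, Pi.add_apply] <;> ring)
  (by intros; apply ext8 <;> simp only [m0, m1, m2, m3, m4, m5, m6, m7, Pi.smul_apply, smul_eq_mul] <;> ring)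
  (by intros; apply ext8 <;> simp only [m0, m1, m2, m3, m4, m5, m6, m7, Pi.add_apply] <;> ring)
  (by intros; apply ext8 <;> simp only [m0, m1, m2, m3, m4, m5, m6, m7, Pi.smul_apply, smul_eq_mul] <;> ring)

theorem comp_single (i : Fin 8) : f ∘ (Pi.single i 1 : V F) = Pi.single i 1 := by
  funext j; by_cases h : j = i <;> simp [h]

noncomputable def bc : A F →* A L := Units.map (
  ((bcL f : _ →* _).comp (MA F).subtype).codRestrict (MA L) fun g x y => by
    have : zm.compr₂ (bcL f g.1) = zm.compl₁₂ (bcL f g.1) (bcL f g.1) := LinearMap.ext_basis (Pi.basisFun L _) (Pi.basisFun L _)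
      fun i j => by
        change bcL f g.1 (_ ⋆ _) = bcL f g.1 _ ⋆ bcL f g.1 _
        rw [Pi.basisFun_apply, Pi.basisFun_apply, ← comp_single f, ← comp_single f, ← comp_mul, bcL_apply, bcL_apply, bcL_apply,
          g.2, comp_mul]
    exact congr($this x y))

theorem bc_smul (g : A F) (x : V F) : bc f g • (f ∘ x) = f ∘ (g • x) := bcL_apply f _ x

theorem bc_inj : Function.Injective (bc f) := fun g h e => A_ext fun x =>
  f.injective.comp_left ((bc_smul f g x).symm.trans (e ▸ bc_smul f h x))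

theorem T_bc (g : A F) : T (bc f g) = f (T g) := by
  rw [T, T, LinearMap.trace_eq_matrix_trace F (Pi.basisFun F _), LinearMap.toMatrix_eq_toMatrix']
  exact (trace_toLin'_eq _).trans (AddMonoidHom.map_trace f _).symm

theorem bc_bc {K : Type*} [Field K] (f' : L →+* K) (g : A F) : bc f' (bc f g) = bc (f'.comp f) g :=
  Units.ext (Subtype.ext ((Pi.basisFun K _).ext fun i => by
    rw [Pi.basisFun_apply, ← smul_def, ← smul_def]
    conv_lhs => rw [← comp_single f', ← comp_single f, bc_smul, bc_smul]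
    rw [← comp_single (f'.comp f), bc_smul]; rfl))

end bc

theorem exists_fix0 [Fintype F] (hq : 3 ≤ Fintype.card F) (h2 : (2 : F) ≠ 0) (s : A F) : ∃ v : V F, v ≠ 0 ∧ tr v = 0 ∧ s • v = v := by
  classical
  obtain ⟨φ⟩ := (exists_iso hq).1
  obtain ⟨h3, h4⟩ := S1055.result (F := F) (by
    obtain ⟨a, -, ha⟩ := Finset.exists_mem_notMem_of_card_lt_card (s := {0, 1}) (t := (Finset.univ : Finset F))
      (Finset.card_le_two.trans_lt hq)
    exact ⟨a, by simpa using ha⟩)
  let D := (Units.map (LinearMap.det.comp (MA F).subtype)).comp φ.toMonoidHom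
  have hD : LinearMap.det s.1.1 = 1 := by
    have := (IsSimpleGroup.eq_bot_or_eq_top_of_normal D.ker inferInstance).resolve_left fun h =>
      h4 ⟨⟨fun a b => (MonoidHom.ker_eq_bot_iff _).1 h (by rw [map_mul, map_mul, mul_comm])⟩⟩
    simpa [D] using congrArg Units.val (this.ge (Subgroup.mem_top (φ.symm s)))
  let R := s.1.1 ∘ₗ LinearMap.transvection (-tr) o
  have hR : ∀ x, R x = s • x - tr x • o := fun x => by
    simp only [R, LinearMap.comp_apply, LinearMap.transvection.apply, ← smul_def, smul_add, smul_smul', smul_o]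
    simp [sub_eq_add_neg]
  have d1 : (LinearMap.toMatrix' R).det = -1 := by
    rw [LinearMap.det_toMatrix', LinearMap.det_comp, hD, LinearMap.transvection.det]; simp [tr_apply, o]
  have d2 := LinearMap.BilinForm.toMatrix'_comp Bf R R
  rw [show LinearMap.BilinForm.comp Bf R R = Bf from LinearMap.ext₂ fun x y => by
    have k : ∀ x : V F, Bf x o = tr x ∧ Bf o x = tr x := fun x => by simp [B_apply, tr_apply, o, add_comm]
    simp only [LinearMap.BilinForm.comp_apply, hR, map_sub, map_smul, LinearMap.sub_apply, LinearMap.smul_apply, B_smul, k,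
      tr_N, smul_eq_mul, tr_apply o]
    simp [o]; ring] at d2
  have d3 : (LinearMap.BilinForm.toMatrix' (Bf (F := F))).det ≠ 0 := fun h => by
    obtain ⟨v, hv, hv'⟩ := exists_mulVec_eq_zero_iff.2 h
    exact hv (nondeg v fun w => by rw [← Matrix.toBilin'_toMatrix' Bf, toBilin'_apply', hv', dotProduct_zero])
  generalize LinearMap.BilinForm.toMatrix' (Bf (F := F)) = J at d2 d3
  have d4 := congrArg det (show (LinearMap.toMatrix' R)ᵀ * J * (LinearMap.toMatrix' R - 1) = (-(LinearMap.toMatrix' R - 1))ᵀ * J by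
    rw [mul_sub, ← d2]; simp [sub_mul])
  rw [det_mul, det_mul, det_mul, det_transpose, det_transpose, det_neg, d1] at d4
  obtain ⟨v, hv, hv'⟩ := (exists_mulVec_eq_zero_iff (M := LinearMap.toMatrix' R - 1)).2 (mul_left_cancel₀ (mul_ne_zero h2 d3) (by
    norm_num at d4; linear_combination -d4))
  rw [sub_mulVec, one_mulVec, LinearMap.toMatrix'_mulVec, sub_eq_zero, hR] at hv'
  have t : tr v = 0 := mul_left_cancel₀ h2 (by
    have := congrArg tr hv'
    simp only [map_sub, map_smul, tr_N, tr_apply o] at this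
    simp [o, one_add_one_eq_two] at this ⊢; tauto)
  exact ⟨v, hv, t, by simpa [t] using hv'⟩

theorem fix_idem [IsAlgClosed F] {s : A F} {m : ℕ} (hs : s ^ m = 1) (hm : (m : F) ≠ 0)
    (h : (2 : F) ≠ 0 → ∃ v : V F, v ≠ 0 ∧ tr v = 0 ∧ s • v = v) : ∃ x ∈ E F, s • x = x := by
  obtain ⟨z, hz, hz'⟩ : ∃ z : V F, s • z = z ∧ tr z ^ 2 ≠ 4 * Φ.N z := by
    by_contra! k
    by_cases h2 : (2 : F) = 0
    · have := fix_nondeg hs hm (smul_o s) fun w hw => Eq.trans (by simp [B_apply, tr_apply, o]) ((pow_eq_zero_iff two_ne_zero).1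
        (show tr w ^ 2 = 0 by linear_combination k w hw + 2 * Φ.N w * h2))
      simpa [o] using congrFun this 0
    obtain ⟨v, h0, h1, h3⟩ := h h2
    refine h0 (fix_nondeg hs hm h3 fun w hw => mul_left_cancel₀ (mul_ne_zero h2 h2) ?_)
    have := k (w + v) (by rw [smul_add, hw, h3])
    have k1 := k v h3
    rw [N_add, map_add, h1] at this; rw [h1] at k1
    linear_combination k w hw - this + k1
  obtain ⟨a, ha⟩ := root2 (tr z) (Φ.N z)
  have h0 : tr z - 2 * a ≠ 0 := fun k => hz' (by linear_combination (tr z - 2 * a) * k - 4 * ha)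
  rw [tr_apply, N_apply] at *
  refine ⟨(z 0 + z 7 - 2 * a)⁻¹ • (z - a • o), ⟨?_, ?_⟩, by rw [smul_smul', smul_sub', smul_smul', smul_o, hz]⟩ <;>
    simp only [o, Pi.smul_apply, Pi.sub_apply, cons_val, smul_eq_mul] <;> field_simp
  · ring
  · linear_combination ha

end Cfsg.Agent.Classical.Oct
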