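import Cfsg.Agent.Lib.Classical.Oct8

/-! Element orders in `G₂(q)`: the upper bound. -/
set_option autoImplicit false
open Matrix Cfsg.Lie Module Polynomial

namespace Cfsg.Agent.Classical.Oct
variable {F : Type*} [Field F]

theorem noswap {s : St F} (h2 : (sm s.1 - 1).det ≠ 0) {g : A F} (hg : g * s.1 = s.1 * g) : g ∈ St F := by
  rcases fix_e s h2 (smul_mem_E g e_mem) (by rw [← mul_smul, ← hg, mul_smul, show s.1 • e = e from s.2]) with h | h
  · exact h
  exfalso
  have h4 : sw * g ∈ St F := by rw [MulAction.mem_stabilizer_iff, mul_smul, h, ← sw_e, ← mul_smul, sw_sw, one_smul]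
  have h5 : ⟨_, h4⟩ * s = st' s * ⟨_, h4⟩ := Subtype.ext (by
    change sw * g * s.1 = sw * s.1 * sw * (sw * g)
    rw [mul_assoc, hg, mul_assoc, ← mul_assoc sw sw, sw_sw, one_mul, mul_assoc])
  have h6 : (toSL (st' s)).1.trace = (toSL s).1.trace := by
    have k : ∀ X Y : SpecialLinearGroup (Fin 3) F, (X * Y * X⁻¹).1.trace = Y.1.trace := fun X Y => by
      change (X.1 * Y.1 * (X⁻¹).1).trace = _
      rw [trace_mul_cycle, show (X⁻¹).1 * X.1 = 1 from congrArg Subtype.val (inv_mul_cancel X), one_mul]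
    rw [← mul_inv_eq_iff_eq_mul.2 h5, map_mul, map_mul, map_inv, k]
  have h7 : (toSL (st' s)).1 = adjugate (toSL s).1ᵀ := by
    rw [← mul_one (adjugate _), ← sm_st' s, ← mul_assoc]
    erw [adjugate_mul]
    rw [det_transpose, show (toSL s).1.det = 1 from (toSL s).2, one_smul, one_mul]; rfl
  have h8 := (toSL s).2
  rw [h7] at h6
  change ((toSL s).1 - 1).det ≠ 0 at h2
  generalize (toSL s).1 = M at h2 h6 h8
  simp [trace_fin_three, adjugate_fin_three, det_fin_three] at h6 h8
  exact h2 (by simp [det_fin_three]; linear_combination h8 - h6)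

theorem tr_pow (M : Matrix (Fin 3) (Fin 3) F) (h : M.det = 1) :
    (M ^ 2).trace + (adjugate (M ^ 2)).trace = (M.trace + (adjugate M).trace) ^ 2 - 2 * (M.trace * (adjugate M).trace) -
      2 * (M.trace + (adjugate M).trace) ∧
    (M ^ 3).trace + (adjugate (M ^ 3)).trace = (M.trace + (adjugate M).trace) ^ 3 + 6 -
      3 * (M.trace * (adjugate M).trace) * (M.trace + (adjugate M).trace + 2) ∧
    (M - 1).det = M.trace - (adjugate M).trace := by
  have k : ∀ M : Matrix (Fin 3) (Fin 3) F, M.det = 1 → (M ^ 2).trace = M.trace ^ 2 - 2 * (adjugate M).trace ∧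
      (M ^ 3).trace = M.trace ^ 3 - 3 * M.trace * (adjugate M).trace + 3 := fun M h => by
    rw [det_fin_three] at h
    simp only [pow_succ, pow_zero, one_mul, trace_fin_three, Matrix.mul_apply, Fin.sum_univ_three, adjugate_fin_three, of_apply,
      cons_val]
    exact ⟨by ring, by linear_combination 3 * h⟩
  have k1 := k M h
  have k2 := k (adjugate M) (by simp [det_adjugate, h])
  rw [adjugate_adjugate M (by simp), h, one_pow, one_smul] at k2
  rw [adjugate_pow, adjugate_pow, k1.1, k1.2, k2.1, k2.2]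
  refine ⟨by ring, by ring, ?_⟩
  rw [det_fin_three] at h
  simp [det_fin_three, trace_fin_three, adjugate_fin_three]; linear_combination h

theorem ch2 (x : M2 F) : x * x = x.trace • x - x.det • 1 := by
  ext i j; fin_cases i <;> fin_cases j <;> simp [Matrix.mul_apply, trace_fin_two, det_fin_two] <;> ring

theorem pelt [IsAlgClosed F] (p : ℕ) [Fact p.Prime] [CharP F p] {w : H F} {k : ℕ} (h : ph w ^ p ^ k = 1) : ph w ^ p = 1 := by
  have hp : p.Prime := Fact.out
  obtain ⟨c, hc⟩ := ker_ph.le (show w ^ p ^ k ∈ ph.ker from (map_pow _ _ _).trans h)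
  obtain ⟨d, hd⟩ := IsAlgClosed.exists_pow_nat_eq c.1 (pow_pos hp.pos k)
  have k1 : ∀ x : GL (Fin 2) F, GeneralLinearGroup.scalar (Fin 2) c = x ^ p ^ k → x.1 ^ p = Matrix.scalar (Fin 2) (d ^ p) := fun x hx => by
    have cm : Commute x.1 (Matrix.scalar (Fin 2) d) := (scalar_commute _ (Commute.all _) _).symm
    have n : IsNilpotent (x.1 - Matrix.scalar (Fin 2) d) := ⟨p ^ k, by
      rw [sub_pow_char_pow_of_commute _ _ cm, ← map_pow, hd, ← Units.val_pow_eq_pow_val, ← hx]; exact sub_self _⟩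
    have := ch2 (x.1 - Matrix.scalar (Fin 2) d)
    rw [(Matrix.isNilpotent_trace_of_isNilpotent n).eq_zero, show (x.1 - Matrix.scalar (Fin 2) d).det = 0 from n.elim fun j hj =>
        pow_eq_zero_iff'.1 (show (x.1 - Matrix.scalar (Fin 2) d).det ^ j = 0 by rw [← det_pow, hj, det_zero]) |>.1,
      zero_smul, zero_smul, sub_zero, ← pow_two] at this
    rw [map_pow, ← sub_eq_zero, ← sub_pow_char_of_commute _ cm, pow_eq_zero_of_le hp.two_le this]
  have hd0 : d ^ p ≠ 0 := pow_ne_zero _ (by rintro rfl; exact c.ne_zero (by rw [← hd, zero_pow (pow_pos hp.pos k).ne']))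
  rw [← map_pow]
  exact ker_ph.ge ⟨Units.mk0 _ hd0, Subtype.ext (Prod.ext (Units.ext (k1 _ (congrArg (fun z : H F => z.1.1) hc)).symm)
    (Units.ext (k1 _ (congrArg (fun z : H F => z.1.2) hc)).symm))⟩

theorem UBL [IsAlgClosed F] (p : ℕ) [Fact p.Prime] [CharP F p] (fr : F →+* F) {q : ℕ} (hq : 1 ≤ q) (hfr : ∀ x, fr x = x ^ q)
    {g : A F} (hT : ∀ i, fr (T (g ^ i)) = T (g ^ i)) {k m : ℕ}
    (hE : ∀ (v : V F) (a : F), v ≠ 0 → g ^ p ^ k • v = a • v → ∃ w : V F, w ≠ 0 ∧ g ^ p ^ k • w = fr a • w)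
    (hm : (m : F) ≠ 0) (hg : (g ^ p ^ k) ^ m = 1) (h1 : g ^ p ^ k ≠ 1) (hS : g ^ p ^ k ∈ St F) :
    g ^ (q ^ 2 - 1) = 1 ∨ g ^ (q ^ 2 + q + 1) = 1 ∨ g ^ (q ^ 2 - q + 1) = 1 ∨ g ^ (p * (q - 1)) = 1 ∨
      g ^ (p * (q + 1)) = 1 ∨ (p = 2 ∧ g ^ 12 = 1) := by
  have hp : p.Prime := Fact.out
  by_cases hd : (sm (g ^ p ^ k) - 1).det = 0
  · obtain ⟨h, x, e1, e2, e3⟩ := normal (s := ⟨_, hS⟩) hg hm h1 hd
    obtain ⟨w, hw⟩ := comm_ph e2 (g := h⁻¹ * g * h) (by
      rw [← e1]; simp only [mul_assoc, mul_inv_cancel_left]; rw [← mul_assoc g, ((Commute.refl g).pow_right _).eq, mul_assoc])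
    have xd : x.1.det = 1 := x.2
    obtain ⟨b, hb⟩ := root2 x.1.trace 1
    have dd : ∀ a : F, (x.1 - a • 1).det = a ^ 2 - x.1.trace * a + 1 := fun a => by
      rw [det_fin_two] at xd; simp [det_fin_two, trace_fin_two]; linear_combination xd
    obtain ⟨v, hv, hv'⟩ := exists_mulVec_eq_zero_iff.2 ((dd b).trans hb)
    have sm1 : ∀ z : V F, (g ^ p ^ k) • h • z = h • ph (io (x, 1)) • z := fun z => by rw [← e1]; simp [mul_smul]
    obtain ⟨z, hz, hz'⟩ := hE (h • cd (0, of fun i _ => v i)) b (by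
      rw [Ne, smul_eq_zero_iff_eq, map_eq_zero_iff _ cd.injective]
      exact fun k => hv (funext fun i => congrFun (congrFun (congrArg Prod.snd k) i) 0)) (by
      rw [sm1, ph_io, ← smul_smul', ← cd.map_smul]
      congr 2
      refine Prod.ext (by simp) (Matrix.ext fun i j => ?_)
      simpa [sub_mulVec, smul_mulVec, sub_eq_zero, mulVec, dotProduct, Matrix.mul_apply] using congrFun
        (show x.1 *ᵥ v = b • v by rwa [sub_mulVec, smul_mulVec, one_mulVec, sub_eq_zero] at hv') i)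
    obtain ⟨⟨z1, z2⟩, rfl⟩ : ∃ a, h • cd a = z := ⟨cd.symm (h⁻¹ • z), by simp⟩
    rw [sm1, ← smul_smul', ph_io, ← cd.map_smul] at hz'
    obtain ⟨f1, f2⟩ := Prod.ext_iff.1 (cd.injective (MulAction.injective h hz'))
    have b1 : b ≠ 1 := fun k => e2 (by simpa [k] using (dd b).trans hb)
    have b0 : b ≠ 0 := fun k => by simp [k] at hb
    have f3 : z1 = 0 := (smul_eq_zero_iff_right (sub_ne_zero.2 fun k => b1 (fr.injective (k.trans (map_one fr).symm)))).1
      (show (fr b - 1) • z1 = 0 by rw [sub_smul, one_smul, sub_eq_zero]; exact f1.symm)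
    have f4 : (x.1 - fr b • 1).det = 0 := by
      by_contra k
      have := ((isUnit_iff_isUnit_det _).2 (Ne.isUnit k)).mul_right_eq_zero.1
        (show (x.1 - fr b • 1) * z2 = 0 by rw [sub_mul, smul_mul_assoc, one_mul, sub_eq_zero]; exact f2)
      exact hz (by rw [show z1 = 0 from f3, show z2 = 0 from this, Prod.mk_zero_zero, map_zero, smul_zero])
    have fin : ∀ n : ℕ, b ^ n = 1 → g ^ (p * n) = 1 := fun n hn => by
      have u1 : (Units.mk0 b b0) ^ (n : ℤ) = 1 := Units.ext (by rw [zpow_natCast, Units.val_pow_eq_pow_val]; exact hn)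
      have u2 : (Units.mk0 b b0)⁻¹ ^ (n : ℤ) = 1 := by rw [_root_.inv_zpow, u1, inv_one]
      have u3 : x.1 ^ (p ^ 1 * n) = 1 := pow_kill p (f := (X - C b) * (X - C b⁻¹)) (by
        have : x.1.trace = b + b⁻¹ := by field_simp; linear_combination -hb
        simp only [map_mul, map_sub, aeval_X, aeval_C, Algebra.algebraMap_eq_smul_one, mul_sub, sub_mul, ch2, xd, this,
          smul_mul_assoc, mul_smul_comm, one_mul, mul_one, smul_smul, inv_mul_cancel₀ b0, add_smul, smul_sub]
        abel) (j := 2) (by rw [pow_two]; simpa using mul_dvd_mul (dvd1 u1) (dvd1 u2)) (by rw [pow_one]; exact hp.two_le)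
      have u4 : ph w ^ n = ph (w ^ n) := (map_pow _ _ _).symm
      have u5 := pelt p (w := w ^ n) (k := k + 1) (by
        rw [← u4, hw, ← pow_mul, show n * p ^ (k + 1) = p ^ k * (p ^ 1 * n) by ring, pow_mul, ← inv_inv h, inv_inv h⁻¹, conj_pow,
          inv_inv, show h⁻¹ * g ^ p ^ k * h = _ from e1, ← map_pow, ← map_pow, Prod.pow_mk, one_pow,
          show x ^ (p ^ 1 * n) = 1 from Subtype.ext u3]
        exact map_one (ph.comp io))
      rw [← u4, hw, ← pow_mul, ← inv_inv h, inv_inv h⁻¹, conj_pow, mul_comm n] at u5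
      rwa [inv_inv, mul_assoc, inv_mul_eq_one, right_eq_mul] at u5
    rw [dd, hfr] at f4
    rcases mul_eq_zero.1 (show (b ^ q - b) * (b ^ q * b - 1) = 0 by linear_combination b * f4 - b ^ q * hb) with k | k
    · refine .inr (.inr (.inr (.inl (fin _ (mul_right_cancel₀ b0 ?_)))))
      rw [← pow_succ, Nat.sub_add_cancel hq, one_mul, ← sub_eq_zero, k]
    · exact .inr (.inr (.inr (.inr (.inl (fin _ (by rw [pow_succ, ← sub_eq_zero, k]))))))
  have hg' : g ∈ St F := noswap (s := ⟨_, hS⟩) hd ((Commute.refl g).pow_right _).eq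
  obtain ⟨M, rfl⟩ : ∃ M, g = sl M := ⟨_, St_eq ⟨g, hg'⟩⟩
  have t1 := hT 1; have t2 := hT 2; have t3 := hT 3
  obtain ⟨c2, c3, c4⟩ := tr_pow M.1 M.2
  rw [show M.1 ^ 2 = (M ^ 2).1 from rfl] at c2; rw [show M.1 ^ 3 = (M ^ 3).1 from rfl] at c3
  simp only [← map_pow, T_sl, pow_one, c2, c3] at t1 t2 t3
  have t1 : fr (M.1.trace + (adjugate M.1).trace) = M.1.trace + (adjugate M.1).trace := by simpa [map_ofNat] using t1
  have t4 : fr (M.1.trace * (adjugate M.1).trace) = M.1.trace * (adjugate M.1).trace := by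
    generalize M.1.trace * (adjugate M.1).trace = π at t2 t3 ⊢
    by_cases h2 : (2 : F) = 0
    · have h0 : M.1.trace + (adjugate M.1).trace ≠ 0 := fun k => hd (by
        obtain ⟨a, ha, ha'⟩ := exists_mulVec_eq_zero_iff.2 (show (M.1 - 1).det = 0 by
          linear_combination c4 + k - (adjugate M.1).trace * h2)
        refine exists_mulVec_eq_zero_iff.1 ⟨a, ha, ?_⟩
        rw [sub_mulVec, one_mulVec, sub_eq_zero] at ha' ⊢
        refine u_inj ((St_u ⟨_, hS⟩ a).symm.trans ((MulAction.stabilizer (A F) (u a)).pow_mem ?_ _))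
        rw [MulAction.mem_stabilizer_iff, sl_smul]
        have := congrFun ha' 0; have := congrFun ha' 1; have := congrFun ha' 2
        apply ext8 <;> simp_all [slf_apply, u, mulVec, dotProduct, Fin.sum_univ_three])
      generalize M.1.trace + (adjugate M.1).trace = σ at t1 t3 h0
      simp only [map_add, map_sub, map_mul, map_pow, map_ofNat, t1] at t3
      exact mul_left_cancel₀ h0 (by linear_combination -t3 - (σ + 3) * (fr π - π) * h2)
    · generalize M.1.trace + (adjugate M.1).trace = σ at t1 t2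
      simp only [map_add, map_sub, map_mul, map_pow, map_ofNat, t1] at t2
      exact mul_left_cancel₀ h2 (by linear_combination -t2)
  have k : ∀ n : ℕ, M.1 ^ n = 1 → sl M ^ n = 1 := fun n h => by rw [← map_pow, show M ^ n = 1 from Subtype.ext h, map_one]
  exact (mat3' p fr hq hfr M t1 t4).imp (k _) (.imp (k _) (.imp (k _) (.imp (k _) (.imp (k _) (.imp_right (k _))))))

theorem unip (p : ℕ) [Fact p.Prime] [CharP F p] {g : A F} {k : ℕ} (h : g ^ p ^ k = 1) {j : ℕ}
    (hj : 8 ≤ p ^ j ∨ ((2 : F) ≠ 0 ∧ 7 ≤ p ^ j)) : g ^ p ^ j = 1 := by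
  have : CharP (Module.End F (V F)) p := charP_of_injective_algebraMap (algebraMap F _).injective p
  have e : ∀ j, (g.1.1 - 1) ^ p ^ j = (g ^ p ^ j).1.1 - 1 := fun j => by
    rw [sub_pow_char_pow_of_commute _ _ (Commute.one_right _), one_pow]; rfl
  have n : (g.1.1 - 1) ^ p ^ k = 0 := by rw [e, h]; exact sub_self _
  refine Units.ext (Subtype.ext (sub_eq_zero.1 ((e j).symm.trans ?_)))
  rcases hj with hj | ⟨h2, hj⟩
  · refine pow_eq_zero_of_le hj (LinearMap.ker_eq_top.1 (eq_top_iff.2 ?_))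
    have := Module.End.ker_pow_le_ker_pow_finrank (g.1.1 - 1) (p ^ k)
    rwa [n, LinearMap.ker_zero, show finrank F (V F) = 8 by simp] at this
  refine pow_eq_zero_of_le hj (LinearMap.ext fun x => ?_)
  have hW : ∀ x ∈ LinearMap.ker (tr (F := F)), (g.1.1 - 1) x ∈ LinearMap.ker tr := fun x _ =>
    show tr (g • x - x) = 0 by rw [map_sub, (tr_N g x).1, sub_self]
  have d := Module.Dual.finrank_ker_add_one_of_ne_zero (f := tr (F := F)) fun k => by simpa [tr_apply, Oct.e] using congr($k Oct.e)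
  have := Module.End.ker_pow_le_ker_pow_finrank ((g.1.1 - 1).restrict hW) (p ^ k) (x := ⟨x - (tr x / 2) • o, by
    rw [LinearMap.mem_ker, map_sub, map_smul, tr_apply o]; simp [o]; field_simp; ring⟩) (by
    rw [LinearMap.mem_ker, Module.End.pow_restrict]; exact Subtype.ext (by simp [LinearMap.restrict_apply, n]))
  rw [show finrank F (LinearMap.ker (tr (F := F))) = 7 by simpa using d, LinearMap.mem_ker, Module.End.pow_restrict] at this
  have := congrArg Subtype.val this
  rw [LinearMap.restrict_apply] at this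
  simp only [map_sub, map_smul, pow_succ _ 6, Module.End.mul_apply] at this ⊢
  simpa [← smul_def, smul_o] using this

end Cfsg.Agent.Classical.Oct
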