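import Cfsg.Agent.Lib.Classical.Eich
import Cfsg.Agent.Lib.Classical.Spinor

/-! The commutator subgroup of the orthogonal group. -/

set_option autoImplicit false

namespace Cfsg.Agent.Classical

open Module
open scoped commutatorElement

section Grp
variable {G : Type*} [Group G]

open _root_.Classical in
/-- the sign homomorphism of a subgroup of index two -/
noncomputable def signHom (H : Subgroup G) (h : H.index = 2) : G →* ℤˣ :=
  MonoidHom.mk' (fun g => if g ∈ H then 1 else -1) (by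
    intro a b
    by_cases ha : a ∈ H <;> by_cases hb : b ∈ H <;>
      simp [Subgroup.mul_mem_iff_of_index_two h, ha, hb])

theorem signHom_eq_one {H : Subgroup G} (h : H.index = 2) {g : G} : signHom H h g = 1 ↔ g ∈ H := by
  classical
  show (if g ∈ H then (1 : ℤˣ) else -1) = 1 ↔ _
  split_ifs with h1 <;> simp [h1]

theorem ker_signHom {H : Subgroup G} (h : H.index = 2) : (signHom H h).ker = H := by
  ext g; exact signHom_eq_one h

theorem index_ker_of_neg_one {φ : G →* ℤˣ} {g : G} (h : φ g = -1) : φ.ker.index = 2 := by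
  rw [Subgroup.index_ker, MonoidHom.range_eq_top_of_surjective]
  · simp
  · intro x
    rcases Int.units_eq_one_or x with rfl | rfl
    exacts [⟨1, map_one _⟩, ⟨g, h⟩]

theorem commutator_le_ker' {A : Type*} [CommGroup A] (φ : G →* A) : commutator G ≤ φ.ker :=
  Abelianization.commutator_subset_ker φ

end Grp

namespace Form
variable {F : Type*} [Field F] {V : Type*} [AddCommGroup V] [Module F V]

theorem Nondeg.orth_exists_N_ne {Φ : Form (Kind.orth F) V} (hΦ : Φ.Nondeg) [Nontrivial V] :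
    ∃ z, Φ.N z ≠ 0 := by
  by_contra h
  push Not at h
  obtain ⟨v, hv⟩ := _root_.exists_ne (0 : V)
  exact hv (hΦ v fun u => by rw [Φ.orth_B, h, h, h]; simp)

variable [FiniteDimensional F V] {Φ : Form (Kind.orth F) V}

theorem orth_rich0 (hΦ : Φ.Nondeg) (h : 3 ≤ finrank F V) : Φ.Rich0 := by
  intro e f hh
  have h1 := hh.finrank_hperp
  have : Nontrivial (Φ.hperp e f) := Module.nontrivial_of_finrank_pos (R := F) (by omega)
  obtain ⟨z, hz⟩ := (hh.nondeg_hperp hΦ).orth_exists_N_ne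
  exact ⟨z, _, z.2, rfl, hz⟩

theorem orth_rich (hΦ : Φ.Nondeg) (h : 5 ≤ finrank F V) : Φ.Rich := by
  intro e f u hh hu hN
  by_cases hu0 : u = 0
  · obtain ⟨y, a, h1, h2, h3⟩ := orth_rich0 hΦ (by omega) e f hh
    exact ⟨y, a, h1, by simp [hu0], h2, h3⟩
  have hW := hh.nondeg_hperp hΦ
  obtain ⟨u', h'⟩ := hW.exists_hyp (e := ⟨u, hu⟩) (by simpa using hu0) hN
  have h1 := hh.finrank_hperp
  obtain ⟨y, a, hy, h2, h3⟩ := orth_rich0 hW (by omega) _ _ h'
  exact ⟨y, a, y.2, ((Form.mem_hperp _).1 hy).1, h2, h3⟩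

theorem orth_rich_of_aniso (hΦ : Φ.Nondeg) (h : 3 ≤ finrank F V)
    (h' : ∀ e f u, Φ.IsHyp e f → u ∈ Φ.hperp e f → Φ.N u = 0 → u = 0) : Φ.Rich := by
  intro e f u hh hu hN
  obtain ⟨y, a, h1, h2, h3⟩ := orth_rich0 hΦ h e f hh
  exact ⟨y, a, h1, by simp [h' e f u hh hu hN], h2, h3⟩

/-- reflections as elements of the isometry group -/
def reflI (Φ : Form (Kind.orth F) V) (v : V) (h : Φ.N v ≠ 0) : Φ.Isom := ⟨Φ.refl v h, Φ.refl_mem v h⟩

omit [FiniteDimensional F V] in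
@[simp] theorem reflI_coe (v : V) (h) : (Φ.reflI v h).1 = Φ.refl v h := rfl

@[simp] theorem Good.dick_reflI (hG : Φ.Good) (hΦ : Φ.Nondeg) (v : V) (h) :
    hG.dick hΦ (Φ.reflI v h) = -1 := hG.dick_refl hΦ v h

theorem Good.hom_extI (hG : Φ.Good) (hΦ : Φ.Nondeg) {A : Type*} [Monoid A] {χ χ' : Φ.Isom →* A}
    (h : ∀ v h, χ (Φ.reflI v h) = χ' (Φ.reflI v h)) : χ = χ' := hG.hom_ext hΦ h

variable [Finite F]

@[simp] theorem Good.spin_reflI (hG : Φ.Good) (hΦ : Φ.Nondeg) (v : V) (h) :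
    hG.spin hΦ (Φ.reflI v h) = sqSign F (Units.mk0 _ h) := hG.spin_refl hΦ v h

theorem Good.ker_le (hG : Φ.Good) (hΦ : Φ.Nondeg) {N : Subgroup (V ≃ₗ[F] V)}
    (h1 : ∀ v w hv hw, (∃ t, Φ.N v = t ^ 2 * Φ.N w) → Φ.refl v hv * Φ.refl w hw ∈ N)
    (g : Φ.Isom) (hd : hG.dick hΦ g = 1) (hs : hG.spin hΦ g = 1) : g.1 ∈ N := by
  let M : Subgroup Φ.Isom := N.subgroupOf Φ.Isom ⊓ ((hG.dick hΦ).ker ⊓ (hG.spin hΦ).ker)
  let s : ∀ v, Φ.N v ≠ 0 → ℤˣ := fun v h => sqSign F (Units.mk0 _ h)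
  have h2 : ∀ v w hv hw, s v hv = s w hw → Φ.reflI v hv * Φ.reflI w hw ∈ M := by
    intro v w hv hw h
    refine ⟨h1 v w hv hw (sqSign_eq_iff.1 h), MonoidHom.mem_ker.2 ?_, MonoidHom.mem_ker.2 ?_⟩
    · simp
    · rw [map_mul, hG.spin_reflI, hG.spin_reflI, show sqSign F _ = _ from h, ← sq, Int.units_sq]
  have hrr : ∀ v hv, Φ.reflI v hv * Φ.reflI v hv = 1 := fun v hv => Subtype.ext (Φ.refl_mul_self v hv)
  have hrr' : ∀ v hv x, Φ.reflI v hv * (Φ.reflI v hv * x) = x := fun v hv x => by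
    rw [← mul_assoc, hrr, one_mul]
  have hc : ∀ w hw u hu, ∃ hx, Φ.reflI w hw * Φ.reflI u hu * Φ.reflI w hw = Φ.reflI (Φ.refl w hw u) hx ∧
      s _ hx = s u hu := by
    intro w hw u hu
    have := Φ.refl_conj (Φ.refl_mem w hw) u hu
    rw [refl_inv] at this
    exact ⟨by rwa [(Φ.refl_mem w hw).2], Subtype.ext this, by simp only [s, (Φ.refl_mem w hw).2]⟩
  have key := hG.induction hΦ (P := fun g => ∀ hg : g ∈ Φ.Isom, ⟨g, hg⟩ ∈ M ∨
      (∃ v hv, Φ.reflI v hv * ⟨g, hg⟩ ∈ M) ∨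
      ∃ v hv w hw, s v hv ≠ s w hw ∧ Φ.reflI v hv * (Φ.reflI w hw * ⟨g, hg⟩) ∈ M)
    (fun _ => Or.inl M.one_mem) (by
      intro u hu g hg ih hg'
      have e : (⟨Φ.refl u hu * g, hg'⟩ : Φ.Isom) = Φ.reflI u hu * ⟨g, hg⟩ := rfl
      rw [e]
      rcases ih hg with h | ⟨v, hv, h⟩ | ⟨v, hv, w, hw, hne, h⟩
      · exact Or.inr (Or.inl ⟨u, hu, by rwa [hrr']⟩)
      · by_cases h3 : s u hu = s v hv
        · left
          have := mul_mem (h2 _ _ _ _ h3) h
          rwa [mul_assoc, hrr'] at this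
        · exact Or.inr (Or.inr ⟨v, hv, u, hu, Ne.symm h3, by rwa [hrr']⟩)
      · right; left
        by_cases h3 : s u hu = s v hv
        · obtain ⟨hx, e1, e2⟩ := hc w hw u hu
          have := mul_mem (h2 _ _ hx hv (e2.trans h3)) h
          rw [← e1] at this
          simp only [mul_assoc, hrr'] at this
          exact ⟨w, hw, this⟩
        · have h4 : s u hu = s w hw := by
            rcases Int.units_eq_one_or (s u hu) with a | a <;>
            rcases Int.units_eq_one_or (s v hv) with b | b <;>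
            rcases Int.units_eq_one_or (s w hw) with c | c <;> simp_all
          obtain ⟨hx, e1, e2⟩ := hc v hv u hu
          obtain ⟨hy, e3, e4⟩ := hc v hv w hw
          have := mul_mem (h2 _ _ hx hy (e2.trans (h4.trans e4.symm))) h
          rw [← e1, ← e3] at this
          simp only [mul_assoc, hrr'] at this
          exact ⟨v, hv, this⟩)
  rcases key g g.2 g.2 with h | ⟨v, hv, h⟩ | ⟨v, hv, w, hw, hne, h⟩
  · exact h.1
  · have := MonoidHom.mem_ker.1 h.2.1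
    simp [hd] at this
  · have := MonoidHom.mem_ker.1 h.2.2
    simp only [map_mul, hG.spin_reflI, Subtype.coe_eta, hs, mul_one] at this
    exact absurd ((eq_inv_of_mul_eq_one_left this).trans (Int.units_inv_eq_self _)) hne

omit [Finite F] in
theorem exists_conj_refl (hΦ : Φ.Nondeg) {v w : V} (hv : Φ.N v ≠ 0) (hw : Φ.N w ≠ 0)
    (h : ∃ t, Φ.N v = t ^ 2 * Φ.N w) : ∃ g ∈ Φ.Isom, g * Φ.refl v hv * g⁻¹ = Φ.refl w hw := by
  obtain ⟨t, ht⟩ := h
  have ht0 : t ≠ 0 := by rintro rfl; simp [hv] at ht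
  obtain ⟨g, hg, e⟩ := hΦ.exists_isom_vec (u := v) (u' := t • w) (by rintro rfl; simp at hv)
    (smul_ne_zero ht0 (by rintro rfl; simp at hw)) (by rw [Φ.orth_N_smul, ht])
  exact ⟨g, hg, by rw [Φ.refl_conj hg, Φ.refl_congr _ e, Φ.refl_smul _ _ ht0]⟩

theorem Good.mem_commutator_iff (hG : Φ.Good) (hΦ : Φ.Nondeg) {g : Φ.Isom} :
    g ∈ commutator Φ.Isom ↔ hG.dick hΦ g = 1 ∧ hG.spin hΦ g = 1 := by
  refine ⟨fun h => ⟨commutator_le_ker' _ h, commutator_le_ker' _ h⟩, fun h => ?_⟩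
  rw [mem_commutator_subtype]
  refine hG.ker_le hΦ (fun v w hv hw h => ?_) g h.1 h.2
  obtain ⟨g, hg, e⟩ := exists_conj_refl hΦ hv hw h
  have := Subgroup.commutator_mem_commutator (Φ.refl_mem v hv) hg
  rwa [commutatorElement_def, refl_inv, mul_assoc, mul_assoc, ← mul_assoc g, e] at this

theorem Good.commutator_eq (hG : Φ.Good) (hΦ : Φ.Nondeg) :
    commutator Φ.Isom = ((hG.dick hΦ).prod (hG.spin hΦ)).ker := by
  ext g; rw [hG.mem_commutator_iff hΦ, MonoidHom.mem_ker, Prod.ext_iff]; rfl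

theorem sqSign_of_two (h2 : (2 : F) = 0) (x : Fˣ) : sqSign F x = 1 := by
  obtain ⟨t, ht⟩ := exists_sq_of_two h2 (x : F)
  exact sqSign_eq_one_iff.2 ⟨t, by rw [← ht, sq]⟩

theorem Good.spin_of_two (hG : Φ.Good) (hΦ : Φ.Nondeg) (h2 : (2 : F) = 0) : hG.spin hΦ = 1 :=
  hG.hom_extI hΦ fun v h => by rw [hG.spin_reflI, sqSign_of_two h2]; rfl

theorem Good.commutator_eq_of_two (hG : Φ.Good) (hΦ : Φ.Nondeg) (h2 : (2 : F) = 0) :
    commutator Φ.Isom = (hG.dick hΦ).ker := by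
  ext g; rw [hG.mem_commutator_iff hΦ, hG.spin_of_two hΦ h2]; simp

theorem Good.index_commutator_of_two (hG : Φ.Good) (hΦ : Φ.Nondeg) (h2 : (2 : F) = 0)
    (hn : finrank F V ≠ 0) : (commutator Φ.Isom).index = 2 := by
  have : Nontrivial V := Module.nontrivial_of_finrank_pos (R := F) (by omega)
  obtain ⟨z, hz⟩ := hΦ.orth_exists_N_ne
  rw [hG.commutator_eq_of_two hΦ h2]
  exact index_ker_of_neg_one (hG.dick_refl hΦ z hz)

theorem exists_not_isSquare (h2 : (2 : F) ≠ 0) : ∃ a : F, ¬ IsSquare a :=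
  FiniteField.exists_nonsquare fun h => h2 (by
    have := ringChar.Nat.cast_ringChar (R := F); rw [h] at this; exact_mod_cast this)

theorem Good.exists_refl_pair (hG : Φ.Good) (hΦ : Φ.Nondeg) (h2 : (2 : F) ≠ 0) (hn : 2 ≤ finrank F V) :
    ∃ v hv w hw, hG.spin hΦ (Φ.reflI v hv) = 1 ∧ hG.spin hΦ (Φ.reflI w hw) = -1 := by
  obtain ⟨a, ha⟩ := exists_not_isSquare h2
  obtain ⟨v, hv⟩ := orth_represents hΦ hn 1
  obtain ⟨w, hw⟩ := orth_represents hΦ hn a
  have ha0 : a ≠ 0 := by rintro rfl; simp at ha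
  refine ⟨v, by simp [hv], w, by simp [hw, ha0], ?_, ?_⟩
  · rw [hG.spin_reflI, sqSign_eq_one_iff]; simp [hv]
  · rw [hG.spin_reflI, sqSign_eq_neg_one_iff]; simpa [hw]

theorem Good.chi_surjective (hG : Φ.Good) (hΦ : Φ.Nondeg) (h2 : (2 : F) ≠ 0) (hn : 2 ≤ finrank F V) :
    Function.Surjective ((hG.dick hΦ).prod (hG.spin hΦ)) := by
  obtain ⟨v, hv, w, hw, h1, h3⟩ := hG.exists_refl_pair hΦ h2 hn
  rintro ⟨a, b⟩
  rcases Int.units_eq_one_or a with rfl | rfl <;> rcases Int.units_eq_one_or b with rfl | rfl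
  · exact ⟨1, map_one _⟩
  · exact ⟨Φ.reflI v hv * Φ.reflI w hw, by rw [map_mul]; simp only [MonoidHom.prod_apply, h1, h3]; simp⟩
  · exact ⟨Φ.reflI v hv, by simp only [MonoidHom.prod_apply, h1]; simp⟩
  · exact ⟨Φ.reflI w hw, by simp only [MonoidHom.prod_apply, h3]; simp⟩

theorem index_commutator_odd (hΦ : Φ.Nondeg) (h2 : (2 : F) ≠ 0) (hn : 2 ≤ finrank F V) :
    (commutator Φ.Isom).index = 4 := by
  have hG := good_of_two hΦ h2
  rw [hG.commutator_eq hΦ, Subgroup.index_ker,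
    MonoidHom.range_eq_top_of_surjective _ (hG.chi_surjective hΦ h2 hn)]
  simp

omit [Finite F] in
theorem Good.dick_eq_one_iff (hG : Φ.Good) (hΦ : Φ.Nondeg) (h2 : (2 : F) ≠ 0) {g : Φ.Isom} :
    hG.dick hΦ g = 1 ↔ LinearEquiv.det g.1 = 1 := by
  rw [Units.ext_iff (u := LinearEquiv.det g.1), hG.det_eq_dick hΦ]
  rcases Int.units_eq_one_or (hG.dick hΦ g) with h | h <;> simp [h]
  intro h; exact h2 (by linear_combination -h)

/-! ### `E` is the commutator subgroup -/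

omit [Finite F] [FiniteDimensional F V] in
theorem refl_mul_refl_map {x : V ≃ₗ[F] V} (hx : x ∈ Φ.E) (v : V) (h : Φ.N v ≠ 0) (h') :
    Φ.refl (x v) h' * Φ.refl v h ∈ Φ.E := by
  rw [← Φ.refl_conj (Φ.E_le hx) v h, mul_assoc, mul_assoc]
  refine mul_mem hx ?_
  have := Φ.E_conj (Φ.refl_mem v h) (inv_mem hx)
  rwa [refl_inv, mul_assoc] at this

omit [Finite F] in
theorem exists_E_plane (hΦ : Φ.Nondeg) {e f : V} (h : Φ.IsHyp e f) {z : V} (hz : z ∈ Φ.hperp e f)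
    (hz0 : z ≠ 0) (u : F) (hu : u ≠ 0) : ∃ x ∈ Φ.E, ∃ β : F, x z = β • f + u • e := by
  obtain ⟨y, -, hy⟩ := (h.nondeg_hperp hΦ).exists_perp_one (U := ⊥) (u := ⟨z, hz⟩) (by simpa using hz0)
  have hy' : Φ.B z y = 1 := hy
  have e1 : Φ.IsEich e (u • y.1) _ := ⟨h.he, by simp [(Φ.mem_hperp.1 y.2).1], rfl⟩
  have h1 := Φ.eich_of_perp _ _ _ e1 (Φ.mem_hperp.1 hz).1
  rw [Φ.orth_B_smul, hy', mul_one] at h1
  have h3 : Φ.B (z + u • e) f = u := by simp [(Φ.mem_hperp.1 hz).2, h.hef]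
  obtain ⟨y', a, h', β, h2⟩ := h.swap.exists_move (v := z + u • e) (by rwa [h3])
  refine ⟨_, mul_mem (Φ.eich_mem_E _ _ _ h') (Φ.eich_mem_E _ _ _ e1), β, ?_⟩
  rw [LinearEquiv.mul_apply, h1, h2, h3]; simp

omit [Finite F] in
theorem exists_E_plane' (hΦ : Φ.Nondeg) {e f : V} (h : Φ.IsHyp e f) {v : V} (hv : v ≠ 0) :
    ∃ x ∈ Φ.E, ∃ α β : F, x v = α • e + β • f := by
  by_cases h1 : Φ.B v e = 0
  · by_cases h2 : Φ.B v f = 0
    · obtain ⟨x, hx, β, h3⟩ := exists_E_plane hΦ h (Φ.mem_hperp.2 ⟨h1, h2⟩) hv 1 one_ne_zero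
      exact ⟨x, hx, 1, β, by rw [h3, add_comm]⟩
    · obtain ⟨y, a, h', β, h3⟩ := h.swap.exists_move h2
      exact ⟨_, Φ.eich_mem_E _ _ _ h', Φ.B v f, β, by rw [h3, add_comm]; simp⟩
  · obtain ⟨y, a, h', β, h3⟩ := h.exists_move h1
    exact ⟨_, Φ.eich_mem_E _ _ _ h', β, _, h3⟩

omit [Finite F] [FiniteDimensional F V] in
theorem refl_plane {e f : V} (h : Φ.IsHyp e f) {α β : F} (h1 : Φ.N (α • e + β • f) ≠ 0) :
    ∃ h', Φ.refl (α • e + β • f) h1 = Φ.refl (e + (β / α) • f) h' := by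
  have h2 := h1
  rw [h.orth_N] at h2
  have hα : α ≠ 0 := left_ne_zero_of_mul h2
  have hβ : β ≠ 0 := right_ne_zero_of_mul h2
  refine ⟨by rw [h.N_add_smul]; exact div_ne_zero hβ hα, ?_⟩
  rw [← Φ.refl_smul (e + (β / α) • f) _ hα (by convert h1 using 2; match_scalars <;> field_simp)]
  · exact Φ.refl_congr _ (by match_scalars <;> field_simp)

omit [Finite F] in
theorem exists_refl_plane (hΦ : Φ.Nondeg) {e f : V} (h : Φ.IsHyp e f) {v : V} (hv : Φ.N v ≠ 0) :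
    ∃ (a s : F) (h' : _), s ≠ 0 ∧ Φ.N v = s ^ 2 * a ∧ Φ.refl (e + a • f) h' * Φ.refl v hv ∈ Φ.E := by
  obtain ⟨x, hx, α, β, h1⟩ := exists_E_plane' hΦ h (v := v) (by rintro rfl; simp at hv)
  have h2 : Φ.N (α • e + β • f) = Φ.N v := by rw [← h1, (Φ.E_le hx).2]
  have h3 := refl_mul_refl_map hx v hv (by rwa [h1, h2])
  obtain ⟨h', h4⟩ := refl_plane h (h2 ▸ hv)
  rw [Φ.refl_congr _ h1, h4] at h3
  rw [h.orth_N] at h2
  have hα : α ≠ 0 := left_ne_zero_of_mul (h2 ▸ hv)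
  exact ⟨_, α, h', hα, by rw [← h2]; field_simp, h3⟩

omit [Finite F] in
theorem dil_sq_mem_E (hΦ : Φ.Nondeg) (hn : 3 ≤ finrank F V) {e f : V} (h : Φ.IsHyp e f) (t : Fˣ) :
    Φ.dil e f h (t ^ 2) ∈ Φ.E := by
  obtain ⟨z, a, hz, ha, ha0⟩ := orth_rich0 hΦ hn e f h
  have hz' : Φ.N z ≠ 0 := fun h => ha0 (ha.trans h)
  have key : ∀ u : F, u ≠ 0 → ∃ h', Φ.refl (e + (Φ.N z / u ^ 2) • f) h' * Φ.refl z hz' ∈ Φ.E := by
    intro u hu
    obtain ⟨x, hx, β, h1⟩ := exists_E_plane hΦ h hz (by rintro rfl; simp at hz') u hu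
    rw [add_comm] at h1
    have h2 : Φ.N (u • e + β • f) = Φ.N z := by rw [← h1, (Φ.E_le hx).2]
    have h3 := refl_mul_refl_map hx z hz' (by rwa [h1, h2])
    obtain ⟨h', h4⟩ := refl_plane h (h2 ▸ hz')
    rw [Φ.refl_congr _ h1, h4] at h3
    rw [h.orth_N] at h2
    have : β / u = Φ.N z / u ^ 2 := by rw [← h2]; field_simp
    simp only [this] at h3
    exact ⟨_, h3⟩
  obtain ⟨h1, m1⟩ := key t t.ne_zero
  obtain ⟨h2, m2⟩ := key 1 one_ne_zero
  have := mul_mem m1 (inv_mem m2)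
  rw [mul_inv_rev, refl_inv, refl_inv, mul_assoc, ← mul_assoc (Φ.refl z hz'), refl_mul_self, one_mul,
    h.refl_mul_refl (by simp [hz']) (by simp [hz'])] at this
  convert this using 2
  ext; simp; field_simp

omit [Finite F] in
theorem refl_mul_refl_mem_E (hΦ : Φ.Nondeg) (hn : 3 ≤ finrank F V) {e f : V} (h : Φ.IsHyp e f)
    (v w : V) (hv hw) (ht : ∃ t, Φ.N v = t ^ 2 * Φ.N w) : Φ.refl v hv * Φ.refl w hw ∈ Φ.E := by
  obtain ⟨t, ht⟩ := ht
  obtain ⟨a, s, h1, hs, e1, m1⟩ := exists_refl_plane hΦ h hv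
  obtain ⟨b, r, h2, hr, e2, m2⟩ := exists_refl_plane hΦ h hw
  have ha : a ≠ 0 := by rwa [h.N_add_smul] at h1
  have hb : b ≠ 0 := by rwa [h.N_add_smul] at h2
  have ht0 : t ≠ 0 := by rintro rfl; simp [hv] at ht
  have m3 := dil_sq_mem_E hΦ hn h (Units.mk0 (s / (t * r)) (by simp [hs, ht0, hr]))
  have e3 : Units.mk0 (s / (t * r)) (by simp [hs, ht0, hr]) ^ 2 = Units.mk0 (b / a) (div_ne_zero hb ha) := by
    ext
    simp only [Units.val_pow_eq_pow_val, Units.val_mk0]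
    field_simp
    linear_combination ht - e1 + t ^ 2 * e2
  rw [e3, ← h.refl_mul_refl ha hb] at m3
  have := mul_mem (mul_mem (inv_mem m1) m3) m2
  rw [mul_inv_rev, refl_inv, refl_inv] at this
  simpa only [mul_assoc, ← mul_assoc (Φ.refl (e + a • f) _) (Φ.refl (e + a • f) _), refl_mul_self, one_mul,
    ← mul_assoc (Φ.refl (e + b • f) _) (Φ.refl (e + b • f) _)] using this

omit [Finite F] [FiniteDimensional F V] in
theorem Good.E_le_of (hG : Φ.Good) {N : Subgroup (V ≃ₗ[F] V)}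
    (h : ∀ v w hv hw, Φ.N v = Φ.N w → Φ.refl v hv * Φ.refl w hw ∈ N) : Φ.E ≤ N := by
  have key : ∀ {e y a} (h : Φ.IsEich e y a), Φ.N y ≠ 0 → Φ.eich e y a h ∈ N := by
    intro e y a h' hy
    obtain ⟨h'', h2⟩ := Φ.eich_eq_refl_mul h' hy
    rw [h2]
    refine h _ _ _ _ ?_
    rw [Φ.N_sub, Φ.orth_N_smul, h'.he, Φ.orth_B_smul, h'.hy]; simp
  refine Φ.E_le_of fun e y a h he0 => ?_
  by_cases hy : Φ.N y = 0
  swap
  · exact key h hy
  by_cases hy' : y ∈ (F ∙ e)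
  · obtain ⟨c, rfl⟩ := Submodule.mem_span_singleton.1 hy'
    rw [eich_of_mem_span]; exact one_mem _
  obtain ⟨z, h1, h2, h3⟩ := hG e y h.he hy h.hy he0 hy'
  have e1 : Φ.IsEich e z (Φ.N z) := ⟨h.he, h1, rfl⟩
  have e2 : Φ.IsEich e (y - z) (Φ.N (y - z)) := ⟨h.he, by simp [h.hy, h1], rfl⟩
  have := mul_mem (key e1 h2) (key e2 h3)
  rw [eich_mul] at this
  convert this using 1
  apply eich_congr
  · simp
  · have h4 : a = Φ.N y := h.ha
    have h5 : Φ.N z + Φ.N (y - z) + Φ.B (y - z) z = Φ.N (z + (y - z)) := (e1.add e2).ha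
    rw [h4, h5]; simp

theorem Good.E_eq (hG : Φ.Good) (hΦ : Φ.Nondeg) (hn : 3 ≤ finrank F V) :
    Φ.E = ⁅Φ.Isom, Φ.Isom⁆ := by
  obtain ⟨e, f, h⟩ := orth_exists_hyp hΦ hn
  apply le_antisymm
  · refine hG.E_le_of fun v w hv hw h => ?_
    have := (hG.mem_commutator_iff hΦ (g := Φ.reflI v hv * Φ.reflI w hw)).2
      (by simp [h])
    exact mem_commutator_subtype.1 this
  · intro g hg
    have hg' := Subgroup.commutator_le_self _ hg
    have := (hG.mem_commutator_iff hΦ (g := ⟨g, hg'⟩)).1 (mem_commutator_subtype.2 hg)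
    exact hG.ker_le hΦ (refl_mul_refl_mem_E hΦ hn h) ⟨g, hg'⟩ this.1 this.2

theorem Good.mem_E_iff (hG : Φ.Good) (hΦ : Φ.Nondeg) (hn : 3 ≤ finrank F V) {g : Φ.Isom} :
    g.1 ∈ Φ.E ↔ g ∈ commutator Φ.Isom := by rw [hG.E_eq hΦ hn, mem_commutator_subtype]

/-- the commutator subgroup as `E` -/
noncomputable def Good.omegaEquiv (hG : Φ.Good) (hΦ : Φ.Nondeg) (hn : 3 ≤ finrank F V) :
    commutator Φ.Isom ≃* Φ.E where
  toFun g := ⟨g.1.1, (hG.mem_E_iff hΦ hn).2 g.2⟩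
  invFun g := ⟨⟨g.1, Φ.E_le g.2⟩, (hG.mem_E_iff hΦ hn).1 g.2⟩
  left_inv _ := rfl
  right_inv _ := rfl
  map_mul' _ _ := rfl

theorem orth_E_perfect (hΦ : Φ.Nondeg) (hn : 5 ≤ finrank F V) : commutator Φ.E = ⊤ :=
  commutator_eq_top_of_le (E_le_commutator hΦ hn fun e f h => orth_exists_hyp (h.nondeg_hperp hΦ)
    (by have := h.finrank_hperp; omega))

theorem orth_simple (hΦ : Φ.Nondeg) (hn : 5 ≤ finrank F V) :
    IsSimpleGroup (commutator Φ.Isom ⧸ Subgroup.center (commutator Φ.Isom)) := by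
  have hG := good_of_finrank hΦ (by omega)
  obtain ⟨e, f, h⟩ := orth_exists_hyp hΦ (by omega)
  have := (orth_rich hΦ hn).simple_E hΦ h (orth_E_perfect hΦ hn)
  obtain ⟨φ⟩ := nonempty_central_quot_equiv (hG.omegaEquiv hΦ (by omega))
  exact φ.isSimpleGroup

/-! ### the scalar `-1` -/

omit [Finite F] [FiniteDimensional F V] in
theorem IsHyp.ext_refl {e f : V} (h : Φ.IsHyp e f) {v : Φ.hperp e f} (h' : Φ.N v ≠ 0) :
    h.ext ((Φ.restrict (Φ.hperp e f)).refl v h') = Φ.refl v h' := by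
  ext x
  obtain ⟨α, β, z, hz, rfl⟩ := h.decomp x
  have hu := Φ.mem_hperp.1 v.2
  rw [map_add, map_add, map_smul, map_smul, h.ext_e, h.ext_f, h.ext_perp _ ⟨z, hz⟩, refl_apply,
    (Φ.restrict (Φ.hperp e f)).refl_apply v h']
  simp [Φ.B_symm_zero hu.1, Φ.B_symm_zero hu.2]
  abel

/-- extension of isometries of the complement of a hyperbolic plane -/
noncomputable def IsHyp.extI {K : Kind F} {Φ : Form K V} {e f : V} (h : Φ.IsHyp e f) :
    (Φ.restrict (Φ.hperp e f)).Isom →* Φ.Isom :=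
  (h.ext.comp (Subgroup.subtype _)).codRestrict _ fun g => h.ext_mem g.2

theorem IsHyp.spin_ext {e f : V} (h : Φ.IsHyp e f) (hG : Φ.Good) (hΦ : Φ.Nondeg)
    (hG' : (Φ.restrict (Φ.hperp e f)).Good) (g) :
    hG.spin hΦ (h.extI g) = hG'.spin (h.nondeg_hperp hΦ) g := by
  have := hG'.hom_ext (h.nondeg_hperp hΦ) (χ := (hG.spin hΦ).comp h.extI)
    (χ' := hG'.spin (h.nondeg_hperp hΦ)) fun v hv => by
      rw [hG'.spin_refl, MonoidHom.comp_apply, show h.extI ⟨_, refl_mem _ v hv⟩ = Φ.reflI v hv from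
        Subtype.ext (h.ext_refl hv)]
      exact hG.spin_reflI hΦ _ _
  exact DFunLike.congr_fun this g

omit [Finite F] in
theorem IsHyp.dick_ext {e f : V} (h : Φ.IsHyp e f) (hG : Φ.Good) (hΦ : Φ.Nondeg)
    (hG' : (Φ.restrict (Φ.hperp e f)).Good) (g) :
    hG.dick hΦ (h.extI g) = hG'.dick (h.nondeg_hperp hΦ) g := by
  have := hG'.hom_ext (h.nondeg_hperp hΦ) (χ := (hG.dick hΦ).comp h.extI)
    (χ' := hG'.dick (h.nondeg_hperp hΦ)) fun v hv => by
      rw [hG'.dick_refl, MonoidHom.comp_apply, show h.extI ⟨_, refl_mem _ v hv⟩ = Φ.reflI v hv from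
        Subtype.ext (h.ext_refl hv)]
      exact hG.dick_reflI hΦ _ _
  exact DFunLike.congr_fun this g

omit [Finite F] [FiniteDimensional F V] in
theorem IsHyp.dil_eq_reflI {e f : V} (h : Φ.IsHyp e f) (l : Fˣ) :
    (⟨Φ.dil e f h l, Φ.dil_mem _ _ _ _⟩ : Φ.Isom) =
      Φ.reflI (e + (1 : F) • f) (by rw [h.N_add_smul]; exact one_ne_zero) *
        Φ.reflI (e + (l : F) • f) (by rw [h.N_add_smul]; exact l.ne_zero) :=
  Subtype.ext (Eq.trans (by congr; ext; simp) (h.refl_mul_refl one_ne_zero l.ne_zero).symm)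

theorem Good.spin_dil (hG : Φ.Good) (hΦ : Φ.Nondeg) {e f : V} (h : Φ.IsHyp e f) (l : Fˣ) :
    hG.spin hΦ ⟨Φ.dil e f h l, Φ.dil_mem _ _ _ _⟩ = sqSign F l := by
  rw [h.dil_eq_reflI l, map_mul, hG.spin_reflI, hG.spin_reflI, ← map_mul]
  congr 1; ext
  simp only [Units.val_mul, Units.val_mk0, h.N_add_smul, one_mul]

omit [Finite F] in
theorem Good.dick_dil (hG : Φ.Good) (hΦ : Φ.Nondeg) {e f : V} (h : Φ.IsHyp e f) (l : Fˣ) :
    hG.dick hΦ ⟨Φ.dil e f h l, Φ.dil_mem _ _ _ _⟩ = 1 := by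
  rw [h.dil_eq_reflI l, map_mul, hG.dick_reflI, hG.dick_reflI]; simp

end Form

universe u

theorem spin_neg {F : Type*} [Field F] [Finite F] (h2 : (2 : F) ≠ 0) {η : ℤˣ} (m : ℕ) :
    ∀ {V : Type u} [AddCommGroup V] [Module F V] [FiniteDimensional F V] (Φ : Form (Kind.orth F) V)
    (hΦ : Φ.Nondeg), Φ.IsType m η →
    (Form.good_of_two hΦ h2).spin hΦ ⟨LinearEquiv.neg F, neg_mem_Isom Φ⟩ = η * sqSign F (-1) ^ m := by
  induction m with
  | zero =>
    intro V _ _ _ Φ hΦ h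
    have : Subsingleton V := Module.finrank_zero_iff.1 h.1
    have h1 : η = 1 := Units.ext (h.unique (isType_zero Φ h.1))
    rw [h1, show (⟨LinearEquiv.neg F, neg_mem_Isom Φ⟩ : Φ.Isom) = 1 from Subsingleton.elim _ _]
    simp
  | succ m ih =>
    intro V _ _ _ Φ hΦ h
    by_cases hm : m = 0 → (η : ℤ) ≠ -1
    · obtain ⟨e, f, hh⟩ := h.exists_hyp hΦ hm
      have h1 := ih _ (hh.nondeg_hperp hΦ) ((hh.isType_iff _ _).1 h)
      have : (⟨LinearEquiv.neg F, neg_mem_Isom Φ⟩ : Φ.Isom) = ⟨Φ.dil e f hh (-1), Φ.dil_mem _ _ _ _⟩ *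
          hh.extI ⟨LinearEquiv.neg F, neg_mem_Isom _⟩ := by
        ext x
        obtain ⟨α, β, z, hz, rfl⟩ := hh.decomp x
        show -_ = Φ.dil e f hh (-1) (hh.ext (LinearEquiv.neg F) _)
        simp only [map_add, map_smul, hh.ext_e, hh.ext_f, hh.ext_perp _ ⟨z, hz⟩, Φ.dil_e, Φ.dil_f]
        rw [Φ.dil_of_perp _ _ _ _ (Φ.mem_hperp.1 (Subtype.prop _)).1 (Φ.mem_hperp.1 (Subtype.prop _)).2]
        simp; abel
      rw [this, map_mul, hh.spin_ext _ hΦ (Form.good_of_two (hh.nondeg_hperp hΦ) h2), h1,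
        Form.Good.spin_dil, pow_succ', mul_left_comm]
    · push Not at hm
      obtain ⟨rfl, hη⟩ := hm
      have hη' : η = -1 := Units.ext hη
      subst hη'
      have hA := Form.IsType.aniso hΦ h
      have h3 : finrank F V = 2 := h.1
      have : Nontrivial V := Module.nontrivial_of_finrank_pos (R := F) (by omega)
      obtain ⟨u, hu0⟩ := exists_ne (0 : V)
      obtain ⟨w, hw, hw'⟩ := exists_ker_notMem (Φ.B.flip u) ⊥ (by simp [h3])
      have hw0 : w ≠ 0 := by simpa using hw'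
      have hu : Φ.N u ≠ 0 := fun h => hu0 (hA u h)
      have hwN : Φ.N w ≠ 0 := fun h => hw0 (hA w h)
      have hwu : Φ.B w u = 0 := hw
      have huw := Φ.B_symm_zero hwu
      have hli : LinearIndependent F ![u, w] := by
        rw [LinearIndependent.pair_iff]
        intro s t hst
        have h4 := congrArg (fun x => Φ.B x u) hst
        have h5 := congrArg (fun x => Φ.B x w) hst
        simp [hwu, huw, Φ.orth_B_self, h2, hu, hwN] at h4 h5
        exact ⟨h4, h5⟩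
      have : (⟨LinearEquiv.neg F, neg_mem_Isom Φ⟩ : Φ.Isom) = Φ.reflI u hu * Φ.reflI w hwN := by
        apply Subtype.ext
        apply (basisOfLinearIndependentOfCardEqFinrank hli (by simp [h3])).ext'
        intro i
        fin_cases i <;> simp [Φ.refl_self, Φ.refl_of_perp _ _ hwu, Φ.refl_of_perp _ _ huw]
      rw [this, map_mul, Form.Good.spin_reflI, Form.Good.spin_reflI, ← map_mul, zero_add, pow_one,
        ← mul_inv_eq_iff_eq_mul, ← map_inv, ← map_mul, sqSign_eq_neg_one_iff]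
      rintro ⟨t, ht⟩
      have h6 : Φ.N u * Φ.N w * -1 = t * t := by simpa using ht
      have h7 := hA (t • u + Φ.N u • w) (by rw [Φ.orth_N_comb, huw]; linear_combination (-Φ.N u) * h6)
      exact hu ((LinearIndependent.pair_iff.1 hli _ _ h7).2)

theorem sqSign_neg_one {F : Type*} [Field F] [Fintype F] :
    sqSign F (-1) = -1 ↔ Fintype.card F % 4 = 3 := by
  rw [sqSign_eq_neg_one_iff]
  simp [FiniteField.isSquare_neg_one_iff]

theorem two_ne_zero_of_odd {F : Type*} [Field F] [Fintype F] (h : Odd (Fintype.card F)) :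
    (2 : F) ≠ 0 := by
  intro h2
  have : CharP F 2 := (CharP.charP_iff_prime_eq_zero Nat.prime_two).2 (by exact_mod_cast h2)
  have := FiniteField.even_card_of_char_two (ringChar.eq F 2)
  rw [Nat.odd_iff] at h; omega

theorem odd_of_two_ne_zero {F : Type*} [Field F] [Fintype F] (h : (2 : F) ≠ 0) :
    Odd (Fintype.card F) := by
  rw [Nat.odd_iff]
  exact FiniteField.odd_card_of_char_ne_two fun h2 => h (by
    have := ringChar.Nat.cast_ringChar (R := F); rw [h2] at this; exact_mod_cast this)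

theorem neg_mem_commutator_iff {F : Type*} [Field F] [Fintype F] (h2 : (2 : F) ≠ 0) {η : ℤˣ} {m : ℕ}
    {V : Type u} [AddCommGroup V] [Module F V] [FiniteDimensional F V] {Φ : Form (Kind.orth F) V}
    (hΦ : Φ.Nondeg) (h : Φ.IsType m η) :
    (⟨LinearEquiv.neg F, neg_mem_Isom Φ⟩ : Φ.Isom) ∈ commutator Φ.Isom ↔
      Fintype.card F ^ m % 4 = if η = 1 then 1 else 3 := by
  have hG := Form.good_of_two hΦ h2
  rw [hG.mem_commutator_iff hΦ, spin_neg h2 m Φ hΦ h, hG.dick_eq_one_iff hΦ h2]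
  have h1 : LinearEquiv.det (LinearEquiv.neg F : V ≃ₗ[F] V) = 1 := by
    ext
    rw [LinearEquiv.coe_det, show ((LinearEquiv.neg F : V ≃ₗ[F] V) : V →ₗ[F] V) = (-1 : F) • LinearMap.id
      by ext; simp, LinearMap.det_smul, h.1]
    simp
  have h3 := odd_of_two_ne_zero h2
  have h4 := sqSign_neg_one (F := F)
  rw [Nat.odd_iff] at h3
  simp only [h1, true_and]
  rw [Nat.pow_mod]
  rcases Int.units_eq_one_or (sqSign F (-1)) with h5 | h5
  · have : Fintype.card F % 4 = 1 := by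
      have : Fintype.card F % 4 ≠ 3 := fun h => by simp [h4.2 h] at h5
      omega
    rw [this, h5]
    rcases Int.units_eq_one_or η with rfl | rfl <;> simp
  · rw [h4.1 h5, h5]
    rcases Nat.even_or_odd' m with ⟨k, rfl | rfl⟩ <;> rcases Int.units_eq_one_or η with rfl | rfl <;>
      simp [pow_succ, pow_mul, Nat.pow_mod, Nat.mul_mod]

end Cfsg.Agent.Classical
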