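import Cfsg.Agent.Lib.PermCert.Cox
import Mathlib.GroupTheory.SemidirectProduct
import Mathlib.GroupTheory.SpecificGroups.Alternating
import Mathlib.GroupTheory.PresentedGroup
import Mathlib.Tactic.Group

/-! Presentations of symmetric and alternating groups: star, Carmichael and Moore relations. -/
set_option autoImplicit false
open Equiv

namespace Cfsg.Agent.Classical.Pres
open Cfsg.Agent.PC
variable {W G : Type*} [Group W] [Group G] {Ω : Type*} [Fintype Ω] [DecidableEq Ω]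

theorem star_hom (u : Ω) (t : Ω → W) (h1 : ∀ i, i ≠ u → t i * t i = 1)
    (h2 : ∀ i j, i ≠ u → j ≠ u → i ≠ j → t i * t j * t i = t j * t i * t j)
    (h3 : ∀ i j k, i ≠ u → j ≠ u → k ≠ u → i ≠ j → i ≠ k → j ≠ k → Commute (t i * t j * t i) (t k)) :
    ∃ φ : Perm Ω →* W, ∀ i, i ≠ u → φ (swap u i) = t i := by
  obtain ⟨m, hm⟩ : ∃ m, Fintype.card Ω = m + 1 :=
    ⟨Fintype.card Ω - 1, by have := Fintype.card_pos_iff.2 ⟨u⟩; omega⟩
  obtain ⟨e, he⟩ : ∃ e : Fin (m + 1) ≃ Ω, e 0 = u := by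
    let e0 := (Fintype.equivFinOfCardEq hm).symm
    exact ⟨e0.trans (swap (e0 0) u), by simp⟩
  let a : ℕ → Ω := fun k => e (Fin.ofNat (m + 1) k)
  have ha : ∀ i ≤ m, ∀ j ≤ m, i ≠ j → a i ≠ a j := fun i hi j hj h h' =>
    h (ofNat_inj m i hi j hj (e.injective h'))
  have ha0 : a 0 = u := he
  have hu : ∀ i < m, a (i + 1) ≠ u := fun i hi => ha0 ▸ ha _ (by omega) _ (by omega) (by omega)
  let τ : ℕ → W := fun k => t (a (k + 1))
  have t1 : ∀ i < m, τ i * τ i = 1 := fun i hi => h1 _ (hu i hi)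
  have t1' : ∀ i < m, ∀ x, τ i * (τ i * x) = x := fun i hi x => by rw [← mul_assoc, t1 i hi, one_mul]
  have t2 : ∀ i < m, ∀ j < m, i ≠ j → τ i * τ j * τ i = τ j * τ i * τ j := fun i hi j hj h =>
    h2 _ _ (hu i hi) (hu j hj) (ha _ (by omega) _ (by omega) (by omega))
  have t3 : ∀ i < m, ∀ j < m, ∀ k < m, i ≠ j → i ≠ k → j ≠ k → Commute (τ i * τ j * τ i) (τ k) :=
    fun i hi j hj k hk h h' h'' => h3 _ _ _ (hu i hi) (hu j hj) (hu k hk) (ha _ (by omega) _ (by omega) (by omega))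
      (ha _ (by omega) _ (by omega) (by omega)) (ha _ (by omega) _ (by omega) (by omega))
  let s : ℕ → W := fun k => Nat.casesOn k (τ 0) fun k => τ k * τ (k + 1) * τ k
  have hs : CoxA s m := by
    refine ⟨fun i hi => ?_, fun i hi => ?_, fun i j h h' => ?_⟩
    · rcases i with _ | i
      · exact t1 0 hi
      · show τ i * τ (i + 1) * τ i * (τ i * τ (i + 1) * τ i) = 1
        simp only [mul_assoc, t1' i (by omega), t1' (i + 1) hi, t1 i (by omega)]
    · rcases i with _ | i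
      · show τ 0 * (τ 0 * τ 1 * τ 0) * τ 0 = (τ 0 * τ 1 * τ 0) * τ 0 * (τ 0 * τ 1 * τ 0)
        have := t2 0 (by omega) 1 hi (by omega)
        simp only [mul_assoc, t1' 0 (by omega), t1 0 (by omega), mul_one] at this ⊢
        rw [← mul_assoc (τ 1), ← mul_assoc (τ 1 * τ 0), mul_assoc (τ 1), ← this]
        simp only [mul_assoc, t1' 0 (by omega), t1 0 (by omega), mul_one]
      · show (τ i * τ (i + 1) * τ i) * (τ (i + 1) * τ (i + 2) * τ (i + 1)) * (τ i * τ (i + 1) * τ i) =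
          (τ (i + 1) * τ (i + 2) * τ (i + 1)) * (τ i * τ (i + 1) * τ i) * (τ (i + 1) * τ (i + 2) * τ (i + 1))
        have := t2 i (by omega) (i + 2) hi (by omega)
        rw [t2 i (by omega) (i + 1) (by omega) (by omega)]
        simp only [mul_assoc, t1' (i + 1) (by omega)] at this ⊢
        rw [← mul_assoc (τ (i + 2)) (τ i), ← mul_assoc (τ i), ← mul_assoc (τ i), mul_assoc (τ i), this]
        simp only [mul_assoc]
    · obtain ⟨j, rfl⟩ : ∃ k, j = k + 1 := ⟨j - 1, by omega⟩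
      have : ∀ k < j, Commute (τ k) (s (j + 1)) := fun k hk =>
        (t3 j (by omega) (j + 1) h' k (by omega) (by omega) (by omega) (by omega)).symm
      rcases i with _ | i
      · exact this 0 (by omega)
      · exact ((this i (by omega)).mul_left (this (i + 1) (by omega))).mul_left (this i (by omega))
  obtain ⟨φ, hφ⟩ := hs.hom
  have key : ∀ k < m, φ (swap (Fin.ofNat (m + 1) 0) (Fin.ofNat (m + 1) (k + 1))) = τ k := by
    intro k
    induction k with
    | zero => exact fun h => hφ 0 h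
    | succ k ih =>
      intro hk
      have n : ∀ i ≤ m, ∀ j ≤ m, i ≠ j → Fin.ofNat (m + 1) i ≠ Fin.ofNat (m + 1) j := fun i hi j hj h h' =>
        h (ofNat_inj m i hi j hj h')
      have h4 := hφ (k + 1) hk
      have h5 := swap_mul_swap_mul_swap (x := Fin.ofNat (m + 1) (k + 2)) (y := Fin.ofNat (m + 1) (k + 1))
        (z := Fin.ofNat (m + 1) 0) (n _ (by omega) _ (by omega) (by omega)) (n _ (by omega) _ (by omega) (by omega))
      rw [← h5, map_mul, map_mul, swap_comm (Fin.ofNat (m + 1) (k + 1)), ih (by omega), swap_comm,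
        show swap (Fin.ofNat (m + 1) (k + 1)) (Fin.ofNat (m + 1) (k + 2)) = sw m (k + 1) from rfl, h4]
      show τ k * (τ k * τ (k + 1) * τ k) * τ k = _
      simp only [mul_assoc, t1' k (by omega), t1 k (by omega), mul_one]
  refine ⟨φ.comp e.symm.permCongrHom.toMonoidHom, fun i hi => ?_⟩
  obtain ⟨i, rfl⟩ := e.surjective i
  obtain ⟨k, hk⟩ : ∃ k, i.val = k + 1 := ⟨i.val - 1, by
    have : i ≠ 0 := fun h => hi (h ▸ he)
    have : i.val ≠ 0 := fun h => this (Fin.ext h)
    omega⟩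
  have hi' : i = Fin.ofNat (m + 1) (k + 1) := Fin.ext (by rw [Fin.val_ofNat, ← hk, Nat.mod_eq_of_lt i.2])
  have := key k (by omega)
  show φ (e.symm.permCongr (swap u (e i))) = _
  rw [← he, permCongr_def, symm_symm, trans_assoc, ← trans_assoc]
  simp only [← he] at hi
  rw [show (e.trans (swap (e 0) (e i))).trans e.symm = swap 0 i from by
    have := symm_trans_swap_trans (e 0) (e i) e.symm
    simpa using this, hi']
  exact this

/-- the wreath product with a group of order two, inside a holomorph -/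
abbrev Wr (G : Type*) [Group G] := (G × G) ⋊[MonoidHom.id _] MulAut (G × G)

def T (x : G) : Wr G := ⟨(x⁻¹, x), MulEquiv.prodComm⟩

theorem tt : (MulEquiv.prodComm * MulEquiv.prodComm : MulAut (G × G)) = 1 := rfl

theorem T_mul (x y : G) : T x * T y = SemidirectProduct.inl (x⁻¹ * y, x * y⁻¹) := by
  ext <;> simp [T, tt]

theorem T_sq (x : G) : T x * T x = 1 := by rw [T_mul]; simp [← Prod.one_eq_mk]

theorem alt_of_hom (φ : Perm Ω →* Wr G) (S : Set (Perm Ω)) (hS : Subgroup.closure S = ⊤)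
    (h : ∀ g ∈ S, Perm.sign g = -1 ∧ (φ g).right = MulEquiv.prodComm) :
    ∃ ψ : alternatingGroup Ω →* G, ∀ g, ψ g = (φ g).left.1 := by
  have key : ∀ g, (Perm.sign g = 1 ∧ (φ g).right = 1) ∨ (Perm.sign g = -1 ∧ (φ g).right = MulEquiv.prodComm) := by
    intro g
    have hg : g ∈ Subgroup.closure S := hS ▸ Subgroup.mem_top g
    induction hg using Subgroup.closure_induction with
    | mem x hx => exact Or.inr (h x hx)
    | one => simp
    | mul x y _ _ hx hy => rcases hx with ⟨a, b⟩ | ⟨a, b⟩ <;> rcases hy with ⟨c, d⟩ | ⟨c, d⟩ <;> simp [a, b, c, d, tt]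
    | inv x _ hx =>
      rcases hx with ⟨a, b⟩ | ⟨a, b⟩
      · simp [a, b]
      · refine Or.inr ⟨by simp [a], ?_⟩
        rw [map_inv, SemidirectProduct.inv_right, b]; rfl
  have k2 : ∀ g : alternatingGroup Ω, (φ g).right = 1 := fun g => by
    rcases key g with h | h
    · exact h.2
    · have := g.2; rw [Perm.mem_alternatingGroup, h.1] at this; exact absurd this (by decide)
  exact ⟨MonoidHom.mk' (fun g => (φ g).left.1) fun a b => by simp [k2], fun _ => rfl⟩

omit [Fintype Ω] in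
theorem closure_star [Finite Ω] (u : Ω) : Subgroup.closure {g | ∃ i, i ≠ u ∧ g = swap u i} = ⊤ := by
  rw [eq_top_iff, ← Perm.closure_isSwap, Subgroup.closure_le]
  rintro _ ⟨x, y, h, rfl⟩
  have m : ∀ i, i ≠ u → swap u i ∈ Subgroup.closure {g | ∃ i, i ≠ u ∧ g = swap u i} := fun i hi =>
    Subgroup.subset_closure ⟨i, hi, rfl⟩
  by_cases hx : x = u
  · subst hx; exact m y h.symm
  by_cases hy : y = u
  · subst hy; rw [swap_comm]; exact m x h
  rw [← swap_mul_swap_mul_swap (x := y) (y := u) (z := x) hy h.symm, swap_comm y u]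
  exact mul_mem (mul_mem (m x hx) (m y hy)) (m x hx)

/-- the three-cycle on `u, v, i` -/
def cyc (u v i : Ω) : Perm Ω := swap u v * swap u i

theorem sign_cyc {u v i : Ω} (h : u ≠ v) (hi : i ≠ u) : Perm.sign (cyc u v i) = 1 := by
  simp [cyc, h, hi.symm]

theorem inv_braid {a b : G} (h : (a * b) ^ 2 = 1) : a * b * a = b⁻¹ := by
  rw [eq_inv_iff_mul_eq_one, ← h, sq]; group

theorem sq_comm {a b : G} (h : (a * b) ^ 2 = 1) : (b * a) ^ 2 = 1 := by
  calc (b * a) ^ 2 = b * ((a * b) ^ 2) * b⁻¹ := by simp [pow_succ, mul_assoc]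
    _ = 1 := by rw [h]; group

theorem sq_inv {a b : G} (h : (a * b) ^ 2 = 1) : (a⁻¹ * b⁻¹) ^ 2 = 1 := by
  rw [← mul_inv_rev, inv_pow, sq_comm h, inv_one]

theorem inv_inv_cube {a : G} (ha : a ^ 3 = 1) : a⁻¹ * a⁻¹ = a := by
  rw [← mul_inv_rev, inv_eq_iff_mul_eq_one, ← ha]; simp [pow_succ]

theorem carm_aux {a b : G} (ha : a ^ 3 = 1) (hb : b ^ 3 = 1) (h : (a * b) ^ 2 = 1) : (a⁻¹ * b) ^ 3 = 1 := by
  have h1 : a⁻¹ = b * a * b := (inv_braid (sq_comm h)).symm
  have h2 : a⁻¹ * b⁻¹ = b * a := by rw [h1]; group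
  have h3 : b⁻¹ * a⁻¹ = a * b := by rw [h1]; group
  have hb' : b * b = b⁻¹ := by rw [eq_inv_iff_mul_eq_one, ← hb]; simp [pow_succ]
  have h4 : b * a⁻¹ * b = b⁻¹ * a * b⁻¹ := by rw [h1, ← hb']; group
  calc (a⁻¹ * b) ^ 3 = a⁻¹ * (b * a⁻¹ * b) * a⁻¹ * b := by simp [pow_succ, mul_assoc]
    _ = (a⁻¹ * b⁻¹) * a * (b⁻¹ * a⁻¹) * b := by rw [h4]; group
    _ = b * a ^ 3 * b * b := by rw [h2, h3]; simp [pow_succ, mul_assoc]
    _ = b ^ 3 := by rw [ha]; simp [pow_succ]
    _ = 1 := hb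

theorem carm_aux2 {a b c : G} (ha : a ^ 3 = 1) (hab : (a * b) ^ 2 = 1) (hac : (a * c) ^ 2 = 1)
    (hbc : (b * c) ^ 2 = 1) : (a⁻¹ * b * (a⁻¹ * c)) ^ 2 = 1 := by
  have ha' := inv_inv_cube ha
  have h1 : a⁻¹ * c * a⁻¹ = a * c⁻¹ * a := by
    have := inv_braid (sq_inv hac); rw [inv_inv] at this
    conv_lhs => rw [← this]
    calc _ = (a⁻¹ * a⁻¹) * c⁻¹ * (a⁻¹ * a⁻¹) := by simp only [mul_assoc]
      _ = _ := by rw [ha']
  have h2 : b * a = a⁻¹ * b⁻¹ := by rw [← inv_braid hab]; group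
  have h3 : a * b = b⁻¹ * a⁻¹ := by rw [← inv_braid hab]; group
  have h4 := inv_braid (sq_inv hbc)
  rw [inv_inv] at h4
  calc _ = a⁻¹ * b * (a⁻¹ * c * a⁻¹) * b * a⁻¹ * c := by simp [pow_succ, mul_assoc]
    _ = a⁻¹ * (b * a) * c⁻¹ * (a * b) * a⁻¹ * c := by rw [h1]; simp only [mul_assoc]
    _ = (a⁻¹ * a⁻¹) * (b⁻¹ * c⁻¹ * b⁻¹) * (a⁻¹ * a⁻¹) * c := by rw [h2, h3]; simp only [mul_assoc]
    _ = (a * c) ^ 2 := by rw [ha', h4]; simp [pow_succ, mul_assoc]
    _ = 1 := hac

theorem braid_of_cube {a b : W} (ha : a * a = 1) (hb : b * b = 1) (h : (a * b) ^ 3 = 1) :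
    a * b * a = b * a * b := by
  have ha' := inv_eq_of_mul_eq_one_right ha
  have hb' := inv_eq_of_mul_eq_one_right hb
  rw [← mul_inv_eq_one, mul_inv_rev, mul_inv_rev, ha', hb', ← h]
  simp [pow_succ, mul_assoc]

theorem comm_of_sq {a b : W} (ha : a * a = 1) (hb : b * b = 1) (h : (a * b) ^ 2 = 1) : Commute a b := by
  have ha' := inv_eq_of_mul_eq_one_right ha
  have hb' := inv_eq_of_mul_eq_one_right hb
  rw [Commute, SemiconjBy, ← mul_inv_eq_one, mul_inv_rev, ha', hb', ← h]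
  simp [pow_succ, mul_assoc]

theorem T_cube {a b : G} (h : (a⁻¹ * b) ^ 3 = 1) (h' : (a * b⁻¹) ^ 3 = 1) : T a * T b * T a = T b * T a * T b :=
  braid_of_cube (T_sq a) (T_sq b) (by rw [T_mul, ← map_pow, Prod.pow_mk, h, h']; exact map_one _)

theorem T_comm {a b c : G} (h : (a⁻¹ * b * (a⁻¹ * c)) ^ 2 = 1) (h' : (a * b⁻¹ * (a * c⁻¹)) ^ 2 = 1) :
    Commute (T a * T b * T a) (T c) :=
  comm_of_sq (by simp only [mul_assoc, ← mul_assoc (T a) (T a), T_sq, one_mul, ← mul_assoc (T b) (T b)]) (T_sq c)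
    (by rw [mul_assoc, T_mul, T_mul, ← map_mul, ← map_pow, Prod.mk_mul_mk, Prod.pow_mk, h, h']; exact map_one _)

/-- Carmichael's presentation -/
theorem carm {u v : Ω} (huv : u ≠ v) (y : Ω → G) (h3 : ∀ i, i ≠ u → i ≠ v → y i ^ 3 = 1)
    (h2 : ∀ i j, i ≠ u → i ≠ v → j ≠ u → j ≠ v → i ≠ j → (y i * y j) ^ 2 = 1) :
    ∃ ψ : alternatingGroup Ω →* G, ∀ i (hi : i ≠ u), i ≠ v → ψ ⟨cyc u v i, sign_cyc huv hi⟩ = y i := by
  let y' : Ω → G := fun i => if i = v then 1 else y i
  have hy : ∀ i, i ≠ v → y' i = y i := fun i hi => if_neg hi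
  have hv : y' v = 1 := if_pos rfl
  have i3 : ∀ i, i ≠ u → i ≠ v → (y i)⁻¹ ^ 3 = 1 := fun i a b => by rw [inv_pow, h3 i a b, inv_one]
  have br : ∀ i j, i ≠ u → j ≠ u → i ≠ j → T (y' i) * T (y' j) * T (y' i) = T (y' j) * T (y' i) * T (y' j) := by
    intro i j hi hj hij
    by_cases a : i = v
    · subst a
      rw [hv, hy j hij.symm]
      exact T_cube (by simpa using h3 j hj hij.symm) (by simpa using h3 j hj hij.symm)
    by_cases b : j = v
    · subst b
      rw [hv, hy i a]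
      exact T_cube (by simpa using h3 i hi a) (by simpa using h3 i hi a)
    rw [hy i a, hy j b]
    exact T_cube (carm_aux (h3 i hi a) (h3 j hj b) (h2 i j hi a hj b hij))
      (by simpa using carm_aux (i3 i hi a) (i3 j hj b) (sq_inv (h2 i j hi a hj b hij)))
  obtain ⟨φ, hφ⟩ := star_hom u (fun i => T (y' i)) (fun i _ => T_sq _) br (by
    have base : ∀ j k, j ≠ u → k ≠ u → j ≠ v → k ≠ v → j ≠ k →
        Commute (T (y' v) * T (y' j) * T (y' v)) (T (y' k)) := fun j k hj hk a b hjk => by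
      rw [hv, hy j a, hy k b]
      exact T_comm (by simpa using h2 j k hj a hk b hjk) (by simpa using sq_inv (h2 j k hj a hk b hjk))
    intro i j k hi hj hk hij hik hjk
    by_cases a : i = v
    · subst a; exact base j k hj hk hij.symm hik.symm hjk
    by_cases b : j = v
    · subst b; rw [br i j hi hj hij]; exact base i k hi hk a hjk.symm hik
    by_cases c : k = v
    · subst c
      have key : ∀ {a b : G}, a ^ 3 = 1 → (a * b) ^ 2 = 1 → (a⁻¹ * b * (a⁻¹ * 1)) ^ 2 = 1 := fun {a b} ha h => by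
        have ha' := inv_inv_cube ha
        calc _ = a⁻¹ * b * (a⁻¹ * a⁻¹) * b * a⁻¹ := by simp [pow_succ, mul_assoc]
          _ = a⁻¹ * b * a * b * a⁻¹ := by rw [ha']
          _ = a⁻¹ * a⁻¹ * (a * b) ^ 2 * a⁻¹ := by simp [pow_succ, mul_assoc]
          _ = (a ^ 3)⁻¹ := by rw [h]; simp [pow_succ, mul_assoc]
          _ = 1 := by rw [ha, inv_one]
      rw [hv, hy i a, hy j b]
      exact T_comm (key (h3 i hi a) (h2 i j hi a hj b hij))
        (by simpa using key (i3 i hi a) (sq_inv (h2 i j hi a hj b hij)))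
    rw [hy i a, hy j b, hy k c]
    exact T_comm (carm_aux2 (h3 i hi a) (h2 i j hi a hj b hij) (h2 i k hi a hk c hik) (h2 j k hj b hk c hjk))
      (by simpa using (carm_aux2 (i3 i hi a) (sq_inv (h2 i j hi a hj b hij)) (sq_inv (h2 i k hi a hk c hik))
        (sq_inv (h2 j k hj b hk c hjk)))))
  obtain ⟨ψ, hψ⟩ := alt_of_hom φ _ (closure_star u) (by
    rintro _ ⟨i, hi, rfl⟩
    exact ⟨Perm.sign_swap hi.symm, by rw [hφ i hi]; rfl⟩)
  refine ⟨ψ, fun i hi hi' => ?_⟩
  rw [hψ]
  show (φ (swap u v * swap u i)).left.1 = _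
  rw [map_mul, hφ v huv.symm, hφ i hi, T_mul, hv, hy i hi']
  simp

theorem closure_cyc {u v : Ω} (huv : u ≠ v) :
    Subgroup.closure {g | ∃ i, i ≠ u ∧ i ≠ v ∧ g = cyc u v i} = alternatingGroup Ω := by
  refine le_antisymm ((Subgroup.closure_le _).2 ?_) fun g hg => ?_
  · rintro _ ⟨i, hi, -, rfl⟩; exact sign_cyc huv hi
  set H := Subgroup.closure {g | ∃ i, i ≠ u ∧ i ≠ v ∧ g = cyc u v i}
  have hH : H ≤ alternatingGroup Ω := (Subgroup.closure_le _).2 (by
    rintro _ ⟨i, hi, -, rfl⟩; exact sign_cyc huv hi)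
  have m : ∀ i, i ≠ u → swap u v * swap u i ∈ H := fun i hi => by
    by_cases h : i = v
    · subst h; simpa using H.one_mem
    · exact Subgroup.subset_closure ⟨i, hi, h, rfl⟩
  have key : ∀ g, g ∈ H ∨ swap u v * g ∈ H := by
    intro g
    have hg : g ∈ Subgroup.closure {g | ∃ i, i ≠ u ∧ g = swap u i} := closure_star u ▸ Subgroup.mem_top g
    have step : ∀ i, i ≠ u → ∀ g, g ∈ H ∨ swap u v * g ∈ H → swap u i * g ∈ H ∨ swap u v * (swap u i * g) ∈ H := by
      rintro i hi g (h | h)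
      · exact Or.inr (by rw [← mul_assoc]; exact mul_mem (m i hi) h)
      · left
        have := mul_mem (inv_mem (m i hi)) h
        simpa [mul_assoc] using this
    induction hg using Subgroup.closure_induction_left with
    | one => exact Or.inl H.one_mem
    | mul_left x hx y _ ih => obtain ⟨i, hi, rfl⟩ := hx; exact step i hi y ih
    | inv_mul_cancel x hx y _ ih => obtain ⟨i, hi, rfl⟩ := hx; rw [swap_inv]; exact step i hi y ih
  rcases key g with h | h
  · exact h
  · have := hH h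
    rw [Perm.mem_alternatingGroup] at this hg
    simp [hg, huv] at this

/-- `x` is the generator family of a presentation with at most `r` relators -/
def HasPres {ι : Type*} (x : ι → G) (r : ℕ) : Prop :=
  ∃ rels : Finset (FreeGroup ι), rels.card ≤ r ∧
    ∃ e : PresentedGroup (rels : Set (FreeGroup ι)) ≃* G, ∀ i, e (PresentedGroup.of i) = x i

theorem lift_of {ι : Type*} (rels : Set (FreeGroup ι)) :
    FreeGroup.lift (PresentedGroup.of : ι → PresentedGroup rels) = PresentedGroup.mk rels :=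
  FreeGroup.ext_hom _ _ fun _ => FreeGroup.lift_apply_of

theorem exists_equiv {ι : Type} (rels : Set (FreeGroup ι)) (x : ι → G) (hrel : ∀ r ∈ rels, FreeGroup.lift x r = 1)
    (hgen : Subgroup.closure (Set.range x) = ⊤)
    (hinj : ∀ (J : Type) [Group J] (g : ι → J) (π : J →* G), (∀ r ∈ rels, FreeGroup.lift g r = 1) →
      (∀ i, π (g i) = x i) → Subgroup.closure (Set.range g) = ⊤ → ∀ j, π j = 1 → j = 1) :
    ∃ e : PresentedGroup rels ≃* G, ∀ i, e (PresentedGroup.of i) = x i := by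
  refine ⟨MulEquiv.ofBijective (PresentedGroup.toGroup hrel) ⟨?_, ?_⟩, fun i => PresentedGroup.toGroup.of hrel⟩
  · rw [injective_iff_map_eq_one]
    exact hinj _ PresentedGroup.of _ (fun r hr => by rw [lift_of]; exact PresentedGroup.one_of_mem hr)
      (fun i => PresentedGroup.toGroup.of hrel) (PresentedGroup.closure_range_of _)
  · rw [← MonoidHom.range_eq_top, eq_top_iff, ← hgen, Subgroup.closure_le]
    rintro _ ⟨i, rfl⟩
    exact ⟨_, PresentedGroup.toGroup.of hrel⟩

theorem hasPres_of {ι : Type} (L : List (FreeGroup ι)) (x : ι → G) (hrel : ∀ r ∈ L, FreeGroup.lift x r = 1)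
    (hgen : Subgroup.closure (Set.range x) = ⊤)
    (hinj : ∀ (J : Type) [Group J] (g : ι → J) (π : J →* G), (∀ r ∈ L, FreeGroup.lift g r = 1) →
      (∀ i, π (g i) = x i) → Subgroup.closure (Set.range g) = ⊤ → ∀ j, π j = 1 → j = 1) :
    HasPres x L.length := by
  classical
  exact ⟨L.toFinset, List.toFinset_card_le L, exists_equiv _ x (fun r hr => hrel r (by simpa using hr)) hgen
    fun J _ g π h => hinj J g π fun r hr => h r (by simpa using hr)⟩

theorem HasPres.mono {ι : Type*} {x : ι → G} {r s : ℕ} (h : HasPres x r) (hrs : r ≤ s) : HasPres x s := by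
  obtain ⟨R, h1, h2⟩ := h
  exact ⟨R, h1.trans hrs, h2⟩

theorem HasPres.map {ι : Type*} {x : ι → G} {r : ℕ} (h : HasPres x r) (f : G ≃* W) :
    HasPres (fun i => f (x i)) r := by
  obtain ⟨R, h1, e, h2⟩ := h
  exact ⟨R, h1, e.trans f, fun i => by simp [h2]⟩

theorem exists_word {ι : Type*} {x : ι → G} (h : Subgroup.closure (Set.range x) = ⊤) (g : G) :
    ∃ w, FreeGroup.lift x w = g := by
  have : g ∈ (FreeGroup.lift x).range := by rw [FreeGroup.range_lift_eq_closure, h]; trivial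
  exact this

/-- change of generators -/
theorem HasPres.change {ι κ : Type*} {x : ι → G} {r : ℕ} (h : HasPres x r) (D : κ → G)
    (hD : Subgroup.closure (Set.range D) = ⊤) (T : Finset κ) (σ : κ → ι)
    (hσ : ∀ k k', k ∉ T → k' ∉ T → σ k = σ k' → k = k') (hx : ∀ k, k ∉ T → D k = x (σ k)) :
    HasPres D (r + T.card) := by
  classical
  obtain ⟨R, h1, e, h2⟩ := h
  have hxg : Subgroup.closure (Set.range x) = ⊤ := by
    rw [show x = e ∘ PresentedGroup.of from funext fun i => (h2 i).symm, Set.range_comp,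
      ← MonoidHom.coe_coe, ← MonoidHom.map_closure, PresentedGroup.closure_range_of]
    exact Subgroup.map_top_of_surjective _ e.surjective
  have hv : ∀ i, ∃ v, FreeGroup.lift D v = x i ∧ ∀ k, k ∉ T → σ k = i → v = FreeGroup.of k := fun i => by
    by_cases hi : ∃ k, k ∉ T ∧ σ k = i
    · obtain ⟨k, hk, rfl⟩ := hi
      exact ⟨FreeGroup.of k, by simp [hx k hk], fun k' hk' e => by rw [hσ k k' hk hk' e.symm]⟩
    · obtain ⟨v, hv⟩ := exists_word hD (x i)
      exact ⟨v, hv, fun k hk e => absurd ⟨k, hk, e⟩ hi⟩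
  choose v hv1 hv2 using hv
  choose w hw using fun k => exists_word hxg (D k)
  let R' : Finset (FreeGroup κ) := R.image (FreeGroup.lift v) ∪
    T.image fun k => (FreeGroup.of k)⁻¹ * FreeGroup.lift v (w k)
  have hc : (FreeGroup.lift D).comp (FreeGroup.lift v) = FreeGroup.lift x :=
    FreeGroup.ext_hom _ _ fun i => by simp [hv1]
  have hc' : ∀ a, FreeGroup.lift D (FreeGroup.lift v a) = FreeGroup.lift x a := fun a => DFunLike.congr_fun hc a
  have he : ∀ a, e (PresentedGroup.mk _ a) = FreeGroup.lift x a := fun a =>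
    DFunLike.congr_fun (show e.toMonoidHom.comp (PresentedGroup.mk _) = FreeGroup.lift x from
      FreeGroup.ext_hom _ _ fun i => (h2 i).trans FreeGroup.lift_apply_of.symm) a
  have hR : ∀ r ∈ (R' : Set (FreeGroup κ)), FreeGroup.lift D r = 1 := by
    intro r hr
    simp only [R', Finset.coe_union, Finset.coe_image, Set.mem_union, Set.mem_image, Finset.mem_coe] at hr
    rcases hr with ⟨a, ha, rfl⟩ | ⟨k, -, rfl⟩
    · rw [hc', ← he, PresentedGroup.one_of_mem ha, map_one]
    · simp [hc', hw]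
  let m := PresentedGroup.mk (R' : Set (FreeGroup κ))
  have hm : FreeGroup.lift (fun i => m (v i)) = m.comp (FreeGroup.lift v) := FreeGroup.ext_hom _ _ fun i => by simp
  have hR' : ∀ r ∈ (R : Set (FreeGroup ι)), FreeGroup.lift (fun i => m (v i)) r = 1 := fun r hr => by
    rw [hm]
    exact PresentedGroup.one_of_mem (by simp only [R', Finset.coe_union, Finset.coe_image]; exact Or.inl ⟨r, hr, rfl⟩)
  let ψ : G →* PresentedGroup (R' : Set (FreeGroup κ)) := (PresentedGroup.toGroup hR').comp e.symm.toMonoidHom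
  have hψ : ∀ a, ψ (FreeGroup.lift x a) = m (FreeGroup.lift v a) := fun a => by
    rw [← he]
    show PresentedGroup.toGroup hR' (e.symm (e _)) = _
    rw [e.symm_apply_apply]
    exact DFunLike.congr_fun hm a
  refine ⟨R', (Finset.card_union_le _ _).trans (add_le_add (Finset.card_image_le.trans h1) Finset.card_image_le),
    MonoidHom.toMulEquiv (PresentedGroup.toGroup hR) ψ ?_ ?_, fun k => PresentedGroup.toGroup.of hR⟩
  · refine PresentedGroup.ext fun k => ?_
    simp only [MonoidHom.comp_apply, PresentedGroup.toGroup.of, MonoidHom.id_apply]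
    by_cases hk : k ∈ T
    · rw [← hw, hψ]
      exact (PresentedGroup.mk_eq_mk_of_inv_mul_mem (by
        simp only [R', Finset.coe_union, Finset.coe_image]; exact Or.inr ⟨k, hk, rfl⟩)).symm
    · have := hψ (FreeGroup.of (σ k))
      rw [FreeGroup.lift_apply_of, FreeGroup.lift_apply_of, ← hx k hk, hv2 _ k hk rfl] at this
      exact this
  · ext g
    obtain ⟨a, rfl⟩ := exists_word hxg g
    rw [MonoidHom.comp_apply, hψ, MonoidHom.id_apply, ← hc']
    rfl

end Cfsg.Agent.Classical.Pres
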