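import Cfsg.Agent.Lib.Classical.Pres9
import Cfsg.Agent.Lib.Classical.Lin1

/-! Steinberg's relations for `SL_n`: monomial elements and symbols. -/
set_option autoImplicit false
set_option linter.unusedSectionVars false
open Equiv
open scoped commutatorElement

namespace Cfsg.Agent.Classical.Pres
variable {G J : Type*} [Group G] [Group J] {F : Type*} [Field F] {ι : Type*} [DecidableEq ι]

structure StR (X : ι → ι → F → J) : Prop where
  add : ∀ {i j}, i ≠ j → Ad (X i j)
  comm : ∀ {i j k l}, i ≠ j → k ≠ l → j ≠ k → i ≠ l → ∀ a b, Commute (X i j a) (X k l b)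
  cr : ∀ {i j k}, i ≠ j → j ≠ k → i ≠ k → ∀ a b, X i j a * X j k b * (X i j a)⁻¹ * (X j k b)⁻¹ = X i k (a * b)
  third : ∀ i j : ι, ∃ k, k ≠ i ∧ k ≠ j

abbrev cj (g : J) : J ≃* J := MulAut.conj g
theorem cj_mul (g h x : J) : cj (g * h) x = cj g (cj h x) := by simp [mul_assoc]
theorem cj_comm {g x : J} (h : Commute g x) : cj g x = x := by simp [h.eq]

def wS (X : ι → ι → F → J) (i j : ι) (a : Fˣ) : J := X i j a * X j i (-(a : F)⁻¹) * X i j a
def hS (X : ι → ι → F → J) (i j : ι) (a : Fˣ) : J := wS X i j a * wS X i j (-1)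
def Acts (X : ι → ι → F → J) (g : J) (σ : Perm ι) (d : ι → Fˣ) : Prop :=
  ∀ k l, k ≠ l → ∀ b, cj g (X k l b) = X (σ k) (σ l) (d k * (d l : F)⁻¹ * b)
def dW (i j : ι) (a : Fˣ) : ι → Fˣ := fun k => if k = i then -a⁻¹ else if k = j then a else 1
def dH (i j : ι) (a : Fˣ) : ι → Fˣ := fun k => if k = i then a else if k = j then a⁻¹ else 1

variable {X : ι → ι → F → J}

theorem Acts.mul {g g' : J} {σ τ : Perm ι} {d e : ι → Fˣ} (h : Acts X g σ d) (h' : Acts X g' τ e) :
    Acts X (g * g') (σ * τ) fun k => d (τ k) * e k := fun k l hkl b => by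
  rw [cj_mul, h' k l hkl, h _ _ (τ.injective.ne hkl)]
  congr 1
  simp only [Units.val_mul, mul_inv]; ring

theorem Acts.inv {g : J} {d : ι → Fˣ} (h : Acts X g 1 d) : Acts X g⁻¹ 1 fun k => (d k)⁻¹ := fun k l hkl b => by
  have := h k l hkl (((d k)⁻¹ : Fˣ) * (((d l)⁻¹ : Fˣ) : F)⁻¹ * b)
  rw [show (d k : F) * (d l : F)⁻¹ * (((d k)⁻¹ : Fˣ) * (((d l)⁻¹ : Fˣ) : F)⁻¹ * b) = b by simp; field_simp] at this
  simp only [Perm.coe_one, id] at this ⊢
  rw [← this, ← cj_mul]; simp

theorem Acts.congr {g : J} {σ τ : Perm ι} {d e : ι → Fˣ} (h : Acts X g σ d) (h1 : σ = τ) (h2 : ∀ k, d k = e k) :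
    Acts X g τ e := by rw [← h1, ← funext h2]; exact h

theorem Acts.w {g : J} {σ : Perm ι} {d : ι → Fˣ} (h : Acts X g σ d) {k l : ι} (hkl : k ≠ l) (a : Fˣ) :
    cj g (wS X k l a) = wS X (σ k) (σ l) (d k * (d l)⁻¹ * a) := by
  rw [wS, map_mul, map_mul, h k l hkl, h l k hkl.symm, wS]
  congr 2
  · congr 1; simp
  · congr 1; simp; field_simp
  · simp

theorem Acts.comm {g : J} (h : Acts X g 1 1) {k l : ι} (hkl : k ≠ l) (b : F) : Commute g (X k l b) := by
  have := h k l hkl b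
  simp only [Pi.one_apply, Units.val_one, inv_one, mul_one, one_mul, Perm.coe_one, id] at this
  exact mul_inv_eq_iff_eq_mul.1 this

namespace StR
variable (h : StR X) {i j k l : ι}
include h

theorem c1 (hij : i ≠ j) (hjk : j ≠ k) (hik : i ≠ k) (a b : F) : cj (X i j a) (X j k b) = X i k (a * b) * X j k b := by
  rw [← h.cr hij hjk hik]; simp

theorem c2 (hij : i ≠ j) (hjk : j ≠ k) (hik : i ≠ k) (a b : F) :
    cj (X j k b) (X i j a) = X i k (-(a * b)) * X i j a := by
  rw [(h.add hik).neg, ← h.cr hij hjk hik]; simp [mul_assoc]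

theorem w_inv (hij : i ≠ j) (a : Fˣ) : (wS X i j a)⁻¹ = wS X i j (-a) := by
  simp only [wS, mul_inv_rev, ← (h.add hij).neg, ← (h.add hij.symm).neg, mul_assoc]
  simp

theorem w_jk (hij : i ≠ j) (hjk : j ≠ k) (hik : i ≠ k) (a : Fˣ) (b : F) :
    cj (wS X i j a) (X j k b) = X i k (a * b) := by
  rw [wS, cj_mul, cj_mul, h.c1 hij hjk hik, map_mul, h.c1 hij.symm hik hjk,
    cj_comm (h.comm hij.symm hjk hij hjk _ _), mul_assoc, (h.comm hik hjk hjk.symm hik _ _).eq, ← mul_assoc,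
    ← h.add hjk, show -(a : F)⁻¹ * (a * b) + b = 0 by field_simp; ring, (h.add hjk).zero, one_mul,
    cj_comm (h.comm hij hik hij.symm hik _ _)]

theorem w_ik (hij : i ≠ j) (hjk : j ≠ k) (hik : i ≠ k) (a : Fˣ) (b : F) :
    cj (wS X i j a) (X i k b) = X j k (-(a : F)⁻¹ * b) := by
  rw [wS, cj_mul, cj_mul, cj_comm (h.comm hij hik hij.symm hik _ _), h.c1 hij.symm hik hjk, map_mul,
    h.c1 hij hjk hik, cj_comm (h.comm hij hik hij.symm hik _ _), (h.comm hik hjk hjk.symm hik _ _).eq, mul_assoc,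
    ← h.add hik, show a * (-(a : F)⁻¹ * b) + b = 0 by field_simp; ring, (h.add hik).zero, mul_one]

theorem w_ki (hij : i ≠ j) (hjk : j ≠ k) (hik : i ≠ k) (a : Fˣ) (b : F) :
    cj (wS X i j a) (X k i b) = X k j (-(a : F) * b) := by
  rw [wS, cj_mul, cj_mul, h.c2 hik.symm hij hjk.symm, map_mul, h.c2 hjk.symm hij.symm hik.symm,
    cj_comm (h.comm hij.symm hik.symm hik hij.symm _ _), (h.comm hik.symm hjk.symm hik hjk.symm _ _).eq, mul_assoc,
    ← h.add hik.symm, show -(-(b * a) * -(a : F)⁻¹) + b = 0 by field_simp; ring, (h.add hik.symm).zero, mul_one,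
    cj_comm (h.comm hij hjk.symm hjk hij _ _)]
  congr 1; ring

theorem w_kj (hij : i ≠ j) (hjk : j ≠ k) (hik : i ≠ k) (a : Fˣ) (b : F) :
    cj (wS X i j a) (X k j b) = X k i ((a : F)⁻¹ * b) := by
  rw [wS, cj_mul, cj_mul, cj_comm (h.comm hij hjk.symm hjk hij _ _), h.c2 hjk.symm hij.symm hik.symm, map_mul,
    h.c2 hik.symm hij hjk.symm, cj_comm (h.comm hij hjk.symm hjk hij _ _),
    (h.comm hjk.symm hik.symm hjk hik.symm _ _).eq, mul_assoc, ← h.add hjk.symm,
    show -(-(b * -(a : F)⁻¹) * a) + b = 0 by field_simp; ring, (h.add hjk.symm).zero, mul_one]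
  congr 1; ring

theorem w_ij (hij : i ≠ j) (a : Fˣ) (b : F) : cj (wS X i j a) (X i j b) = X j i (-(a : F)⁻¹ * (a : F)⁻¹ * b) := by
  obtain ⟨k, h1, h2⟩ := h.third i j
  rw [← mul_one b, ← h.cr h1.symm h2 hij]
  simp only [map_mul, map_inv]
  rw [h.w_ik hij h2.symm h1.symm, h.w_kj hij h2.symm h1.symm, h.cr h2.symm h1 hij.symm]
  congr 1; ring

theorem w_ji (hij : i ≠ j) (a : Fˣ) (b : F) : cj (wS X i j a) (X j i b) = X i j (-(a : F) * a * b) := by
  obtain ⟨k, h1, h2⟩ := h.third i j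
  rw [← mul_one b, ← h.cr h2.symm h1 hij.symm]
  simp only [map_mul, map_inv]
  rw [h.w_jk hij h2.symm h1.symm, h.w_ki hij h2.symm h1.symm, h.cr h1.symm h2 hij]
  congr 1; ring

theorem acts_w (hij : i ≠ j) (a : Fˣ) : Acts X (wS X i j a) (swap i j) (dW i j a) := fun k l hkl b => by
  by_cases h1 : k = i
  · subst h1
    by_cases h2 : l = j
    · subst h2; rw [h.w_ij hij]; simp [dW, hij.symm]
    · rw [h.w_ik hij (Ne.symm h2) hkl]; simp [dW, h2, hkl.symm, swap_apply_of_ne_of_ne]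
  by_cases h2 : k = j
  · subst h2
    by_cases h3 : l = i
    · subst h3; rw [h.w_ji hij]; simp [dW, h1]
    · rw [h.w_jk hij hkl (Ne.symm h3)]; simp [dW, h1, h3, hkl.symm, swap_apply_of_ne_of_ne]
  by_cases h3 : l = i
  · subst h3; rw [h.w_ki hij (Ne.symm h2) (Ne.symm h1)]; simp [dW, h1, h2, swap_apply_of_ne_of_ne]
  by_cases h4 : l = j
  · subst h4; rw [h.w_kj hij (Ne.symm h2) (Ne.symm h1)]; simp [dW, h1, h2, h3, swap_apply_of_ne_of_ne]
  have c1 := h.comm hij hkl (Ne.symm h2) (Ne.symm h3) a b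
  rw [wS, cj_comm ((c1.mul_left (h.comm hij.symm hkl (Ne.symm h1) (Ne.symm h4) _ b)).mul_left c1)]
  simp [dW, h1, h2, h3, h4, swap_apply_of_ne_of_ne]

theorem acts_h (hij : i ≠ j) (a : Fˣ) : Acts X (hS X i j a) 1 (dH i j a) :=
  ((h.acts_w hij a).mul (h.acts_w hij (-1))).congr (swap_mul_self _ _) fun k => by
    by_cases h1 : k = i
    · subst h1; simp [dW, dH, hij.symm]
    by_cases h2 : k = j
    · subst h2; simp [dW, dH, h1]
    simp [dW, dH, h1, h2, swap_apply_of_ne_of_ne]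

theorem conj_h {g : J} {σ : Perm ι} {d : ι → Fˣ} (hg : Acts X g σ d) (hkl : k ≠ l) (a : Fˣ) :
    cj g (hS X k l a) = hS X (σ k) (σ l) (d k * (d l)⁻¹ * a) * (hS X (σ k) (σ l) (d k * (d l)⁻¹))⁻¹ := by
  rw [hS, map_mul, hg.w hkl, hg.w hkl, hS, hS, mul_inv_rev, h.w_inv (σ.injective.ne hkl) (d k * _)]
  simp [mul_assoc]

theorem h_one (hij : i ≠ j) : hS X i j 1 = 1 := by rw [hS, ← h.w_inv hij, mul_inv_cancel]

theorem w_symm (hij : i ≠ j) (a : Fˣ) : wS X j i a = wS X i j (-a⁻¹) := by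
  have := (h.acts_w hij (-a⁻¹)).w hij (-a⁻¹)
  simp only [MulAut.conj_apply, mul_inv_cancel_right] at this
  rw [this]; simp [dW, hij.symm]

theorem stein (hij : i ≠ j) {u v : Fˣ} (e : (u : F) + v = 1) : hS X i j (u * v) = hS X i j u * hS X i j v := by
  have e1 : wS X i j u * X j i 1 = X i j (-(u : F) * u * 1) * wS X i j u := by rw [← h.w_ji hij]; simp
  have e2 : X j i 1 * wS X i j v = wS X i j v * X i j (-(v : F) * v * 1) := by
    have := h.w_ji hij (-v) 1
    rw [← h.w_inv hij] at this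
    simp only [Units.val_neg, neg_neg, mul_neg, mul_one, MulAut.conj_apply, inv_inv] at this
    rw [neg_mul, mul_one, ← this]; simp [mul_assoc]
  have e3 : wS X i j (-1) = X j i 1 * X i j (-1) * X j i 1 := by
    have := h.w_symm hij 1
    rw [inv_one] at this
    rw [← this, wS]; simp
  have hu : (u : F) ≠ 0 := u.ne_zero
  have hv : (v : F) ≠ 0 := v.ne_zero
  rw [hS, hS, hS, ← mul_assoc, mul_left_inj, e3, ← mul_assoc, ← mul_assoc, e1, mul_assoc _ (X j i 1), e2, wS, wS, wS]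
  simp only [mul_assoc]
  rw [← h.add hij, ← mul_assoc (X i j (-1)), ← h.add hij, ← mul_assoc (X i j u) (X i j _), ← h.add hij,
    show (u : F) + (-1 + v) = 0 by linear_combination e, (h.add hij).zero, one_mul, ← mul_assoc (X j i _),
    ← h.add hij.symm, ← mul_assoc (X i j _) (X i j u), ← h.add hij]
  have e4 : (v : F) = 1 - u := by linear_combination e
  congr 2
  · simp only [Units.val_mul]; rw [e4]; ring
  · congr 1; simp only [Units.val_mul]; field_simp; linear_combination e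
  · congr 1; simp only [Units.val_mul]; linear_combination (v : F) * e

/-- the symbol -/
theorem sym_central (hij : i ≠ j) (a b : Fˣ) : Acts X (hS X i j (a * b) * (hS X i j a)⁻¹ * (hS X i j b)⁻¹) 1 1 :=
  (((h.acts_h hij _).mul (h.acts_h hij a).inv).mul (h.acts_h hij b).inv).congr (by simp) fun k => by
    by_cases h1 : k = i
    · simp [dH, h1]
    by_cases h2 : k = j
    · simp [dH, h2, hij.symm]
    simp [dH, h1, h2]

omit h in
theorem comm_h {g : J} (hg : Acts X g 1 1) (hij : i ≠ j) (a : Fˣ) : Commute g (hS X i j a) := by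
  have : ∀ a : Fˣ, Commute g (wS X i j a) := fun a =>
    ((hg.comm hij _).mul_right (hg.comm hij.symm _)).mul_right (hg.comm hij _)
  exact (this _).mul_right (this _)

theorem sym_eq (hij : i ≠ j) (hik : i ≠ k) (hjk : j ≠ k) (a b : Fˣ) :
    hS X i k (a * b) * (hS X i k a)⁻¹ * (hS X i k b)⁻¹ = ⁅hS X i j a, hS X i k b⁆ := by
  have := h.conj_h (h.acts_h hij a) hik b
  simp only [dH, if_true, hik.symm, hjk.symm, if_false, inv_one, mul_one, Perm.coe_one, id,
    MulAut.conj_apply] at this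
  rw [commutatorElement_def, this]

theorem sym_swap (hij : i ≠ j) (hik : i ≠ k) (hjk : j ≠ k) (a b : Fˣ) :
    hS X i k (a * b) * (hS X i k a)⁻¹ * (hS X i k b)⁻¹ = hS X i j (a * b) * (hS X i j a)⁻¹ * (hS X i j b)⁻¹ := by
  have c := h.sym_central hik a b
  have e : ∀ a, cj (wS X j k 1) (hS X i k a) = hS X i j a := fun a => by
    rw [h.conj_h (h.acts_w hjk 1) hik]
    simp [dW, hij, hik, hjk.symm, swap_apply_of_ne_of_ne, h.h_one hij]
  have : Commute (wS X j k 1) _ := (((c.comm hjk _).mul_right (c.comm hjk.symm _)).mul_right (c.comm hjk _)).symm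
  rw [← cj_comm this]
  simp only [map_mul, map_inv, e]

theorem h_mul [Finite F] (hik : i ≠ k) (a b : Fˣ) : hS X i k (a * b) = hS X i k a * hS X i k b := by
  obtain ⟨j, hji, hjk⟩ := h.third i k
  have hij := hji.symm
  obtain ⟨c, hc⟩ : ∃ c : Fˣ → Fˣ → J, ∀ a b, c a b = ⁅hS X i j a, hS X i k b⁆ := ⟨_, fun _ _ => rfl⟩
  have c0 : ∀ a b, c a b = hS X i k (a * b) * (hS X i k a)⁻¹ * (hS X i k b)⁻¹ := fun a b =>
    (hc a b).trans (h.sym_eq hij hik hjk a b).symm
  have cc : ∀ a b, Acts X (c a b) 1 1 := fun a b => c0 a b ▸ h.sym_central hik a b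
  have c1 : ∀ a b, c a b = (c b a)⁻¹ := fun a b => by
    rw [c0 b a, h.sym_swap hij hik hjk, h.sym_eq hik hij hjk.symm, commutatorElement_inv, hc]
  have c2 : ∀ a b b', c a (b * b') = c a b' * c a b := fun a b b' => by
    have e : hS X i k (b * b') = c b b' * (hS X i k b' * hS X i k b) := by rw [c0 b b']; simp [mul_assoc]
    have k1 := comm_h (cc b b') hij a
    have k2 := comm_h (cc a b) hik b'
    calc c a (b * b') = hS X i j a * c b b' * (hS X i k b' * hS X i k b) * (hS X i j a)⁻¹ *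
          (hS X i k b' * hS X i k b)⁻¹ * (c b b')⁻¹ := by
          rw [hc a, commutatorElement_def (hS X i j a), e]; simp [mul_assoc]
      _ = cj (c b b') (c a b' * cj (hS X i k b') (c a b)) := by
          rw [← k1.eq, hc a, hc a]; simp [commutatorElement_def, mul_assoc]
      _ = _ := by
          rw [cj_comm k2.symm]
          have : ∀ x y, Commute (c b b') (c x y) := fun x y => by
            rw [c0 x y]
            exact ((comm_h (cc _ _) hik _).mul_right (comm_h (cc _ _) hik _).inv_right).mul_right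
              (comm_h (cc _ _) hik _).inv_right
          exact cj_comm ((this _ _).mul_right (this _ _))
  have c3 : ∀ a b (n : ℕ), c a (b ^ n) = c a b ^ n := fun a b n => by
    induction n with
    | zero => simp [hc, h.h_one hik]
    | succ n ih => rw [pow_succ', c2, ih, pow_succ]
  haveI := Fintype.ofFinite F
  obtain ⟨ζ, hζ, -⟩ := exists_gen F
  have c4 : ∀ m n : ℕ, c (ζ ^ m) (ζ ^ n) = c ζ ζ ^ (m * n) := fun m n => by
    rw [c3, c1, c3, ← inv_pow, ← c1, pow_mul]
  have c5 : c ζ ζ ^ 2 = 1 := by rw [sq]; nth_rewrite 1 [c1]; simp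
  have c6 : c ζ ζ = 1 := by
    by_cases hs : IsSquare (ζ : F)
    · obtain ⟨z, hz⟩ := hs
      have hz0 : z ≠ 0 := by rintro rfl; simp at hz
      obtain ⟨n, hn⟩ := hζ (Units.mk0 z hz0)
      have : ζ = ζ ^ (2 * n) := Units.ext (by rw [mul_comm, pow_mul, hn, hz]; simp [sq])
      have e := c4 1 (2 * n)
      rw [← this, pow_one, one_mul, pow_mul, c5, one_pow] at e
      exact e
    · have h2 : ringChar F ≠ 2 := fun h => hs (FiniteField.isSquare_of_char_two h _)
      obtain ⟨x, y, e⟩ := FiniteField.exists_root_sum_quadratic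
        (f := Polynomial.C (ζ : F) * Polynomial.X ^ 2 - 1) (g := Polynomial.C (ζ : F) * Polynomial.X ^ 2)
        (by rw [Polynomial.degree_sub_eq_left_of_degree_lt] <;> rw [Polynomial.degree_C_mul_X_pow _ ζ.ne_zero] <;> simp)
        (Polynomial.degree_C_mul_X_pow _ ζ.ne_zero) (FiniteField.odd_card_of_char_ne_two h2)
      simp only [Polynomial.eval_sub, Polynomial.eval_mul, Polynomial.eval_C, Polynomial.eval_pow, Polynomial.eval_X,
        Polynomial.eval_one] at e
      have ns : ∀ x : F, ζ * x ^ 2 ≠ 1 := fun x hx => hs ⟨ζ * x, by linear_combination (-(ζ : F)) * hx⟩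
      have hx : x ≠ 0 := by rintro rfl; exact ns y (by linear_combination e)
      have hy : y ≠ 0 := by rintro rfl; exact ns x (by linear_combination e)
      obtain ⟨m, hm⟩ := sq_pow hζ hx
      obtain ⟨n, hn⟩ := sq_pow hζ hy
      have e1 := h.stein hik (u := ζ ^ (2 * n + 1)) (v := ζ ^ (2 * m + 1)) (by
        simp only [Units.val_pow_eq_pow_val]
        rw [pow_succ, pow_succ, pow_mul, pow_mul, hm, hn]; linear_combination e)
      have e2 := c4 (2 * m + 1) (2 * n + 1)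
      rw [c0, mul_comm, e1, show (2 * m + 1) * (2 * n + 1) = 2 * (2 * m * n + m + n) + 1 by ring, pow_succ (c ζ ζ),
        pow_mul (c ζ ζ), c5] at e2
      simpa using e2.symm
  obtain ⟨m, rfl⟩ := hζ a
  obtain ⟨n, rfl⟩ := hζ b
  have := c4 n m
  rw [c6, one_pow, c0, mul_comm] at this
  rw [mul_inv_eq_one, mul_inv_eq_iff_eq_mul] at this
  exact this

theorem h_inv [Finite F] (hik : i ≠ k) (a : Fˣ) : (hS X i k a)⁻¹ = hS X i k a⁻¹ :=
  inv_eq_of_mul_eq_one_right (by rw [← h.h_mul hik, mul_inv_cancel, h.h_one hik])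

theorem ww [Finite F] (hij : i ≠ j) (a b : Fˣ) : wS X i j a * wS X i j b = hS X i j (-a * b⁻¹) := by
  have : wS X i j a * wS X i j b = hS X i j a * (hS X i j (-b))⁻¹ := by
    rw [hS, hS, mul_inv_rev, h.w_inv hij (-b)]; simp [mul_assoc]
  rw [this, h.h_inv hij, ← h.h_mul hij]; simp

theorem h_symm [Finite F] (hij : i ≠ j) (a : Fˣ) : hS X j i a = hS X i j a⁻¹ := by
  rw [hS, h.w_symm hij, h.w_symm hij, h.ww hij]; simp

theorem h_comm [Finite F] (hij : i ≠ j) (hik : i ≠ k) (hjk : j ≠ k) (a b : Fˣ) :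
    Commute (hS X i j a) (hS X i k b) := by
  rw [← commutatorElement_eq_one_iff_commute, ← h.sym_eq hij hik hjk, mul_comm a, h.h_mul hik]; simp

theorem h_split [Finite F] (hij : i ≠ j) (hik : i ≠ k) (hjk : j ≠ k) (a : Fˣ) :
    hS X j k a = hS X i k a * hS X i j a⁻¹ := by
  have e1 := h.conj_h (h.acts_w hij (-1)) hik a
  have e2 := (h.acts_h hik a⁻¹).w hij (-1)
  simp only [dW, dH, if_true, hik.symm, hjk.symm, hjk, hij.symm, if_false, inv_one, mul_one, inv_neg, neg_neg, one_mul,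
    swap_apply_left, swap_apply_of_ne_of_ne hik.symm hjk.symm, h.h_one hjk, MulAut.conj_apply, Perm.coe_one, id,
    ← h.h_inv hik, inv_inv] at e1 e2
  have e3 := h.ww hij (a⁻¹ * -1) 1
  rw [← e2] at e3
  rw [← e1, h.w_inv hij, show hS X i j a⁻¹ = _ by simpa using e3.symm]
  simp [mul_assoc]

end StR
end Cfsg.Agent.Classical.Pres
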