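import Cfsg.Agent.Lib.Classical.Pres10

/-! Steinberg's presentation of `SL_n` over a finite field. -/
set_option autoImplicit false
set_option linter.unusedSectionVars false
open Equiv Matrix

namespace Cfsg.Agent.Classical.Pres
variable {G J : Type*} [Group G] [Group J] {F : Type*} [Field F] {ι : Type*} [DecidableEq ι]

theorem gen_inj {κ : Type*} (C : Finset κ) (A E : κ → Subgroup J) (h1 : ∀ k l, k ≠ l → ∀ x ∈ A k, ∀ y ∈ A l, Commute x y)
    (h2 : ∀ k l, k ≠ l → A k ≤ E l) (h3 : ∀ l, ∀ x ∈ A l, x ∈ E l → x = 1) {g : J} (hg : g ∈ ⨆ l ∈ C, A l)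
    (hE : ∀ l, g ∈ E l) : g = 1 := by
  classical
  induction C using Finset.induction_on generalizing g with
  | empty => simpa using hg
  | insert l C hl ih =>
    rw [Finset.iSup_insert] at hg
    have hle : (⨆ k ∈ C, A k) ≤ E l := iSup₂_le fun k hk => h2 k l (by rintro rfl; exact hl hk)
    have hc : (⨆ k ∈ C, A k) ≤ Subgroup.centralizer (A l) := iSup₂_le fun k hk x hx y hy =>
      (h1 k l (by rintro rfl; exact hl hk) x hx y hy).symm.eq
    have := (Subgroup.coe_mul_of_right_le_normalizer_left (A l) _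
      (hc.trans (Subgroup.centralizer_le_normalizer _))).subset hg
    obtain ⟨x, hx, y, hy, rfl⟩ := this
    have hx1 : x = 1 := h3 l x hx (by simpa using mul_mem (hE l) (inv_mem (hle hy)))
    subst hx1
    simp only [one_mul] at hE ⊢
    exact ih hy hE

theorem sup_decomp {A B : Subgroup J} (h : ∀ b ∈ B, ∀ a ∈ A, b * a * b⁻¹ ∈ A) {g : J} (hg : g ∈ A ⊔ B) :
    ∃ a ∈ A, ∃ b ∈ B, g = a * b := by
  have := (Subgroup.coe_mul_of_right_le_normalizer_left A B (fun b hb => Subgroup.mem_normalizer_iff.2 fun a =>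
    ⟨h b hb a, fun ha => by simpa [mul_assoc] using h _ (inv_mem hb) _ ha⟩)).subset hg
  obtain ⟨x, hx, y, hy, rfl⟩ := this
  exact ⟨x, hx, y, hy, rfl⟩

def UR (X : ι → ι → F → J) (R : ι → ι → Prop) : Subgroup J :=
  Subgroup.closure {g | ∃ k l b, k ≠ l ∧ R k l ∧ g = X k l b}
def PR (X : ι → ι → F → J) (R : ι → ι → Prop) : Subgroup J :=
  Subgroup.closure ({g | ∃ i j a, i ≠ j ∧ g = hS X i j a} ∪ {g | ∃ k l b, k ≠ l ∧ R k l ∧ g = X k l b})

variable {X : ι → ι → F → J} {R R' : ι → ι → Prop} {i j k l m : ι}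

theorem mem_UR (h : k ≠ l) (hR : R k l) (b : F) : X k l b ∈ UR X R := Subgroup.subset_closure ⟨k, l, b, h, hR, rfl⟩
theorem mem_PR (h : k ≠ l) (hR : R k l) (b : F) : X k l b ∈ PR X R :=
  Subgroup.subset_closure (Or.inr ⟨k, l, b, h, hR, rfl⟩)
theorem h_mem_PR (h : k ≠ l) (a : Fˣ) : hS X k l a ∈ PR X R := Subgroup.subset_closure (Or.inl ⟨k, l, a, h, rfl⟩)
theorem w_mem_PR (h : k ≠ l) (hR : R k l) (hR' : R l k) (a : Fˣ) : wS X k l a ∈ PR X R :=
  mul_mem (mul_mem (mem_PR h hR _) (mem_PR h.symm hR' _)) (mem_PR h hR _)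
theorem PR_le {K : Subgroup J} (h1 : ∀ i j a, i ≠ j → hS X i j a ∈ K) (h2 : ∀ k l b, k ≠ l → R k l → X k l b ∈ K) :
    PR X R ≤ K := (Subgroup.closure_le _).2 (by
  rintro _ (⟨i, j, a, h, rfl⟩ | ⟨k, l, b, h, h', rfl⟩)
  exacts [h1 i j a h, h2 k l b h h'])
theorem UR_le {K : Subgroup J} (h2 : ∀ k l b, k ≠ l → R k l → X k l b ∈ K) : UR X R ≤ K :=
  (Subgroup.closure_le _).2 (by rintro _ ⟨k, l, b, h, h', rfl⟩; exact h2 k l b h h')
theorem PR_mono (h : ∀ k l, k ≠ l → R k l → R' k l) : PR X R ≤ PR X R' :=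
  PR_le (fun _ _ a e => h_mem_PR e a) fun k l b e r => mem_PR e (h k l e r) b
theorem UR_le_PR (h : ∀ k l, k ≠ l → R k l → R' k l) : UR X R ≤ PR X R' :=
  UR_le fun k l b e r => mem_PR e (h k l e r) b

namespace StR
variable (h : StR X)
include h

theorem conj_PR {g : J} {σ : Perm ι} {d : ι → Fˣ} (hg : Acts X g σ d) (hR : ∀ k l, k ≠ l → R k l → R' (σ k) (σ l))
    {x : J} (hx : x ∈ PR X R) : g * x * g⁻¹ ∈ PR X R' := conj_mem_closure (by
  rintro _ (⟨i, j, a, e, rfl⟩ | ⟨k, l, b, e, h', rfl⟩)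
  · rw [← MulAut.conj_apply, h.conj_h hg e a]
    exact mul_mem (h_mem_PR (σ.injective.ne e) _) (inv_mem (h_mem_PR (σ.injective.ne e) _))
  · rw [← MulAut.conj_apply, hg k l e b]
    exact mem_PR (σ.injective.ne e) (hR k l e h') _) hx

theorem UR_ind {p : J → Prop} (h1 : p 1) (h2 : ∀ x y, p x → p y → p (x * y)) (h4 : ∀ k l b, k ≠ l → R k l → p (X k l b))
    {g : J} (hg : g ∈ UR X R) : p g := by
  induction hg using Subgroup.closure_induction'' with
  | mem x hx => obtain ⟨k, l, b, e, r, rfl⟩ := hx; exact h4 k l b e r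
  | inv_mem x hx => obtain ⟨k, l, b, e, r, rfl⟩ := hx; rw [← (h.add e).neg]; exact h4 k l _ e r
  | one => exact h1
  | mul x y _ _ a b => exact h2 x y a b

variable [Finite F]

theorem PR_ind {p : J → Prop} (h1 : p 1) (h2 : ∀ x y, p x → p y → p (x * y)) (h3 : ∀ i j a, i ≠ j → p (hS X i j a))
    (h4 : ∀ k l b, k ≠ l → R k l → p (X k l b)) {g : J} (hg : g ∈ PR X R) : p g := by
  induction hg using Subgroup.closure_induction'' with
  | mem x hx =>
    rcases hx with ⟨i, j, a, e, rfl⟩ | ⟨k, l, b, e, r, rfl⟩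
    exacts [h3 i j a e, h4 k l b e r]
  | inv_mem x hx =>
    rcases hx with ⟨i, j, a, e, rfl⟩ | ⟨k, l, b, e, r, rfl⟩
    · rw [h.h_inv e]; exact h3 i j _ e
    · rw [← (h.add e).neg]; exact h4 k l _ e r
  | one => exact h1
  | mul x y _ _ a b => exact h2 x y a b

theorem conj_Q {S : Set ι} (hm : m ∉ S) {g : J} (hg : g ∈ PR X fun k l => k ∈ S ∧ l ∈ S) :
    ∀ q ∈ UR X fun k l => k = m ∧ l ∈ S, g * q * g⁻¹ ∈ UR X fun k l => k = m ∧ l ∈ S := by
  refine h.PR_ind (p := fun g => ∀ q ∈ UR X fun k l => k = m ∧ l ∈ S, g * q * g⁻¹ ∈ UR X fun k l => k = m ∧ l ∈ S)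
    (by simp) (fun x y a b q hq => by simpa [mul_assoc] using a _ (b q hq)) (fun i j a e q hq => ?_)
    (fun k l b e r q hq => ?_) hg
  · refine conj_mem_closure ?_ hq
    rintro _ ⟨k, l, b, e', r, rfl⟩
    rw [← MulAut.conj_apply, h.acts_h e a k l e' b]
    exact mem_UR e' r _
  · refine conj_mem_closure ?_ hq
    rintro _ ⟨k', l', b', e', ⟨rr, r'⟩, rfl⟩
    obtain rfl := rr.symm
    have h1 : ∀ x ∈ S, m ≠ x := fun x hx e => hm (e ▸ hx)
    by_cases h2 : l' = k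
    · subst h2
      rw [← MulAut.conj_apply, h.c2 e' e (h1 _ r.2) b' b]
      exact mul_mem (mem_UR (h1 _ r.2) ⟨rfl, r.2⟩ _) (mem_UR e' ⟨rfl, r'⟩ _)
    · rw [(h.comm e e' (h1 _ r.2).symm (Ne.symm h2) _ _).eq, mul_inv_cancel_right]
      exact mem_UR e' ⟨rfl, r'⟩ _

theorem P_decomp {S : Finset ι} {g : J} (hg : g ∈ PR X fun k l => k ∈ S ∧ l ∈ S ∧ l ≠ m) :
    ∃ q ∈ UR X fun k l => k = m ∧ l ∈ (S.erase m : Set ι),
      ∃ y ∈ PR X fun k l => k ∈ S.erase m ∧ l ∈ S.erase m, g = q * y := by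
  refine sup_decomp (fun b hb => h.conj_Q (by simp) hb) (PR_le (fun i j a e => Subgroup.mem_sup_right (h_mem_PR e a))
    (fun k l b e r => ?_) hg)
  by_cases h1 : k = m
  · exact Subgroup.mem_sup_left (mem_UR e ⟨h1, by simp [r.2.1, r.2.2]⟩ _)
  · exact Subgroup.mem_sup_right (mem_PR e ⟨by simp [h1, r.1], by simp [r.2.1, r.2.2]⟩ _)

theorem Q_decomp {S : Set ι} (hmj : m ≠ j) {q : J} (hq : q ∈ UR X fun k l => k = m ∧ l ∈ S) :
    ∃ a, ∃ y ∈ UR X fun k l => k = m ∧ l ∈ S ∧ l ≠ j, q = X m j a * y ∧ q = y * X m j a := by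
  have c : ∀ y ∈ UR X fun k l => k = m ∧ l ∈ S ∧ l ≠ j, ∀ a, Commute y (X m j a) := fun y hy a =>
    h.UR_ind (p := fun y => Commute y (X m j a)) (Commute.one_left _) (fun _ _ => Commute.mul_left)
      (fun k l b e r => by obtain rfl := r.1.symm; exact h.comm e hmj e.symm hmj _ _) hy
  suffices ∃ a, ∃ y ∈ UR X fun k l => k = m ∧ l ∈ S ∧ l ≠ j, q = X m j a * y by
    obtain ⟨a, y, hy, e⟩ := this
    exact ⟨a, y, hy, e, by rw [e, (c y hy a).eq]⟩
  refine h.UR_ind (p := fun q => ∃ a, ∃ y ∈ UR X fun k l => k = m ∧ l ∈ S ∧ l ≠ j, q = X m j a * y)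
    ⟨0, 1, one_mem _, by simp [(h.add hmj).zero]⟩ ?_ (fun k l b e r => ?_) hq
  · rintro _ _ ⟨a, y, hy, rfl⟩ ⟨b, z, hz, rfl⟩
    exact ⟨a + b, y * z, mul_mem hy hz, by rw [h.add hmj, mul_assoc, mul_assoc, ← mul_assoc y, (c y hy b).eq, mul_assoc]⟩
  · by_cases h1 : l = j
    · exact ⟨b, 1, one_mem _, by rw [r.1, h1, mul_one]⟩
    · exact ⟨0, _, mem_UR e ⟨r.1, r.2, h1⟩ b, by simp [(h.add hmj).zero]⟩

theorem bruhat (S : Finset ι) : ∀ m ∈ S, ∀ j ∈ S, m ≠ j → ∀ g ∈ PR X fun k l => k ∈ S ∧ l ∈ S,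
    g ∈ PR X (fun k l => k ∈ S ∧ l ∈ S ∧ l ≠ m) ∨ ∃ a ∈ PR X fun k l => k ∈ S ∧ l ∈ S ∧ l ≠ m,
      ∃ b ∈ PR X fun k l => k ∈ S ∧ l ∈ S ∧ l ≠ m, g = a * wS X m j 1 * b := by
  induction S using Finset.strongInduction with
  | H S ih =>
  intro m hm j hj hmj g hg
  set P := PR X fun k l => k ∈ S ∧ l ∈ S ∧ l ≠ m
  set w := wS X m j 1
  set K := PR X fun k l => k ∈ S ∧ l ∈ S ∧ l ≠ m ∧ l ≠ j
  have hK : ∀ x ∈ K, w * x * w⁻¹ ∈ P := fun x hx => h.conj_PR (h.acts_w hmj 1) (fun k l e r => by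
    rw [swap_apply_of_ne_of_ne r.2.2.1 r.2.2.2]
    refine ⟨?_, r.2.1, r.2.2.1⟩
    rw [swap_apply_def]; split_ifs
    exacts [hj, hm, r.1]) hx
  have cl : ∀ x, (x ∈ P ∨ ∃ a ∈ P, ∃ b ∈ P, x = a * w * b) → ∀ a ∈ P, ∀ b ∈ P,
      a * x * b ∈ P ∨ ∃ a' ∈ P, ∃ b' ∈ P, a * x * b = a' * w * b' := by
    rintro x (hx | ⟨c, hc, d, hd, rfl⟩) a ha b hb
    · exact Or.inl (mul_mem (mul_mem ha hx) hb)
    · exact Or.inr ⟨a * c, mul_mem ha hc, d * b, mul_mem hd hb, by simp [mul_assoc]⟩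
  have mX : ∀ a, X m j a ∈ P := mem_PR hmj ⟨hm, hj, hmj.symm⟩
  have t1 : ∀ b, X j m b ∈ P ∨ ∃ a ∈ P, ∃ b' ∈ P, X j m b = a * w * b' := fun b => by
    by_cases hb : b = 0
    · left; rw [hb, (h.add hmj.symm).zero]; exact one_mem _
    · set c : Fˣ := -(Units.mk0 b hb)⁻¹
      refine Or.inr ⟨_, mul_mem (inv_mem (mX c)) (h_mem_PR hmj c), _, inv_mem (mX c), ?_⟩
      rw [hS, ← h.w_inv hmj 1, mul_assoc _ _ w, inv_mul_cancel_right, wS]
      simp [c, mul_assoc]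
  have ck : ∀ y, (w * y * w⁻¹ ∈ P ∨ ∃ a ∈ P, ∃ b ∈ P, w * y * w⁻¹ = a * w * b) → ∀ a ∈ K, ∀ b ∈ K,
      w * (a * y * b) * w⁻¹ ∈ P ∨ ∃ a' ∈ P, ∃ b' ∈ P, w * (a * y * b) * w⁻¹ = a' * w * b' := fun y hy a ha b hb => by
    simpa [mul_assoc] using cl _ hy _ (hK a ha) _ (hK b hb)
  have QK : ∀ y ∈ UR X fun k l => k = m ∧ l ∈ (S.erase m : Set ι) ∧ l ≠ j, y ∈ K := UR_le_PR fun k l e r =>
    ⟨r.1 ▸ hm, Finset.mem_of_mem_erase r.2.1, Finset.ne_of_mem_erase r.2.1, r.2.2⟩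
  have PK : ∀ y ∈ PR X fun k l => k ∈ S.erase m ∧ l ∈ S.erase m ∧ l ≠ j, y ∈ K := PR_mono fun k l e r =>
    ⟨Finset.mem_of_mem_erase r.1, Finset.mem_of_mem_erase r.2.1, Finset.ne_of_mem_erase r.2.1, r.2.2⟩
  refine two_cosets P (w := w) (h.ww hmj 1 1 ▸ h_mem_PR hmj _) (fun g hg => ?_) ?_ hg
  · obtain ⟨q, hq, y, hy, rfl⟩ := h.P_decomp hg
    have t2 : y ∈ K → w * (q * y) * w⁻¹ ∈ P ∨ ∃ a ∈ P, ∃ b ∈ P, w * (q * y) * w⁻¹ = a * w * b := fun hy => by
      obtain ⟨a, z, hz, rfl, -⟩ := h.Q_decomp hmj hq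
      have := ck (X m j a) (by rw [← MulAut.conj_apply, h.w_ij hmj 1 a]; exact t1 _) 1 (one_mem _) _ (mul_mem (QK z hz) hy)
      simpa [mul_assoc] using this
    by_cases hS : ∃ j' ∈ S.erase m, j ≠ j'
    · obtain ⟨j', hj', e⟩ := hS
      have hm' : m ≠ j' := (Finset.ne_of_mem_erase hj').symm
      have hj2 := Finset.mem_of_mem_erase hj'
      rcases ih _ (Finset.erase_ssubset hm) j (by simp [hj, hmj.symm]) j' hj' e y hy with hy' | ⟨a, ha, b, hb, rfl⟩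
      · exact t2 (PK y hy')
      · obtain ⟨c, z, hz, -, e1⟩ := h.Q_decomp hmj (h.conj_Q (S := (S.erase m : Set ι)) (by simp)
          (inv_mem (PR_mono (fun _ _ _ r => ⟨r.1, r.2.1⟩) ha)) q hq)
        have e2 := h.w_ki e hm'.symm hmj.symm (-1) c
        rw [← h.w_inv e] at e2
        have w1 : wS X j j' (-1) ∈ P := w_mem_PR e ⟨hj, hj2, hm'.symm⟩ ⟨hj2, hj, hmj.symm⟩ _
        have := ck (wS X j j' 1) (Or.inr ⟨_, w1, _, inv_mem w1, by
          have a1 := (h.acts_w hmj 1).w e 1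
          have a2 := (h.acts_w e (-1)).w hmj 1
          simp only [MulAut.conj_apply] at a1 a2
          rw [a1, a2]
          simp [dW, hmj, hmj.symm, hm', hm'.symm, e.symm, swap_apply_of_ne_of_ne]⟩) _ (mul_mem (PK a ha) (QK z hz)) _
          (mul_mem (e2 ▸ mem_PR hm' ⟨hm, hj2, hm'.symm, e.symm⟩ _ : cj (wS X j j' 1)⁻¹ (X m j c) ∈ K) (PK b hb))
        have e3 : q = a * (z * X m j c) * a⁻¹ := by rw [← e1]; simp [mul_assoc]
        simpa [e3, mul_assoc] using this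
    · refine t2 (PK y (PR_mono (fun k l e r => ?_) hy))
      push Not at hS
      exact absurd ((hS k r.1).symm.trans (hS l r.2)) e
  · rintro _ (⟨i, j, a, e, rfl⟩ | ⟨k, l, b, e, r, rfl⟩)
    · exact Or.inl (h_mem_PR e a)
    by_cases h1 : l = m
    · subst h1
      by_cases h2 : k = j
      · exact h2 ▸ t1 b
      · have w1 : wS X j k (-1) ∈ P := w_mem_PR (Ne.symm h2) ⟨hj, r.1, e⟩ ⟨r.1, hj, hmj.symm⟩ _
        have := cl _ (t1 b) _ w1 _ (inv_mem w1)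
        rw [← MulAut.conj_apply, h.w_ik (Ne.symm h2) e hmj.symm (-1) b] at this
        simpa using this
    · exact Or.inl (mem_PR e ⟨r.1, r.2, h1⟩ b)

variable [Fintype ι] (π : J →* SpecialLinearGroup ι F)
  (hπ : ∀ i j (hij : i ≠ j) a, π (X i j a) = SpecialLinearGroup.transvection hij a)
omit h [Finite F] in
theorem π_mul (x y : J) : (π (x * y)).1 = (π x).1 * (π y).1 := by rw [map_mul]; rfl

include hπ

omit h [Finite F] in
theorem π_h (hij : i ≠ j) (a : Fˣ) : (π (hS X i j a)).1 = diagonal fun k => (dH i j a k : F) := by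
  have := Lin.diag2n_eq hij a.ne_zero
  simp only [hS, wS, map_mul, hπ _ _ hij, hπ _ _ hij.symm, Units.val_neg, Units.val_one, inv_neg, inv_one, neg_neg]
  rw [← this, SpecialLinearGroup.diag2n_coe]
  congr 1; funext k; simp only [dH]; split_ifs <;> simp

theorem π_col (hR : ∀ k, ¬ R k m) {g : J} (hg : g ∈ PR X R) : ∀ k, k ≠ m → (π g).1 k m = 0 := by
  refine h.PR_ind (p := fun g => ∀ k, k ≠ m → (π g).1 k m = 0) (fun k hk => by simp [hk]) (fun x y a b k hk => ?_)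
    (fun i j a e k hk => by rw [π_h π hπ e, diagonal_apply_ne _ hk]) (fun k l b e r k' hk => ?_) hg
  · rw [π_mul, mul_apply]
    refine Finset.sum_eq_zero fun l _ => ?_
    by_cases hl : l = m
    · rw [hl, a k hk, zero_mul]
    · rw [b l hl, mul_zero]
  · have : l ≠ m := fun e => hR k (e ▸ r)
    simp [hπ _ _ e, SpecialLinearGroup.transvection_coe, hk, this]

theorem π_row (hR : ∀ k, ¬ R m k) {g : J} (hg : g ∈ PR X R) : ∀ k, k ≠ m → (π g).1 m k = 0 := by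
  refine h.PR_ind (p := fun g => ∀ k, k ≠ m → (π g).1 m k = 0) (fun k hk => by simp [hk.symm])
    (fun x y a b k hk => ?_)
    (fun i j a e k hk => by rw [π_h π hπ e, diagonal_apply_ne _ hk.symm]) (fun k l b e r k' hk => ?_) hg
  · rw [π_mul, mul_apply]
    refine Finset.sum_eq_zero fun l _ => ?_
    by_cases hl : l = m
    · rw [hl, b k hk, mul_zero]
    · rw [a l hl, zero_mul]
  · have : k ≠ m := fun e => hR l (e ▸ r)
    simp [hπ _ _ e, SpecialLinearGroup.transvection_coe, hk.symm, this]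

omit [Finite F] in
theorem π_Q {S : Set ι} {g : J} (hg : g ∈ UR X fun k l => k = m ∧ l ∈ S) :
    ∀ k, k ≠ m → ∀ l, (π g).1 k l = (1 : Matrix ι ι F) k l := by
  refine h.UR_ind (p := fun g => ∀ k, k ≠ m → ∀ l, (π g).1 k l = (1 : Matrix ι ι F) k l) (fun k hk l => by simp)
    (fun x y a b k hk l => ?_) (fun k l b e r k' hk l' => ?_) hg
  · rw [π_mul, mul_apply]
    simp only [a k hk]
    rw [← mul_apply, Matrix.one_mul, b k hk]
  · obtain rfl := r.1.symm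
    simp [hπ _ _ e, SpecialLinearGroup.transvection_coe, hk.symm]

omit h hπ [Finite F] in
theorem mem_stab {g : J} : g ∈ (MulAction.stabilizer (SpecialLinearGroup ι F) (Pi.single l 1 : ι → F)).comap π ↔
    ∀ k, (π g).1 k l = (1 : Matrix ι ι F) k l := by
  change (π g).1 *ᵥ Pi.single l 1 = Pi.single l 1 ↔ _
  rw [funext_iff]
  simp [one_apply, Pi.single_apply]

theorem inj_H {g : J} (hg : g ∈ PR X fun _ _ => False) (h1 : π g = 1) : g = 1 := by
  rcases isEmpty_or_nonempty ι with _ | ⟨⟨i⟩⟩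
  · exact PR_le (K := ⊥) (fun i => isEmptyElim i) (fun i => isEmptyElim i) hg
  let A : {j // i ≠ j} → Subgroup J := fun j => (MonoidHom.mk' (hS X i j.1) (h.h_mul j.2)).range
  have mA : ∀ j (e : i ≠ j) a, hS X i j a ∈ ⨆ l ∈ (Finset.univ : Finset {j // i ≠ j}), A l := fun j e a =>
    Subgroup.mem_iSup_of_mem ⟨j, e⟩ (Subgroup.mem_iSup_of_mem (Finset.mem_univ _) ⟨a, rfl⟩)
  refine gen_inj Finset.univ A (fun l => (MulAction.stabilizer _ (Pi.single l.1 1 : ι → F)).comap π) ?_ ?_ ?_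
    (PR_le (fun k l a e => ?_) (fun _ _ _ _ => False.elim) hg) fun l => by rw [Subgroup.mem_comap, h1]; exact one_mem _
  · rintro k l e _ ⟨a, rfl⟩ _ ⟨b, rfl⟩
    exact h.h_comm k.2 l.2 (fun e' => e (Subtype.ext e')) a b
  · rintro k l e _ ⟨a, rfl⟩
    rw [mem_stab]
    intro k'
    have : l.1 ≠ k.1 := fun e' => e (Subtype.ext e'.symm)
    simp only [MonoidHom.mk'_apply, π_h π hπ k.2, diagonal_apply, one_apply]
    split_ifs with h2
    · simp [dH, h2, this, l.2.symm]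
    · rfl
  · rintro l _ ⟨a, rfl⟩ e
    have := (mem_stab π).1 e l
    simp only [MonoidHom.mk'_apply, π_h π hπ l.2, diagonal_apply_eq, one_apply_eq, dH, l.2.symm, if_false, if_true,
      Units.val_eq_one, inv_eq_one] at this
    rw [this, map_one]
  · by_cases h2 : i = k
    · exact h2 ▸ mA l (h2 ▸ e) a
    by_cases h3 : i = l
    · subst h3; rw [h.h_symm h2]; exact mA _ h2 _
    · rw [h.h_split h2 h3 e]; exact mul_mem (mA _ h3 _) (mA _ h2 _)

theorem inj_Q {S : Set ι} {g : J} (hg : g ∈ UR X fun k l => k = m ∧ l ∈ S) (h1 : ∀ k, k ≠ m → (π g).1 m k = 0) :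
    g = 1 := by
  let A : {j // m ≠ j} → Subgroup J := fun j =>
    (MonoidHom.mk' (fun a : Multiplicative F => X m j.1 a.toAdd) (fun a b => h.add j.2 _ _)).range
  refine gen_inj Finset.univ A (fun l => (MulAction.stabilizer _ (Pi.single l.1 1 : ι → F)).comap π) ?_ ?_ ?_
    (UR_le (fun k l a e r => ?_) hg) fun l => ?_
  · rintro k l e _ ⟨a, rfl⟩ _ ⟨b, rfl⟩
    exact h.comm k.2 l.2 k.2.symm l.2 _ _
  · rintro k l e _ ⟨a, rfl⟩
    rw [mem_stab]
    intro k'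
    have : k.1 ≠ l.1 := fun e' => e (Subtype.ext e')
    simp [hπ _ _ k.2, SpecialLinearGroup.transvection_coe, this]
  · rintro l _ ⟨a, rfl⟩ e
    have := (mem_stab π).1 e m
    simp only [MonoidHom.mk'_apply, hπ _ _ l.2, SpecialLinearGroup.transvection_coe, Matrix.add_apply,
      single_apply_same, add_eq_left] at this
    rw [MonoidHom.mk'_apply, this, (h.add l.2).zero]
  · obtain rfl := r.1.symm
    exact Subgroup.mem_iSup_of_mem ⟨l, e⟩ (Subgroup.mem_iSup_of_mem (Finset.mem_univ _) ⟨.ofAdd a, rfl⟩)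
  · rw [mem_stab]
    intro k
    by_cases h2 : k = m
    · rw [h2, h1 _ l.2.symm, one_apply_ne l.2]
    · exact h.π_Q π hπ hg k h2 _

theorem inj_PR (S : Finset ι) {g : J} (hg : g ∈ PR X fun k l => k ∈ S ∧ l ∈ S) (h1 : π g = 1) : g = 1 := by
  induction S using Finset.strongInduction generalizing g with
  | H S ih =>
  by_cases hS : ∃ m ∈ S, ∃ j ∈ S, m ≠ j
  · obtain ⟨m, hm, j, hj, hmj⟩ := hS
    rcases h.bruhat S m hm j hj hmj g hg with hg | ⟨a, ha, b, hb, rfl⟩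
    · obtain ⟨q, hq, y, hy, rfl⟩ := h.P_decomp hg
      have e : π q = π y⁻¹ := by rw [map_inv, eq_inv_iff_mul_eq_one, ← map_mul, h1]
      obtain rfl : q = 1 := h.inj_Q π hπ hq fun k hk => by
        rw [e]; exact h.π_row π hπ (by simp) (inv_mem hy) k hk
      rw [one_mul] at h1 ⊢
      exact ih _ (Finset.erase_ssubset hm) hy h1
    · exfalso
      have mX : X m j ((1 : Fˣ) : F) ∈ PR X fun k l => k ∈ S ∧ l ∈ S ∧ l ≠ m := mem_PR hmj ⟨hm, hj, hmj.symm⟩ _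
      have := h.π_col π hπ (m := m) (by simp) (inv_mem (mul_mem (mul_mem mX hb) (mul_mem ha mX))) j hmj.symm
      have e : π (X m j ((1 : Fˣ) : F) * b * (a * X m j ((1 : Fˣ) : F)))⁻¹ = π (X j m (-((1 : Fˣ) : F)⁻¹)) := by
        rw [map_inv, inv_eq_iff_mul_eq_one, ← map_mul]
        have : X m j ((1 : Fˣ) : F) * b * (a * X m j ((1 : Fˣ) : F)) * X j m (-((1 : Fˣ) : F)⁻¹) =
          (X m j ((1 : Fˣ) : F) * b) * (a * wS X m j 1 * b) * (X m j ((1 : Fˣ) : F) * b)⁻¹ := by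
          simp [wS, mul_assoc]
        rw [this, map_mul, map_mul _ _ (a * _ * b), h1]; simp
      rw [e, hπ _ _ hmj.symm] at this
      simp [SpecialLinearGroup.transvection_coe, hmj.symm] at this
  · push Not at hS
    exact h.inj_H π hπ (PR_mono (fun k l e r => e (hS k r.1 l r.2)) hg) h1

/-- Steinberg's theorem -/
theorem inj {g : J} (hg : g ∈ UR X fun _ _ => True) (h1 : π g = 1) : g = 1 :=
  h.inj_PR π hπ Finset.univ (UR_le_PR (by simp) hg) h1

end StR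
end Cfsg.Agent.Classical.Pres
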