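import Cfsg.Agent.Lib.Classical.Pres11

/-! Steinberg's relations from finitely many relations. -/
set_option autoImplicit false
set_option linter.unusedSectionVars false
open Equiv Matrix Polynomial

namespace Cfsg.Agent.Classical.Pres
variable {G J : Type*} [Group G] [Group J] {F : Type*} [Field F] {ι : Type*} [DecidableEq ι]

theorem Gens.comm {x : F} (hx : Gens x) {X : F → J} (hX : Ad X) {g : J} (h : ∀ i : ℕ, Commute g (X (x ^ i))) (a : F) :
    Commute g (X a) := by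
  have := hx.ext (hX.conj g) hX (fun i => by rw [(h i).eq, mul_inv_cancel_right]) a
  exact mul_inv_eq_iff_eq_mul.1 this

theorem cj_inv_X {X : F → J} {g : J} {x : F} (hx : x ≠ 0) (h : ∀ a, cj g (X a) = X (x * a)) (a : F) :
    cj g⁻¹ (X a) = X (x⁻¹ * a) := conj_inv_X hx h a

theorem Acts.one {X : ι → ι → F → J} : Acts X 1 1 1 := fun k l _ b => by simp

theorem Acts.pow {X : ι → ι → F → J} {g : J} {i j : ι} {c : Fˣ} (h : Acts X g 1 (dH i j c)) (n : ℕ) :
    Acts X (g ^ n) 1 (dH i j (c ^ n)) := by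
  induction n with
  | zero => exact (pow_zero g).symm ▸ Acts.one.congr rfl fun k => by simp [dH]
  | succ n ih =>
    rw [pow_succ]
    refine (ih.mul h).congr (mul_one _) fun k => ?_
    show dH i j (c ^ n) k * dH i j c k = _
    simp only [dH]
    split_ifs
    · rw [pow_succ]
    · rw [pow_succ, mul_inv]
    · simp

theorem acts_H {ζ : Fˣ} {X : ι → ι → F → J} {H : ι → ι → J} (h3 : ∀ i j : ι, ∃ k, k ≠ i ∧ k ≠ j)
    (h0 : ∀ i j, i ≠ j → ∀ a, cj (H i j) (X i j a) = X i j ((ζ : F) ^ 2 * a))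
    (t2 : ∀ i j k, i ≠ j → j ≠ k → i ≠ k → H i j * H j k = H i k)
    (t4 : ∀ i j k, i ≠ j → j ≠ k → i ≠ k → ∀ a, cj (H i k) (X i j a) = X i j (ζ * a)) {i j : ι} (hij : i ≠ j) :
    Acts X (H i j) 1 (dH i j ζ) := by
  have hz : (ζ : F) ≠ 0 := ζ.ne_zero
  have inv : H i j = (H j i)⁻¹ := by
    obtain ⟨k, h1, h2⟩ := h3 i j
    have := t2 j i k hij.symm h1.symm h2.symm
    rw [← t2 i j k hij h2.symm h1.symm, ← mul_assoc, mul_eq_right] at this
    exact eq_inv_of_mul_eq_one_right this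
  have e : ∀ k l m, k ≠ l → k ≠ m → ∀ a, cj (H k m) (X k l a) = X k l ((if l = m then (ζ : F) ^ 2 else ζ) * a) :=
    fun k l m h1 h2 a => by
      split_ifs with h
      · exact h ▸ h0 k l h1 a
      · exact t4 k l m h1 h h2 a
  have ne : ∀ l m : ι, (if l = m then (ζ : F) ^ 2 else ζ) ≠ 0 := fun l m => by split_ifs <;> simp
  intro k l hkl b
  simp only [Perm.coe_one, id]
  by_cases h1 : k = i
  · subst h1
    rw [e k l j hkl hij]
    congr 2
    simp only [dH, if_true, hkl.symm, if_false]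
    split_ifs <;> simp [sq]
  by_cases h2 : k = j
  · subst h2
    rw [inv, cj_inv_X (ne l i) (e k l i hkl h1)]
    congr 2
    simp only [dH, if_true, hkl.symm, h1, if_false]
    split_ifs <;> simp [sq]
  have : H i j = (H k i)⁻¹ * H k j := by rw [← t2 k i j h1 hij h2]; simp
  rw [this, cj_mul, e k l j hkl h2, cj_inv_X (ne l i) (e k l i hkl h1), ← mul_assoc]
  congr 2
  simp only [dH, h1, h2, if_false]
  by_cases h4 : l = i
  · simp [h4, hij, sq]
  by_cases h5 : l = j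
  · simp [h5, hij.symm, sq]
  simp [h4, h5]

theorem str_of [Finite F] {ζ : Fˣ} (hζ : ∀ a : Fˣ, ∃ k : ℕ, ζ ^ k = a) {X : ι → ι → F → J} {H : ι → ι → J}
    (h3 : ∀ i j : ι, ∃ k, k ≠ i ∧ k ≠ j) (hA : ∀ i j, i ≠ j → Ad (X i j))
    (hH : ∀ i j, i ≠ j → Acts X (H i j) 1 (dH i j ζ)) (B : List F)
    (hB : ((∀ i j k : ι, ∃ l, l ≠ i ∧ l ≠ j ∧ l ≠ k) ∧ 1 ∈ B) ∨ ∀ e < 3, (ζ : F) ^ e ∈ B)
    (r1 : ∀ i j k, i ≠ j → j ≠ k → i ≠ k → ∀ b ∈ B, X i j 1 * X j k b * (X i j 1)⁻¹ * (X j k b)⁻¹ = X i k b)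
    (r2 : ∀ i j k l, i ≠ j → k ≠ l → j ≠ k → i ≠ l → i ≠ k → j ≠ l →
      Commute (X i j 1) (X k l 1) ∨ Commute (X k j 1) (X i l 1)) : StR X := by
  have hD : ∀ i j, i ≠ j → ∀ c, ∃ g, Acts X g 1 (dH i j c) := fun i j h c => by
    obtain ⟨n, rfl⟩ := hζ c
    exact ⟨_, (hH i j h).pow n⟩
  have cr : ∀ {i j k}, i ≠ j → j ≠ k → i ≠ k → ∀ a b,
      X i j a * X j k b * (X i j a)⁻¹ * (X j k b)⁻¹ = X i k (a * b) := fun {i j k} h1 h2 h4 a b => by
    by_cases ha : a = 0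
    · simp [ha, (hA _ _ h1).zero, (hA _ _ h4).zero]
    by_cases hb : b = 0
    · simp [hb, (hA _ _ h2).zero, (hA _ _ h4).zero]
    lift a to Fˣ using IsUnit.mk0 _ ha
    lift b to Fˣ using IsUnit.mk0 _ hb
    suffices ∃ g d, ∃ β ∈ B, Acts X g 1 d ∧ (d i : F) * (d j : F)⁻¹ = a ∧ (d j : F) * (d k : F)⁻¹ * β = b by
      obtain ⟨g, d, β, hβ, hg, e1, e2⟩ := this
      have := congrArg (cj g) (r1 i j k h1 h2 h4 β hβ)
      simp only [map_mul, map_inv, hg _ _ h1, hg _ _ h2, hg _ _ h4, Perm.coe_one, id, e1, e2, mul_one] at this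
      rw [this, ← e1, ← e2]
      congr 1; field_simp
    rcases hB with ⟨h5, h6⟩ | h5
    · obtain ⟨l, a1, a2, a3⟩ := h5 i j k
      obtain ⟨g, hg⟩ := hD i l a1.symm a
      obtain ⟨g', hg'⟩ := hD l k a3 b
      exact ⟨_, _, 1, h6, (hg.mul hg').congr (mul_one _) fun _ => rfl, by
        simp [dH, h1.symm, a1.symm, a2.symm, h2, h4], by simp [dH, h1.symm, h4.symm, a3.symm, a2.symm, h2]⟩
    · obtain ⟨n, hn⟩ := hζ (a ^ 2 * b)
      obtain ⟨g, hg⟩ := hD i j h1 (ζ ^ (n / 3))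
      obtain ⟨g', hg'⟩ := hD j k h2 ((ζ ^ (n / 3)) ^ 2 * a⁻¹)
      refine ⟨_, _, _, h5 (n % 3) (Nat.mod_lt _ (by norm_num)), (hg.mul hg').congr (mul_one _) fun _ => rfl, ?_, ?_⟩
      · simp [dH, h1.symm, h1, h4]; field_simp
      · have : (b : F) = ((ζ : F) ^ (n / 3)) ^ 3 * ζ ^ (n % 3) / a ^ 2 := by
          rw [← pow_mul, ← pow_add, Nat.div_add_mod', eq_div_iff (by simp), mul_comm]
          simpa using (congrArg Units.val hn).symm
        rw [this]
        simp [dH, h1.symm, h2.symm, h4.symm]; field_simp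
  have c1 : ∀ {i j k}, i ≠ j → j ≠ k → i ≠ k → ∀ a b, Commute (X j k a) (X i k b) := fun {i j k} h1 h2 h4 a b => by
    have e1 := cr h1 h2 h4 1 (a + b)
    have e2 := cr h1 h2 h4 1 a
    have e3 := cr h1 h2 h4 1 b
    rw [one_mul] at e1 e2 e3
    rw [hA _ _ h2, hA _ _ h4] at e1
    have : X i k a * (X j k a * X i k b * (X j k a)⁻¹) = X i k a * X i k b := by
      rw [← e1, ← e2, ← e3]; simp [mul_assoc]
    exact mul_inv_eq_iff_eq_mul.1 (mul_left_cancel this)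
  have c2 : ∀ {i j k}, i ≠ j → j ≠ k → i ≠ k → ∀ a b, Commute (X i j a) (X i k b) := fun {i j k} h1 h2 h4 a b => by
    have e1 := cr h1 h2 h4 (a + b) 1
    have e2 := cr h1 h2 h4 a 1
    have e3 := cr h1 h2 h4 b 1
    rw [mul_one] at e1 e2 e3
    rw [hA _ _ h1, add_comm, hA _ _ h4] at e1
    have : X i j a * X i k b * (X i j a)⁻¹ * X i k a = X i k b * X i k a := by
      rw [← e1, ← e2, ← e3]; simp [mul_assoc]
    exact mul_inv_eq_iff_eq_mul.1 (mul_right_cancel this)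
  have c3 : ∀ {i j k l}, i ≠ j → k ≠ l → j ≠ k → i ≠ l → i ≠ k → j ≠ l → Commute (X i j 1) (X k l 1) →
      ∀ a b, Commute (X i j a) (X k l b) := fun {i j k l} h1 h2 h4 h5 h6 h7 hc a b => by
    refine ((gens_sq hζ).comm (hA _ _ h1) (fun m => ((gens_sq hζ).comm (hA _ _ h2) (fun n => ?_) b).symm) a).symm
    obtain ⟨g, hg⟩ := hD i j h1 (ζ ^ m)
    obtain ⟨g', hg'⟩ := hD k l h2 (ζ ^ n)
    have := hc.map (cj (g * g'))
    rw [(hg.mul hg') _ _ h1, (hg.mul hg') _ _ h2] at this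
    simp only [dH, h1.symm, h4, h5, h6, h7, h2.symm, h4.symm, h5.symm, h6.symm, h7.symm, Perm.coe_one, id, if_true,
      if_false, mul_one, one_mul, Units.val_inv_eq_inv_val, inv_inv, Units.val_pow_eq_pow_val] at this
    rwa [← pow_mul, ← pow_mul, two_mul, two_mul, pow_add, pow_add]
  refine ⟨fun h => hA _ _ h, fun {i j k l} h1 h2 h4 h5 a b => ?_, cr, h3⟩
  by_cases h6 : i = k
  · subst h6
    by_cases h7 : j = l
    · exact h7 ▸ (hA _ _ h1).comm _ _
    · exact c2 h1 h7 h2 a b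
  by_cases h7 : j = l
  · subst h7; exact c1 (Ne.symm h6) h1 h2 a b
  rcases r2 i j k l h1 h2 h4 h5 h6 h7 with hc | hc
  · exact c3 h1 h2 h4 h5 h6 h7 hc a b
  · have c4 := c3 h4.symm h5 h1.symm h2 (Ne.symm h6) h7 hc (b * a) 1
    have e1 := cr (Ne.symm h6) h5 h2 b 1
    have e2 := cr (Ne.symm h6) h1 h4.symm b a
    rw [mul_one] at e1
    have e3 : X i j a * X k i b * (X i j a)⁻¹ = (X k j (b * a))⁻¹ * X k i b := by rw [← e2]; simp [mul_assoc]
    have e4 := cj_comm (c2 h1 h7 h5 a 1)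
    have : cj (X i j a) (X k l b) = X k l b := by
      rw [← e1]
      simp only [map_mul, map_inv, e4]
      rw [MulAut.conj_apply, e3]
      calc _ = (X k j (b * a))⁻¹ * (X k i b * X i l 1 * (X k i b)⁻¹ * (X i l 1)⁻¹) *
            (X i l 1 * X k j (b * a) * (X i l 1)⁻¹) := by simp [mul_assoc]
        _ = _ := by
          rw [e1, ← c4.eq, mul_inv_cancel_right, mul_assoc, (c2 h2 (Ne.symm h7) h4.symm _ _).eq, inv_mul_cancel_left]
    exact mul_inv_eq_iff_eq_mul.1 this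

/-- four relations for the root subgroup -/
theorem u_four [Fintype F] {ζ : Fˣ} (hζ : ∀ a : Fˣ, ∃ k : ℕ, ζ ^ k = a) : ∃ L : List (FreeGroup (Fin 3)), L.length = 4 ∧
    (∀ (G : Type _) [Group G] (g : Fin 3 → G) (X : F → G), Ad X → X 1 = g 0 →
      (∀ a, g 1 * X a * (g 1)⁻¹ = X ((ζ : F) ^ 2 * a)) → (∀ a, g 2 * X a * (g 2)⁻¹ = X (ζ * a)) →
      ∀ r ∈ L, FreeGroup.lift g r = 1) ∧
    ∀ (J : Type) [Group J] (g : Fin 3 → J), Commute (g 2) (g 1) → (∀ r ∈ L, FreeGroup.lift g r = 1) →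
      ∃ X : F → J, Ad X ∧ X 1 = g 0 ∧ ∀ a, g 1 * X a * (g 1)⁻¹ = X ((ζ : F) ^ 2 * a) := by
  obtain ⟨p, hp⟩ := CharP.exists F
  haveI : Fact p.Prime := ⟨CharP.char_is_prime F p⟩
  obtain ⟨m, m1, m2⟩ := exists_m p ((ζ : F) ^ 2)
  by_cases h : 1 + (ζ : F) ^ 2 = 0
  · have h' : (ζ : F) ^ 2 = -1 := by linear_combination h
    refine ⟨[.of 0 ^ p, .of 1 * .of 0 * (.of 1)⁻¹ * .of 0, pw (.of 0) (.of 1) m, 1], rfl, ?_, ?_⟩
    · intro G _ g X hX h0 h1 h2
      simp only [List.forall_mem_cons, List.not_mem_nil, IsEmpty.forall_iff, implies_true, and_true, map_mul, map_inv,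
        map_pow, FreeGroup.lift_apply_of, map_pw, ← h0, h1, pw_eq hX h1, m1, map_one]
      exact ⟨hX.pow_char p, by rw [← hX, h']; simpa using hX.zero, hX.zero⟩
    · intro J _ g _ hr
      simp only [List.forall_mem_cons, List.not_mem_nil, IsEmpty.forall_iff, implies_true, and_true, map_mul, map_inv,
        map_pow, FreeGroup.lift_apply_of, map_pw, map_one] at hr
      obtain ⟨r1, r2, r3⟩ := hr
      have c : ∀ i : ℕ, ∃ k : ℤ, g 1 ^ i * g 0 * (g 1 ^ i)⁻¹ = g 0 ^ k := fun i => by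
        induction i with
        | zero => exact ⟨1, by simp⟩
        | succ i ih =>
          obtain ⟨k, hk⟩ := ih
          refine ⟨-k, ?_⟩
          rw [_root_.zpow_neg, ← _root_.inv_zpow, ← eq_inv_of_mul_eq_one_left r2, conj_zpow, ← hk]
          simp [pow_succ', mul_assoc]
      exact exists_X (gens_sq hζ) m2 (fun i j => by
        obtain ⟨k, a⟩ := c i
        obtain ⟨l, b⟩ := c j
        rw [a, b]; exact (Commute.refl _).zpow_zpow _ _) r1 r3
  · obtain ⟨l, hl⟩ := hζ (Units.mk0 _ h)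
    have hl' : (ζ : F) ^ l = 1 + ζ ^ 2 := by simpa using congrArg Units.val hl
    refine ⟨[.of 0 ^ p, .of 0 * (.of 1 * .of 0 * (.of 1)⁻¹) * (.of 1 * .of 0 * (.of 1)⁻¹ * .of 0)⁻¹,
      .of 2 ^ l * .of 0 * (.of 2 ^ l)⁻¹ * (.of 0 * (.of 1 * .of 0 * (.of 1)⁻¹))⁻¹, pw (.of 0) (.of 1) m], rfl, ?_, ?_⟩
    · intro G _ g X hX h0 h1 h2
      simp only [List.forall_mem_cons, List.not_mem_nil, IsEmpty.forall_iff, implies_true, and_true, map_mul, map_inv,
        map_pow, FreeGroup.lift_apply_of, mul_inv_eq_one, map_pw, ← h0, conj_pow_X h2, h1, pw_eq hX h1, m1, hl',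
        mul_one]
      exact ⟨hX.pow_char p, hX.comm _ _, hX _ _, hX.zero⟩
    · intro J _ g hc hr
      simp only [List.forall_mem_cons, List.not_mem_nil, IsEmpty.forall_iff, implies_true, and_true, map_mul, map_inv,
        map_pow, FreeGroup.lift_apply_of, mul_inv_eq_one, map_pw] at hr
      obtain ⟨r1, r2, r3, r4⟩ := hr
      exact exists_X (gens_sq hζ) m2 (baumslag (hc.pow_left l) r2 r3) r1 r4

theorem HasPres.list {κ : Type*} {y : κ → G} {r : ℕ} (h : HasPres y r) : ∃ L : List (FreeGroup κ), L.length ≤ r ∧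
    (∀ w ∈ L, FreeGroup.lift y w = 1) ∧ ∀ (J : Type) [Group J] (g : κ → J), (∀ w ∈ L, FreeGroup.lift g w = 1) →
      ∃ φ : G →* J, ∀ i, φ (y i) = g i := by
  obtain ⟨rels, h1, e, he⟩ := h
  refine ⟨rels.toList, by simpa, fun w hw => ?_, fun J _ g hg => ?_⟩
  · rw [← lift_comp e.toMonoidHom he, lift_of, PresentedGroup.one_of_mem (by simpa using hw), map_one]
  · refine ⟨(PresentedGroup.toGroup (f := g) (rels := rels) fun r hr => hg r (by simpa using hr)).comp e.symm.toMonoidHom,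
      fun i => ?_⟩
    simp [← he]

theorem HasPres.reindex {κ κ' : Type*} {y : κ → G} {r : ℕ} (h : HasPres y r) (e : κ' ≃ κ) : HasPres (y ∘ e) r :=
  h.change (y ∘ e) (by rw [e.surjective.range_comp]; exact h.gen) ∅ e (fun _ _ _ _ h => e.injective h) fun _ _ => rfl

variable [Fintype ι]

def Tv (F : Type*) [Field F] (i j : ι) (a : F) : SpecialLinearGroup ι F :=
  if h : i ≠ j then SpecialLinearGroup.transvection h a else 1

theorem Tv_eq {i j : ι} (h : i ≠ j) (a : F) : Tv F i j a = SpecialLinearGroup.transvection h a := dif_pos h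

theorem str_Tv (h3 : ∀ i j : ι, ∃ k, k ≠ i ∧ k ≠ j) : StR (Tv F : ι → ι → F → _) := by
  refine ⟨fun h a b => ?_, fun {i j k l} h1 h2 h4 h5 a b => ?_, fun {i j k} h1 h2 h4 a b => ?_, h3⟩
  · simp only [Tv_eq h, SpecialLinearGroup.transvection_add]
  · rw [Tv_eq h1, Tv_eq h2]
    apply Subtype.ext
    simp [SpecialLinearGroup.transvection_coe, mul_add, add_mul, h4, h5.symm, add_right_comm]
  · rw [Tv_eq h1, Tv_eq h2, Tv_eq h4, mul_inv_eq_iff_eq_mul, mul_inv_eq_iff_eq_mul]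
    apply Subtype.ext
    simp [SpecialLinearGroup.transvection_coe, mul_add, add_mul, h1.symm, h2.symm, h4.symm, h2]
    abel

/-- signed permutation matrices -/
noncomputable def permSL {W : Type*} [Group W] (ρ : W →* Perm ι) (ε : W →* ℤˣ)
    (h : ∀ w, ε w ^ Fintype.card ι * Perm.sign (ρ w) = 1) (F : Type*) [Field F] : W →* SpecialLinearGroup ι F :=
  MonoidHom.mk' (fun w => ⟨((ε w : ℤ) : F) • permMatrixHom (ρ w), by
    have := congrArg (fun x : ℤˣ => ((x : ℤ) : F)) (h w)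
    show det (_ • (ρ w)⁻¹.permMatrix F) = 1
    simpa using this⟩) fun a b => Subtype.ext (by
      show _ = _ * _
      simp [smul_smul, mul_comm])

theorem acts_permSL {W : Type*} [Group W] (ρ : W →* Perm ι) (ε : W →* ℤˣ)
    (h : ∀ w, ε w ^ Fintype.card ι * Perm.sign (ρ w) = 1) (w : W) : Acts (Tv F) (permSL ρ ε h F w) (ρ w) 1 := by
  intro k l hkl b
  rw [MulAut.conj_apply, mul_inv_eq_iff_eq_mul, Tv_eq hkl, Tv_eq ((ρ w).injective.ne hkl)]
  apply Subtype.ext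
  show (((ε w : ℤ) : F) • (ρ w)⁻¹.permMatrix F) * (1 + single _ _ _) =
    (1 + single _ _ _) * (((ε w : ℤ) : F) • (ρ w)⁻¹.permMatrix F)
  rw [smul_mul_assoc, mul_smul_comm, mul_add, add_mul, Matrix.mul_one, Matrix.one_mul]
  congr 2
  ext i j
  simp [Perm.permMatrix, PEquiv.toMatrix_toPEquiv_mul, PEquiv.mul_toMatrix_toPEquiv, single_apply, Equiv.eq_symm_apply]

end Cfsg.Agent.Classical.Pres
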