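import Cfsg.Agent.Lib.Classical.Pres12

/-! Bounded presentations of `SL_n(q)`. -/
set_option autoImplicit false
set_option linter.unusedSectionVars false
open Equiv Matrix Polynomial

namespace Cfsg.Agent.Classical.Pres
variable {G J : Type*} [Group G] [Group J] {F : Type*} [Field F] {ι : Type*} [DecidableEq ι]

theorem equivar {W : Type*} [Group W] (ρ : W →* Perm ι) (φ : W →* J) {i0 j0 : ι} {s : ι → ι → W}
    (hs : ∀ i j, i ≠ j → ρ (s i j) i0 = i ∧ ρ (s i j) j0 = j) {z : J}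
    (hz : ∀ w, ρ w i0 = i0 → ρ w j0 = j0 → Commute (φ w) z) (w : W) {i j : ι} (h : i ≠ j) :
    cj (φ w) (cj (φ (s i j)) z) = cj (φ (s (ρ w i) (ρ w j))) z := by
  have h1 := hs _ _ ((ρ w).injective.ne h)
  have h2 := hs _ _ h
  have := cj_comm (hz ((s (ρ w i) (ρ w j))⁻¹ * (w * s i j))
    (by rw [map_mul, map_mul, map_inv, Perm.mul_apply, Perm.mul_apply, h2.1, Perm.inv_eq_iff_eq, h1.1])
    (by rw [map_mul, map_mul, map_inv, Perm.mul_apply, Perm.mul_apply, h2.2, Perm.inv_eq_iff_eq, h1.2]))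
  rw [map_mul, map_mul, cj_mul, cj_mul] at this
  conv_rhs => rw [← this, ← cj_mul, map_inv, mul_inv_cancel]
  simp

theorem lm {α κ : Type*} (g : α ⊕ κ → J) (w : FreeGroup κ) :
    FreeGroup.lift g (FreeGroup.map Sum.inr w) = FreeGroup.lift (fun i => g (.inr i)) w := by
  rw [← MonoidHom.comp_apply]; congr 1; ext; simp

theorem sl_core [Finite F] {ζ : Fˣ} (hζ : ∀ a : Fˣ, ∃ k : ℕ, ζ ^ k = a) {W : Type*} [Group W] (ρ : W →* Perm ι)
    (φ : W →* J) {i0 j0 : ι} (h0 : i0 ≠ j0) (h3 : ∀ i j : ι, ∃ k, k ≠ i ∧ k ≠ j) {s : ι → ι → W}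
    (hs : ∀ i j, i ≠ j → ρ (s i j) i0 = i ∧ ρ (s i j) j0 = j) {X0 : F → J} (hX : Ad X0) {h : J}
    (hh : ∀ a, h * X0 a * h⁻¹ = X0 ((ζ : F) ^ 2 * a))
    (c1 : ∀ w, ρ w i0 = i0 → ρ w j0 = j0 → Commute (φ w) h)
    (c2 : ∀ w, ρ w i0 = i0 → ρ w j0 = j0 → Commute (φ w) (X0 1)) (T : List ι) (hT1 : ∀ t ∈ T, t ≠ i0 ∧ t ≠ j0)
    (hT : ∀ i j k, i ≠ j → j ≠ k → i ≠ k → ∃ w, ∃ t ∈ T, ρ w i0 = i ∧ ρ w j0 = j ∧ ρ w t = k) (B : List F)
    (hB : ((∀ i j k : ι, ∃ l, l ≠ i ∧ l ≠ j ∧ l ≠ k) ∧ 1 ∈ B) ∨ ∀ e < 3, (ζ : F) ^ e ∈ B) (Q : List (ι × ι))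
    (hQ1 : ∀ q ∈ Q, q.1 ≠ q.2)
    (hQ : ∀ i j k l, i ≠ j → k ≠ l → j ≠ k → i ≠ l → i ≠ k → j ≠ l → ∃ w, ∃ q ∈ Q, ρ w j0 = j ∧ ρ w q.2 = l ∧
      ((ρ w i0 = i ∧ ρ w q.1 = k) ∨ (ρ w i0 = k ∧ ρ w q.1 = i)))
    (N : List W) (hN : ∀ K : Subgroup W, K.Normal → (∀ c ∈ N, c ∈ K) → K = ⊤)
    {X : ι → ι → F → J} (eX : ∀ i j a, X i j a = cj (φ (s i j)) (X0 a)) {H : ι → ι → J}
    (eH : ∀ i j, H i j = cj (φ (s i j)) h)
    (t1 : ∀ t ∈ T, Commute (H i0 t) h) (t2 : ∀ t ∈ T, h * H j0 t = H i0 t)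
    (t4 : ∀ t ∈ T, cj (H i0 t) (X0 1) = X i0 j0 ζ)
    (t5 : ∀ t ∈ T, ∀ b ∈ B, X0 1 * X j0 t b * (X0 1)⁻¹ * (X j0 t b)⁻¹ = X i0 t b)
    (t6 : ∀ q ∈ Q, Commute (X0 1) (X q.1 q.2 1)) (t7 : ∀ c ∈ N, φ c ∈ UR X fun _ _ => True) :
    StR X ∧ X i0 j0 = X0 ∧ h ∈ UR X (fun _ _ => True) ∧ ∀ w, φ w ∈ UR X fun _ _ => True := by
  have hx := gens_sq hζ
  have c3 : ∀ a w, ρ w i0 = i0 → ρ w j0 = j0 → Commute (φ w) (X0 a) := fun a w a1 a2 => hx.comm hX (fun i => by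
    rw [← mul_one (_ ^ i), ← conj_pow_X hh]
    exact (((c1 w a1 a2).pow_right i).mul_right (c2 w a1 a2)).mul_right ((c1 w a1 a2).pow_right i).inv_right) a
  have x0 : X i0 j0 = X0 := funext fun a => by rw [eX, cj_comm (c3 a _ (hs _ _ h0).1 (hs _ _ h0).2)]
  have H0 : H i0 j0 = h := by rw [eH, cj_comm (c1 _ (hs _ _ h0).1 (hs _ _ h0).2)]
  have aX : ∀ w, Acts X (φ w) (ρ w) 1 := fun w i j e a => by
    rw [eX, eX, equivar ρ φ hs (c3 a) w e]; simp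
  have aX' : ∀ w i j, i ≠ j → ∀ a, cj (φ w) (X i j a) = X (ρ w i) (ρ w j) a := fun w i j e a => by
    simpa using aX w i j e a
  have aH : ∀ w i j, i ≠ j → cj (φ w) (H i j) = H (ρ w i) (ρ w j) := fun w i j e => by
    rw [eH, eH, equivar ρ φ hs c1 w e]
  have hA : ∀ i j, i ≠ j → Ad (X i j) := fun i j _ a b => by rw [eX, eX, eX, hX, map_mul]
  have T2 : ∀ i j k, i ≠ j → j ≠ k → i ≠ k → H i j * H j k = H i k := fun i j k a b c => by
    obtain ⟨w, t, ht, rfl, rfl, rfl⟩ := hT i j k a b c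
    rw [← aH w _ _ h0, ← aH w _ _ (hT1 t ht).2.symm, ← aH w _ _ (hT1 t ht).1.symm, ← map_mul, H0, t2 t ht]
  have hH : ∀ i j, i ≠ j → Acts X (H i j) 1 (dH i j ζ) := fun i j => acts_H h3 (fun i j e a => by
    rw [eX, eX, eH, ← hh]; simp [mul_assoc]) T2 fun i j k a b c x => by
      obtain ⟨w, t, ht, rfl, rfl, rfl⟩ := hT i j k a b c
      have := hx.act hX hh (t1 t ht) (c := ζ) (by rw [← x0, ← t4 t ht, x0]; rfl) x
      rw [← aX' w _ _ h0, ← aX' w _ _ h0, ← aH w _ _ (hT1 t ht).1.symm, x0, ← this]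
      simp [mul_assoc]
  have hS : StR X := str_of hζ h3 hA hH B hB (fun i j k a b c x hx => by
    obtain ⟨w, t, ht, rfl, rfl, rfl⟩ := hT i j k a b c
    rw [← aX' w _ _ h0, ← aX' w _ _ (hT1 t ht).2.symm, ← aX' w _ _ (hT1 t ht).1.symm, ← t5 t ht x hx, x0]
    simp only [map_mul, map_inv]) fun i j k l a b c d e f => by
      obtain ⟨w, q, hq, rfl, rfl, ⟨rfl, rfl⟩ | ⟨rfl, rfl⟩⟩ := hQ i j k l a b c d e f
      · left; rw [← aX' w _ _ h0, ← aX' w _ _ (hQ1 q hq), x0]; exact (t6 q hq).map _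
      · right; rw [← aX' w _ _ h0, ← aX' w _ _ (hQ1 q hq), x0]; exact (t6 q hq).map _
  have nS : ∀ {g σ d}, Acts X g σ d → ∀ x ∈ UR X fun _ _ => True, g * x * g⁻¹ ∈ UR X fun _ _ => True :=
    fun {g σ d} hg x hx => conj_mem_closure (by
      rintro _ ⟨k, l, b, e, -, rfl⟩
      rw [← MulAut.conj_apply, hg k l e]
      exact mem_UR (σ.injective.ne e) trivial _) hx
  have mφ : ∀ w, φ w ∈ UR X fun _ _ => True := fun w => by
    have := hN ((UR X fun _ _ => True).comap φ) ⟨fun x hx g => by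
      rw [Subgroup.mem_comap, map_mul, map_mul, map_inv]; exact nS (aX g) _ hx⟩ t7
    exact (this ▸ Subgroup.mem_top w : w ∈ (UR X fun _ _ => True).comap φ)
  refine ⟨hS, x0, ?_, mφ⟩
  obtain ⟨k, k1, k2⟩ := h3 i0 j0
  have e := T2 i0 j0 k h0 k2.symm k1.symm
  have m : ∀ w, h⁻¹ * φ w * h ∈ UR X fun _ _ => True := fun w => by
    simpa [H0] using nS (hH _ _ h0).inv _ (mφ w)
  rw [H0, eH, eH] at e
  have : h = (φ (s j0 k))⁻¹ * (h⁻¹ * φ (s i0 k) * h) * (φ (s i0 k))⁻¹ * φ (s j0 k) := by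
    have e' : φ (s i0 k) * h * (φ (s i0 k))⁻¹ = h * (φ (s j0 k) * h * (φ (s j0 k))⁻¹) := e.symm
    calc h = (φ (s j0 k))⁻¹ * h⁻¹ * (h * (φ (s j0 k) * h * (φ (s j0 k))⁻¹)) * φ (s j0 k) := by simp [mul_assoc]
      _ = _ := by rw [← e']; simp [mul_assoc]
  rw [this]
  exact mul_mem (mul_mem (mul_mem (inv_mem (mφ _)) (m _)) (inv_mem (mφ _))) (mφ _)

theorem sl_pres [Fintype F] [Fintype ι] {ζ : Fˣ} (hζ : ∀ a : Fˣ, ∃ k : ℕ, ζ ^ k = a) {W : Type*} [Group W]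
    {κ : Type} {y : κ → W} {r : ℕ} (hy : HasPres y r) (ρ : W →* Perm ι) (μ : W →* SpecialLinearGroup ι F)
    (hμ : ∀ w, Acts (Tv F) (μ w) (ρ w) 1) {i0 j0 k0 : ι} (h0 : i0 ≠ j0) (h3 : ∀ i j : ι, ∃ k, k ≠ i ∧ k ≠ j)
    (C : List W) (hC1 : ∀ c ∈ C, ρ c i0 = i0 ∧ ρ c j0 = j0)
    (hC : ∀ w, ρ w i0 = i0 → ρ w j0 = j0 → w ∈ Subgroup.closure {c | c ∈ C})
    (T : List ι) (hT0 : k0 ∈ T) (hT1 : ∀ t ∈ T, t ≠ i0 ∧ t ≠ j0)
    (hT : ∀ i j k, i ≠ j → j ≠ k → i ≠ k → ∃ w, ∃ t ∈ T, ρ w i0 = i ∧ ρ w j0 = j ∧ ρ w t = k) (B : List F)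
    (hB : ((∀ i j k : ι, ∃ l, l ≠ i ∧ l ≠ j ∧ l ≠ k) ∧ 1 ∈ B) ∨ ∀ e < 3, (ζ : F) ^ e ∈ B) (Q : List (ι × ι))
    (hQ1 : ∀ q ∈ Q, q.1 ≠ q.2 ∧ j0 ≠ q.1 ∧ i0 ≠ q.2)
    (hQ : ∀ i j k l, i ≠ j → k ≠ l → j ≠ k → i ≠ l → i ≠ k → j ≠ l → ∃ w, ∃ q ∈ Q, ρ w j0 = j ∧ ρ w q.2 = l ∧
      ((ρ w i0 = i ∧ ρ w q.1 = k) ∨ (ρ w i0 = k ∧ ρ w q.1 = i)))
    (N : List W) (hN : ∀ K : Subgroup W, K.Normal → (∀ c ∈ N, c ∈ K) → K = ⊤) :
    ∃ x : Fin 2 ⊕ κ → SpecialLinearGroup ι F,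
      HasPres x (r + C.length * 2 + 4 + T.length * (3 + B.length) + Q.length + N.length) := by
  haveI : Nontrivial ι := ⟨i0, j0, h0⟩
  have hx := gens_sq hζ
  have hS := str_Tv (F := F) h3
  obtain ⟨Ly, y1, y2, y3⟩ := hy.list
  obtain ⟨LU, u1, u2, u3⟩ := u_four hζ
  have : ∀ i j, ∃ w, i ≠ j → ρ w i0 = i ∧ ρ w j0 = j := fun i j => by
    by_cases e : i = j
    · exact ⟨1, fun h => absurd e h⟩
    · obtain ⟨k, k1, k2⟩ := h3 i j
      obtain ⟨w, -, -, a, b, -⟩ := hT i j k e k2.symm k1.symm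
      exact ⟨w, fun _ => ⟨a, b⟩⟩
  choose s hs using this
  choose Wd hWd using exists_word hy.gen
  choose f hf using hx
  let V : W → FreeGroup (Fin 2 ⊕ κ) := fun w => FreeGroup.map Sum.inr (Wd w)
  let u : FreeGroup (Fin 2 ⊕ κ) := .of (.inl 0)
  let h : FreeGroup (Fin 2 ⊕ κ) := .of (.inl 1)
  let Hw : ι → ι → FreeGroup (Fin 2 ⊕ κ) := fun i j => cj (V (s i j)) h
  let Xw : ι → ι → F → FreeGroup (Fin 2 ⊕ κ) := fun i j a => cj (V (s i j)) (pw u h (f a))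
  let x : Fin 2 ⊕ κ → SpecialLinearGroup ι F := Sum.elim ![Tv F i0 j0 1, Pres.hS (Tv F) i0 j0 ζ] fun i => μ (y i)
  have x0 : x (.inl 0) = Tv F i0 j0 1 := rfl
  have x1 : x (.inl 1) = Pres.hS (Tv F) i0 j0 ζ := rfl
  have x2 : ∀ w, FreeGroup.lift x (FreeGroup.map Sum.inr w) = μ (FreeGroup.lift y w) := fun w => by
    rw [lm, lift_comp μ (g := y) (fun _ => rfl)]; rfl
  have xV : ∀ w, FreeGroup.lift x (V w) = μ w := fun w => by rw [x2, hWd]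
  have xh : ∀ a, x (.inl 1) * Tv F i0 j0 a * (x (.inl 1))⁻¹ = Tv F i0 j0 ((ζ : F) ^ 2 * a) := fun a => by
    simpa [x1, dH, h0.symm, sq] using hS.acts_h h0 ζ i0 j0 h0 a
  have xX : ∀ i j, i ≠ j → ∀ a, FreeGroup.lift x (Xw i j a) = Tv F i j a := fun i j e a => by
    have := hμ (s i j) i0 j0 h0 a
    simp only [(hs i j e).1, (hs i j e).2, Pi.one_apply, Units.val_one, inv_one, one_mul] at this
    simp only [Xw, MulAut.conj_apply, map_mul, map_inv, xV, map_pw, u, h, FreeGroup.lift_apply_of]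
    rw [show x (.inl 0) = Tv F i0 j0 1 from rfl, pw_eq (hS.add h0) xh, hf]
    exact this
  have xH : ∀ i j, i ≠ j → FreeGroup.lift x (Hw i j) = Pres.hS (Tv F) i j ζ := fun i j e => by
    have := hS.conj_h (hμ (s i j)) h0 ζ
    simp only [(hs i j e).1, (hs i j e).2, Pi.one_apply, inv_one, one_mul, hS.h_one e, mul_one] at this
    simp only [Hw, MulAut.conj_apply, map_mul, map_inv, xV, h, FreeGroup.lift_apply_of]
    exact this
  have : ∀ M : SpecialLinearGroup ι F, ∃ r ∈ UR Xw fun _ _ => True, FreeGroup.lift x r = M :=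
    Lin.transvection_induction _ (fun i j e a => ⟨_, mem_UR e trivial a, by rw [xX _ _ e, Tv_eq e]⟩) (by
      rintro _ _ ⟨a, ha, rfl⟩ ⟨b, hb, rfl⟩; exact ⟨_, mul_mem ha hb, map_mul _ _ _⟩)
  choose R hR1 hR2 using this
  have := hasPres_of (Ly.map (FreeGroup.map Sum.inr) ++
    C.flatMap (fun c => [V c * h * (h * V c)⁻¹, V c * u * (u * V c)⁻¹]) ++
    LU.map (FreeGroup.lift ![u, h, Hw i0 k0]) ++
    T.flatMap (fun t => [Hw i0 t * h * (h * Hw i0 t)⁻¹, h * Hw j0 t * (Hw i0 t)⁻¹,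
      Hw i0 t * u * (Hw i0 t)⁻¹ * (Xw i0 j0 ζ)⁻¹] ++
      B.map fun b => u * Xw j0 t b * u⁻¹ * (Xw j0 t b)⁻¹ * (Xw i0 t b)⁻¹) ++
    Q.map (fun q => u * Xw q.1 q.2 1 * (Xw q.1 q.2 1 * u)⁻¹) ++ N.map fun c => V c * (R (μ c))⁻¹) x ?_ ?_ ?_
  · refine ⟨x, this.mono ?_⟩
    simp [List.length_flatMap, u1]
    rw [show B.length + 1 + 1 + 1 = 3 + B.length by omega]
    omega
  · simp only [List.forall_mem_append, List.forall_mem_map, List.forall_mem_flatMap, List.forall_mem_cons,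
      List.not_mem_nil, IsEmpty.forall_iff, implies_true, and_true, map_mul, map_inv, mul_inv_eq_one, xV, hR2, u, h,
      FreeGroup.lift_apply_of]
    refine ⟨⟨⟨⟨fun w hw => ?_, fun c hc => ?_⟩, fun w hw => ?_⟩, fun t ht => ?_⟩, fun q hq => ?_⟩
    · rw [x2, y2 w hw, map_one]
    · have e1 := hS.conj_h (hμ c) h0 ζ
      have e2 := hμ c i0 j0 h0 1
      simp only [(hC1 c hc).1, (hC1 c hc).2, Pi.one_apply, inv_one, one_mul, hS.h_one h0, mul_one,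
        Units.val_one] at e1 e2
      exact ⟨mul_inv_eq_iff_eq_mul.1 e1, mul_inv_eq_iff_eq_mul.1 e2⟩
    · rw [lift_comp (FreeGroup.lift x) (fun _ => rfl)]
      refine u2 _ _ (Tv F i0 j0) (hS.add h0) (by simp [x]) (by simpa using xh) (fun a => ?_) w hw
      simpa [xH _ _ (hT1 _ hT0).1.symm, dH, h0.symm, (hT1 _ hT0).2.symm] using
        hS.acts_h (hT1 _ hT0).1.symm ζ i0 j0 h0 a
    · have a1 := (hT1 t ht).1.symm
      have a2 := (hT1 t ht).2.symm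
      simp only [xH _ _ a1, xH _ _ a2, xX _ _ a1, xX _ _ a2, xX _ _ h0]
      refine ⟨⟨hS.h_comm a1 h0 a2.symm _ _, ?_, ?_⟩, fun b hb => ?_⟩
      · show Pres.hS _ _ _ _ * _ = _
        rw [hS.h_split h0 a1 a2, (hS.h_comm a1 h0 a2.symm _ _).eq, ← mul_assoc, ← hS.h_mul h0, mul_inv_cancel,
          hS.h_one h0, one_mul]
      · simpa [x0, dH, h0.symm, a2] using hS.acts_h a1 ζ i0 j0 h0 1
      · simpa [x0] using hS.cr h0 a2 a1 1 b
    · rw [xX _ _ (hQ1 q hq).1]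
      exact hS.comm h0 (hQ1 q hq).1 (hQ1 q hq).2.1 (hQ1 q hq).2.2 _ _
  · rw [eq_top_iff, ← FreeGroup.range_lift_eq_closure]
    exact fun M _ => ⟨_, hR2 M⟩
  · intro J _ g π hr hπ hg j hj
    simp only [List.forall_mem_append, List.forall_mem_map, List.forall_mem_flatMap, List.forall_mem_cons,
      List.not_mem_nil, IsEmpty.forall_iff, implies_true, and_true, map_mul, map_inv, mul_inv_eq_one, u, h,
      FreeGroup.lift_apply_of] at hr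
    obtain ⟨⟨⟨⟨⟨r1, r2⟩, r3⟩, r4⟩, r5⟩, r6⟩ := hr
    obtain ⟨φ, hφ⟩ := y3 J (fun i => g (.inr i)) fun w hw => by rw [← lm, r1 w hw]
    have gV : ∀ w, FreeGroup.lift g (V w) = φ w := fun w => by rw [lm, ← lift_comp φ hφ, hWd]
    obtain ⟨X0, a1, a2, a3⟩ := u3 J (fun i => FreeGroup.lift g (![u, h, Hw i0 k0] i)) (by
      simpa [h, Commute, SemiconjBy] using (r4 _ hT0).1.1) fun w hw => by rw [← lift_comp (FreeGroup.lift g) (fun _ => rfl), r3 w hw]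
    simp only [Matrix.cons_val, u, h, FreeGroup.lift_apply_of] at a2 a3
    simp only [gV, ← a2] at r2 r4 r5 r6
    have cc : ∀ z, (∀ c ∈ C, φ c * z = z * φ c) → ∀ w, ρ w i0 = i0 → ρ w j0 = j0 → Commute (φ w) z :=
      fun z hz w b1 b2 => by
        have := (Subgroup.closure_le ((Subgroup.centralizer {z}).comap φ)).2 (fun c hc => by
          simpa [Subgroup.mem_centralizer_iff] using (hz c hc).symm) (hC w b1 b2)
        exact ((Subgroup.mem_centralizer_iff.1 this) z rfl).symm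
    obtain ⟨b1, b2, b3, b4⟩ := sl_core hζ ρ φ h0 h3 hs a1 a3 (cc _ fun c hc => (r2 c hc).1)
      (cc _ fun c hc => (r2 c hc).2) T hT1 hT B hB Q (fun q hq => (hQ1 q hq).1) hQ N hN
      (X := fun i j a => FreeGroup.lift g (Xw i j a)) (fun i j a => by
        simp only [Xw, MulAut.conj_apply, map_mul, map_inv, gV, map_pw, u, h, FreeGroup.lift_apply_of]
        rw [← a2, pw_eq a1 a3, hf]) (H := fun i j => FreeGroup.lift g (Hw i j)) (fun i j => by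
        simp only [Hw, MulAut.conj_apply, map_mul, map_inv, gV, h, FreeGroup.lift_apply_of])
      (fun t ht => (r4 t ht).1.1) (fun t ht => (r4 t ht).1.2.1) (fun t ht => (r4 t ht).1.2.2)
      (fun t ht => (r4 t ht).2) r5 (fun c hc => by
        rw [r6 c hc]
        exact UR_le (K := (UR _ _).comap (FreeGroup.lift g)) (fun k l b e _ => mem_UR e trivial b) (hR1 _))
    refine b1.inj π (fun i j e a => by rw [lift_comp π hπ, xX _ _ e, Tv_eq e]) ?_ hj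
    refine (Subgroup.closure_le _).2 ?_ (hg ▸ Subgroup.mem_top j)
    rintro _ ⟨i | i, rfl⟩
    · fin_cases i
      · have := mem_UR (X := fun i j a => FreeGroup.lift g (Xw i j a)) (R := fun _ _ => True) h0 trivial 1
        rw [congrFun b2 1, a2] at this
        exact this
      · exact b3
    · exact hφ i ▸ b4 _

end Cfsg.Agent.Classical.Pres
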