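import Cfsg.Agent.Lib.Classical.Pres13
import Mathlib.GroupTheory.SpecificGroups.Alternating.Simple

/-! Bounded presentations of `SL_n(q)`, second part. -/
set_option autoImplicit false
set_option linter.unusedSectionVars false
open Equiv Matrix Polynomial

namespace Cfsg.Agent.Classical.Pres
variable {G J : Type*} [Group G] [Group J] {F : Type*} [Field F] {ι : Type*} [DecidableEq ι] [Fintype ι]

theorem third_card (hn : 3 ≤ Fintype.card ι) (i j : ι) : ∃ k, k ≠ i ∧ k ≠ j := by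
  by_contra! h
  have : (Finset.univ : Finset ι) ⊆ {i, j} := fun k _ => by
    by_cases e : k = i
    · simp [e]
    · simp [h k e]
  have := (Finset.card_le_card this).trans Finset.card_le_two
  simp at this; omega

theorem fourth_card (hn : 4 ≤ Fintype.card ι) (i j k : ι) : ∃ l, l ≠ i ∧ l ≠ j ∧ l ≠ k := by
  by_contra! h
  have : (Finset.univ : Finset ι) ⊆ {i, j, k} := fun l _ => by
    by_cases e : l = i
    · simp [e]
    by_cases e' : l = j
    · simp [e']
    · simp [h l e e']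
  have := (Finset.card_le_card this).trans Finset.card_le_three
  simp at this; omega

theorem HasPres.fin {a m : ℕ} {x : Fin (a + 1) ⊕ Fin m → G} {r : ℕ} (h : HasPres x r) (k : ℕ) :
    ∃ y : Fin (a + 1 + m + k) → G, HasPres y (r + k) := (h.reindex finSumFinEquiv.symm).pad (by omega) k

theorem sl3_pres [Fintype F] : ∃ x : Fin 4 → SpecialLinearGroup (Fin 3) F, HasPres x 14 := by
  obtain ⟨ζ, hζ, -⟩ := exists_gen F
  obtain ⟨y, hy⟩ := pres_S3
  obtain ⟨x, hx⟩ := sl_pres hζ hy (MonoidHom.id _) _ (acts_permSL (MonoidHom.id _) Perm.sign fun w => by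
    rw [Fintype.card_fin, MonoidHom.id_apply, ← pow_succ, show 3 + 1 = 2 * 2 from rfl, pow_mul, Int.units_sq])
    (i0 := 0) (j0 := 1) (k0 := 2) (by decide) (by decide) [] (by simp) (fun w a b => by
      have : w = 1 := by revert w; decide
      rw [this]; exact one_mem _) [2] (by simp) (by decide) (by decide) [1, ζ, ζ ^ 2] (Or.inr fun e he => by
      interval_cases e <;> simp) [] (by simp) (fun i j k l a b c d e f => by
      exfalso; omega) [swap 0 1] fun K hK h => by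
      rw [eq_top_iff, ← Perm.closure_isSwap, Subgroup.closure_le]
      rintro _ ⟨i, j, e, rfl⟩
      obtain ⟨c, hc⟩ := isConj_iff.1 (Perm.isConj_swap (show (0 : Fin 3) ≠ 1 by decide) e)
      exact hc ▸ hK.conj_mem _ (h _ (by simp)) c
  exact hx.fin 0

theorem alt_quad (E : Fin 4 ↪ ι) (i j k l : ι) (a : i ≠ j) (b : k ≠ l) (c : j ≠ k) (d : i ≠ l) (e : i ≠ k)
    (f : j ≠ l) : ∃ w : alternatingGroup ι, ∃ q ∈ [(E 2, E 3)],
      (alternatingGroup _).subtype w (E 1) = j ∧ (alternatingGroup _).subtype w q.2 = l ∧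
      (((alternatingGroup _).subtype w (E 0) = i ∧ (alternatingGroup _).subtype w q.1 = k) ∨
        ((alternatingGroup _).subtype w (E 0) = k ∧ (alternatingGroup _).subtype w q.1 = i)) := by
  obtain ⟨σ, hσ⟩ := Perm.exists_extending_pair E ![i, j, k, l] E.injective (by
    intro x y; fin_cases x <;> fin_cases y <;> simp_all [eq_comm])
  have h0 : σ (E 0) = i := hσ 0
  have h1 : σ (E 1) = j := hσ 1
  have h2 : σ (E 2) = k := hσ 2
  have h3 : σ (E 3) = l := hσ 3
  rcases Int.units_eq_one_or (Perm.sign σ) with h | h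
  · exact ⟨⟨σ, h⟩, _, List.mem_singleton_self _, h1, h3, Or.inl ⟨h0, h2⟩⟩
  · refine ⟨⟨swap i k * σ, by simp [h, e]⟩, _, List.mem_singleton_self _, ?_, ?_, Or.inr ⟨?_, ?_⟩⟩ <;>
      simp [h0, h1, h2, h3, swap_apply_of_ne_of_ne, a.symm, c, d.symm, b.symm]

theorem alt_sign (w : alternatingGroup ι) :
    (1 : alternatingGroup ι →* ℤˣ) w ^ Fintype.card ι * Perm.sign ((alternatingGroup ι).subtype w) = 1 := by
  have : Perm.sign w.1 = 1 := w.2
  simp [this]

theorem sl4_pres [Fintype F] : ∃ x : Fin 2 ⊕ Fin 2 → SpecialLinearGroup (Fin 4) F, HasPres x 18 := by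
  obtain ⟨ζ, hζ, -⟩ := exists_gen F
  obtain ⟨y, hy⟩ := pres_A4
  exact sl_pres hζ hy (alternatingGroup _).subtype _ (acts_permSL _ 1 alt_sign)
    (i0 := 0) (j0 := 1) (k0 := 2) (by decide) (by decide) [] (by simp) (fun w a b => by
      have : w = 1 := by revert w; decide
      rw [this]; exact one_mem _) [2, 3] (by simp) (by decide) (by decide) [1] (Or.inl ⟨by decide, by simp⟩)
      [(2, 3)] (by decide) (alt_quad (Function.Embedding.refl _)) [y 0, y 1] fun K hK h => by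
      rw [eq_top_iff, ← hy.gen, Subgroup.closure_le]
      rintro _ ⟨i, rfl⟩
      fin_cases i <;> exact h _ (by simp)

theorem alt_stab (E : Fin 5 ↪ ι) : ∃ C : List (alternatingGroup ι), C.length = 2 ∧
    (∀ c ∈ C, c.1 (E 0) = E 0 ∧ c.1 (E 1) = E 1) ∧ ∀ w : alternatingGroup ι, w.1 (E 0) = E 0 → w.1 (E 1) = E 1 →
      w ∈ Subgroup.closure {c | c ∈ C} := by
  let S : Finset ι := Finset.univ.filter fun i => i ≠ E 0 ∧ i ≠ E 1 ∧ i ≠ E 2 ∧ i ≠ E 3
  obtain ⟨γ, g1, g2⟩ := S.exists_cycleOn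
  have huv : E 2 ≠ E 3 := by simp
  have fx : ∀ i, i ∉ S → γ i = i := fun i hi => by
    by_contra h
    exact hi (g2 (Perm.mem_support.2 h))
  have ne : ∀ i ∈ S, i ≠ E 2 ∧ i ≠ E 3 := fun i hi => (Finset.mem_filter.1 hi).2.2.2
  have m4 : E 4 ∈ S := by simp [S]
  have f0 := fx (E 0) (by simp [S])
  have f1 := fx (E 1) (by simp [S])
  have f2 := fx (E 2) (by simp [S])
  have f3 := fx (E 3) (by simp [S])
  obtain ⟨δ, d1, d2, d3, d4⟩ : ∃ δ : Perm ι, Perm.sign δ = 1 ∧ δ (E 0) = E 0 ∧ δ (E 1) = E 1 ∧ ∀ i ∈ S,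
      δ * cyc (E 2) (E 3) i * δ⁻¹ = cyc (E 2) (E 3) (γ i) ∨ δ * cyc (E 2) (E 3) i * δ⁻¹ = (cyc (E 2) (E 3) (γ i))⁻¹ := by
    rcases Int.units_eq_one_or (Perm.sign γ) with h | h
    · exact ⟨γ, h, f0, f1, fun i _ => Or.inl (conj_cyc_fix f2 f3 i)⟩
    · refine ⟨γ * swap (E 2) (E 3), by simp [h], ?_, ?_, fun i hi => Or.inr ?_⟩
      · rw [Perm.mul_apply, swap_apply_of_ne_of_ne (by simp) (by simp), f0]
      · rw [Perm.mul_apply, swap_apply_of_ne_of_ne (by simp) (by simp), f1]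
      · rw [conj_cyc_swap (by simp [f3]) (by simp [f2]) (ne i hi).1 (ne i hi).2, Perm.mul_apply,
          swap_apply_of_ne_of_ne (ne i hi).1 (ne i hi).2]
  let C : List (alternatingGroup ι) := [⟨cyc (E 2) (E 3) (E 4), sign_cyc huv (ne _ m4).1⟩, ⟨δ, d1⟩]
  refine ⟨C, rfl, ?_, fun w a b => ?_⟩
  · simp only [C, List.forall_mem_cons, d2, d3]
    simp [cyc, swap_apply_def]
  · let K := (Subgroup.closure {c | c ∈ C}).map (alternatingGroup _).subtype
    have k1 : cyc (E 2) (E 3) (E 4) ∈ K := ⟨_, Subgroup.subset_closure (show _ ∈ C from List.mem_cons_self), rfl⟩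
    have k2 : δ ∈ K := ⟨⟨δ, d1⟩, Subgroup.subset_closure (by simp [C]), rfl⟩
    have k3 : ∀ n : ℕ, cyc (E 2) (E 3) ((γ ^ n) (E 4)) ∈ K := fun n => by
      induction n with
      | zero => exact k1
      | succ n ih =>
        have := mul_mem (mul_mem k2 ih) (inv_mem k2)
        rw [pow_succ', Perm.mul_apply]
        rcases d4 _ ((g1.1.perm_pow n).mapsTo m4) with h | h
        · exact h ▸ this
        · rw [h] at this; exact (inv_mem_iff.1 this)
    obtain ⟨g, hg, e⟩ := surj_closure huv (MonoidHom.id _) (S := S) (fun h => (ne _ h).1 rfl) (fun h => (ne _ h).2 rfl)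
      (y := cyc (E 2) (E 3)) (fun _ _ => rfl) w.2 fun x h1 h2 h3 => by
        by_cases h4 : x = E 0
        · rw [h4, a]
        by_cases h5 : x = E 1
        · rw [h5, b]
        exact absurd (by simp [S, h2, h3, h4, h5]) h1
    have : g ∈ K := (Subgroup.closure_le K).2 (by
      rintro _ ⟨i, hi, rfl⟩
      obtain ⟨n, -, rfl⟩ := g1.exists_pow_eq m4 hi
      exact k3 n) hg
    obtain ⟨v, hv, e'⟩ := this
    rwa [show w = v from Subtype.ext (e.symm.trans e'.symm)]

theorem alt_triple (E : Fin 5 ↪ ι) (i j k : ι) (a : i ≠ j) (b : j ≠ k) (c : i ≠ k) : ∃ w : alternatingGroup ι,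
    ∃ t ∈ [E 2], (alternatingGroup _).subtype w (E 0) = i ∧ (alternatingGroup _).subtype w (E 1) = j ∧
      (alternatingGroup _).subtype w t = k := by
  obtain ⟨σ, hσ⟩ := Perm.exists_extending_pair ![E 0, E 1, E 2] ![i, j, k] (by
    intro x y; fin_cases x <;> fin_cases y <;> simp) (by
    intro x y; fin_cases x <;> fin_cases y <;> simp_all [eq_comm])
  have h0 : σ (E 0) = i := hσ 0
  have h1 : σ (E 1) = j := hσ 1
  have h2 : σ (E 2) = k := hσ 2
  rcases Int.units_eq_one_or (Perm.sign σ) with h | h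
  · exact ⟨⟨σ, h⟩, _, List.mem_singleton_self _, h0, h1, h2⟩
  · refine ⟨⟨σ * swap (E 3) (E 4), by simp [h]⟩, _, List.mem_singleton_self _, ?_, ?_, ?_⟩ <;>
      simp [h0, h1, h2, swap_apply_def]

theorem sln_pres [Fintype F] {n : ℕ} (hn : 5 ≤ n) :
    ∃ x : Fin 2 ⊕ Fin 3 → SpecialLinearGroup (Fin n) F, HasPres x 21 := by
  obtain ⟨ζ, hζ, -⟩ := exists_gen F
  obtain ⟨y, hy, -⟩ := good_alt' hn
  obtain ⟨E⟩ : Nonempty (Fin 5 ↪ Fin n) := ⟨Fin.castLEEmb hn⟩
  obtain ⟨C, c1, c2, c3⟩ := alt_stab E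
  haveI := alternatingGroup.isSimpleGroup (α := Fin n) (by simpa)
  obtain ⟨c, hc⟩ := exists_ne (1 : alternatingGroup (Fin n))
  have q := alt_quad ((Fin.castLEEmb (by norm_num : 4 ≤ 5)).trans E)
  have hx := sl_pres hζ hy (alternatingGroup _).subtype _ (acts_permSL _ 1 alt_sign)
    (i0 := E 0) (j0 := E 1) (k0 := E 2) (by simp) (third_card (by simp; omega)) C c2 c3 [E 2]
    (by simp) (by simp) (alt_triple E) [1] (Or.inl ⟨fourth_card (by simp; omega), by simp⟩) [(E 2, E 3)]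
    (by simp) q [c]
    fun K hK h => (hK.eq_bot_or_eq_top).resolve_left fun e => hc (by simpa [e] using h c)
  rw [c1] at hx
  exact hx

theorem HasPres.quot_cyc {κ : Type} {x : κ → G} {r : ℕ} (h : HasPres x r) (N : Subgroup G) [N.Normal] [IsCyclic N] :
    ∃ y : κ → G ⧸ N, HasPres y (r + 1) := by
  obtain ⟨z, hz⟩ := IsCyclic.exists_generator (α := N)
  have : N ≤ Subgroup.normalClosure {z.1} := fun g hg => by
    obtain ⟨k, hk⟩ := Subgroup.mem_zpowers_iff.1 (hz ⟨g, hg⟩)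
    have : g = z.1 ^ k := by rw [← Subgroup.coe_zpow, hk]
    rw [this]
    exact zpow_mem (Subgroup.subset_normalClosure (Set.mem_singleton _)) k
  exact ⟨_, h.quot N z.2 this⟩

theorem cyclic_center_SL [Finite F] [Nonempty ι] : IsCyclic (Subgroup.center (SpecialLinearGroup ι F)) :=
  isCyclic_of_surjective _ (SpecialLinearGroup.center_equiv_rootsOfUnity' (Classical.arbitrary ι)).symm.surjective

end Cfsg.Agent.Classical.Pres
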