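import Cfsg.Agent.Lib.Classical.Pres14

/-! Steinberg's pair of generators for `SL_n(q)`. -/
set_option autoImplicit false
set_option linter.unusedSectionVars false
open Equiv Matrix Polynomial

namespace Cfsg.Agent.Classical.Pres
variable {G J : Type*} [Group G] [Group J] {F : Type*} [Field F] {ι : Type*} [DecidableEq ι] [Fintype ι]

theorem acts_mono {g : SpecialLinearGroup ι F} {σ : Perm ι} {d : ι → Fˣ}
    (h : ∀ i j, g.1 i j = if i = σ j then (d j : F) else 0) : Acts (Tv F) g σ d := by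
  intro k l hkl b
  rw [MulAut.conj_apply, mul_inv_eq_iff_eq_mul, Tv_eq hkl, Tv_eq (σ.injective.ne hkl)]
  apply Subtype.ext
  show g.1 * (1 + single _ _ _) = (1 + single _ _ _) * g.1
  rw [mul_add, add_mul, Matrix.mul_one, Matrix.one_mul]
  congr 1
  ext i j
  by_cases h1 : j = l
  · subst h1
    by_cases h2 : i = σ k
    · subst h2; simp [h]; field_simp
    · simp [h, h2]
  · by_cases h2 : i = σ k
    · subst h2; simp [h, h1, Ne.symm h1]
    · simp [h1, h2]

theorem exists_mono (σ : Perm ι) (i0 : ι) : ∃ (g : SpecialLinearGroup ι F) (d : ι → Fˣ), Acts (Tv F) g σ d := by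
  let d : ι → Fˣ := fun i => if i = i0 then Units.map (Int.castRingHom F).toMonoidHom (Perm.sign σ) else 1
  refine ⟨⟨σ⁻¹.permMatrix F * diagonal fun i => (d i : F), ?_⟩, d, acts_mono fun i j => ?_⟩
  · have : ((Perm.sign σ : ℤ) : F) * (Perm.sign σ : ℤ) = 1 := by
      rw [← Int.cast_mul, ← Units.val_mul, Int.units_mul_self]; simp
    simpa [d, apply_ite] using this
  · simp [Perm.permMatrix, PEquiv.toMatrix_apply, Equiv.eq_symm_apply, eq_comm]

theorem Tv_ad {i j : ι} (h : i ≠ j) : Ad (Tv F i j) := fun a b => by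
  simp only [Tv_eq h, SpecialLinearGroup.transvection_add]

theorem Tv_cr {i j k : ι} (h1 : i ≠ j) (h2 : j ≠ k) (h4 : i ≠ k) (a b : F) :
    Tv F i j a * Tv F j k b * (Tv F i j a)⁻¹ * (Tv F j k b)⁻¹ = Tv F i k (a * b) := by
  rw [Tv_eq h1, Tv_eq h2, Tv_eq h4, mul_inv_eq_iff_eq_mul, mul_inv_eq_iff_eq_mul]
  apply Subtype.ext
  simp [SpecialLinearGroup.transvection_coe, mul_add, add_mul, h1.symm, h2.symm, h4.symm, h2]
  abel

theorem gen_cyc {n : ℕ} (hn : 1 ≤ n) {K : Subgroup (SpecialLinearGroup (Fin (n + 1)) F)}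
    {w : SpecialLinearGroup (Fin (n + 1)) F} {d : Fin (n + 1) → Fˣ} (hw : Acts (Tv F) w (Equiv.subRight 1) d)
    (h1 : w ∈ K) (h2 : ∀ a, Tv F 0 1 a ∈ K) : K = ⊤ := by
  haveI : Nontrivial (Fin (n + 1)) := Fin.nontrivial_iff_two_le.2 (by omega)
  haveI : NeZero n := ⟨by omega⟩
  have o : (1 : Fin (n + 1)) ≠ 0 := one_ne_zero
  have a1 : ∀ i : Fin (n + 1), ∀ a, Tv F i (i + 1) a ∈ K := fun i => by
    induction i using Fin.induction with
    | zero => simpa using h2
    | succ i ih =>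
      intro a
      have e := hw i.succ (i.succ + 1) (by simp) a
      have e' : i.succ = i.castSucc + 1 := (Fin.coeSucc_eq_succ).symm
      rw [e'] at e ⊢
      simp only [subRight_apply, add_sub_cancel_right] at e
      have := mul_mem (mul_mem (inv_mem h1) (e ▸ ih _)) h1
      simpa only [MulAut.conj_apply, mul_assoc, inv_mul_cancel_left, inv_mul_cancel, mul_one] using this
  have a2 : ∀ k : Fin (n + 1), k ≠ 0 → ∀ i a, Tv F i (i + k) a ∈ K := fun k => by
    induction k using Fin.induction with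
    | zero => exact fun h => absurd rfl h
    | succ k ih =>
      intro hk i a
      have e' : k.succ = k.castSucc + 1 := (Fin.coeSucc_eq_succ).symm
      by_cases h0 : k.castSucc = 0
      · rw [e', h0, zero_add]; exact a1 i a
      · rw [← mul_one a, ← Tv_cr (j := i + k.castSucc) (by simpa using h0) (by rw [e', ← add_assoc]; simp)
          (by simpa using hk), e', ← add_assoc]
        exact mul_mem (mul_mem (mul_mem (ih h0 _ _) (a1 _ _)) (inv_mem (ih h0 _ _))) (inv_mem (a1 _ _))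
  rw [eq_top_iff]
  refine fun g _ => Lin.transvection_induction (· ∈ K) (fun i j h a => ?_) (fun _ _ => mul_mem) g
  have := a2 (j - i) (sub_ne_zero.2 h.symm) i a
  rwa [add_sub_cancel, Tv_eq h] at this

theorem gen_small [Fintype F] (hF : Fintype.card F ≤ 3) {X : F → G} (hX : Ad X) {K : Subgroup G} (h : X 1 ∈ K) (a : F) :
    X a ∈ K := by
  classical
  by_cases h0 : a = 0
  · rw [h0, hX.zero]; exact one_mem _
  by_cases h1 : a = 1
  · exact h1 ▸ h
  have : a = -1 := by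
    by_contra h2
    have e : ({0, 1, a, a + 1} : Finset F).card ≤ 3 := (Finset.card_le_univ _).trans hF
    have h3 : a + 1 ≠ 0 := fun e => h2 (eq_neg_of_add_eq_zero_left e)
    rw [Finset.card_insert_of_notMem (by simp [Ne.symm h0, h3.symm]),
      Finset.card_insert_of_notMem (by simp [Ne.symm h1, h0]), Finset.card_pair (by simp)] at e
    omega
  rw [this, hX.neg]; exact inv_mem h

theorem gen_big [Finite F] {k : Fˣ} (hk : ∀ a : Fˣ, ∃ n : ℕ, k ^ n = a) (hk2 : (k : F) ^ 2 ≠ 1) {X : F → G} (hX : Ad X)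
    {K : Subgroup G} {h h' : G} (hh : ∀ a, h * X a * h⁻¹ = X ((k : F) ^ 2 * a)) {c : F} (hc : c ≠ 1)
    (hh' : h' * X (-1) * h'⁻¹ = X (-c)) (hc' : Commute h h') (m1 : h ∈ K) (m2 : X 1 * h' * (X 1)⁻¹ ∈ K) (a : F) :
    X a ∈ K := by
  have e : X 1 * h' * (X 1)⁻¹ = X (1 - c) * h' := by
    rw [sub_eq_add_neg, hX, ← hh', hX.neg]; simp [mul_assoc]
  rw [e] at m2
  have m3 : X (((k : F) ^ 2 - 1) * (1 - c)) ∈ K := by
    have := mul_mem (mul_mem (mul_mem m1 m2) (inv_mem m1)) (inv_mem m2)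
    rwa [show h * (X (1 - c) * h') * h⁻¹ * (X (1 - c) * h')⁻¹ = h * X (1 - c) * h⁻¹ * (X (1 - c))⁻¹ by
      rw [← mul_assoc, mul_assoc _ h', ← hc'.inv_left.eq]
      simp only [_root_.mul_inv_rev, mul_assoc, mul_inv_cancel_left], hh, ← hX.neg, ← hX,
      show (k : F) ^ 2 * (1 - c) + -(1 - c) = ((k : F) ^ 2 - 1) * (1 - c) by ring] at this
  have h0 : ((k : F) ^ 2 - 1) * (1 - c) ≠ 0 := mul_ne_zero (sub_ne_zero.2 hk2) (sub_ne_zero.2 hc.symm)
  obtain ⟨f, hf⟩ := gens_sq hk (a / (((k : F) ^ 2 - 1) * (1 - c)))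
  have := pw_eq (hX.scale (((k : F) ^ 2 - 1) * (1 - c))) (α := h) (x := (k : F) ^ 2) (fun a => by
    rw [hh]; congr 1; ring) f
  simp only [hf, mul_div_cancel₀ _ h0, mul_one] at this
  rw [← this]
  exact NN_le m1 m3 (pw_mem _ _ _)

theorem sq_ne_one [Fintype F] (hF : 3 < Fintype.card F) {k : Fˣ} (hk : ∀ a : Fˣ, ∃ n : ℕ, k ^ n = a) :
    (k : F) ^ 2 ≠ 1 := fun h => by
  have e : orderOf k = Fintype.card F - 1 := by
    rw [orderOf_eq_card_of_forall_mem_powers hk, Nat.card_units, Nat.card_eq_fintype_card]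
  have := orderOf_le_of_pow_eq_one (x := k) two_pos (Units.ext (by simpa using h))
  omega

theorem Acts.inv' {X : ι → ι → F → J} {g : J} {σ : Perm ι} {d : ι → Fˣ} (h : Acts X g σ d) :
    Acts X g⁻¹ σ⁻¹ fun k => (d (σ⁻¹ k))⁻¹ := fun k l hkl b => by
  have := h _ _ (σ⁻¹.injective.ne hkl) (((d (σ⁻¹ k))⁻¹ : Fˣ) * (((d (σ⁻¹ l))⁻¹ : Fˣ) : F)⁻¹ * b)
  rw [show (d (σ⁻¹ k) : F) * (d (σ⁻¹ l) : F)⁻¹ * (((d (σ⁻¹ k))⁻¹ : Fˣ) * (((d (σ⁻¹ l))⁻¹ : Fˣ) : F)⁻¹ * b) = b by
    simp; field_simp, show σ (σ⁻¹ k) = k by simp, show σ (σ⁻¹ l) = l by simp] at this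
  rw [← this, ← cj_mul]; simp

theorem Acts.isDiag [Nontrivial ι] {g : SpecialLinearGroup ι F} {d : ι → Fˣ} (h : Acts (Tv F) g 1 d) : IsDiag g.1 := by
  intro i k e
  obtain ⟨l, hl⟩ := exists_ne k
  have := h k l hl.symm 1
  rw [MulAut.conj_apply, mul_inv_eq_iff_eq_mul, Perm.coe_one, id, id, Tv_eq hl.symm, Tv_eq hl.symm] at this
  have e2 : g.1 * (1 + single _ _ _) = (1 + single _ _ _) * g.1 := congrArg Subtype.val this
  rw [mul_add, add_mul, Matrix.mul_one, Matrix.one_mul, add_right_inj] at e2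
  simpa [e] using congrFun (congrFun e2 i) l

theorem gen_pair [Fintype F] (hF : 3 < Fintype.card F) {k : Fˣ} (hk : ∀ a : Fˣ, ∃ n : ℕ, k ^ n = a) {n : ℕ}
    (hn : 1 ≤ n) {K : Subgroup (SpecialLinearGroup (Fin (n + 1)) F)} {h w : SpecialLinearGroup (Fin (n + 1)) F}
    {d : Fin (n + 1) → Fˣ} (hw : Acts (Tv F) w (Equiv.subRight 1) d)
    (hh : h.1 = diagonal fun i => (dH 0 1 k i : F)) (m1 : h ∈ K) (m2 : Tv F 0 1 1 * w ∈ K) : K = ⊤ := by
  haveI : NeZero n := ⟨by omega⟩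
  haveI : Nontrivial (Fin (n + 1)) := Fin.nontrivial_iff_two_le.2 (by omega)
  have o : (0 : Fin (n + 1)) ≠ 1 := zero_ne_one
  have ah : Acts (Tv F) h 1 (dH 0 1 k) := acts_mono fun i j => by
    rw [hh, diagonal_apply]; simp only [Perm.coe_one, id]; split_ifs with e <;> simp [e]
  have ah' : Acts (Tv F) (w * h * w⁻¹) 1 fun i => dH 0 1 k (i + 1) := ((hw.mul ah).mul hw.inv').congr (by simp)
    fun i => by simp [Perm.inv_def]
  have k2 := sq_ne_one hF hk
  have : ∀ a, Tv F 0 1 a ∈ K := by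
    refine gen_big hk k2 (Tv_ad o) (h := h) (h' := w * h * w⁻¹) (fun a => by
      simpa [dH, o.symm, sq] using ah 0 1 o a) (c := dH (0 : Fin (n + 1)) 1 k 1 * (dH (0 : Fin (n + 1)) 1 k (1 + 1) : F)⁻¹) ?_
      (by simpa only [MulAut.conj_apply, zero_add, Perm.coe_one, id, mul_neg_one] using ah' 0 1 o (-1)) ?_ m1 (by simpa [mul_assoc] using mul_mem (mul_mem m2 m1) (inv_mem m2))
    · have : (k : F) ≠ 1 := fun e => k2 (by rw [e, one_pow])
      have e : (1 + 1 : Fin (n + 1)) ≠ 1 := by simp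
      rw [dH, dH, if_neg o.symm, if_pos rfl, if_neg e]
      split_ifs
      · rwa [Units.val_inv_eq_inv_val, ← mul_inv, ← sq, ne_eq, inv_eq_one]
      · simpa using this
    · apply Subtype.ext
      show h.1 * (w * h * w⁻¹).1 = (w * h * w⁻¹).1 * h.1
      rw [← ah'.isDiag.diagonal_diag, hh, diagonal_mul_diagonal, diagonal_mul_diagonal]
      simp [mul_comm]
  exact gen_cyc hn hw (by simpa using mul_mem (inv_mem (this 1)) m2) this

theorem two_gen_SL [Fintype F] {n : ℕ} (hn : 1 ≤ n) :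
    ∃ D : Fin 2 → SpecialLinearGroup (Fin (n + 1)) F, Subgroup.closure (Set.range D) = ⊤ := by
  haveI : NeZero n := ⟨by omega⟩
  have o : (0 : Fin (n + 1)) ≠ 1 := zero_ne_one
  obtain ⟨w, d, hw⟩ := exists_mono (F := F) (Equiv.subRight (1 : Fin (n + 1))) 0
  by_cases hF : Fintype.card F ≤ 3
  · exact ⟨![Tv F 0 1 1, w], gen_cyc hn hw (Subgroup.subset_closure ⟨1, rfl⟩)
      (gen_small hF (Tv_ad o) (Subgroup.subset_closure ⟨0, rfl⟩))⟩
  · obtain ⟨k, hk, -⟩ := exists_gen F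
    exact ⟨![Pres.hS (Tv F) 0 1 k, Tv F 0 1 1 * w], gen_pair (by omega) hk hn hw
      (StR.π_h (MonoidHom.id _) (fun _ _ h _ => Tv_eq h _) o k) (Subgroup.subset_closure ⟨0, rfl⟩)
      (Subgroup.subset_closure ⟨1, rfl⟩)⟩

theorem acts_cyc {n : ℕ} {w : SpecialLinearGroup (Fin (n + 1)) F} (hw : w.1 =
    Matrix.of (fun i j => if j.val = i.val + 1 then 1 else if i.val = n ∧ j.val = 0 then (-1) ^ n else 0)) :
    Acts (Tv F) w (Equiv.subRight 1) fun j => if j = 0 then (-1) ^ n else 1 := acts_mono fun i j => by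
  simp only [hw, of_apply, subRight_apply, eq_sub_iff_add_eq]
  induction i using Fin.lastCases with
  | last =>
    have := j.2
    by_cases h : j = 0
    · simp [h]
    · simp [h, Ne.symm h]; omega
  | cast i =>
    have := i.2
    rw [Fin.coeSucc_eq_succ]
    by_cases h : i.succ = j
    · subst h; simp
    · rw [if_neg h, if_neg (fun e => h (Fin.ext (by simp [e]))), if_neg (by simp; omega)]

theorem HasPres.two_of {κ : Type} [Nonempty κ] {x : κ → G} {r : ℕ} (h : HasPres x r) {H : Type*} [Group H]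
    (φ : H →* G) (hφ : Function.Surjective φ) {D : Fin 2 → H} (hD : Subgroup.closure (Set.range D) = ⊤) :
    ∃ y : Fin 2 → G, HasPres y (r + 2) :=
  ⟨φ ∘ D, h.any _ (by rw [Set.range_comp, ← MonoidHom.map_closure, hD, Subgroup.map_top_of_surjective _ hφ])⟩

end Cfsg.Agent.Classical.Pres
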