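import Cfsg.Agent.Lib.Classical.Pres1
import Mathlib.Data.ZMod.Basic
import Mathlib.GroupTheory.Perm.ViaEmbedding
import Mathlib.GroupTheory.Perm.Cycle.Basic

/-! Gluing Carmichael generators: the core of bounded presentations of alternating groups. -/
set_option autoImplicit false
open Equiv

namespace Cfsg.Agent.Classical.Pres
variable {G J : Type*} [Group G] [Group J] {Ω : Type*} [Fintype Ω] [DecidableEq Ω] {u v : Ω}

/-- supported on `S ∪ {u, v}` -/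
def Sup (u v : Ω) (S : Set Ω) (σ : Perm Ω) : Prop := ∀ x, x ∉ S → x ≠ u → x ≠ v → σ x = x

/-- stabilises `{u, v}` -/
def St (u v : Ω) : Subgroup (Perm Ω) where
  carrier := {σ | (σ u = u ∧ σ v = v) ∨ (σ u = v ∧ σ v = u)}
  one_mem' := Or.inl ⟨rfl, rfl⟩
  mul_mem' := by
    rintro a b (⟨h1, h2⟩ | ⟨h1, h2⟩) (⟨h3, h4⟩ | ⟨h3, h4⟩) <;> simp [h1, h2, h3, h4]
  inv_mem' := by
    rintro a (⟨h1, h2⟩ | ⟨h1, h2⟩)
    · exact Or.inl ⟨Perm.inv_eq_iff_eq.2 h1.symm, Perm.inv_eq_iff_eq.2 h2.symm⟩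
    · exact Or.inr ⟨Perm.inv_eq_iff_eq.2 h2.symm, Perm.inv_eq_iff_eq.2 h1.symm⟩

omit [Fintype Ω] [DecidableEq Ω] in
theorem mem_St {σ : Perm Ω} : σ ∈ St u v ↔ (σ u = u ∧ σ v = v) ∨ (σ u = v ∧ σ v = u) := Iff.rfl

omit [Fintype Ω] [DecidableEq Ω] in
theorem St_ne {σ : Perm Ω} (h : σ ∈ St u v) {i : Ω} (hu : i ≠ u) (hv : i ≠ v) : σ i ≠ u ∧ σ i ≠ v := by
  rcases h with ⟨h1, h2⟩ | ⟨h1, h2⟩
  · exact ⟨fun e => hu (σ.injective (e.trans h1.symm)), fun e => hv (σ.injective (e.trans h2.symm))⟩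
  · exact ⟨fun e => hv (σ.injective (e.trans h2.symm)), fun e => hu (σ.injective (e.trans h1.symm))⟩

omit [Fintype Ω] [DecidableEq Ω] in
theorem Sup.mem {S : Set Ω} {σ : Perm Ω} (h : Sup u v S σ) (h' : σ ∈ St u v) (hu : u ∉ S) (hv : v ∉ S) {i : Ω}
    (hi : i ∈ S) : σ i ∈ S := by
  by_contra hn
  have := St_ne h' (i := i) (fun e => hu (e ▸ hi)) (fun e => hv (e ▸ hi))
  exact hn ((σ.injective (h _ hn this.1 this.2)).symm ▸ hi)

omit [Fintype Ω] in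
theorem conj_cyc (σ : Perm Ω) (u v i : Ω) : σ * cyc u v i * σ⁻¹ = cyc (σ u) (σ v) (σ i) := by
  rw [cyc, cyc, swap_apply_apply, swap_apply_apply]; simp [mul_assoc]

omit [Fintype Ω] in
theorem conj_cyc_fix {σ : Perm Ω} (h1 : σ u = u) (h2 : σ v = v) (i : Ω) :
    σ * cyc u v i * σ⁻¹ = cyc u v (σ i) := by rw [conj_cyc, h1, h2]

omit [Fintype Ω] in
theorem conj_cyc_swap {σ : Perm Ω} (h1 : σ u = v) (h2 : σ v = u) {i : Ω} (hu : i ≠ u) (hv : i ≠ v) :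
    σ * cyc u v i * σ⁻¹ = (cyc u v (σ i))⁻¹ := by
  have h := St_ne (σ := σ) (Or.inr ⟨h1, h2⟩) hu hv
  rw [conj_cyc, h1, h2, cyc, cyc, mul_inv_rev, swap_inv, swap_inv,
    ← swap_mul_swap_mul_swap (x := σ i) (y := v) (z := u) h.2 h.1, swap_comm v u, swap_comm (σ i) v]
  simp [mul_assoc]

theorem alt_ext (huv : u ≠ v) {f g : alternatingGroup Ω →* G}
    (h : ∀ i (hi : i ≠ u), i ≠ v → f ⟨cyc u v i, sign_cyc huv hi⟩ = g ⟨cyc u v i, sign_cyc huv hi⟩) : f = g := by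
  refine MonoidHom.eq_of_eqOn_dense (s := (alternatingGroup Ω).subtype ⁻¹' {g | ∃ i, i ≠ u ∧ i ≠ v ∧ g = cyc u v i}) ?_ ?_
  · apply Subgroup.map_injective (alternatingGroup Ω).subtype_injective
    rw [MonoidHom.map_closure, Set.image_preimage_eq_of_subset, closure_cyc huv, ← MonoidHom.range_eq_map,
      Subgroup.range_subtype]
    rintro _ ⟨i, hi, -, rfl⟩
    exact ⟨⟨_, sign_cyc huv hi⟩, rfl⟩
  · rintro ⟨_, _⟩ ⟨i, a, b, rfl⟩
    exact h i a b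

omit [Fintype Ω] in
theorem cyc_sup {S : Set Ω} {i : Ω} (hi : i ∈ S) : Sup u v S (cyc u v i) := fun x h1 h2 h3 => by
  have : x ≠ i := fun e => h1 (e ▸ hi)
  simp [cyc, swap_apply_of_ne_of_ne h2 this, swap_apply_of_ne_of_ne h2 h3]

theorem cyc_cube (huv : u ≠ v) {i : Ω} (hu : i ≠ u) (hv : i ≠ v) : cyc u v i ^ 3 = 1 := by
  rw [cyc, ← (Perm.isThreeCycle_swap_mul_swap_same huv hu.symm hv.symm).orderOf, pow_orderOf_eq_one]

omit [Fintype Ω] in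
theorem cyc_sq (huv : u ≠ v) {i j : Ω} (hu : i ≠ u) (hu' : j ≠ u) (hv' : j ≠ v) (hv : i ≠ v) (h : i ≠ j) :
    (cyc u v i * cyc u v j) ^ 2 = 1 := by
  have e : cyc u v i * cyc u v j = swap v i * swap u j := by
    rw [cyc, cyc, ← mul_assoc, swap_comm u v, mul_assoc (swap v u), swap_comm u i, ← mul_assoc (swap v u),
      ← swap_mul_swap_mul_swap (x := i) (y := u) (z := v) hu hv, swap_comm u v]
  rw [e, (PC.swap_comm_of huv hu.symm hv' h.symm).mul_pow]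
  simp [pow_two]

section Sub
variable (huv : u ≠ v) (π : J →* Perm Ω) {S : Set Ω} (hu : u ∉ S) (hv : v ∉ S) {y : Ω → J}
  (hπ : ∀ i ∈ S, π (y i) = cyc u v i)
include huv hu hv hπ

theorem surj_closure {σ : Perm Ω} (hs : Perm.sign σ = 1) (h : Sup u v S σ) :
    ∃ g ∈ Subgroup.closure (y '' S), π g = σ := by
  classical
  let p : Ω → Prop := fun x => x ∈ S ∨ x = u ∨ x = v
  have h1 : ∀ x, ¬ p x → σ x = x := fun x hx => by
    simp only [p, not_or] at hx; exact h x hx.1 hx.2.1 hx.2.2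
  have h2 : ∀ x, p (σ x) ↔ p x := fun x => by
    refine ⟨fun a => by_contra fun b => b (h1 x b ▸ a), fun a => by_contra fun b => b ?_⟩
    rw [σ.injective (h1 _ b)]; exact a
  have h3 := Perm.ofSubtype_subtypePerm h2 fun x hx => by_contra fun b => hx (h1 x b)
  have huv' : (⟨u, Or.inr (Or.inl rfl)⟩ : Subtype p) ≠ ⟨v, Or.inr (Or.inr rfl)⟩ := fun e => huv (congrArg Subtype.val e)
  have h4 : σ.subtypePerm h2 ∈ alternatingGroup (Subtype p) := by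
    rw [Perm.mem_alternatingGroup, ← Perm.sign_ofSubtype, h3, hs]
  rw [← closure_cyc huv'] at h4
  have : (Subgroup.closure {g | ∃ i : Subtype p, i ≠ ⟨u, Or.inr (Or.inl rfl)⟩ ∧ i ≠ ⟨v, Or.inr (Or.inr rfl)⟩ ∧
      g = cyc ⟨u, Or.inr (Or.inl rfl)⟩ ⟨v, Or.inr (Or.inr rfl)⟩ i}) ≤
      ((Subgroup.closure (y '' S)).map π).comap Perm.ofSubtype := by
    rw [Subgroup.closure_le]
    rintro _ ⟨⟨i, hi⟩, a, b, rfl⟩
    have hi' : i ∈ S := (hi.resolve_right (by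
      rintro (rfl | rfl)
      · exact a rfl
      · exact b rfl))
    exact ⟨y i, Subgroup.subset_closure ⟨i, hi', rfl⟩, by
      simp [hπ i hi', cyc, Perm.ofSubtype_swap_eq]⟩
  have h5 := this h4
  rw [Subgroup.mem_comap, h3] at h5
  exact h5

omit huv hu hv in
theorem sup_of_mem {g : J} (hg : g ∈ Subgroup.closure (y '' S)) : Sup u v S (π g) := by
  induction hg using Subgroup.closure_induction with
  | mem x hx => obtain ⟨i, hi, rfl⟩ := hx; rw [hπ i hi]; exact cyc_sup hi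
  | one => intro x _ _ _; simp
  | mul a b _ _ ha hb => intro x h1 h2 h3; simp [ha x h1 h2 h3, hb x h1 h2 h3]
  | inv a _ ha => intro x h1 h2 h3; rw [map_inv, Perm.inv_eq_iff_eq, ha x h1 h2 h3]

variable (h3 : ∀ i ∈ S, y i ^ 3 = 1) (h2 : ∀ i ∈ S, ∀ j ∈ S, i ≠ j → (y i * y j) ^ 2 = 1)
include h3 h2

theorem inj_closure {g : J} (hg : g ∈ Subgroup.closure (y '' S)) (h : π g = 1) : g = 1 := by
  classical
  let p : Ω → Prop := fun x => x ∈ S ∨ x = u ∨ x = v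
  have huv' : (⟨u, Or.inr (Or.inl rfl)⟩ : Subtype p) ≠ ⟨v, Or.inr (Or.inr rfl)⟩ := fun e => huv (congrArg Subtype.val e)
  have hm : ∀ i : Subtype p, i ≠ ⟨u, Or.inr (Or.inl rfl)⟩ → i ≠ ⟨v, Or.inr (Or.inr rfl)⟩ → i.1 ∈ S := by
    rintro ⟨i, hi | rfl | rfl⟩ a b
    · exact hi
    · exact absurd rfl a
    · exact absurd rfl b
  obtain ⟨ψ, hψ⟩ := carm huv' (fun i => y i.1) (fun i a b => h3 _ (hm i a b))
    fun i j a b c d e => h2 _ (hm i a b) _ (hm j c d) fun e' => e (Subtype.ext e')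
  have hr : Subgroup.closure (y '' S) ≤ ψ.range := by
    rw [Subgroup.closure_le]
    rintro _ ⟨i, hi, rfl⟩
    exact ⟨_, hψ ⟨i, Or.inl hi⟩ (fun e => hu ((show i = u from congrArg Subtype.val e) ▸ hi))
      (fun e => hv ((show i = v from congrArg Subtype.val e) ▸ hi))⟩
  obtain ⟨a, rfl⟩ := hr hg
  have key : π.comp ψ = Perm.ofSubtype.comp (alternatingGroup (Subtype p)).subtype := alt_ext huv' fun i a b => by
    rw [MonoidHom.comp_apply, hψ i a b, hπ _ (hm i a b)]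
    simp [cyc, Perm.ofSubtype_swap_eq]
  have := DFunLike.congr_fun key a
  rw [MonoidHom.comp_apply, h, eq_comm, ← map_one (Perm.ofSubtype (p := p))] at this
  rw [show a = 1 from Subtype.ext (Perm.ofSubtype_injective this), map_one]

theorem eq_closure {g g' : J} (hg : g ∈ Subgroup.closure (y '' S)) (hg' : g' ∈ Subgroup.closure (y '' S))
    (h : π g = π g') : g = g' :=
  mul_inv_eq_one.1 (inj_closure huv π hu hv hπ h3 h2 (mul_mem hg (inv_mem hg')) (by simp [h]))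

theorem conj_closure {g : J} (hg : g ∈ Subgroup.closure (y '' S)) (hs : π g ∈ St u v) :
    ∃ ε : ℤ, (ε = 1 ∨ ε = -1) ∧ ∀ i ∈ S, g * y i * g⁻¹ = y (π g i) ^ ε := by
  have m : ∀ i ∈ S, y i ∈ Subgroup.closure (y '' S) := fun i hi => Subgroup.subset_closure ⟨i, hi, rfl⟩
  have h1 : ∀ i ∈ S, π g i ∈ S := fun i hi => (sup_of_mem π hπ hg).mem hs hu hv hi
  rcases hs with ⟨a, b⟩ | ⟨a, b⟩
  · refine ⟨1, Or.inl rfl, fun i hi => eq_closure huv π hu hv hπ h3 h2 (mul_mem (mul_mem hg (m i hi)) (inv_mem hg))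
      (zpow_mem (m _ (h1 i hi)) _) ?_⟩
    simp [hπ i hi, hπ _ (h1 i hi), conj_cyc_fix a b]
  · refine ⟨-1, Or.inr rfl, fun i hi => eq_closure huv π hu hv hπ h3 h2 (mul_mem (mul_mem hg (m i hi)) (inv_mem hg))
      (zpow_mem (m _ (h1 i hi)) _) ?_⟩
    simp [hπ i hi, hπ _ (h1 i hi), conj_cyc_swap a b (fun e => hu (e ▸ hi)) (fun e => hv (e ▸ hi))]

end Sub

theorem conj_mem_closure {s : Set J} {b : J} {H : Subgroup J} (h : ∀ x ∈ s, b * x * b⁻¹ ∈ H) {g : J}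
    (hg : g ∈ Subgroup.closure s) : b * g * b⁻¹ ∈ H := by
  have : Subgroup.closure s ≤ H.comap (MulAut.conj b).toMonoidHom := (Subgroup.closure_le _).2 h
  exact this hg

theorem sq_of_zpow {a b : J} {ε : ℤ} (hε : ε = 1 ∨ ε = -1) (h : (a ^ ε * b ^ ε) ^ 2 = 1) : (a * b) ^ 2 = 1 := by
  rcases hε with rfl | rfl
  · simpa using h
  · simpa using sq_inv h

theorem sq_conj {a b : J} (g : J) (h : (a * b) ^ 2 = 1) : (g * a * g⁻¹ * (g * b * g⁻¹)) ^ 2 = 1 := by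
  have := congrArg (MulAut.conj g) h
  rwa [map_pow, map_mul, map_one] at this

/-- gluing two overlapping alternating groups -/
theorem glue (huv : u ≠ v) (π : J →* Perm Ω) {S : Set Ω} (hu : u ∉ S) (hv : v ∉ S) {y : Ω → J}
    (hπ : ∀ i ∈ S, π (y i) = cyc u v i) (h3 : ∀ i ∈ S, y i ^ 3 = 1)
    (h2 : ∀ i ∈ S, ∀ j ∈ S, i ≠ j → (y i * y j) ^ 2 = 1) {q c c' β e e₂ : J} {s t : Ω} (hs : s ∈ S)
    (hq : Commute q (y s)) (qu : π q u = u) (qv : π q v = v) (qs : π q s = s)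
    (cover : ∀ j, j ≠ u → j ≠ v → j ∈ S ∨ (π q)⁻¹ j ∈ S)
    (hc : c ∈ Subgroup.closure (y '' S)) (hc' : c' ∈ Subgroup.closure (y '' S))
    (he : e ∈ Subgroup.closure (y '' S)) (he₂ : e₂ ∈ Subgroup.closure (y '' S))
    (hβ : ∀ g ∈ Subgroup.closure (y '' S), Commute β g) (rc : q * c * q⁻¹ = c' * β) (cs : π c ∈ St u v)
    (ctr : ∀ i ∈ S, π q i ∈ S → ∃ n : ℕ, (π c ^ n) s = i)
    (re : Commute e (q * e₂ * q⁻¹)) (ht : t ∈ S) (ht' : (π q)⁻¹ t ∈ S) (hts : s ≠ t)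
    (es : π e ∈ St u v) (es₂ : π e₂ ∈ St u v) (et : π e t = t) (fs : π e₂ s = s)
    (etr : ∀ i ∈ S, (π q)⁻¹ i ∉ S → ∃ n : ℕ, (π e ^ n) s = i)
    (ftr : ∀ j ∈ S, π q j ∉ S → ∃ n : ℕ, (π e₂ ^ n) ((π q)⁻¹ t) = j) {g : J}
    (hg : g ∈ Subgroup.closure (y '' S) ⊔ (Subgroup.closure (y '' S)).map (MulAut.conj q).toMonoidHom)
    (h : π g = 1) : g = 1 := by
  classical
  set N := Subgroup.closure (y '' S) with hN
  have m : ∀ i ∈ S, y i ∈ N := fun i hi => Subgroup.subset_closure ⟨i, hi, rfl⟩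
  have ov : ∀ i ∈ S, π q i ∈ S → q * y i * q⁻¹ = y (π q i) := fun i hi hi' => by
    refine eq_closure huv π hu hv hπ h3 h2 ?_ (m _ hi') (by simp [hπ i hi, hπ _ hi', conj_cyc_fix qu qv])
    obtain ⟨n, rfl⟩ := ctr i hi hi'
    obtain ⟨ε, hε, h4⟩ := conj_closure huv π hu hv hπ h3 h2 (pow_mem hc n) (by rw [map_pow]; exact pow_mem cs n)
    have h5 := h4 s hs
    rw [map_pow] at h5
    have h6 : q * (c ^ n * y s * (c ^ n)⁻¹) * q⁻¹ = c' ^ n * y s * (c' ^ n)⁻¹ := by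
      calc _ = (q * c * q⁻¹) ^ n * (q * y s * q⁻¹) * ((q * c * q⁻¹) ^ n)⁻¹ := by rw [conj_pow]; simp [mul_assoc]
        _ = c' ^ n * (β ^ n * y s * (β ^ n)⁻¹) * (c' ^ n)⁻¹ := by
          rw [rc, hq.eq, (hβ _ hc').symm.mul_pow]; simp [mul_assoc]
        _ = _ := by rw [((hβ _ (m s hs)).pow_left n).eq]; simp
    have h7 : q * y ((π c ^ n) s) ^ ε * q⁻¹ ∈ N := by
      rw [← h5, h6]; exact mul_mem (mul_mem (pow_mem hc' n) (m s hs)) (inv_mem (pow_mem hc' n))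
    rcases hε with rfl | rfl
    · simpa using h7
    · simpa [mul_assoc] using inv_mem h7
  let Y : Ω → J := fun j => if j ∈ S then y j else q * y ((π q)⁻¹ j) * q⁻¹
  have Y1 : ∀ j ∈ S, Y j = y j := fun j hj => if_pos hj
  have Y2 : ∀ j ∈ S, Y (π q j) = q * y j * q⁻¹ := fun j hj => by
    by_cases a : π q j ∈ S
    · rw [Y1 _ a, ov j hj a]
    · simp [Y, a]
  have cov : ∀ j ∈ ({u, v}ᶜ : Set Ω), j ∈ S ∨ ∃ i ∈ S, j = π q i := fun j hj => by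
    simp only [Set.mem_compl_iff, Set.mem_insert_iff, Set.mem_singleton_iff, not_or] at hj
    exact (cover j hj.1 hj.2).imp_right fun a => ⟨_, a, by simp⟩
  have mixed : ∀ i ∈ S, (π q)⁻¹ i ∉ S → ∀ j ∈ S, π q j ∉ S → (y i * (q * y j * q⁻¹)) ^ 2 = 1 := by
    intro i hi hi' j hj hj'
    obtain ⟨a, rfl⟩ := etr i hi hi'
    obtain ⟨b, rfl⟩ := ftr j hj hj'
    obtain ⟨ε, hε, h4⟩ := conj_closure huv π hu hv hπ h3 h2 (pow_mem he a) (by rw [map_pow]; exact pow_mem es a)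
    obtain ⟨δ, hδ, h5⟩ := conj_closure huv π hu hv hπ h3 h2 (pow_mem he₂ b) (by rw [map_pow]; exact pow_mem es₂ b)
    rw [map_pow] at h4 h5
    have h6 := sq_conj (e ^ a * (q * e₂ * q⁻¹) ^ b) (h2 s hs t ht hts)
    have h7 : e ^ a * (q * e₂ * q⁻¹) ^ b * y s * (e ^ a * (q * e₂ * q⁻¹) ^ b)⁻¹ = y ((π e ^ a) s) ^ (ε * δ) := by
      have k1 := h5 s hs
      rw [Perm.pow_apply_eq_self_of_apply_eq_self fs] at k1
      calc _ = e ^ a * (q * (e₂ ^ b * (q⁻¹ * y s * q) * (e₂ ^ b)⁻¹) * q⁻¹) * (e ^ a)⁻¹ := by rw [conj_pow]; simp [mul_assoc]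
        _ = e ^ a * (q * y s * q⁻¹) ^ δ * (e ^ a)⁻¹ := by
          rw [hq.inv_left.eq, inv_mul_cancel_right, k1, conj_zpow]
        _ = (e ^ a * y s * (e ^ a)⁻¹) ^ δ := by rw [hq.eq, mul_inv_cancel_right, conj_zpow]
        _ = _ := by rw [h4 s hs, ← zpow_mul]
    have h8 : e ^ a * (q * e₂ * q⁻¹) ^ b * y t * (e ^ a * (q * e₂ * q⁻¹) ^ b)⁻¹ =
        (q * y ((π e₂ ^ b) ((π q)⁻¹ t)) * q⁻¹) ^ (ε * δ) := by
      have k1 := h4 t ht
      rw [Perm.pow_apply_eq_self_of_apply_eq_self et] at k1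
      have k2 := ov _ ht' (by simpa using ht)
      rw [show π q ((π q)⁻¹ t) = t by simp] at k2
      rw [(re.pow_pow a b).eq]
      calc _ = (q * e₂ * q⁻¹) ^ b * (e ^ a * y t * (e ^ a)⁻¹) * ((q * e₂ * q⁻¹) ^ b)⁻¹ := by simp [mul_assoc]
        _ = (q * (e₂ ^ b * y ((π q)⁻¹ t) * (e₂ ^ b)⁻¹) * q⁻¹) ^ ε := by
          rw [k1, ← k2, conj_pow]; simp only [conj_zpow]; simp [mul_assoc]
        _ = _ := by rw [h5 _ ht', ← conj_zpow, ← zpow_mul, mul_comm δ]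
    rw [h7, h8] at h6
    exact sq_of_zpow (by rcases hε with rfl | rfl <;> rcases hδ with rfl | rfl <;> simp) h6
  have both : ∀ i ∈ S, ∀ j ∈ S, i ≠ π q j → (Y i * Y (π q j)) ^ 2 = 1 := fun i hi j hj hij => by
    by_cases a : π q j ∈ S
    · rw [Y1 _ hi, Y1 _ a]; exact h2 _ hi _ a hij
    by_cases b : (π q)⁻¹ i ∈ S
    · have := Y2 _ b
      rw [show π q ((π q)⁻¹ i) = i by simp] at this
      rw [this, Y2 _ hj]
      exact sq_conj q (h2 _ b _ hj fun e => hij (by rw [← e]; simp))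
    rw [Y1 _ hi, Y2 _ hj]; exact mixed i hi b j hj a
  refine inj_closure huv π (S := {u, v}ᶜ) (y := Y) (by simp) (by simp) (fun j hj => ?_) (fun j hj => ?_)
    (fun i hi j hj hij => ?_) ?_ h
  · rcases cov j hj with a | ⟨i, a, rfl⟩
    · rw [Y1 j a, hπ j a]
    · simp [Y2 i a, hπ i a, conj_cyc_fix qu qv]
  · rcases cov j hj with a | ⟨i, a, rfl⟩
    · rw [Y1 j a, h3 j a]
    · rw [Y2 i a, conj_pow, h3 i a]; simp
  · rcases cov i hi with a | ⟨i, a, rfl⟩ <;> rcases cov j hj with b | ⟨j, b, rfl⟩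
    · rw [Y1 i a, Y1 j b]; exact h2 i a j b hij
    · exact both i a j b hij
    · exact sq_comm (both j b i a hij.symm)
    · rw [Y2 i a, Y2 j b]; exact sq_conj q (h2 i a j b fun e => hij (e ▸ rfl))
  · have nS : ∀ i ∈ S, i ≠ u ∧ i ≠ v := fun i hi => ⟨fun e => hu (e ▸ hi), fun e => hv (e ▸ hi)⟩
    refine (sup_le ?_ ?_ : _ ≤ Subgroup.closure (Y '' {u, v}ᶜ)) hg
    · rw [hN, Subgroup.closure_le]
      rintro _ ⟨i, hi, rfl⟩
      exact Subgroup.subset_closure ⟨i, by simpa [not_or] using nS i hi, Y1 i hi⟩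
    · rw [hN, MonoidHom.map_closure, Subgroup.closure_le]
      rintro _ ⟨_, ⟨i, hi, rfl⟩, rfl⟩
      exact Subgroup.subset_closure ⟨π q i, by
        simpa [not_or] using St_ne (Or.inl ⟨qu, qv⟩) (nS i hi).1 (nS i hi).2, Y2 i hi⟩

end Cfsg.Agent.Classical.Pres
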