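import Cfsg.Agent.Lib.Classical.Pres2
import Mathlib.FieldTheory.Finite.Basic

/-! The affine group acting on Carmichael generators. -/
set_option autoImplicit false
open Equiv

namespace Cfsg.Agent.Classical.Pres
variable {G J : Type*} [Group G] [Group J] {Ω : Type*} [Fintype Ω] [DecidableEq Ω]

def NN (a z : J) : Subgroup J := Subgroup.closure (Set.range fun k : ℕ => a ^ k * z * (a ^ k)⁻¹)

def MM (a z q : J) : Subgroup J := NN a z ⊔ (NN a z).map (MulAut.conj q).toMonoidHom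

theorem NN_map (φ : J →* G) {a z g : J} (h : g ∈ NN a z) : φ g ∈ NN (φ a) (φ z) := by
  have : NN a z ≤ (NN (φ a) (φ z)).comap φ := (Subgroup.closure_le _).2 (by
    rintro _ ⟨k, rfl⟩
    exact Subgroup.subset_closure ⟨k, by simp⟩)
  exact this h

theorem MM_map (φ : J →* G) {a z q g : J} (h : g ∈ MM a z q) : φ g ∈ MM (φ a) (φ z) (φ q) := by
  have : MM a z q ≤ (MM (φ a) (φ z) (φ q)).comap φ := sup_le (fun x hx => Subgroup.mem_sup_left (NN_map φ hx)) (by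
    rintro _ ⟨x, hx, rfl⟩
    exact Subgroup.mem_sup_right ⟨_, NN_map φ hx, by simp⟩)
  exact this h

theorem NN_le {a z : J} {H : Subgroup J} (ha : a ∈ H) (hz : z ∈ H) : NN a z ≤ H :=
  (Subgroup.closure_le _).2 (by
    rintro _ ⟨k, rfl⟩
    exact mul_mem (mul_mem (pow_mem ha k) hz) (inv_mem (pow_mem ha k)))

theorem z_mem_NN (a z : J) : z ∈ NN a z := Subgroup.subset_closure ⟨0, by simp⟩

/-- combinatorial data -/
structure Data (p : ℕ) (Ω : Type*) [Fintype Ω] [DecidableEq Ω] where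
  ι : ZMod p → Ω
  inj : Function.Injective ι
  u : Ω
  v : Ω
  huv : u ≠ v
  hu : u ∉ Set.range ι
  hv : v ∉ Set.range ι
  r : ZMod p
  hr : ∀ x : ZMod p, x ≠ 0 → ∃ k : ℕ, r ^ k = x
  r0 : r ≠ 0
  r1 : r ≠ 1
  α : Perm Ω
  β : Perm Ω
  θ : Perm Ω
  γ : Perm Ω
  ε : Perm Ω
  φ : Perm Ω
  t : Ω
  α1 : ∀ x, α (ι x) = ι (x + 1)
  αu : α u = u
  αv : α v = v
  αp : α ^ p = 1
  αs : Perm.sign α = 1
  βs : Perm.sign β = 1
  βS : Sup u v (Set.range ι) β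
  βp : β ^ (p - 1) = 1
  βα : β * α * β⁻¹ = α ^ r.val
  βu : β u = v
  βv : β v = u
  β0 : β (ι 0) = ι 0
  θu : θ u = u
  θv : θ v = v
  θ0 : θ (ι 0) = ι 0
  θ4 : θ ^ 4 = 1
  θc : Commute θ (cyc u v (ι 0))
  cover : ∀ j, j ≠ u → j ≠ v → j ∈ Set.range ι ∨ θ⁻¹ j ∈ Set.range ι
  γs : Perm.sign γ = 1
  γS : Sup u v (Set.range ι) γ
  γS' : Sup u v (Set.range ι) (θ * γ * θ⁻¹)
  γt : γ ∈ St u v
  ctr : ∀ i ∈ Set.range ι, θ i ∈ Set.range ι → ∃ n : ℕ, (γ ^ n) (ι 0) = i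
  εs : Perm.sign ε = 1
  εS : Sup u v (Set.range ι) ε
  εt : ε ∈ St u v
  φs : Perm.sign φ = 1
  φS : Sup u v (Set.range ι) φ
  φt : φ ∈ St u v
  cm : Commute ε (θ * φ * θ⁻¹)
  ht : t ∈ Set.range ι
  ht' : θ⁻¹ t ∈ Set.range ι
  hts : ι 0 ≠ t
  et : ε t = t
  fs : φ (ι 0) = ι 0
  etr : ∀ i ∈ Set.range ι, θ⁻¹ i ∉ Set.range ι → ∃ n : ℕ, (ε ^ n) (ι 0) = i
  ftr : ∀ j ∈ Set.range ι, θ j ∉ Set.range ι → ∃ n : ℕ, (φ ^ n) (θ⁻¹ t) = j

variable {p : ℕ} [Fact p.Prime] (D : Data p Ω)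

noncomputable def yy (a z : J) : Ω → J :=
  Function.extend D.ι (fun x => a ^ x.val * z * (a ^ x.val)⁻¹) fun _ => 1

theorem yy_apply (a z : J) (x : ZMod p) : yy D a z (D.ι x) = a ^ x.val * z * (a ^ x.val)⁻¹ :=
  D.inj.extend_apply _ _ _

theorem Data.α_pow (k : ℕ) : (D.α ^ k) (D.ι 0) = D.ι k := by
  induction k with
  | zero => simp
  | succ k ih => rw [pow_succ', Perm.mul_apply, ih, D.α1]; simp

theorem π_yy (π : J →* Perm Ω) {a z : J} (πa : π a = D.α) (πz : π z = cyc D.u D.v (D.ι 0)) :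
    ∀ i ∈ Set.range D.ι, π (yy D a z i) = cyc D.u D.v i := by
  rintro _ ⟨x, rfl⟩
  rw [yy_apply, map_mul, map_mul, map_inv, map_pow, πa, πz,
    conj_cyc_fix (Perm.pow_apply_eq_self_of_apply_eq_self D.αu _) (Perm.pow_apply_eq_self_of_apply_eq_self D.αv _),
    D.α_pow, ZMod.natCast_zmod_val]

theorem yy_le (a z : J) : Subgroup.closure (yy D a z '' Set.range D.ι) ≤ NN a z :=
  Subgroup.closure_mono (by
    rintro _ ⟨_, ⟨x, rfl⟩, rfl⟩
    exact ⟨x.val, (yy_apply D a z x).symm⟩)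

theorem surj_NN (π : J →* Perm Ω) {a z : J} (πa : π a = D.α) (πz : π z = cyc D.u D.v (D.ι 0)) {σ : Perm Ω}
    (hs : Perm.sign σ = 1) (h : Sup D.u D.v (Set.range D.ι) σ) : ∃ g ∈ NN a z, π g = σ := by
  obtain ⟨g, h1, h2⟩ := surj_closure D.huv π D.hu D.hv (π_yy D π πa πz) hs h
  exact ⟨g, yy_le D a z h1, h2⟩

theorem surj_MM (π : J →* Perm Ω) {a z q : J} (πa : π a = D.α) (πz : π z = cyc D.u D.v (D.ι 0)) (πq : π q = D.θ)
    {σ : Perm Ω} (hs : Perm.sign σ = 1) : ∃ g ∈ MM a z q, π g = σ := by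
  have : σ ∈ alternatingGroup Ω := hs
  rw [← closure_cyc D.huv] at this
  refine ((Subgroup.closure_le ((MM a z q).map π)).2 ?_) this
  rintro _ ⟨i, a1, a2, rfl⟩
  rcases D.cover i a1 a2 with h | h
  · exact ⟨_, Subgroup.mem_sup_left (yy_le D a z (Subgroup.subset_closure ⟨i, h, rfl⟩)), π_yy D π πa πz i h⟩
  · refine ⟨_, Subgroup.mem_sup_right ⟨_, yy_le D a z (Subgroup.subset_closure ⟨_, h, rfl⟩), rfl⟩, ?_⟩
    rw [MulEquiv.coe_toMonoidHom, MulAut.conj_apply, map_mul, map_mul, map_inv, π_yy D π πa πz _ h, πq,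
      conj_cyc_fix D.θu D.θv]
    simp

theorem core (π : J →* Perm Ω) {a b z q c c' h e e₂ : J} (πa : π a = D.α) (πz : π z = cyc D.u D.v (D.ι 0))
    (πq : π q = D.θ) (πc : π c = D.γ) (πh : π h = π b) (πe : π e = D.ε) (πe₂ : π e₂ = D.φ)
    (ha : a ^ p = 1) (hb : b * a * b⁻¹ = a ^ D.r.val) (hz : z ^ 3 = 1) (hbz : b * z * b⁻¹ = z⁻¹)
    (hza : (z * (a * z * a⁻¹)) ^ 2 = 1) (hq : Commute q z)
    (hc : c ∈ NN a z) (hc' : c' ∈ NN a z) (hh : h ∈ NN a z) (he : e ∈ NN a z) (he₂ : e₂ ∈ NN a z)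
    (rc : q * c * q⁻¹ = c' * (b * h⁻¹)) (re : Commute e (q * e₂ * q⁻¹)) :
    (∀ g ∈ MM a z q, π g = 1 → g = 1) ∧ a ∈ NN a z ∧ b ∈ NN a z := by
  set y := yy D a z with hy
  have y1 : ∀ k : ℕ, y (D.ι k) = a ^ k * z * (a ^ k)⁻¹ := fun k => by
    rw [hy, yy_apply, ZMod.val_natCast, ← pow_eq_pow_mod k ha]
  have y0 : y (D.ι 0) = z := by simpa using y1 0
  have hN : NN a z = Subgroup.closure (y '' Set.range D.ι) := le_antisymm (Subgroup.closure_mono (by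
    rintro _ ⟨k, rfl⟩
    exact ⟨_, ⟨_, rfl⟩, y1 k⟩)) (yy_le D a z)
  have ya : ∀ x, a * y (D.ι x) * a⁻¹ = y (D.ι (x + 1)) := fun x => by
    have := y1 (x.val + 1)
    push_cast at this
    rw [ZMod.natCast_zmod_val] at this
    rw [this, hy, yy_apply, pow_succ']; simp [mul_assoc]
  have yb : ∀ x, b * y (D.ι x) * b⁻¹ = (y (D.ι (D.r * x)))⁻¹ := fun x => by
    have := y1 (D.r.val * x.val)
    push_cast at this
    rw [ZMod.natCast_zmod_val, ZMod.natCast_zmod_val] at this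
    rw [this, hy, yy_apply, pow_mul, ← hb, conj_pow]
    calc _ = b * a ^ x.val * b⁻¹ * (b * z * b⁻¹) * (b * a ^ x.val * b⁻¹)⁻¹ := by simp [mul_assoc]
      _ = _ := by rw [hbz]; simp [mul_assoc]
  have h3 : ∀ i ∈ Set.range D.ι, y i ^ 3 = 1 := by
    rintro _ ⟨x, rfl⟩
    rw [hy, yy_apply, conj_pow, hz]; simp
  have P0 : ∀ k : ℕ, (y (D.ι 0) * y (D.ι (D.r ^ k))) ^ 2 = 1 := fun k => by
    induction k with
    | zero => rw [pow_zero, ← zero_add (1 : ZMod p), ← ya, y0]; exact hza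
    | succ k ih =>
      have := sq_conj b ih
      rw [yb, yb, mul_zero, ← pow_succ'] at this
      simpa using sq_inv this
  have P1 : ∀ (k : ℕ) (d : ZMod p), d ≠ 0 → (y (D.ι k) * y (D.ι (k + d))) ^ 2 = 1 := fun k d hd => by
    induction k with
    | zero => obtain ⟨j, rfl⟩ := D.hr d hd; simpa using P0 j
    | succ k ih =>
      have := sq_conj a ih
      rw [ya, ya, add_right_comm] at this
      simpa using this
  have h2 : ∀ i ∈ Set.range D.ι, ∀ j ∈ Set.range D.ι, i ≠ j → (y i * y j) ^ 2 = 1 := by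
    rintro _ ⟨x, rfl⟩ _ ⟨x', rfl⟩ hx
    have := P1 x.val (x' - x) (sub_ne_zero.2 fun e => hx (e ▸ rfl))
    simpa using this
  have hπ := π_yy D π πa πz
  have m : ∀ x, y (D.ι x) ∈ NN a z := fun x => hN ▸ Subgroup.subset_closure ⟨_, ⟨x, rfl⟩, rfl⟩
  have na : ∀ g ∈ NN a z, a * g * a⁻¹ ∈ NN a z := fun g hg => conj_mem_closure (by
    rintro _ ⟨_, ⟨x, rfl⟩, rfl⟩; rw [ya]; exact m _) (hN ▸ hg)
  have nb : ∀ g ∈ NN a z, b * g * b⁻¹ ∈ NN a z := fun g hg => conj_mem_closure (by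
    rintro _ ⟨_, ⟨x, rfl⟩, rfl⟩; rw [yb]; exact inv_mem (m _)) (hN ▸ hg)
  have hβ : ∀ g ∈ NN a z, Commute (b * h⁻¹) g := fun g hg => by
    have h4 := nb _ (mul_mem (mul_mem (inv_mem hh) hg) hh)
    have := eq_closure D.huv π D.hu D.hv hπ h3 h2 (hN ▸ h4) (hN ▸ hg) (by
      simp only [map_mul, map_inv, πh]; group)
    rw [Commute, SemiconjBy, ← mul_inv_eq_iff_eq_mul]
    refine Eq.trans ?_ this
    group
  have inj : ∀ g ∈ MM a z q, π g = 1 → g = 1 := fun g hg h1 => by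
    rw [MM, hN] at hg
    rw [hN] at hc hc' he he₂ hβ
    exact glue D.huv π D.hu D.hv hπ h3 h2 (s := D.ι 0) (t := D.t) ⟨0, rfl⟩ (by rw [← hy, y0]; exact hq) (πq ▸ D.θu) (πq ▸ D.θv)
      (πq ▸ D.θ0) (πq ▸ D.cover) hc hc' he he₂ hβ rc (πc ▸ D.γt) (πq ▸ πc ▸ D.ctr) re D.ht (πq ▸ D.ht') D.hts
      (πe ▸ D.εt) (πe₂ ▸ D.φt) (πe ▸ D.et) (πe₂ ▸ D.fs) (πq ▸ πe ▸ D.etr) (πq ▸ πe₂ ▸ D.ftr) hg h1
  have hb1 : b * h⁻¹ = 1 := inj _ (by
    rw [← inv_mul_eq_iff_eq_mul] at rc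
    rw [← rc]
    exact mul_mem (inv_mem (Subgroup.mem_sup_left hc')) (Subgroup.mem_sup_right ⟨c, hc, rfl⟩)) (by simp [πh])
  have hb2 : b ∈ NN a z := mul_inv_eq_one.1 hb1 ▸ hh
  refine ⟨inj, ?_, hb2⟩
  have h5 : a ^ (D.r - 1).val ∈ NN a z := by
    have : a ^ (D.r - 1).val * a = a ^ D.r.val := by
      rw [← pow_succ, pow_eq_pow_mod _ ha, ← ZMod.val_natCast]; simp
    rw [← eq_mul_inv_iff_mul_eq, ← hb] at this
    rw [this, mul_assoc, mul_assoc, ← mul_assoc a]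
    exact mul_mem hb2 (na _ (inv_mem hb2))
  have h6 := pow_mem h5 (D.r - 1)⁻¹.val
  rw [← pow_mul, pow_eq_pow_mod _ ha, ← ZMod.val_mul, mul_inv_cancel₀ (sub_ne_zero.2 D.r1), ZMod.val_one,
    pow_one] at h6
  exact h6

/-- the exponent in Neumann's presentation -/
def Data.s : ℕ := ((1 - D.r)⁻¹).val

theorem Data.s_cast : (D.s : ZMod p) * (1 - D.r) = 1 := by
  rw [Data.s, ZMod.natCast_zmod_val, inv_mul_cancel₀ (sub_ne_zero.2 D.r1.symm)]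

theorem Data.s_pos : 1 ≤ D.s := by
  by_contra h
  have := D.s_cast
  rw [show D.s = 0 by omega] at this
  simp at this

theorem pow_eq_of_cast {a : J} (ha : a ^ p = 1) {k l : ℕ} (h : (k : ZMod p) = l) : a ^ k = a ^ l := by
  rw [pow_eq_pow_mod k ha, pow_eq_pow_mod l ha, (ZMod.natCast_eq_natCast_iff' _ _ _).1 h]

theorem Data.neu1 {a b : J} (ha : a ^ p = 1) :
    b * a * b⁻¹ = a ^ D.r.val ↔ b * a ^ D.s * b⁻¹ = a ^ (D.s - 1) := by
  have h1 := D.s_cast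
  have h2 : ((D.s - 1 : ℕ) : ZMod p) = D.r * D.s := by
    push_cast [Nat.cast_sub D.s_pos]; linear_combination h1
  constructor <;> intro h
  · rw [← conj_pow, h, ← pow_mul]
    exact pow_eq_of_cast ha (by rw [h2]; simp)
  · have := congrArg (· ^ (1 - D.r).val) h
    simp only [conj_pow, ← pow_mul] at this
    rw [pow_eq_of_cast ha (l := 1) (by simpa using h1), pow_one] at this
    rw [this]
    exact pow_eq_of_cast ha (by
      rw [Nat.cast_mul, h2, ZMod.natCast_zmod_val, ZMod.natCast_zmod_val, mul_assoc, h1, mul_one])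

omit [Fact p.Prime] in
theorem neu2 {a b : J} {s : ℕ} (hs : 1 ≤ s) (h1 : a ^ p = b ^ (p - 1)) (h2 : b * a ^ s * b⁻¹ = a ^ (s - 1)) :
    a ^ p = 1 := by
  have := congrArg (· ^ p) h2
  simp only [conj_pow, ← pow_mul] at this
  rw [mul_comm s, pow_mul, mul_comm (s - 1), pow_mul, h1, ((Commute.refl b).pow_right _).pow_right s |>.eq,
    mul_inv_cancel_right] at this
  rw [h1]
  obtain ⟨s, rfl⟩ : ∃ k, s = k + 1 := ⟨s - 1, by omega⟩
  simpa [pow_succ] using this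

omit [Fact p.Prime] in
theorem neu3 {a b ζ : J} {s : ℕ} (hp : Even (p - 1)) (hs : 1 ≤ s) (h1 : a ^ p = b ^ (p - 1) * ζ)
    (h2 : b * a ^ s * b⁻¹ = a ^ (s - 1)) (h3 : b * ζ * b⁻¹ = ζ⁻¹) :
    a ^ p = (ζ ^ 2) ^ s ∧ (ζ ^ 2) ^ (2 * s - 1) = 1 ∧ ζ ^ 2 = (a ^ p) ^ 2 := by
  obtain ⟨s, rfl⟩ : ∃ k, s = k + 1 := ⟨s - 1, by omega⟩
  have c1 : Commute (b ^ 2) ζ := by
    have h4 : b * ζ⁻¹ * b⁻¹ = ζ := by rw [← conj_inv, h3, inv_inv]
    rw [Commute, SemiconjBy, ← mul_inv_eq_iff_eq_mul]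
    calc _ = b * (b * ζ * b⁻¹) * b⁻¹ := by simp [pow_two, mul_assoc]
      _ = _ := by rw [h3, h4]
  have c2 : Commute (b ^ (p - 1)) ζ := by
    obtain ⟨k, hk⟩ := hp
    rw [hk, ← two_mul, pow_mul]; exact c1.pow_left k
  have c3 : Commute (a ^ p) ζ := h1 ▸ c2.mul_left (Commute.refl ζ)
  have h4 : b * a ^ p * b⁻¹ = a ^ p * (ζ ^ 2)⁻¹ := by
    rw [h1]
    calc _ = b ^ (p - 1) * (b * ζ * b⁻¹) := by
          rw [← mul_assoc, ((Commute.refl b).pow_right _).eq]; simp [mul_assoc]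
      _ = _ := by rw [h3]; simp [pow_two, mul_assoc]
  have h5 := congrArg (· ^ p) h2
  simp only [conj_pow, ← pow_mul] at h5
  rw [mul_comm (s + 1), pow_mul, mul_comm (s + 1 - 1), pow_mul, ← conj_pow, h4,
    (c3.pow_right 2).inv_right.mul_pow, Nat.add_sub_cancel, pow_succ, mul_assoc, mul_eq_left, inv_pow,
    mul_inv_eq_one] at h5
  have h6 : b ^ (p - 1) = ζ ^ (2 * s + 1) := by
    rw [h5, ← pow_mul, show 2 * (s + 1) = 2 * s + 1 + 1 by ring, pow_succ] at h1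
    exact (mul_right_cancel h1).symm
  have h7 : (ζ ^ 2) ^ (2 * s + 1) = 1 := by
    have := congrArg (· ^ (2 * s + 1)) h3
    simp only [conj_pow] at this
    rw [← h6, ((Commute.refl b).pow_right _).eq, mul_inv_cancel_right, h6, inv_pow, eq_inv_iff_mul_eq_one] at this
    rw [← pow_mul, mul_comm, pow_mul, pow_two, this]
  refine ⟨h5, h7, ?_⟩
  rw [h5, ← pow_mul, show (s + 1) * 2 = 2 * s + 1 + 1 by ring, pow_succ (ζ ^ 2), h7, one_mul]

end Cfsg.Agent.Classical.Pres
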