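import Cfsg.Agent.Lib.Classical.Pres3
import Mathlib.GroupTheory.Perm.Cycle.Type

/-! Existence of the combinatorial data. -/
set_option autoImplicit false
open Equiv

namespace Cfsg.Agent.Classical.Pres
variable {Ω : Type*} [Fintype Ω] [DecidableEq Ω] {u v : Ω}

omit [Fintype Ω] [DecidableEq Ω] in
theorem Sup.mono {S T : Set Ω} {σ : Perm Ω} (h : Sup u v S σ) (hST : S ⊆ T) : Sup u v T σ :=
  fun x hx => h x fun a => hx (hST a)

omit [Fintype Ω] [DecidableEq Ω] in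
theorem Sup.conj {S : Set Ω} {σ θ : Perm Ω} (h : Sup u v S σ) (hu : θ u = u) (hv : θ v = v) :
    Sup u v (θ '' S) (θ * σ * θ⁻¹) := fun x hx a b => by
  obtain ⟨x, rfl⟩ := θ.surjective x
  have := h x (fun c => hx ⟨x, c, rfl⟩) (fun c => a (by rw [c, hu])) (fun c => b (by rw [c, hv]))
  simp [this]

omit [Fintype Ω] [DecidableEq Ω] in
theorem commute_of {S T : Set Ω} {σ τ : Perm Ω} (h : Sup u v S σ) (h' : Sup u v T τ) (hs : σ ∈ St u v)
    (ht : τ ∈ St u v) (hu : u ∉ S) (hv : v ∉ S) (hu' : u ∉ T) (hv' : v ∉ T) (hd : ∀ x ∈ S, x ∉ T) :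
    Commute σ τ := by
  ext x
  simp only [Perm.mul_apply]
  by_cases a : x ∈ S
  · have b := h.mem hs hu hv a
    rw [h' x (hd x a) (fun e => hu (e ▸ a)) (fun e => hv (e ▸ a)),
      h' _ (hd _ b) (fun e => hu (e ▸ b)) (fun e => hv (e ▸ b))]
  by_cases a' : x ∈ T
  · have b := h'.mem ht hu' hv' a'
    rw [h x a (fun e => hu' (e ▸ a')) (fun e => hv' (e ▸ a')),
      h _ (fun c => hd _ c b) (fun e => hu' (e ▸ b)) (fun e => hv' (e ▸ b))]
  by_cases c : x = u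
  · subst c; rcases hs with ⟨h1, h2⟩ | ⟨h1, h2⟩ <;> rcases ht with ⟨h3, h4⟩ | ⟨h3, h4⟩ <;> simp [h1, h2, h3, h4]
  by_cases d : x = v
  · subst d; rcases hs with ⟨h1, h2⟩ | ⟨h1, h2⟩ <;> rcases ht with ⟨h3, h4⟩ | ⟨h3, h4⟩ <;> simp [h1, h2, h3, h4]
  rw [h' x a' c d, h x a c d, h' x a' c d]

theorem exists_cyc (huv : u ≠ v) (T : Finset Ω) (hu : u ∉ T) (hv : v ∉ T) :
    ∃ γ : Perm Ω, Perm.sign γ = 1 ∧ Sup u v T γ ∧ γ ∈ St u v ∧ ∀ x ∈ T, ∀ y ∈ T, ∃ n : ℕ, (γ ^ n) x = y := by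
  obtain ⟨f, h1, h2⟩ := T.exists_cycleOn
  have h3 : ∀ x, x ∉ T → f x = x := fun x hx => Perm.notMem_support.1 fun a => hx (h2 a)
  have h4 : ∀ x ∈ T, ∀ y ∈ T, ∃ n : ℕ, (f ^ n) x = y := fun x hx y hy =>
    (h1.exists_pow_eq hx hy).imp fun _ h => h.2
  rcases Int.units_eq_one_or (Perm.sign f) with h | h
  · exact ⟨f, h, fun x a _ _ => h3 x a, Or.inl ⟨h3 _ hu, h3 _ hv⟩, h4⟩
  · refine ⟨f * swap u v, by simp [h, huv], fun x a b c => by simp [swap_apply_of_ne_of_ne b c, h3 x a],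
      Or.inr (by simp [h3 _ hu, h3 _ hv]), fun x hx y hy => (h4 x hx y hy).imp fun n hn => ?_⟩
    rw [← hn]
    clear hn
    induction n with
    | zero => rfl
    | succ n ih =>
      have : (f ^ n) x ∈ T := (h1.1.perm_pow n).mapsTo hx
      rw [pow_succ', pow_succ', Perm.mul_apply, ih, Perm.mul_apply, Perm.mul_apply,
        swap_apply_of_ne_of_ne (ne_of_mem_of_not_mem this hu) (ne_of_mem_of_not_mem this hv)]

theorem exists_swapper (O : Finset Ω) : ∀ D : Finset Ω, (∀ x ∈ O, x ∉ D) → O.card = D.card →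
    ∃ θ : Perm Ω, θ * θ = 1 ∧ (∀ x ∈ O, θ x ∈ D) ∧ (∀ x, x ∉ O → x ∉ D → θ x = x) ∧
      Perm.sign θ = (-1) ^ O.card := by
  induction O using Finset.induction_on with
  | empty => exact fun D _ _ => ⟨1, by simp, by simp, by simp, by simp⟩
  | insert o O ho ih =>
    intro D hd hc
    rw [Finset.card_insert_of_notMem ho] at hc ⊢
    obtain ⟨d, hd'⟩ : D.Nonempty := Finset.card_pos.1 (by omega)
    obtain ⟨θ, h1, h2, h3, h4⟩ := ih (D.erase d) (fun x hx a => hd x (by simp [hx]) (Finset.mem_of_mem_erase a))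
      (by rw [Finset.card_erase_of_mem hd']; omega)
    have hod : o ≠ d := fun e => hd o (by simp) (e ▸ hd')
    have dO : d ∉ O := fun a => hd d (by simp [a]) hd'
    have θo : θ o = o := h3 o ho fun a => hd o (by simp) (Finset.mem_of_mem_erase a)
    have θd : θ d = d := h3 d dO (by simp)
    have hc : θ * swap o d = swap o d * θ := by
      rw [← mul_inv_eq_iff_eq_mul, ← swap_apply_apply, θo, θd]
    refine ⟨θ * swap o d, ?_, fun x hx => ?_, fun x a b => ?_, by simp [h4, hod, pow_succ]⟩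
    · rw [mul_assoc, ← mul_assoc (swap o d), ← hc, mul_assoc, swap_mul_self, mul_one, h1]
    · rcases Finset.mem_insert.1 hx with rfl | hx
      · simp [θd, hd']
      · rw [Perm.mul_apply, swap_apply_of_ne_of_ne (ne_of_mem_of_not_mem hx ho) (ne_of_mem_of_not_mem hx dO)]
        exact Finset.mem_of_mem_erase (h2 x hx)
    · rw [Finset.mem_insert, not_or] at a
      rw [Perm.mul_apply, swap_apply_of_ne_of_ne a.1 (ne_of_mem_of_not_mem hd' b).symm,
        h3 x a.2 fun c => b (Finset.mem_of_mem_erase c)]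

theorem exists_theta (huv : u ≠ v) (S : Finset Ω) (hu : u ∉ S) (hv : v ∉ S) {s t : Ω} (hs : s ∈ S) (ht : t ∈ S)
    (hst : s ≠ t) (hodd : Odd S.card) (hn : Fintype.card Ω ≤ 2 * S.card) (σ : ℤˣ)
    (hx : ¬ (Fintype.card Ω = 6 ∧ σ = 1)) :
    ∃ θ : Perm Ω, θ u = u ∧ θ v = v ∧ θ s = s ∧ θ ^ 4 = 1 ∧ (∀ j, j ≠ u → j ≠ v → j ∈ S ∨ θ⁻¹ j ∈ S) ∧
      θ⁻¹ t ∈ S ∧ Perm.sign θ = σ ∧ (σ = -1 → θ ^ 2 = 1) := by
  let O : Finset Ω := (insert u (insert v S))ᶜ
  have hO : ∀ x, x ∈ O ↔ x ≠ u ∧ x ≠ v ∧ x ∉ S := fun x => by simp [O]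
  have cO : O.card + (S.card + 2) = Fintype.card Ω := by
    rw [← Finset.card_add_card_compl (insert u (insert v S)), Finset.card_insert_of_notMem (by simp [huv, hu]),
      Finset.card_insert_of_notMem hv, add_comm]
  have c1 : ((S.erase s).erase t).card + 2 = S.card := by
    rw [Finset.card_erase_of_mem (by simp [ht, hst.symm]), Finset.card_erase_of_mem hs]
    have := Finset.one_lt_card.2 ⟨s, hs, t, ht, hst⟩
    omega
  obtain ⟨D, hD, cD⟩ := Finset.exists_subset_card_eq (s := (S.erase s).erase t) (n := O.card) (by omega)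
  have hD' : ∀ x ∈ D, x ∈ S ∧ x ≠ s ∧ x ≠ t := fun x hx => by have := hD hx; simp at this; tauto
  obtain ⟨θ, h1, h2, h3, h4⟩ := exists_swapper O D (fun x a b => ((hO x).1 a).2.2 (hD' x b).1) cD.symm
  have hi : θ⁻¹ = θ := inv_eq_of_mul_eq_one_right h1
  have θu : θ u = u := h3 u (by simp [hO]) fun a => hu (hD' _ a).1
  have θv : θ v = v := h3 v (by simp [hO]) fun a => hv (hD' _ a).1
  have θs : θ s = s := h3 s (by simp [hO, hs]) fun a => (hD' _ a).2.1 rfl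
  have θt : θ t = t := h3 t (by simp [hO, ht]) fun a => (hD' _ a).2.2 rfl
  have cov : ∀ j, j ≠ u → j ≠ v → j ∈ S ∨ θ j ∈ S := fun j a b =>
    (em (j ∈ S)).imp_right fun c => (hD' _ (h2 j ((hO j).2 ⟨a, b, c⟩))).1
  have h5 : θ ^ 2 = 1 := by rw [pow_two, h1]
  by_cases hσ : Perm.sign θ = σ
  · exact ⟨θ, θu, θv, θs, by rw [show 4 = 2 * 2 from rfl, pow_mul, h5, one_pow], by rw [hi]; exact cov,
      by rw [hi, θt]; exact ht, hσ, fun _ => h5⟩
  have main : ∀ x ∈ S, ∀ y ∈ S, x ≠ s → y ≠ s → x ≠ y → (θ * swap x y) u = u ∧ (θ * swap x y) v = v ∧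
      (θ * swap x y) s = s ∧ (∀ j, j ≠ u → j ≠ v → j ∈ S ∨ (θ * swap x y)⁻¹ j ∈ S) ∧
      (θ * swap x y)⁻¹ t ∈ S ∧ Perm.sign (θ * swap x y) = σ := fun x hx y hy a b c => by
    have k : ∀ z ∈ S, swap x y z ∈ S := fun z hz => by rw [swap_apply_def]; split_ifs <;> assumption
    refine ⟨?_, ?_, ?_, fun j d e => (cov j d e).imp_right fun f => ?_, ?_, ?_⟩
    · rw [Perm.mul_apply, swap_apply_of_ne_of_ne (ne_of_mem_of_not_mem hx hu).symm (ne_of_mem_of_not_mem hy hu).symm, θu]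
    · rw [Perm.mul_apply, swap_apply_of_ne_of_ne (ne_of_mem_of_not_mem hx hv).symm (ne_of_mem_of_not_mem hy hv).symm, θv]
    · rw [Perm.mul_apply, swap_apply_of_ne_of_ne a.symm b.symm, θs]
    · rw [mul_inv_rev, hi, swap_inv]; exact k _ f
    · rw [mul_inv_rev, hi, swap_inv, Perm.mul_apply, θt]; exact k _ ht
    · rw [map_mul, Perm.sign_swap c]
      exact (by decide : ∀ τ σ : ℤˣ, ¬ τ = σ → τ * -1 = σ) _ _ hσ
  have sq : ∀ x y, (θ * swap x y) ^ 2 = swap (θ x) (θ y) * swap x y := fun x y => by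
    rw [swap_apply_apply, hi, pow_two]; simp only [mul_assoc]
  by_cases hc : O.card + 3 ≤ S.card
  · have : 1 < ((S.erase s) \ D).card := by
      rw [Finset.card_sdiff_of_subset (hD.trans (Finset.erase_subset _ _)), Finset.card_erase_of_mem hs]; omega
    obtain ⟨x, hx, y, hy, hxy⟩ := Finset.one_lt_card.1 this
    simp only [Finset.mem_sdiff, Finset.mem_erase] at hx hy
    obtain ⟨a, b, c, d, e, f⟩ := main x hx.1.2 y hy.1.2 hx.1.1 hy.1.1 hxy
    have h6 : (θ * swap x y) ^ 2 = 1 := by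
      rw [sq, h3 x (by simp [hO, hx.1.2]) hx.2, h3 y (by simp [hO, hy.1.2]) hy.2, swap_mul_self]
    exact ⟨_, a, b, c, by rw [show 4 = 2 * 2 from rfl, pow_mul, h6, one_pow], d, e, f, fun _ => h6⟩
  · have h6 : Odd O.card := by obtain ⟨k, hk⟩ := hodd; exact ⟨k - 1, by omega⟩
    rw [h6.neg_one_pow] at h4
    have h7 : σ = 1 := (Int.units_eq_one_or σ).resolve_right fun e => hσ (h4.trans e.symm)
    have : 1 < D.card := by
      have : Fintype.card Ω ≠ 6 := fun e => hx ⟨e, h7⟩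
      obtain ⟨k, hk⟩ := h6
      obtain ⟨l, hl⟩ := hodd; omega
    obtain ⟨x, hx, y, hy, hxy⟩ := Finset.one_lt_card.1 this
    obtain ⟨a, b, c, d, e, f⟩ := main x (hD' x hx).1 y (hD' y hy).1 (hD' x hx).2.1 (hD' y hy).2.1 hxy
    have k : ∀ z ∈ D, θ z ∉ D := fun z hz hz' => by
      have k1 : Set.MapsTo θ O D := fun x a => h2 x a
      obtain ⟨w, hw, e⟩ := Finset.surj_on_of_inj_on_of_card_le (s := O) (t := D) (fun a _ => θ a)
        (fun a ha => h2 a ha) (fun _ _ _ _ e => θ.injective e) cD.le z hz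
      have : θ z = w := by rw [e, ← Perm.mul_apply, h1]; rfl
      exact ((hO w).1 hw).2.2 (hD' _ (this ▸ hz')).1
    refine ⟨_, a, b, c, ?_, d, e, f, fun e => absurd (h7.symm.trans e) (by decide)⟩
    rw [show 4 = 2 * 2 from rfl, pow_mul, sq, (PC.swap_comm_of (ne_of_mem_of_not_mem hx (k x hx)) (ne_of_mem_of_not_mem hx (k y hy))
      (ne_of_mem_of_not_mem hy (k x hx)) (ne_of_mem_of_not_mem hy (k y hy))).mul_pow]
    simp [pow_two]

theorem sign_mulLeft {p : ℕ} [Fact p.Prime] (hp : 3 ≤ p) {r : ZMod p} (r0 : r ≠ 0) (r1 : r ≠ 1)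
    (hr : ∀ x : ZMod p, x ≠ 0 → ∃ k : ℕ, r ^ k = x) : Perm.sign (Equiv.mulLeft₀ r r0) = -1 := by
  have h1 : ∀ (k : ℕ) x, (Equiv.mulLeft₀ r r0 ^ k) x = r ^ k * x := fun k x => by
    induction k with
    | zero => simp
    | succ k ih => rw [pow_succ', Perm.mul_apply, ih]; simp; ring
  have hc : Perm.IsCycle (Equiv.mulLeft₀ r r0) := ⟨1, by simpa using r1, fun y hy => by
    obtain ⟨k, hk⟩ := hr y (by rintro rfl; simp at hy)
    exact ⟨k, by rw [zpow_natCast, h1, hk, mul_one]⟩⟩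
  have hs : (Equiv.mulLeft₀ r r0 : Perm (ZMod p)).support = Finset.univ.erase 0 := by
    ext x; simp [mul_left_eq_self₀, r1]
  rw [hc.sign, hs, Finset.card_erase_of_mem (Finset.mem_univ _), Finset.card_univ, ZMod.card,
    ((Fact.out : p.Prime).even_sub_one (by omega)).neg_one_pow]

theorem exists_data (p : ℕ) [hp : Fact p.Prime] (h3 : 3 ≤ p) (h1 : p + 2 ≤ Fintype.card Ω)
    (h2 : Fintype.card Ω ≤ 2 * p) (σ : ℤˣ) (hx : ¬ (Fintype.card Ω = 6 ∧ σ = 1)) :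
    ∃ D : Data p Ω, Perm.sign D.θ = σ ∧ (σ = -1 → D.θ ^ 2 = 1) := by
  classical
  obtain ⟨j⟩ : Nonempty (ZMod p ⊕ Fin 2 ↪ Ω) := Function.Embedding.nonempty_of_card_le (by simpa using h1)
  let ι : ZMod p ↪ Ω := Function.Embedding.inl.trans j
  obtain ⟨u, hu'⟩ : ∃ u, u = j (.inr 0) := ⟨_, rfl⟩
  obtain ⟨v, hv'⟩ : ∃ v, v = j (.inr 1) := ⟨_, rfl⟩
  have huv : u ≠ v := by simp [hu', hv']
  have hu : u ∉ Set.range ι := by simp [hu', ι]
  have hv : v ∉ Set.range ι := by simp [hv', ι]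
  have iu : ∀ x, ι x ≠ u := fun x e => hu ⟨x, e⟩
  have iv : ∀ x, ι x ≠ v := fun x e => hv ⟨x, e⟩
  obtain ⟨g, hg⟩ := IsCyclic.exists_monoid_generator (α := (ZMod p)ˣ)
  have hr : ∀ x : ZMod p, x ≠ 0 → ∃ k : ℕ, (g : ZMod p) ^ k = x := fun x hx => by
    obtain ⟨k, hk⟩ := hg (Units.mk0 x hx)
    exact ⟨k, by simpa using congrArg Units.val hk⟩
  have r1 : (g : ZMod p) ≠ 1 := fun e => by
    obtain ⟨k, hk⟩ := hr (-1) (by simp)
    rw [e, one_pow] at hk
    haveI : Fact (2 < p) := ⟨h3⟩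
    exact ZMod.neg_one_ne_one hk.symm
  have hodd : Odd p := hp.out.odd_of_ne_two (by omega)
  let S : Finset Ω := Finset.univ.map ι
  have hS : ∀ x, x ∈ S ↔ x ∈ Set.range ι := fun x => by simp [S]
  have cS : S.card = p := by simp [S]
  have hst : ι 0 ≠ ι 1 := fun e => zero_ne_one (ι.injective e)
  obtain ⟨θ, θu, θv, θ0, θ4, cov, ht', hσ, θ2⟩ := exists_theta huv S (by rwa [hS]) (by rwa [hS])
    ((hS _).2 ⟨0, rfl⟩) ((hS _).2 ⟨1, rfl⟩) hst (cS ▸ hodd) (cS ▸ h2) σ hx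
  simp only [hS] at cov ht'
  obtain ⟨γ, γ1, γ2, γ3, γ4⟩ := exists_cyc huv (S.filter fun i => θ i ∈ S) (by simp [hS, hu]) (by simp [hS, hv])
  obtain ⟨ε, ε1, ε2, ε3, ε4⟩ := exists_cyc huv (insert (ι 0) (S.filter fun i => θ⁻¹ i ∉ S))
    (by simp only [Finset.mem_insert, Finset.mem_filter, hS, hu, (iu 0).symm]; simp)
    (by simp only [Finset.mem_insert, Finset.mem_filter, hS, hv, (iv 0).symm]; simp)
  have tu : u ≠ θ⁻¹ (ι 1) := fun e => hu (e ▸ ht')
  have tv : v ≠ θ⁻¹ (ι 1) := fun e => hv (e ▸ ht')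
  obtain ⟨φ, φ1, φ2, φ3, φ4⟩ := exists_cyc huv (insert (θ⁻¹ (ι 1)) (S.filter fun i => θ i ∉ S))
    (by simp only [Finset.mem_insert, Finset.mem_filter, hS, hu, tu]; simp)
    (by simp only [Finset.mem_insert, Finset.mem_filter, hS, hv, tv]; simp)
  simp only [Finset.coe_insert, Finset.coe_filter, Finset.mem_insert, Finset.mem_filter, hS] at γ2 γ4 ε2 ε4 φ2 φ4
  let E := Perm.viaEmbeddingHom ι
  have E1 : ∀ f x, E f (ι x) = ι (f x) := fun f x => Perm.viaEmbedding_apply f ι x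
  have E2 : ∀ f x, x ∉ Set.range ι → E f x = x := fun f x => Perm.viaEmbedding_apply_of_notMem f ι x
  let A : Perm (ZMod p) := Equiv.addRight 1
  let B : Perm (ZMod p) := Equiv.mulLeft₀ g g.ne_zero
  have Ak : ∀ (k : ℕ) x, (A ^ k) x = x + k := fun k x => by simp [A]
  have Bk : ∀ (k : ℕ) x, (B ^ k) x = g ^ k * x := fun k x => by
    induction k with
    | zero => simp
    | succ k ih => rw [pow_succ', Perm.mul_apply, ih]; simp [B]; ring
  have cE : ∀ f, Commute (E f) (swap u v) := fun f => by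
    rw [Commute, SemiconjBy, ← mul_inv_eq_iff_eq_mul, ← swap_apply_apply, E2 _ _ hu, E2 _ _ hv]
  have αp : E A ^ p = 1 := by rw [← map_pow, show A ^ p = 1 from Equiv.ext fun x => by simp [Ak], map_one]
  have θS : θ ∈ St u v := Or.inl ⟨θu, θv⟩
  refine ⟨{
    ι := ι, inj := ι.injective, u := u, v := v, huv := huv, hu := hu, hv := hv, r := g, hr := hr, r0 := g.ne_zero
    r1 := r1, α := E A, β := E B * swap u v, θ := θ, γ := γ, ε := ε, φ := φ, t := ι 1
    α1 := fun x => E1 _ _, αu := E2 _ _ hu, αv := E2 _ _ hv, αp := αp, αs := ?_, βs := ?_, βS := ?_, βp := ?_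
    βα := ?_, βu := by simp [E2 _ _ hv], βv := by simp [E2 _ _ hu], β0 := ?_, θu := θu, θv := θv, θ0 := θ0
    θ4 := θ4, θc := ?_, cover := cov, γs := γ1, γS := γ2.mono fun _ h => h.1, γS' := ?_, γt := γ3
    ctr := fun i a b => γ4 _ ⟨⟨0, rfl⟩, ⟨0, θ0.symm⟩⟩ i ⟨a, b⟩, εs := ε1, εS := ε2.mono ?_, εt := ε3, φs := φ1
    φS := φ2.mono ?_, φt := φ3, cm := ?_, ht := ⟨1, rfl⟩, ht' := ht', hts := hst, et := ?_, fs := ?_
    etr := fun i a b => ε4 _ (Or.inl rfl) i (Or.inr ⟨a, b⟩)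
    ftr := fun i a b => φ4 _ (Or.inl rfl) i (Or.inr ⟨a, b⟩) }, hσ, θ2⟩
  · have := congrArg Perm.sign αp
    rw [map_pow, map_one] at this
    rcases Int.units_eq_one_or (Perm.sign (E A)) with h | h
    · exact h
    · rw [h, hodd.neg_one_pow] at this; exact absurd this (by decide)
  · have : Perm.sign (E B) = -1 := by
      rw [← sign_mulLeft h3 g.ne_zero r1 hr]
      exact @Perm.sign_extendDomain _ _ _ _ _ _ _ _ (Classical.decPred _) _
    simp [this, huv]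
  · intro x a b c
    rw [Perm.mul_apply, swap_apply_of_ne_of_ne b c, E2 _ _ a]
  · obtain ⟨k, hk⟩ := hp.out.even_sub_one (by omega)
    rw [(cE B).mul_pow, ← map_pow, show B ^ (p - 1) = 1 from Equiv.ext fun x => by
      rw [Bk, ZMod.pow_card_sub_one_eq_one g.ne_zero]; simp, map_one, one_mul, hk, ← two_mul, pow_mul]
    simp [pow_two]
  · rw [mul_assoc (E B), ← (cE A).eq, mul_inv_rev, swap_inv, mul_assoc, mul_assoc, ← mul_assoc (swap u v),
      swap_mul_self, one_mul, ← map_inv, ← map_mul, ← map_mul, ← map_pow]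
    congr 1
    ext x
    rw [Ak, ZMod.natCast_zmod_val]
    obtain ⟨x, rfl⟩ := B.surjective x
    rw [Perm.mul_apply, Perm.mul_apply, show B⁻¹ (B x) = x from B.symm_apply_apply x]
    show (g : ZMod p) * (x + 1) = g * x + g
    ring
  · rw [Perm.mul_apply, swap_apply_of_ne_of_ne (iu 0) (iv 0), E1]; simp [B]
  · rw [Commute, SemiconjBy, ← mul_inv_eq_iff_eq_mul, conj_cyc_fix θu θv, θ0]
  · exact (γ2.conj θu θv).mono (by rintro _ ⟨x, hx, rfl⟩; exact hx.2)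
  · rintro x (rfl | h)
    · exact ⟨0, rfl⟩
    · exact h.1
  · rintro x (rfl | h)
    · exact ht'
    · exact h.1
  · refine commute_of ε2 (φ2.conj θu θv) ε3 (mul_mem (mul_mem θS φ3) (inv_mem θS)) ?_ ?_ ?_ ?_ ?_
    · rintro (h | h)
      · exact iu 0 h.symm
      · exact hu h.1
    · rintro (h | h)
      · exact iv 0 h.symm
      · exact hv h.1
    · rintro ⟨x, rfl | h, e⟩
      · exact iu 1 (by simpa using e)
      · exact hu (θ.injective (e.trans θu.symm) ▸ h.1)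
    · rintro ⟨x, rfl | h, e⟩
      · exact iv 1 (by simpa using e)
      · exact hv (θ.injective (e.trans θv.symm) ▸ h.1)
    · rintro x (rfl | h) ⟨y, rfl | h', e⟩
      · exact hst (by simpa using e.symm)
      · exact h'.2 (e ▸ ⟨0, rfl⟩)
      · exact h.2 (by rw [← e]; simpa using ht')
      · exact h'.2 (e ▸ h.1)
  · refine ε2 _ ?_ (iu 1) (iv 1)
    rintro (h | h)
    · exact hst h.symm
    · exact h.2 ht'
  · refine φ2 _ ?_ (iu 0) (iv 0)
    rintro (h | h)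
    · exact hst (by rw [← θ0, h]; simp)
    · exact h.2 ⟨0, θ0.symm⟩

end Cfsg.Agent.Classical.Pres
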