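import Cfsg.Agent.Lib.Classical.Pres4
import Mathlib.NumberTheory.Bertrand

/-! Presentations of symmetric and alternating groups with seven relators. -/
set_option autoImplicit false
open Equiv

namespace Cfsg.Agent.Classical.Pres
variable {G J : Type*} [Group G] [Group J] {Ω : Type*} [Fintype Ω] [DecidableEq Ω]

theorem lift_comp {ι : Type*} (π : J →* G) {g : ι → J} {x : ι → G} (h : ∀ i, π (g i) = x i) (w : FreeGroup ι) :
    π (FreeGroup.lift g w) = FreeGroup.lift x w :=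
  DFunLike.congr_fun (show π.comp (FreeGroup.lift g) = FreeGroup.lift x from
    FreeGroup.ext_hom _ _ fun i => by simp [h]) w

theorem closure_sub {ι : Type*} (H : Subgroup G) (x : ι → G) (hx : ∀ i, x i ∈ H)
    (hgen : H ≤ Subgroup.closure (Set.range x)) :
    Subgroup.closure (Set.range fun i => (⟨x i, hx i⟩ : H)) = ⊤ := by
  apply Subgroup.map_injective H.subtype_injective
  rw [← MonoidHom.range_eq_map, Subgroup.range_subtype, MonoidHom.map_closure, ← Set.range_comp]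
  exact le_antisymm ((Subgroup.closure_le _).2 (by rintro _ ⟨i, rfl⟩; exact hx i)) hgen

theorem hasPres_sub {ι : Type} (H : Subgroup G) (L : List (FreeGroup ι)) (x : ι → G) (hx : ∀ i, x i ∈ H)
    (hrel : ∀ r ∈ L, FreeGroup.lift x r = 1) (hgen : H ≤ Subgroup.closure (Set.range x))
    (hinj : ∀ (J : Type) [Group J] (g : ι → J) (π : J →* G), (∀ r ∈ L, FreeGroup.lift g r = 1) →
      (∀ i, π (g i) = x i) → Subgroup.closure (Set.range g) = ⊤ → ∀ j, π j = 1 → j = 1) :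
    HasPres (fun i => (⟨x i, hx i⟩ : H)) L.length :=
  hasPres_of L _ (fun r hr => Subtype.ext ((lift_comp H.subtype (fun _ => rfl) r).trans (hrel r hr)))
    (closure_sub H x hx hgen) fun J _ g π h1 h2 h3 j hj =>
      hinj J g (H.subtype.comp π) h1 (fun i => congrArg Subtype.val (h2 i)) h3 j (congrArg Subtype.val hj)

theorem index_two (M : Subgroup J) {q : J} (hq : q * q = 1) (hn : ∀ m ∈ M, q * m * q⁻¹ ∈ M) {S : Set J}
    (hS : Subgroup.closure S = ⊤) (h : ∀ s ∈ S, s ∈ M ∨ q * s ∈ M) (j : J) : j ∈ M ∨ q * j ∈ M := by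
  have hi := inv_eq_of_mul_eq_one_right hq
  have hj : j ∈ Subgroup.closure S := hS ▸ Subgroup.mem_top j
  induction hj using Subgroup.closure_induction with
  | mem x hx => exact h x hx
  | one => exact Or.inl M.one_mem
  | mul a b _ _ ha hb =>
    rcases ha with ha | ha <;> rcases hb with hb | hb
    · exact Or.inl (mul_mem ha hb)
    · exact Or.inr (by simpa [mul_assoc] using mul_mem (hn a ha) hb)
    · exact Or.inr (by simpa [mul_assoc] using mul_mem ha hb)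
    · left
      have := mul_mem (hn _ ha) hb
      rwa [← mul_assoc q q, hq, one_mul, mul_assoc, inv_mul_cancel_left] at this
  | inv a _ ha =>
    rcases ha with ha | ha
    · exact Or.inl (inv_mem ha)
    · right
      have := hn _ (inv_mem ha)
      rwa [mul_inv_rev, mul_assoc, mul_assoc, hi, hq, mul_one] at this

theorem inj_of_index_two (π : J →* Perm Ω) (M : Subgroup J) {q : J} (hq : q * q = 1)
    (hn : ∀ m ∈ M, q * m * q⁻¹ ∈ M) {S : Set J} (hS : Subgroup.closure S = ⊤) (h : ∀ s ∈ S, s ∈ M ∨ q * s ∈ M)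
    (hM : M ≤ (alternatingGroup Ω).comap π) (hs : Perm.sign (π q) = -1) (inj : ∀ g ∈ M, π g = 1 → g = 1) (j : J)
    (hj : π j = 1) : j = 1 := by
  rcases index_two M hq hn hS h j with a | a
  · exact inj j a hj
  · have : Perm.sign (π (q * j)) = 1 := hM a
    rw [map_mul, hj, mul_one, hs] at this
    exact absurd this (by decide)

theorem top_of_alt {H : Subgroup (Perm Ω)} (h : alternatingGroup Ω ≤ H) {θ : Perm Ω} (hθ : θ ∈ H)
    (hs : Perm.sign θ = -1) : H = ⊤ := by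
  rw [eq_top_iff]
  intro σ _
  rcases Int.units_eq_one_or (Perm.sign σ) with a | a
  · exact h a
  · have : θ * σ ∈ H := h (by simp [Perm.mem_alternatingGroup, a, hs])
    exact (H.mul_mem_cancel_left hθ).1 this

variable {p : ℕ} [Fact p.Prime] (D : Data p Ω)

def Data.z : Perm Ω := cyc D.u D.v (D.ι 0)
def Data.ω : Perm Ω := D.θ⁻¹ * D.z
def Data.x : Fin 3 → Perm Ω := ![D.α, D.β, D.ω]

omit [Fact p.Prime] in
theorem Data.iu (x : ZMod p) : D.ι x ≠ D.u := fun e => D.hu ⟨x, e⟩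
omit [Fact p.Prime] in
theorem Data.iv (x : ZMod p) : D.ι x ≠ D.v := fun e => D.hv ⟨x, e⟩

theorem Data.z3 : D.z ^ 3 = 1 := cyc_cube D.huv (D.iu 0) (D.iv 0)
theorem Data.ω_pow (k : ℕ) : D.ω ^ k = (D.θ ^ k)⁻¹ * D.z ^ k := by
  rw [Data.ω, (show Commute D.θ D.z from D.θc).inv_left.mul_pow, inv_pow]
theorem Data.ω3 : D.ω ^ 3 = D.θ := by
  rw [D.ω_pow, D.z3, mul_one, inv_eq_iff_mul_eq_one, ← pow_succ, D.θ4]
theorem Data.ω4 : D.ω ^ 4 = D.z := by
  rw [D.ω_pow, D.θ4, pow_succ D.z, D.z3]; simp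
theorem Data.ω16 : D.ω ^ 16 = D.z := by
  rw [show 16 = 4 * 4 from rfl, pow_mul, D.ω4, pow_succ, D.z3, one_mul]
theorem Data.ω12 : D.ω ^ 12 = 1 := by rw [show 12 = 4 * 3 from rfl, pow_mul, D.ω4, D.z3]
theorem Data.βz : D.β * D.z * D.β⁻¹ = D.z⁻¹ := by
  rw [Data.z, conj_cyc_swap D.βu D.βv (D.iu 0) (D.iv 0), D.β0]
theorem Data.zα : (D.z * (D.α * D.z * D.α⁻¹)) ^ 2 = 1 := by
  rw [Data.z, conj_cyc_fix D.αu D.αv, D.α1]
  exact cyc_sq D.huv (D.iu _) (D.iu _) (D.iv _) (D.iv _) fun e => by simpa using D.inj e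
theorem Data.ωs : Perm.sign D.ω = Perm.sign D.θ := by simp [Data.ω, Data.z, sign_cyc D.huv (D.iu 0)]

theorem Data.alt_le : alternatingGroup Ω ≤ Subgroup.closure (Set.range D.x) := fun σ hσ => by
  obtain ⟨g, -, h⟩ := surj_MM D (FreeGroup.lift D.x) (a := .of 0) (z := .of 2 ^ 16) (q := .of 2 ^ 3)
    (by simp [Data.x]) (by simp [Data.x, D.ω16, Data.z]) (by simp [Data.x, D.ω3]) hσ
  rw [← FreeGroup.range_lift_eq_closure]
  exact ⟨g, h⟩

/-- the five common relators -/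
theorem Data.common : ∃ L : List (FreeGroup (Fin 3)), L.length = 5 ∧ (∀ r ∈ L, FreeGroup.lift D.x r = 1) ∧
    ∀ (J : Type) [Group J] (g : Fin 3 → J) (π : J →* Perm Ω), (∀ r ∈ L, FreeGroup.lift g r = 1) →
      (∀ i, π (g i) = D.x i) →
      g 1 * g 0 ^ D.s * (g 1)⁻¹ = g 0 ^ (D.s - 1) ∧ g 1 * g 2 ^ 4 * (g 1)⁻¹ = (g 2 ^ 4)⁻¹ ∧
      (∀ H : Subgroup J, g 0 ∈ H → g 2 ∈ H → g 1 ∈ H) ∧
      (g 0 ^ p = 1 → g 2 ^ 48 = 1 → (∀ j ∈ MM (g 0) (g 2 ^ 16) (g 2 ^ 3), π j = 1 → j = 1) ∧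
        g 0 ∈ NN (g 0) (g 2 ^ 16) ∧ g 1 ∈ NN (g 0) (g 2 ^ 16)) := by
  let π₀ := FreeGroup.lift D.x
  have h0 : π₀ (.of 0) = D.α := by simp [π₀, Data.x]
  have h1 : π₀ (.of 1) = D.β := by simp [π₀, Data.x]
  have h2 : π₀ (.of 2) = D.ω := by simp [π₀, Data.x]
  have hz : π₀ (.of 2 ^ 16) = cyc D.u D.v (D.ι 0) := by rw [map_pow, h2, D.ω16, Data.z]
  obtain ⟨c, c1, c2⟩ := surj_NN D π₀ h0 hz D.γs D.γS
  obtain ⟨c', d1, d2⟩ := surj_NN D π₀ h0 hz (by simp [D.γs]) D.γS'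
  obtain ⟨h, e1, e2⟩ := surj_NN D π₀ h0 hz D.βs D.βS
  obtain ⟨e, f1, f2⟩ := surj_NN D π₀ h0 hz D.εs D.εS
  obtain ⟨e₂, g1, g2⟩ := surj_NN D π₀ h0 hz D.φs D.φS
  refine ⟨[.of 1 * .of 0 ^ D.s * (.of 1)⁻¹ * (.of 0 ^ (D.s - 1))⁻¹, .of 1 * .of 2 ^ 4 * (.of 1)⁻¹ * .of 2 ^ 4,
    (.of 2 ^ 16 * (.of 0 * .of 2 ^ 16 * (.of 0)⁻¹)) ^ 2,
    .of 2 ^ 3 * c * (.of 2 ^ 3)⁻¹ * (c' * (.of 1 * h⁻¹))⁻¹,
    e * (.of 2 ^ 3 * e₂ * (.of 2 ^ 3)⁻¹) * (.of 2 ^ 3 * e₂ * (.of 2 ^ 3)⁻¹ * e)⁻¹], rfl, ?_, ?_⟩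
  · simp only [List.forall_mem_cons, List.not_mem_nil, IsEmpty.forall_iff, implies_true, and_true]
    show π₀ _ = 1 ∧ π₀ _ = 1 ∧ π₀ _ = 1 ∧ π₀ _ = 1 ∧ π₀ _ = 1
    simp only [map_mul, map_inv, map_pow, h0, h1, h2, c2, d2, e2, f2, g2, D.ω3, D.ω4, D.ω16, mul_inv_eq_one]
    exact ⟨(D.neu1 D.αp).1 D.βα, by rw [D.βz]; simp, D.zα, by simp, D.cm⟩
  · intro J _ g π hr hπ
    simp only [List.forall_mem_cons, List.not_mem_nil, IsEmpty.forall_iff, implies_true, and_true, map_mul, map_inv,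
      map_pow, FreeGroup.lift_apply_of, mul_inv_eq_one] at hr
    obtain ⟨r1, r2, r3, r4, r5⟩ := hr
    have m : ∀ w ∈ NN (FreeGroup.of (0 : Fin 3)) (.of 2 ^ 16), FreeGroup.lift g w ∈ NN (g 0) (g 2 ^ 16) :=
      fun w hw => by simpa using NN_map (FreeGroup.lift g) hw
    have r2' := eq_inv_of_mul_eq_one_left r2
    refine ⟨r1, r2', fun H a b => ?_, fun ha hy => ?_⟩
    · have k := NN_le a (pow_mem b 16)
      have : _ ∈ H := mul_mem (mul_mem (pow_mem b 3) (k (m c c1))) (inv_mem (pow_mem b 3))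
      rw [r4, H.mul_mem_cancel_left (k (m c' d1)), H.mul_mem_cancel_right (inv_mem (k (m h e1)))] at this
      exact this
    · refine core D π (hπ 0) (by rw [map_pow, hπ]; exact D.ω16) (by rw [map_pow, hπ]; exact D.ω3)
        ((lift_comp π hπ c).trans c2) (((lift_comp π hπ h).trans e2).trans (hπ 1).symm)
        ((lift_comp π hπ e).trans f2) ((lift_comp π hπ e₂).trans g2) ha ((D.neu1 ha).2 r1)
        (by rw [← pow_mul]; exact hy) ?_ r3 ((Commute.refl _).pow_pow _ _) (m c c1) (m c' d1) (m h e1) (m e f1)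
        (m e₂ g1) r4 r5
      rw [show 16 = 4 * 4 from rfl, pow_mul, ← conj_pow, r2', inv_pow]

theorem Data.pres_sym (h1 : Perm.sign D.θ = -1) (h2 : D.θ ^ 2 = 1) : HasPres D.x 7 := by
  obtain ⟨L, l1, l2, l3⟩ := D.common
  have := hasPres_of ((.of 0 ^ p * (.of 1 ^ (p - 1))⁻¹) :: (.of 2 ^ 6) :: L) D.x ?_ ?_ ?_
  · simpa [l1] using this
  · simp only [List.forall_mem_cons]
    refine ⟨by simp [Data.x, D.αp, D.βp], ?_, l2⟩
    rw [map_pow, FreeGroup.lift_apply_of, show 6 = 3 * 2 from rfl, pow_mul]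
    exact (congrArg (· ^ 2) D.ω3).trans h2
  · exact top_of_alt D.alt_le (D.ω3 ▸ pow_mem (Subgroup.subset_closure (Set.mem_range_self (f := D.x) 2)) 3) h1
  · intro J _ g π hr hπ hg
    simp only [List.forall_mem_cons, map_mul, map_inv, map_pow, FreeGroup.lift_apply_of, mul_inv_eq_one] at hr
    obtain ⟨r1, r2, r3⟩ := hr
    obtain ⟨a1, a2, -, a4⟩ := l3 J g π r3 hπ
    obtain ⟨b1, b2, b3⟩ := a4 (neu2 D.s_pos r1 a1) (by rw [show 48 = 6 * 8 from rfl, pow_mul, r2, one_pow])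
    have hq : g 2 ^ 3 * g 2 ^ 3 = 1 := by rw [← pow_add, r2]
    have k1 : Perm.sign (π (g 0)) = 1 := by rw [hπ]; exact D.αs
    have k2 : Perm.sign (π (g 2 ^ 16)) = 1 := by
      rw [map_pow, map_pow, show 16 = 2 * 8 from rfl, pow_mul, Int.units_sq, one_pow]
    have k3 : NN (g 0) (g 2 ^ 16) ≤ (alternatingGroup Ω).comap π := NN_le k1 k2
    refine inj_of_index_two π _ hq (fun m hm => ?_) hg ?_ (sup_le k3 ?_) (by
      rw [map_pow, hπ]; exact (congrArg Perm.sign D.ω3).trans h1) b1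
    · refine (sup_le ?_ ?_ : _ ≤ (MM _ _ _).comap (MulAut.conj (g 2 ^ 3)).toMonoidHom) hm
      · exact fun x hx => Subgroup.mem_sup_right ⟨x, hx, rfl⟩
      · rintro _ ⟨x, hx, rfl⟩
        refine Subgroup.mem_sup_left ?_
        have hi := inv_eq_of_mul_eq_one_right hq
        simp only [MulEquiv.coe_toMonoidHom, MulAut.conj_apply, hi]
        rwa [← mul_assoc, ← mul_assoc, hq, one_mul, mul_assoc, hq, mul_one]
    · rintro _ ⟨i, rfl⟩
      fin_cases i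
      · exact Or.inl (Subgroup.mem_sup_left b2)
      · exact Or.inl (Subgroup.mem_sup_left b3)
      · refine Or.inr (Subgroup.mem_sup_left ?_)
        have := z_mem_NN (g 0) (g 2 ^ 16)
        have e : g 2 ^ 3 * g 2 = g 2 ^ 16 := by
          rw [show 16 = 6 * 2 + 3 + 1 from rfl, pow_succ _ (6 * 2 + 3), pow_add _ (6 * 2), pow_mul, r2, one_pow, one_mul]
        exact e ▸ this
    · rintro _ ⟨x, hx, rfl⟩
      have : Perm.sign (π x) = 1 := k3 hx
      show Perm.sign (π (g 2 ^ 3 * x * (g 2 ^ 3)⁻¹)) = 1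
      generalize g 2 ^ 3 = q
      simp [this]

theorem Data.x_mem (h1 : Perm.sign D.θ = 1) (i : Fin 3) : D.x i ∈ alternatingGroup Ω := by
  fin_cases i
  · exact D.αs
  · exact D.βs
  · exact D.ωs.trans h1

theorem Data.pres_alt (hp : 3 ≤ p) (h1 : Perm.sign D.θ = 1) :
    HasPres (fun i => (⟨D.x i, D.x_mem h1 i⟩ : alternatingGroup Ω)) 7 := by
  obtain ⟨L, l1, l2, l3⟩ := D.common
  obtain ⟨w, w1, w2⟩ := surj_MM D (FreeGroup.lift D.x) (a := .of 0) (z := .of 2 ^ 16) (q := .of 2 ^ 3)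
    (by simp [Data.x]) (by simp [Data.x, D.ω16, Data.z]) (by simp [Data.x, D.ω3]) h1
  have := hasPres_sub _ ((.of 0 ^ p * (.of 1 ^ (p - 1) * .of 2 ^ 12)⁻¹) :: (.of 2 ^ 3 * w⁻¹) :: L) D.x
    (D.x_mem h1) ?_ D.alt_le ?_
  · simpa [l1] using this
  · simp only [List.forall_mem_cons]
    refine ⟨by simp [Data.x, D.αp, D.βp, D.ω12], ?_, l2⟩
    rw [map_mul, map_inv, w2]; simp [Data.x, D.ω3]
  · intro J _ g π hr hπ hg j
    simp only [List.forall_mem_cons, map_mul, map_inv, map_pow, FreeGroup.lift_apply_of, mul_inv_eq_one] at hr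
    obtain ⟨r1, r2, r3⟩ := hr
    obtain ⟨a1, a2, a3, a4⟩ := l3 J g π r3 hπ
    have a5 : g 1 * g 2 ^ 12 * (g 1)⁻¹ = (g 2 ^ 12)⁻¹ := by
      rw [show 12 = 4 * 3 from rfl, pow_mul, ← conj_pow, a2, inv_pow]
    obtain ⟨c1, c2, c3⟩ := neu3 ((Fact.out : p.Prime).even_sub_one (by omega)) D.s_pos r1 a1 a5
    have c4 : g 1 ∈ Subgroup.centralizer {(g 2 ^ 12) ^ 2} := a3 _ (by
      rw [Subgroup.mem_centralizer_singleton_iff, c3]; exact ((Commute.refl _).pow_right _).pow_right _) (by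
      rw [Subgroup.mem_centralizer_singleton_iff]; exact ((Commute.refl _).pow_right _).pow_right _)
    rw [Subgroup.mem_centralizer_singleton_iff, ← mul_inv_eq_iff_eq_mul, ← conj_pow, a5, inv_pow,
      inv_eq_iff_mul_eq_one, ← pow_two] at c4
    have c5 : (g 2 ^ 12) ^ 2 = 1 := by
      have := D.s_pos
      rw [show 2 * D.s - 1 = 2 * (D.s - 1) + 1 by omega, pow_succ, pow_mul, c4, one_pow, one_mul] at c2
      exact c2
    obtain ⟨b1, b2, b3⟩ := a4 (by rw [c1, c5, one_pow])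
      (by rw [show 48 = 12 * 2 * 2 from rfl, pow_mul, pow_mul, c5, one_pow])
    refine b1 j ?_
    refine ((Subgroup.closure_le _).2 ?_ : _ ≤ MM _ _ _) (hg ▸ Subgroup.mem_top j)
    have hq : g 2 ^ 3 ∈ MM (g 0) (g 2 ^ 16) (g 2 ^ 3) := by
      have := MM_map (FreeGroup.lift g) w1
      rw [← r2] at this
      simpa using this
    rintro _ ⟨i, rfl⟩
    fin_cases i
    · exact Subgroup.mem_sup_left b2
    · exact Subgroup.mem_sup_left b3
    · have := mul_mem (inv_mem (pow_mem hq 5)) (Subgroup.mem_sup_left (z_mem_NN (g 0) (g 2 ^ 16)))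
      have e : ((g 2 ^ 3) ^ 5)⁻¹ * g 2 ^ 16 = g 2 := by rw [← pow_mul, pow_succ (g 2) 15, inv_mul_cancel_left]
      rwa [e] at this

theorem Data.exists_pair : ∃ d : Perm Ω, Perm.sign d = 1 ∧
    alternatingGroup Ω ≤ Subgroup.closure (Set.range ![D.ω, d]) := by
  obtain ⟨d, d1, -, d3, d4⟩ := exists_cyc D.huv ({D.u, D.v}ᶜ : Finset Ω) (by simp) (by simp)
  refine ⟨d, d1, ?_⟩
  rw [← closure_cyc D.huv, Subgroup.closure_le]
  rintro _ ⟨i, a, b, rfl⟩
  obtain ⟨n, rfl⟩ := d4 (D.ι 0) (by simp [D.iu, D.iv]) i (by simp [a, b])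
  have h1 : D.z ∈ Subgroup.closure (Set.range ![D.ω, d]) := 
    D.ω4 ▸ pow_mem (Subgroup.subset_closure (Set.mem_range_self (f := ![D.ω, d]) 0)) 4
  have h2 : d ^ n ∈ Subgroup.closure (Set.range ![D.ω, d]) :=
    pow_mem (Subgroup.subset_closure (Set.mem_range_self (f := ![D.ω, d]) 1)) n
  have h3 := mul_mem (mul_mem h2 h1) (inv_mem h2)
  rcases pow_mem d3 n with ⟨e, f⟩ | ⟨e, f⟩
  · rwa [Data.z, conj_cyc_fix e f] at h3
  · rwa [Data.z, conj_cyc_swap e f (D.iu 0) (D.iv 0), inv_mem_iff] at h3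

theorem exists_prime {n : ℕ} (hn : 5 ≤ n) : ∃ p, p.Prime ∧ 3 ≤ p ∧ p + 2 ≤ n ∧ n ≤ 2 * p := by
  obtain ⟨p, h1, h2, h3⟩ := Nat.exists_prime_lt_and_le_two_mul ((n + 1) / 2 - 1) (by omega)
  have := h1.eq_two_or_odd
  exact ⟨p, h1, by omega, by omega, by omega⟩

/-- the shape of the result -/
def Good (G : Type*) [Group G] : Prop :=
  ∃ x : Fin 3 → G, HasPres x 7 ∧ ∃ d, Subgroup.closure (Set.range ![x 2, d]) = ⊤

theorem good_sym (h : 5 ≤ Fintype.card Ω) : Good (Perm Ω) := by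
  obtain ⟨p, h1, h2, h3, h4⟩ := exists_prime h
  haveI := Fact.mk h1
  obtain ⟨D, a, b⟩ := exists_data p h2 h3 h4 (-1) (fun e => absurd e.2 (by decide))
  obtain ⟨d, -, hd⟩ := D.exists_pair
  exact ⟨D.x, D.pres_sym a (b rfl), d, top_of_alt hd (Subgroup.subset_closure ⟨0, rfl⟩) (D.ωs.trans a)⟩

theorem good_alt (h : 5 ≤ Fintype.card Ω) (h6 : Fintype.card Ω ≠ 6) : Good (alternatingGroup Ω) := by
  obtain ⟨p, h1, h2, h3, h4⟩ := exists_prime h
  haveI := Fact.mk h1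
  obtain ⟨D, a, -⟩ := exists_data p h2 h3 h4 1 (fun e => h6 e.1)
  obtain ⟨d, d1, hd⟩ := D.exists_pair
  refine ⟨_, D.pres_alt h2 a, ⟨d, d1⟩, ?_⟩
  have := closure_sub (alternatingGroup Ω) ![D.ω, d] (fun i => by
    fin_cases i
    · exact D.x_mem a 2
    · exact d1) hd
  convert this using 3
  ext i : 1
  fin_cases i <;> rfl

end Cfsg.Agent.Classical.Pres
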