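import Cfsg.Agent.Lib.Classical.Pres5
import Mathlib.GroupTheory.SpecificGroups.Cyclic

/-! Small cases. -/
set_option autoImplicit false
open Equiv

namespace Cfsg.Agent.Classical.Pres
variable {G J : Type*} [Group G] [Group J]

theorem HasPres.gen {ι : Type*} {x : ι → G} {r : ℕ} (h : HasPres x r) : Subgroup.closure (Set.range x) = ⊤ := by
  obtain ⟨R, -, e, h2⟩ := h
  rw [show x = e ∘ PresentedGroup.of from funext fun i => (h2 i).symm, Set.range_comp,
    ← MonoidHom.coe_coe, ← MonoidHom.map_closure, PresentedGroup.closure_range_of]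
  exact Subgroup.map_top_of_surjective _ e.surjective

theorem pres_cyclic [IsCyclic G] : ∃ x : Fin 2 → G, HasPres x 2 := by
  obtain ⟨a, ha⟩ := IsCyclic.exists_generator (α := G)
  refine ⟨![a, 1], hasPres_of [.of 0 ^ orderOf a, .of 1] _ (by simp) ?_ ?_⟩
  · rw [eq_top_iff]
    exact fun g _ => (Subgroup.zpowers_le.2 (Subgroup.subset_closure (Set.mem_range_self (f := ![a, 1]) 0))) (ha g)
  · intro J _ g π hr hπ hg j hj
    simp only [List.forall_mem_cons, map_pow, FreeGroup.lift_apply_of] at hr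
    have : j ∈ Subgroup.zpowers (g 0) := by
      refine ((Subgroup.closure_le _).2 ?_ : _ ≤ Subgroup.zpowers (g 0)) (hg ▸ Subgroup.mem_top j)
      rintro _ ⟨i, rfl⟩
      fin_cases i
      · exact Subgroup.mem_zpowers _
      · exact hr.2.1 ▸ one_mem _
    obtain ⟨k, rfl⟩ := this
    simp only [map_zpow, hπ] at hj
    obtain ⟨m, rfl⟩ := orderOf_dvd_iff_zpow_eq_one.2 (show a ^ k = 1 from hj)
    simp only [zpow_mul, zpow_natCast, hr.1, one_zpow]

theorem alt_le_of {Ω : Type*} [Fintype Ω] [DecidableEq Ω] {u v : Ω} (huv : u ≠ v) {H : Subgroup (Perm Ω)}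
    (h : ∀ i, i ≠ u → i ≠ v → cyc u v i ∈ H) : alternatingGroup Ω ≤ H := by
  rw [← closure_cyc huv, Subgroup.closure_le]
  rintro _ ⟨i, a, b, rfl⟩
  exact h i a b

theorem pres_S3 : ∃ x : Fin 2 → Perm (Fin 3), HasPres x 3 := by
  let x : Fin 2 → Perm (Fin 3) := ![cyc 1 2 0, swap 1 2]
  have m : ∀ i, x i ∈ Subgroup.closure (Set.range x) := fun i => Subgroup.subset_closure ⟨i, rfl⟩
  refine ⟨x, hasPres_of [.of 0 ^ 3, .of 1 * .of 1, .of 1 * .of 0 * (.of 1)⁻¹ * .of 0] _ ?_ ?_ ?_⟩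
  · simp only [List.forall_mem_cons, map_pow, map_mul, map_inv, FreeGroup.lift_apply_of]
    exact ⟨by decide, by decide, by decide, by simp⟩
  · refine top_of_alt (alt_le_of (u := 1) (v := 2) (by decide) fun i a b => ?_) (m 1) (by decide)
    obtain rfl : i = 0 := by revert i; decide
    exact m 0
  · intro J _ g π hr hπ hg
    simp only [List.forall_mem_cons, map_pow, map_mul, map_inv, FreeGroup.lift_apply_of] at hr
    obtain ⟨r1, r2, r3, -⟩ := hr
    have m' : g 0 ∈ Subgroup.closure ((fun _ => g 0) '' ({0} : Set (Fin 3))) := Subgroup.subset_closure ⟨0, rfl, rfl⟩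
    refine inj_of_index_two π (Subgroup.closure ((fun _ => g 0) '' ({0} : Set (Fin 3)))) r2
      (fun m hm => conj_mem_closure ?_ hm) hg ?_ ((Subgroup.closure_le _).2 ?_) (by rw [hπ]; decide)
      fun j hj => inj_closure (u := 1) (v := 2) (by decide) π (by decide) (by decide) ?_ (fun _ _ => r1) ?_ hj
    · rintro _ ⟨i, -, rfl⟩
      rw [eq_inv_of_mul_eq_one_left r3]; exact inv_mem m'
    · rintro _ ⟨i, rfl⟩
      fin_cases i
      · exact Or.inl m'
      · exact Or.inr (r2 ▸ one_mem _)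
    · rintro _ ⟨i, -, rfl⟩
      show Perm.sign (π (g 0)) = 1
      rw [hπ]; decide
    · rintro _ rfl; exact hπ 0
    · rintro _ rfl _ rfl h; exact absurd rfl h

theorem pres_S4 : ∃ x : Fin 2 → Perm (Fin 4), HasPres x 3 := by
  let x : Fin 2 → Perm (Fin 4) := ![cyc 2 3 0, swap 0 1]
  have m : ∀ i, x i ∈ Subgroup.closure (Set.range x) := fun i => Subgroup.subset_closure ⟨i, rfl⟩
  refine ⟨x, hasPres_of [.of 0 ^ 3, .of 1 * .of 1, (.of 0 * (.of 1 * .of 0 * (.of 1)⁻¹)) ^ 2] _ ?_ ?_ ?_⟩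
  · simp only [List.forall_mem_cons, map_pow, map_mul, map_inv, FreeGroup.lift_apply_of]
    exact ⟨by decide, by decide, by decide, by simp⟩
  · refine top_of_alt (alt_le_of (u := 2) (v := 3) (by decide) fun i a b => ?_) (m 1) (by decide)
    obtain rfl | rfl : i = 0 ∨ i = 1 := by revert i; decide
    · exact m 0
    · rw [show cyc (2 : Fin 4) 3 1 = x 1 * x 0 * (x 1)⁻¹ by decide]
      exact mul_mem (mul_mem (m 1) (m 0)) (inv_mem (m 1))
  · intro J _ g π hr hπ hg
    simp only [List.forall_mem_cons, map_pow, map_mul, map_inv, FreeGroup.lift_apply_of] at hr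
    obtain ⟨r1, r2, r3, -⟩ := hr
    let y : Fin 4 → J := ![g 0, g 1 * g 0 * (g 1)⁻¹, 1, 1]
    have m0 : g 0 ∈ Subgroup.closure (y '' {0, 1}) := Subgroup.subset_closure ⟨0, by simp, rfl⟩
    have m1 : g 1 * g 0 * (g 1)⁻¹ ∈ Subgroup.closure (y '' {0, 1}) := Subgroup.subset_closure ⟨1, by simp, rfl⟩
    have hy : ∀ i ∈ ({0, 1} : Set (Fin 4)), π (y i) = cyc 2 3 i := by
      rintro _ (rfl | rfl)
      · exact hπ 0
      · show π (g 1 * g 0 * (g 1)⁻¹) = _
        simp only [map_mul, map_inv, hπ]; decide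
    refine inj_of_index_two π (Subgroup.closure (y '' {0, 1})) r2
      (fun m hm => conj_mem_closure ?_ hm) hg ?_ ((Subgroup.closure_le _).2 ?_) (by rw [hπ]; decide)
      fun j hj => inj_closure (u := 2) (v := 3) (by decide) π (by decide) (by decide) hy ?_ ?_ hj
    · rintro _ ⟨i, rfl | rfl, rfl⟩
      · exact m1
      · show g 1 * (g 1 * g 0 * (g 1)⁻¹) * (g 1)⁻¹ ∈ _
        rwa [inv_eq_of_mul_eq_one_right r2, ← mul_assoc, ← mul_assoc, r2, one_mul, mul_assoc, r2, mul_one]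
    · rintro _ ⟨i, rfl⟩
      fin_cases i
      · exact Or.inl m0
      · exact Or.inr (r2 ▸ one_mem _)
    · rintro _ ⟨i, hi, rfl⟩
      show Perm.sign (π (y i)) = 1
      rw [hy i hi]; rcases hi with rfl | rfl <;> decide
    · rintro _ (rfl | rfl)
      · exact r1
      · show (g 1 * g 0 * (g 1)⁻¹) ^ 3 = 1
        rw [conj_pow, r1]; simp
    · rintro _ (rfl | rfl) _ (rfl | rfl) h
      · exact absurd rfl h
      · exact r3
      · exact sq_comm r3
      · exact absurd rfl h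

theorem pres_A4 : ∃ x : Fin 2 → alternatingGroup (Fin 4), HasPres x 3 := by
  let x : Fin 2 → Perm (Fin 4) := ![cyc 2 3 0, cyc 2 3 1]
  have m : ∀ i, x i ∈ Subgroup.closure (Set.range x) := fun i => Subgroup.subset_closure ⟨i, rfl⟩
  refine ⟨_, hasPres_sub (alternatingGroup _) [.of 0 ^ 3, .of 1 ^ 3, (.of 0 * .of 1) ^ 2] x
    (show ∀ i, Perm.sign (x i) = 1 by decide) ?_ ?_ ?_⟩
  · simp only [List.forall_mem_cons, map_pow, map_mul, FreeGroup.lift_apply_of]
    exact ⟨by decide, by decide, by decide, by simp⟩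
  · refine alt_le_of (u := 2) (v := 3) (by decide) fun i a b => ?_
    obtain rfl | rfl : i = 0 ∨ i = 1 := by revert i; decide
    · exact m 0
    · exact m 1
  · intro J _ g π hr hπ hg j
    simp only [List.forall_mem_cons, map_pow, map_mul, FreeGroup.lift_apply_of] at hr
    obtain ⟨r1, r2, r3, -⟩ := hr
    refine inj_closure (u := 2) (v := 3) (S := {0, 1}) (y := ![g 0, g 1, 1, 1]) (by decide) π (by decide)
      (by decide) ?_ ?_ ?_ (((Subgroup.closure_le _).2 ?_ : _ ≤ Subgroup.closure _) (hg ▸ Subgroup.mem_top j))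
    · rintro _ (rfl | rfl)
      · exact hπ 0
      · exact hπ 1
    · rintro _ (rfl | rfl)
      · exact r1
      · exact r2
    · rintro _ (rfl | rfl) _ (rfl | rfl) h
      · exact absurd rfl h
      · exact r3
      · exact sq_comm r3
      · exact absurd rfl h
    · rintro _ ⟨i, rfl⟩
      fin_cases i
      · exact Subgroup.subset_closure ⟨0, by simp, rfl⟩
      · exact Subgroup.subset_closure ⟨1, by simp, rfl⟩

def y6 (z g : J) : Fin 6 → J := ![z, g * z⁻¹ * g⁻¹, g ^ 2 * z * (g ^ 2)⁻¹, g ^ 3 * z⁻¹ * (g ^ 3)⁻¹, 1, 1]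

theorem pres_A6 : ∃ x : Fin 2 → alternatingGroup (Fin 6), HasPres x 5 := by
  let x : Fin 2 → Perm (Fin 6) := ![cyc 4 5 0, swap 0 3 * swap 0 2 * swap 0 1 * swap 4 5]
  have m : ∀ i, x i ∈ Subgroup.closure (Set.range x) := fun i => Subgroup.subset_closure ⟨i, rfl⟩
  have hy : ∀ {J : Type} [Group J] (π : J →* Perm (Fin 6)) (g : Fin 2 → J), (∀ i, π (g i) = x i) →
      ∀ i ∈ ({0, 1, 2, 3} : Set (Fin 6)), π (y6 (g 0) (g 1) i) = cyc 4 5 i := by
    rintro J _ π g hπ _ (rfl | rfl | rfl | rfl) <;> simp only [y6, Matrix.cons_val, map_mul, map_inv, map_pow, hπ] <;>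
      decide
  obtain ⟨w, w1, w2⟩ := surj_closure (u := 4) (v := 5) (by decide) (FreeGroup.lift x) (by decide) (by decide)
    (hy _ FreeGroup.of (by simp)) (σ := x 1) (by decide) (by
      intro i a b c
      exact absurd (by revert i; decide) a)
  refine ⟨_, hasPres_sub (alternatingGroup _) [.of 0 ^ 3, .of 1 ^ 4, (.of 0 * (.of 1 * (.of 0)⁻¹ * (.of 1)⁻¹)) ^ 2,
    (.of 0 * (.of 1 ^ 2 * .of 0 * (.of 1 ^ 2)⁻¹)) ^ 2, .of 1 * w⁻¹] x
    (show ∀ i, Perm.sign (x i) = 1 by decide +kernel) ?_ ?_ ?_⟩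
  · simp only [List.forall_mem_cons, map_pow, map_mul, map_inv, FreeGroup.lift_apply_of, w2]
    exact ⟨by decide +kernel, by decide +kernel, by decide +kernel, by decide +kernel, by simp, by simp⟩
  · refine alt_le_of (u := 4) (v := 5) (by decide) fun i a b => ?_
    rw [← hy (FreeGroup.lift x) FreeGroup.of (by simp) i (by revert i; decide), ← FreeGroup.range_lift_eq_closure]
    exact ⟨_, rfl⟩
  · intro J _ g π hr hπ hg j
    simp only [List.forall_mem_cons, map_pow, map_mul, map_inv, FreeGroup.lift_apply_of, mul_inv_eq_one] at hr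
    obtain ⟨r1, r2, r3, r4, r5, -⟩ := hr
    set y := y6 (g 0) (g 1) with hy'
    have c0 : g 1 * y 0 * (g 1)⁻¹ = (y 1)⁻¹ := by simp [hy', y6, mul_assoc]
    have c1 : g 1 * y 1 * (g 1)⁻¹ = (y 2)⁻¹ := by simp [hy', y6, mul_assoc, pow_succ]
    have c2 : g 1 * y 2 * (g 1)⁻¹ = (y 3)⁻¹ := by simp [hy', y6, mul_assoc, pow_succ]
    have c3 : g 1 * y 3 * (g 1)⁻¹ = (y 0)⁻¹ := by
      calc _ = g 1 ^ 4 * (g 0)⁻¹ * (g 1 ^ 4)⁻¹ := by simp [hy', y6, mul_assoc, pow_succ]
        _ = _ := by rw [r2]; simp [hy', y6]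
    have st : ∀ {a b c d : J}, g 1 * a * (g 1)⁻¹ = c⁻¹ → g 1 * b * (g 1)⁻¹ = d⁻¹ → (a * b) ^ 2 = 1 → (c * d) ^ 2 = 1 :=
      fun h1 h2 h => by have := sq_inv (h1 ▸ h2 ▸ sq_conj (g 1) h); rwa [inv_inv, inv_inv] at this
    have p01 : (y 0 * y 1) ^ 2 = 1 := r3
    have p02 : (y 0 * y 2) ^ 2 = 1 := r4
    have p12 := st c0 c1 p01
    have p23 := st c1 c2 p12
    have p30 := st c2 c3 p23
    have p13 := st c0 c2 p02
    refine inj_closure (u := 4) (v := 5) (S := {0, 1, 2, 3}) (y := y) (by decide) π (by decide)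
      (by decide) (hy π g hπ) ?_ ?_ (((Subgroup.closure_le _).2 ?_ : _ ≤ Subgroup.closure _) (hg ▸ Subgroup.mem_top j))
    · rintro _ (rfl | rfl | rfl | rfl) <;> simp only [hy', y6, Matrix.cons_val, conj_pow, inv_pow, r1] <;> simp
    · rintro _ (rfl | rfl | rfl | rfl) _ (rfl | rfl | rfl | rfl) h <;>
        first | exact absurd rfl h | assumption | exact sq_comm ‹_›
    · rintro _ ⟨i, rfl⟩
      fin_cases i
      · exact Subgroup.subset_closure ⟨0, by simp, rfl⟩
      · have : Subgroup.closure (y6 (FreeGroup.of (0 : Fin 2)) (.of 1) '' {0, 1, 2, 3}) ≤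
            (Subgroup.closure (y '' {0, 1, 2, 3})).comap (FreeGroup.lift g) := (Subgroup.closure_le _).2 (by
          rintro _ ⟨i, hi, rfl⟩
          refine Subgroup.subset_closure ⟨i, hi, ?_⟩
          rcases hi with rfl | rfl | rfl | rfl <;> simp [hy', y6])
        exact r5 ▸ this w1

theorem HasPres.any {ι κ : Type*} [Fintype κ] [Nonempty ι] {x : ι → G} {r : ℕ} (h : HasPres x r) (D : κ → G)
    (hD : Subgroup.closure (Set.range D) = ⊤) : HasPres D (r + Fintype.card κ) :=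
  h.change D hD Finset.univ (fun _ => Classical.arbitrary ι) (by simp) (by simp)

theorem Good.two (h : Good G) : ∃ x : Fin 2 → G, HasPres x 8 := by
  obtain ⟨x, h1, d, h2⟩ := h
  exact ⟨_, h1.change _ h2 {1} (fun _ => 2) (by decide) (fun k hk => by
    obtain rfl : k = 0 := by revert k; decide
    rfl)⟩

theorem good_alt' {n : ℕ} (h : 5 ≤ n) : Good (alternatingGroup (Fin n)) := by
  by_cases h6 : n = 6
  · subst h6
    obtain ⟨x, hx⟩ := pres_A6
    have e : Set.range ![x 0, x 1] = Set.range x := by congr 1; ext i : 1; fin_cases i <;> rfl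
    refine ⟨![x 1, x 1, x 0], (hx.change _ ?_ {0} ![0, 1, 0] (by decide) ?_).mono (by decide), x 1,
      e ▸ hx.gen⟩
    · rw [eq_top_iff, ← hx.gen]
      refine Subgroup.closure_mono ?_
      rintro _ ⟨i, rfl⟩
      fin_cases i
      · exact ⟨2, rfl⟩
      · exact ⟨1, rfl⟩
    · intro k hk
      fin_cases k
      · simp at hk
      · rfl
      · rfl
  · exact good_alt (by simpa) (by simpa)

theorem good_sym' {n : ℕ} (h : 5 ≤ n) : Good (Perm (Fin n)) := good_sym (by simpa)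

end Cfsg.Agent.Classical.Pres
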