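import Cfsg.Agent.Lib.Classical.Pres6
import Mathlib.FieldTheory.Minpoly.Field
import Mathlib.Algebra.Algebra.ZMod

/-! Bounded presentations of the additive group of a finite field (Baumslag's trick). -/
set_option autoImplicit false
open Polynomial

namespace Cfsg.Agent.Classical.Pres
variable {G J : Type*} [Group G] [Group J] {F : Type*} [Field F]

/-- the word `u ^ f(α)` -/
def pw (u α : J) (f : ℤ[X]) : J :=
  ((List.range (f.natDegree + 1)).map fun i => (α ^ i * u * (α ^ i)⁻¹) ^ f.coeff i).prod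

theorem map_pw (φ : J →* G) (u α : J) (f : ℤ[X]) : φ (pw u α f) = pw (φ u) (φ α) f := by
  simp [pw, map_list_prod, Function.comp_def]

theorem pw_mem (u α : J) (f : ℤ[X]) : pw u α f ∈ NN α u :=
  Subgroup.list_prod_mem _ (by
    simp only [List.mem_map]
    rintro _ ⟨i, -, rfl⟩
    exact zpow_mem (Subgroup.subset_closure (Set.mem_range_self (f := fun k : ℕ => α ^ k * u * (α ^ k)⁻¹) i)) _)

/-- an additive family -/
def Ad (X : F → J) : Prop := ∀ a b, X (a + b) = X a * X b

theorem Ad.zero {X : F → J} (h : Ad X) : X 0 = 1 := by simpa using h 0 0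
theorem Ad.neg {X : F → J} (h : Ad X) (a : F) : X (-a) = (X a)⁻¹ := by
  rw [eq_inv_iff_mul_eq_one, ← h, neg_add_cancel, h.zero]
theorem Ad.comm {X : F → J} (h : Ad X) (a b : F) : Commute (X a) (X b) := by
  rw [Commute, SemiconjBy, ← h, ← h, add_comm]
theorem Ad.zsmul {X : F → J} (h : Ad X) (n : ℤ) (a : F) : X (n * a) = X a ^ n := by
  have := map_zsmul (AddMonoidHom.mk' (fun a => Additive.ofMul (X a)) fun a b => congrArg Additive.ofMul (h a b)) n a
  rw [zsmul_eq_mul] at this
  exact congrArg Additive.toMul this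
theorem Ad.nsmul {X : F → J} (h : Ad X) (n : ℕ) (a : F) : X (n * a) = X a ^ n := by
  simpa using h.zsmul n a
theorem Ad.map {X : F → J} (h : Ad X) (φ : J →* G) : Ad fun a => φ (X a) := fun a b => by
  simp only [h a b, map_mul]
theorem Ad.conj {X : F → J} (h : Ad X) (g : J) : Ad fun a => g * X a * g⁻¹ := h.map (MulAut.conj g).toMonoidHom
theorem Ad.scale {X : F → J} (h : Ad X) (c : F) : Ad fun a => X (c * a) := fun a b => by
  simp only [mul_add, h _ _]

theorem conj_pow_X {X : F → J} {α : J} {x : F} (h : ∀ a, α * X a * α⁻¹ = X (x * a)) (i : ℕ) (a : F) :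
    α ^ i * X a * (α ^ i)⁻¹ = X (x ^ i * a) := by
  induction i with
  | zero => simp
  | succ i ih => rw [pow_succ', pow_succ', mul_assoc x, ← h, ← ih]; simp [mul_assoc]

theorem conj_inv_X {X : F → J} {α : J} {x : F} (hx : x ≠ 0) (h : ∀ a, α * X a * α⁻¹ = X (x * a)) (a : F) :
    α⁻¹ * X a * α⁻¹⁻¹ = X (x⁻¹ * a) := by
  have := h (x⁻¹ * a)
  rw [mul_inv_cancel_left₀ hx] at this
  rw [← this]; simp [mul_assoc]

theorem pw_eq {X : F → J} (hX : Ad X) {α : J} {x : F} (h : ∀ a, α * X a * α⁻¹ = X (x * a)) (f : ℤ[X]) :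
    pw (X 1) α f = X (aeval x f) := by
  rw [pw, aeval_eq_sum_range]
  induction f.natDegree + 1 with
  | zero => simp [hX.zero]
  | succ n ih =>
    rw [List.range_succ, List.map_append, List.prod_append, ih, Finset.sum_range_succ, hX, zsmul_eq_mul, hX.zsmul]
    simp [conj_pow_X h]

/-- `x` generates the field as a ring -/
def Gens (x : F) : Prop := ∀ y : F, ∃ f : ℤ[X], aeval x f = y

theorem Gens.ext {x : F} (hx : Gens x) {X Y : F → J} (hX : Ad X) (hY : Ad Y) (h : ∀ i : ℕ, X (x ^ i) = Y (x ^ i))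
    (a : F) : X a = Y a := by
  obtain ⟨f, rfl⟩ := hx a
  induction f using Polynomial.induction_on' with
  | add f g hf hg => rw [map_add, hX, hY, hf, hg]
  | monomial n c => rw [aeval_monomial, eq_intCast, hX.zsmul, hY.zsmul, h]

theorem Gens.act {x : F} (hx : Gens x) {X : F → J} (hX : Ad X) {α γ : J} (h : ∀ a, α * X a * α⁻¹ = X (x * a))
    (hc : Commute γ α) {c : F} (h1 : γ * X 1 * γ⁻¹ = X c) (a : F) : γ * X a * γ⁻¹ = X (c * a) :=
  hx.ext (hX.conj γ) (hX.scale c) (fun i => by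
    have := conj_pow_X h i 1
    rw [mul_one] at this
    rw [mul_comm c, ← conj_pow_X h, ← h1, ← this]
    have e := (hc.pow_right i).eq
    calc _ = (γ * α ^ i) * X 1 * (γ * α ^ i)⁻¹ := by simp [mul_assoc]
      _ = _ := by rw [e]; simp [mul_assoc]) a

theorem baumslag {u α β : J} (h1 : Commute β α) (h2 : Commute u (α * u * α⁻¹))
    (h3 : β * u * β⁻¹ = u * (α * u * α⁻¹)) (i j : ℕ) :
    Commute (α ^ i * u * (α ^ i)⁻¹) (α ^ j * u * (α ^ j)⁻¹) := by
  let v : ℕ → J := fun i => α ^ i * u * (α ^ i)⁻¹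
  have sh : ∀ k i j, Commute (v i) (v j) → Commute (v (k + i)) (v (k + j)) := fun k i j h => by
    have := h.map (MulAut.conj (α ^ k))
    simp only [MulAut.conj_apply] at this
    simpa [v, pow_add, mul_assoc] using this
  have hb : ∀ i, β * v i * β⁻¹ = v i * v (i + 1) := fun i => by
    have e := (h1.pow_right i).eq
    calc _ = (β * α ^ i) * u * (β * α ^ i)⁻¹ := by simp [v, mul_assoc]
      _ = α ^ i * (β * u * β⁻¹) * (α ^ i)⁻¹ := by rw [e]; simp [mul_assoc]
      _ = _ := by rw [h3]; simp [v, pow_succ, mul_assoc]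
  have key : ∀ n, ∀ i ≤ n + 1, Commute (v 0) (v i) := by
    intro n
    induction n with
    | zero =>
      intro i hi
      interval_cases i
      · exact Commute.refl _
      · simpa [v] using h2
    | succ n ih =>
      intro i hi
      by_cases h : i ≤ n + 1
      · exact ih i h
      obtain rfl : i = n + 2 := by omega
      have a := (ih (n + 1) le_rfl).map (MulAut.conj β)
      simp only [MulAut.conj_apply, hb] at a
      have b : Commute (v 1) (v (n + 1)) := by simpa [add_comm] using sh 1 0 n (ih n (by omega))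
      have c : Commute (v 1) (v (n + 2)) := by
        have := sh 1 0 (n + 1) (ih (n + 1) le_rfl); rwa [show 1 + (n + 1) = n + 2 by omega] at this
      have d : Commute (v 0) (v (n + 1) * v (n + 2)) := by
        have := a.mul_left (b.mul_right c).inv_left
        rwa [mul_inv_cancel_right] at this
      have := (ih (n + 1) le_rfl).inv_right.mul_right d
      rwa [inv_mul_cancel_left] at this
  show Commute (v i) (v j)
  rcases le_total i j with h | h
  · obtain ⟨k, rfl⟩ := Nat.exists_eq_add_of_le h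
    exact sh i 0 k (key k k (by omega))
  · obtain ⟨k, rfl⟩ := Nat.exists_eq_add_of_le h
    exact (sh j 0 k (key k k (by omega))).symm

theorem NN_comm {u α : J} (hc : ∀ i j : ℕ, Commute (α ^ i * u * (α ^ i)⁻¹) (α ^ j * u * (α ^ j)⁻¹)) {a b : J}
    (ha : a ∈ NN α u) (hb : b ∈ NN α u) : Commute a b := by
  refine Subgroup.closure_induction₂ (p := fun a b _ _ => Commute a b) ?_ (fun _ _ => Commute.one_left _)
    (fun _ _ => Commute.one_right _) (fun _ _ _ _ _ _ => Commute.mul_left) (fun _ _ _ _ _ _ => Commute.mul_right)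
    (fun _ _ _ _ => Commute.inv_left) (fun _ _ _ _ => Commute.inv_right) ha hb
  rintro _ _ ⟨i, rfl⟩ ⟨j, rfl⟩; exact hc i j

theorem NN_conj {u α : J} {a : J} (ha : a ∈ NN α u) : α * a * α⁻¹ ∈ NN α u :=
  conj_mem_closure (by
    rintro _ ⟨k, rfl⟩
    exact Subgroup.subset_closure ⟨k + 1, by simp [pow_succ', mul_assoc]⟩) ha

theorem baum_fix {u α β : J} (h1 : Commute β α) (h2 : Commute u (α * u * α⁻¹))
    (h3 : β * u * β⁻¹ = u * (α * u * α⁻¹)) {z : J} (hz : z ∈ NN α u) (ha : Commute α z) (hb : Commute β z) :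
    z = 1 := by
  have hc := baumslag h1 h2 h3
  have key : ∀ z ∈ NN α u, β * z * β⁻¹ = z * (α * z * α⁻¹) := by
    intro z hz
    induction hz using Subgroup.closure_induction with
    | mem x hx =>
      obtain ⟨i, rfl⟩ := hx
      have e := (h1.pow_right i).eq
      calc _ = (β * α ^ i) * u * (β * α ^ i)⁻¹ := by simp [mul_assoc]
        _ = α ^ i * (β * u * β⁻¹) * (α ^ i)⁻¹ := by rw [e]; simp [mul_assoc]
        _ = α ^ i * u * (α ^ i)⁻¹ * ((α ^ i * α) * u * (α ^ i * α)⁻¹) := by rw [h3]; simp [mul_assoc]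
        _ = _ := by rw [← pow_succ, pow_succ']; simp [mul_assoc]
    | one => simp
    | mul a b ha hb iha ihb =>
      have := (NN_comm hc (NN_conj ha) hb).eq
      calc _ = (β * a * β⁻¹) * (β * b * β⁻¹) := by simp [mul_assoc]
        _ = a * ((α * a * α⁻¹) * b) * (α * b * α⁻¹) := by rw [iha, ihb]; simp only [mul_assoc]
        _ = _ := by rw [this]; simp [mul_assoc]
    | inv a ha ih =>
      rw [← conj_inv, ih, ← (NN_comm hc (NN_conj ha) ha).eq]; simp [mul_assoc]
  have := key z hz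
  rw [hb.eq, ha.eq, mul_inv_cancel_right, mul_inv_cancel_right] at this
  simpa using this

theorem exists_m (p : ℕ) [Fact p.Prime] [CharP F p] (x : F) :
    ∃ m : ℤ[X], aeval x m = 0 ∧ ∀ f : ℤ[X], aeval x f = 0 → ∃ g r, f = g * m + C (p : ℤ) * r := by
  letI := ZMod.algebra F p
  have hs := Polynomial.map_surjective (Int.castRingHom (ZMod p)) (ZMod.ringHom_surjective _)
  have e : ∀ f : ℤ[X], aeval x (f.map (Int.castRingHom (ZMod p))) = aeval x f := fun f =>
    aeval_map_algebraMap (ZMod p) x f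
  obtain ⟨m, hm⟩ := hs (minpoly (ZMod p) x)
  refine ⟨m, by rw [← e, hm, minpoly.aeval], fun f hf => ?_⟩
  obtain ⟨g, hg⟩ := minpoly.dvd (ZMod p) x ((e f).trans hf)
  obtain ⟨g, rfl⟩ := hs g
  obtain ⟨r, hr⟩ : C (p : ℤ) ∣ f - g * m := by
    rw [C_dvd_iff_dvd_coeff]
    intro i
    rw [← ZMod.intCast_zmod_eq_zero_iff_dvd, ← eq_intCast (Int.castRingHom (ZMod p)), ← coeff_map,
      Polynomial.map_sub, Polynomial.map_mul, hg, hm, mul_comm, sub_self, coeff_zero]
  exact ⟨g, r, by rw [← hr]; ring⟩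

theorem exists_X {x : F} (hx : Gens x) {p : ℕ} {m : ℤ[X]}
    (hm : ∀ f : ℤ[X], aeval x f = 0 → ∃ g r, f = g * m + C (p : ℤ) * r) {u α : J}
    (hc : ∀ i j : ℕ, Commute (α ^ i * u * (α ^ i)⁻¹) (α ^ j * u * (α ^ j)⁻¹)) (hp : u ^ p = 1)
    (hm' : pw u α m = 1) : ∃ X : F → J, Ad X ∧ X 1 = u ∧ ∀ a, α * X a * α⁻¹ = X (x * a) := by
  letI : CommGroup (NN α u) := { (inferInstance : Group (NN α u)) with
    mul_comm := fun a b => Subtype.ext (NN_comm hc a.2 b.2).eq }
  let A : Module.End ℤ (Additive (NN α u)) := AddMonoidHom.toIntLinearMap (AddMonoidHom.mk'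
    (fun a => Additive.ofMul ⟨α * a.toMul.1 * α⁻¹, NN_conj a.toMul.2⟩) fun a b => by
      apply Additive.toMul.injective; apply Subtype.ext; simp [mul_assoc])
  let u0 : Additive (NN α u) := Additive.ofMul ⟨u, z_mem_NN α u⟩
  let Ψ : ℤ[X] → J := fun f => (aeval A f u0).toMul.1
  have hA : ∀ i : ℕ, ((A ^ i) u0).toMul.1 = α ^ i * u * (α ^ i)⁻¹ := fun i => by
    induction i with
    | zero => simp [u0]
    | succ i ih =>
      rw [pow_succ', Module.End.mul_apply]
      show α * ((A ^ i) u0).toMul.1 * α⁻¹ = _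
      rw [ih, pow_succ']; simp [mul_assoc]
  have h1 : ∀ f, aeval A f u0 = 0 ↔ Ψ f = 1 := fun f =>
    ⟨fun h => by simp [Ψ, h], fun h => Additive.toMul.injective (Subtype.ext h)⟩
  have h2 : Ψ m = pw u α m := by
    simp only [Ψ, pw, aeval_eq_sum_range]
    induction m.natDegree + 1 with
    | zero => simp
    | succ n ih =>
      rw [List.range_succ, List.map_append, List.prod_append, ← ih, Finset.sum_range_succ]
      simp [hA]
  have h3 : ∀ f g, Ψ (f + g) = Ψ f * Ψ g := fun f g => by simp [Ψ]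
  have h4 : ∀ f, aeval x f = 0 → Ψ f = 1 := fun f hf => by
    obtain ⟨g, r, rfl⟩ := hm f hf
    have a := (h1 m).2 (h2.trans hm')
    have b : aeval A (C (p : ℤ)) u0 = 0 := (h1 _).2 (by simp [Ψ, u0, hp])
    rw [← h1, mul_comm (C _), map_add, map_mul, map_mul, LinearMap.add_apply, Module.End.mul_apply,
      Module.End.mul_apply, a, b]
    simp
  have h5 : ∀ f g, aeval x f = aeval x g → Ψ f = Ψ g := fun f g h => by
    rw [← sub_add_cancel f g, h3, h4 _ (by rw [map_sub, h, sub_self]), one_mul]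
  choose s hs using hx
  refine ⟨fun a => Ψ (s a), fun a b => ?_, ?_, fun a => ?_⟩
  · rw [← h3]; exact h5 _ _ (by simp [hs])
  · beta_reduce
    rw [h5 (s 1) 1 (by simp [hs])]; simp [Ψ, u0]
  · beta_reduce
    rw [h5 (s (x * a)) (X * s a) (by simp [hs])]
    simp only [Ψ, map_mul, aeval_X, Module.End.mul_apply]
    rfl

theorem gens_of_pow {x : F} (h : ∀ y : F, y ≠ 0 → ∃ k : ℕ, x ^ k = y) : Gens x := fun y => by
  by_cases hy : y = 0
  · exact ⟨0, by simp [hy]⟩
  · obtain ⟨k, rfl⟩ := h y hy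
    exact ⟨X ^ k, by simp⟩

/-- two double cosets -/
theorem two_cosets (P : Subgroup J) {w : J} (h1 : w * w ∈ P)
    (h2 : ∀ g ∈ P, w * g * w⁻¹ ∈ P ∨ ∃ a ∈ P, ∃ b ∈ P, w * g * w⁻¹ = a * w * b) {S : Set J}
    (hS : ∀ s ∈ S, s ∈ P ∨ ∃ a ∈ P, ∃ b ∈ P, s = a * w * b) {j : J} (hj : j ∈ Subgroup.closure S) :
    j ∈ P ∨ ∃ a ∈ P, ∃ b ∈ P, j = a * w * b := by
  induction hj using Subgroup.closure_induction with
  | mem x hx => exact hS x hx
  | one => exact Or.inl P.one_mem
  | mul x y _ _ hx hy =>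
    rcases hx with hx | ⟨a, ha, b, hb, rfl⟩ <;> rcases hy with hy | ⟨c, hc, d, hd, rfl⟩
    · exact Or.inl (mul_mem hx hy)
    · exact Or.inr ⟨_, mul_mem hx hc, d, hd, by simp [mul_assoc]⟩
    · exact Or.inr ⟨a, ha, _, mul_mem hb hy, by simp [mul_assoc]⟩
    · have e : a * w * b * (c * w * d) = a * (w * (b * c) * w⁻¹) * (w * w * d) := by simp [mul_assoc]
      rw [e]
      rcases h2 _ (mul_mem hb hc) with h | ⟨a', ha', b', hb', h⟩
      · exact Or.inl (mul_mem (mul_mem ha h) (mul_mem h1 hd))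
      · exact Or.inr ⟨_, mul_mem ha ha', _, mul_mem hb' (mul_mem h1 hd), by rw [h]; simp [mul_assoc]⟩
  | inv x _ hx =>
    rcases hx with hx | ⟨a, ha, b, hb, rfl⟩
    · exact Or.inl (inv_mem hx)
    · exact Or.inr ⟨_, mul_mem (inv_mem hb) (inv_mem h1), _, inv_mem ha, by simp [mul_assoc]⟩

/-- adding dummy generators -/
theorem HasPres.pad {m : ℕ} {x : Fin m → G} {r : ℕ} (h : HasPres x r) (hm : 0 < m) (k : ℕ) :
    ∃ y : Fin (m + k) → G, HasPres y (r + k) := by
  let σ : Fin (m + k) → Fin m := fun i => if h : i.val < m then ⟨i, h⟩ else ⟨0, hm⟩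
  refine ⟨fun i => x (σ i), (h.change _ ?_ (Finset.univ.map (Fin.natAddEmb m)) σ ?_ fun _ _ => rfl).mono (by simp)⟩
  · rw [eq_top_iff, ← h.gen]
    refine Subgroup.closure_mono ?_
    rintro _ ⟨i, rfl⟩
    exact ⟨i.castAdd k, by simp [σ]⟩
  · have : ∀ i : Fin (m + k), i ∉ Finset.univ.map (Fin.natAddEmb m) → i.val < m := fun i hi => by
      by_contra h
      exact hi (Finset.mem_map.2 ⟨⟨i - m, by omega⟩, Finset.mem_univ _, Fin.ext (by simp; omega)⟩)
    intro i j hi hj e
    simp only [σ, dif_pos (this i hi), dif_pos (this j hj), Fin.mk.injEq] at e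
    exact Fin.ext e

/-- quotient by the normal closure of one element -/
theorem HasPres.quot {ι : Type} {x : ι → G} {r : ℕ} (h : HasPres x r) (N : Subgroup G) [N.Normal] {z : G}
    (hz : z ∈ N) (hN : N ≤ Subgroup.normalClosure {z}) :
    HasPres (fun i => (QuotientGroup.mk (x i) : G ⧸ N)) (r + 1) := by
  classical
  have hg := h.gen
  obtain ⟨R, h1, e, h2⟩ := h
  obtain ⟨w, hw⟩ := exists_word hg z
  have he : ∀ a, e (PresentedGroup.mk _ a) = FreeGroup.lift x a := fun a =>
    DFunLike.congr_fun (show e.toMonoidHom.comp (PresentedGroup.mk _) = FreeGroup.lift x from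
      FreeGroup.ext_hom _ _ fun i => (h2 i).trans FreeGroup.lift_apply_of.symm) a
  have hl := lift_comp (QuotientGroup.mk' N) (g := x) (x := fun i => (QuotientGroup.mk (x i) : G ⧸ N)) fun _ => rfl
  refine (hasPres_of (w :: R.toList) _ ?_ ?_ ?_).mono (by simpa using h1)
  · simp only [List.forall_mem_cons, ← hl, Finset.mem_toList]
    exact ⟨by rw [hw]; exact (QuotientGroup.eq_one_iff _).2 hz, fun a ha => by
      rw [← he, PresentedGroup.one_of_mem ha, map_one, map_one]⟩
  · rw [show (fun i => (QuotientGroup.mk (x i) : G ⧸ N)) = QuotientGroup.mk' N ∘ x from rfl, Set.range_comp,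
      ← MonoidHom.map_closure, hg]
    exact Subgroup.map_top_of_surjective _ (QuotientGroup.mk'_surjective N)
  · intro J _ g π hr hπ hg' j hj
    simp only [List.forall_mem_cons, Finset.mem_toList] at hr
    have hr' : ∀ r ∈ (R : Set (FreeGroup ι)), FreeGroup.lift g r = 1 := hr.2
    let ψ : G →* J := (PresentedGroup.toGroup hr').comp e.symm.toMonoidHom
    have hψ : ∀ a, ψ (FreeGroup.lift x a) = FreeGroup.lift g a := fun a => by
      rw [← he]
      show PresentedGroup.toGroup hr' (e.symm (e _)) = _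
      rw [e.symm_apply_apply]; rfl
    obtain ⟨a, rfl⟩ := exists_word hg' j
    rw [lift_comp π hπ, ← hl] at hj
    rw [← hψ]
    have : Subgroup.normalClosure {z} ≤ ψ.ker := Subgroup.normalClosure_le_normal (by
      rintro _ rfl
      show ψ _ = 1
      rw [← hw, hψ, hr.1])
    exact this (hN ((QuotientGroup.eq_one_iff _).1 hj))

end Cfsg.Agent.Classical.Pres
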