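import Cfsg.Agent.Lib.Classical.Pres7
import Mathlib.LinearAlgebra.Matrix.ProjectiveSpecialLinearGroup

/-! Bounded presentations of `SL₂(q)` and `PSL₂(q)`. -/
set_option autoImplicit false
open Polynomial Matrix

namespace Cfsg.Agent.Classical.Pres
universe u
variable {G J : Type*} [Group G] [Group J] {F : Type*} [Field F]

def U2 (a : F) : SpecialLinearGroup (Fin 2) F := ⟨!![1, a; 0, 1], by simp [det_fin_two_of]⟩
def T2 : SpecialLinearGroup (Fin 2) F := ⟨!![0, 1; -1, 0], by simp [det_fin_two_of]⟩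
def H2' (c : Fˣ) : SpecialLinearGroup (Fin 2) F := ⟨!![(c : F), 0; 0, (c : F)⁻¹], by simp [det_fin_two_of]⟩
theorem U2_val (a : F) : (U2 a).1 = !![1, a; 0, 1] := rfl
theorem T2_val : (T2 : SpecialLinearGroup (Fin 2) F).1 = !![0, 1; -1, 0] := rfl
theorem H2'_val (c : Fˣ) : (H2' c).1 = !![(c : F), 0; 0, (c : F)⁻¹] := rfl
def H2 : Fˣ →* SpecialLinearGroup (Fin 2) F := MonoidHom.mk' H2' fun a b => by
  apply Subtype.ext
  simp [H2'_val, mul_comm]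

theorem H2_val (c : Fˣ) : (H2 c).1 = !![(c : F), 0; 0, (c : F)⁻¹] := rfl

theorem U2_ad : Ad (U2 : F → _) := fun a b => by
  apply Subtype.ext
  simp [U2_val, add_comm]

theorem H2_U2 (c : Fˣ) (a : F) : H2 c * U2 a * (H2 c)⁻¹ = U2 ((c : F) ^ 2 * a) := by
  rw [mul_inv_eq_iff_eq_mul]
  apply Subtype.ext
  simp [U2_val, H2_val]
  field_simp

theorem T2_H2 (c : Fˣ) : T2 * H2 c * T2⁻¹ = (H2 c)⁻¹ := by
  rw [mul_inv_eq_iff_eq_mul, ← map_inv]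
  apply Subtype.ext
  simp only [SpecialLinearGroup.coe_mul, H2_val, T2_val]
  simp

theorem T2_sq : (T2 * T2 : SpecialLinearGroup (Fin 2) F) = H2 (-1) := by
  apply Subtype.ext
  simp [H2_val, T2_val]

theorem T2_U2 (b : Fˣ) : T2 * U2 (b : F) * T2⁻¹ = U2 (-(b⁻¹ : Fˣ) : F) * H2 b⁻¹ * T2 * U2 (-(b⁻¹ : Fˣ) : F) := by
  rw [mul_inv_eq_iff_eq_mul]
  apply Subtype.ext
  simp only [SpecialLinearGroup.coe_mul, H2_val, T2_val, U2_val]
  simp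

theorem sl2_gen {K : Subgroup (SpecialLinearGroup (Fin 2) F)} (h1 : ∀ a, U2 a ∈ K) (h2 : T2 ∈ K) : K = ⊤ := by
  rw [eq_top_iff]
  intro g _
  refine Matrix.SL2.transvection_induction (· ∈ K) (fun i j h c => ?_) (fun _ _ => K.mul_mem) g
  have e1 : ∀ h, SpecialLinearGroup.transvection (F := F) (i := (0 : Fin 2)) (j := 1) h c = U2 c := fun h => by
    ext i j; fin_cases i <;> fin_cases j <;> simp [U2_val, SpecialLinearGroup.transvection_coe, transvection]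
  have e2 : ∀ h, SpecialLinearGroup.transvection (F := F) (i := (1 : Fin 2)) (j := 0) h c =
      T2 * U2 (-c) * T2⁻¹ := fun h => by
    rw [eq_mul_inv_iff_mul_eq]
    ext i j; fin_cases i <;> fin_cases j <;>
      simp [U2_val, T2_val, SpecialLinearGroup.transvection_coe, transvection, mul_apply, Fin.sum_univ_two]
  fin_cases i <;> fin_cases j
  · exact absurd rfl h
  · exact (e1 h).symm ▸ h1 c
  · exact (e2 h).symm ▸ mul_mem (mul_mem h2 (h1 _)) (inv_mem h2)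
  · exact absurd rfl h

theorem borel_nf {X : F → J} (hX : Ad X) {h : J} {x : F} (hx : x ≠ 0) (h1 : ∀ a, h * X a * h⁻¹ = X (x * a)) {j : J}
    (hj : j ∈ Subgroup.closure (insert h (Set.range X))) : ∃ a, ∃ k : ℤ, j = X a * h ^ k := by
  have h2 : ∀ (k : ℤ) a, ∃ b, h ^ k * X a * (h ^ k)⁻¹ = X b := fun k a => by
    obtain ⟨n, rfl | rfl⟩ := k.eq_nat_or_neg
    · exact ⟨_, by rw [zpow_natCast]; exact conj_pow_X h1 n a⟩
    · exact ⟨_, by rw [zpow_neg, zpow_natCast, ← inv_pow]; exact conj_pow_X (conj_inv_X hx h1) n a⟩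
  induction hj using Subgroup.closure_induction with
  | mem x hx =>
    rcases hx with rfl | ⟨a, rfl⟩
    · exact ⟨0, 1, by simp [hX.zero]⟩
    · exact ⟨a, 0, by simp⟩
  | one => exact ⟨0, 0, by simp [hX.zero]⟩
  | mul x y _ _ hx hy =>
    obtain ⟨a, k, rfl⟩ := hx
    obtain ⟨b, l, rfl⟩ := hy
    obtain ⟨c, hc⟩ := h2 k b
    exact ⟨a + c, k + l, by rw [hX, ← hc, zpow_add]; simp [mul_assoc]⟩
  | inv x _ hx =>
    obtain ⟨a, k, rfl⟩ := hx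
    obtain ⟨c, hc⟩ := h2 (-k) (-a)
    exact ⟨c, -k, by rw [← hc, hX.neg]; simp [mul_assoc]⟩

theorem sl2_core (ρ : SpecialLinearGroup (Fin 2) F →* G) (hρ : ρ.ker ≤ Subgroup.center _) {ζ : Fˣ}
    (π : J →* G) {X : F → J} (hX : Ad X) {h t : J} (p1 : ∀ a, π (X a) = ρ (U2 a)) (p2 : π h = ρ (H2 ζ))
    (p3 : π t = ρ T2) (h1 : ∀ a, h * X a * h⁻¹ = X ((ζ : F) ^ 2 * a)) (h2 : t * h * t⁻¹ = h⁻¹)
    (h3 : ∃ k : ℕ, t * t = h ^ k)
    (h4 : ∀ a : F, a ≠ 0 → ∃ (k : ℕ) (b c d : F) (l : ℕ), a = ((ζ : F) ^ 2) ^ k * b ∧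
      t * X b * t⁻¹ = X c * h ^ l * t * X d)
    (h5 : ∀ k : ℤ, H2 ζ ^ k ∈ ρ.ker → h ^ k = 1) {S : Set J} (hS : ∀ s ∈ S, s = h ∨ s = t ∨ ∃ a, s = X a)
    {j : J} (hj : j ∈ Subgroup.closure S) (hj' : π j = 1) : j = 1 := by
  set B := Subgroup.closure (insert h (Set.range X))
  have mh : h ∈ B := Subgroup.subset_closure (Or.inl rfl)
  have mX : ∀ a, X a ∈ B := fun a => Subgroup.subset_closure (Or.inr ⟨a, rfl⟩)
  have nf : ∀ j ∈ B, ∃ a, ∃ k : ℤ, j = X a * h ^ k := fun j => borel_nf hX (pow_ne_zero 2 ζ.ne_zero) h1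
  have th : ∀ k : ℤ, t * h ^ k * t⁻¹ ∈ B := fun k => by rw [← conj_zpow, h2]; exact zpow_mem (inv_mem mh) k
  have sc : ∀ g ∈ ρ.ker, g.1 0 1 = 0 ∧ g.1 1 0 = 0 := fun g hg => by
    obtain ⟨r, -, hr⟩ := SpecialLinearGroup.mem_center_iff.1 (hρ hg)
    rw [← hr]; simp
  rcases two_cosets B (w := t) (by obtain ⟨k, hk⟩ := h3; rw [hk]; exact pow_mem mh k) (fun g hg => by
    obtain ⟨a, k, rfl⟩ := nf g hg
    by_cases ha : a = 0
    · left; rw [ha, hX.zero, one_mul]; exact th k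
    · obtain ⟨n, b, c, d, l, rfl, e⟩ := h4 a ha
      refine Or.inr ⟨_, mul_mem (th n) (mul_mem (mX c) (pow_mem mh l)), _,
        mul_mem (mX d) (mul_mem (inv_mem (th n)) (th k)), ?_⟩
      rw [← conj_pow_X h1]
      calc _ = t * h ^ n * t⁻¹ * (t * X b * t⁻¹) * ((t * h ^ n * t⁻¹)⁻¹ * (t * h ^ k * t⁻¹)) := by simp [mul_assoc]
        _ = _ := by rw [e]; simp [mul_assoc]) (fun s hs => by
    rcases hS s hs with rfl | rfl | ⟨a, rfl⟩
    · exact Or.inl mh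
    · exact Or.inr ⟨1, one_mem _, 1, one_mem _, by simp⟩
    · exact Or.inl (mX a)) hj with hB | ⟨a, ha, b, hb, rfl⟩
  · obtain ⟨a, k, rfl⟩ := nf j hB
    have e : U2 a * H2 (ζ ^ k) ∈ ρ.ker := by
      rw [MonoidHom.mem_ker, map_mul, map_zpow, map_zpow, ← p1, ← p2, ← map_zpow, ← map_mul, hj']
    have : a = 0 := by
      have := (sc _ e).1
      generalize ζ ^ k = c at this
      simpa [U2_val, H2_val] using this
    rw [this, U2_ad.zero, one_mul, map_zpow] at e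
    rw [this, hX.zero, one_mul, h5 k e]
  · exfalso
    have e : π (b * a * t) = 1 := by
      have := congrArg (fun x => π b * x * (π b)⁻¹) hj'
      simpa [mul_assoc] using this
    obtain ⟨c, k, hc⟩ := nf _ (mul_mem hb ha)
    have e' : U2 c * H2 (ζ ^ k) * T2 ∈ ρ.ker := by
      rw [MonoidHom.mem_ker, map_mul, map_mul, map_zpow, map_zpow, ← p1, ← p2, ← p3, ← map_zpow, ← map_mul,
        ← map_mul, ← hc, e]
    have := (sc _ e').2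
    generalize ζ ^ k = d at this
    simp only [SpecialLinearGroup.coe_mul, H2_val, T2_val, U2_val] at this
    simp at this

/-- presentations of the Borel subgroup -/
def UP (x : F) (N r : ℕ) : Prop := ∃ L : List (FreeGroup (Fin 3)), L.length = r ∧
  (∀ (G : Type u) [Group G] (g : Fin 3 → G) (X : F → G), Ad X → X 1 = g 0 → (∀ a, g 1 * X a * (g 1)⁻¹ = X (x * a)) →
    g 1 ^ N = 1 → ∀ r ∈ L, FreeGroup.lift g r = 1) ∧
  ∀ (J : Type) [Group J] (g : Fin 3 → J), (∀ r ∈ L, FreeGroup.lift g r = 1) → g 1 ^ N = 1 ∧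
    ∃ X : F → J, Ad X ∧ X 1 = g 0 ∧ ∀ a, g 1 * X a * (g 1)⁻¹ = X (x * a)

theorem Ad.pow_char {X : F → J} (hX : Ad X) (p : ℕ) [CharP F p] : X 1 ^ p = 1 := by
  rw [← hX.nsmul]; simp [hX.zero]

theorem up_gen (p : ℕ) [Fact p.Prime] [CharP F p] {x : F} {k l : ℕ} (hk : Gens (x ^ k)) (hl : x ^ l = 1 + x ^ k)
    (N : ℕ) : UP.{u} x N 5 := by
  obtain ⟨m, m1, m2⟩ := exists_m p (x ^ k)
  obtain ⟨f, hf⟩ := hk x
  refine ⟨[.of 0 ^ p * (.of 1 ^ N)⁻¹, .of 0 * (.of 1 ^ k * .of 0 * (.of 1 ^ k)⁻¹) *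
    (.of 1 ^ k * .of 0 * (.of 1 ^ k)⁻¹ * .of 0)⁻¹,
    .of 1 ^ l * .of 0 * (.of 1 ^ l)⁻¹ * (.of 0 * (.of 1 ^ k * .of 0 * (.of 1 ^ k)⁻¹))⁻¹, pw (.of 0) (.of 1 ^ k) m,
    .of 1 * .of 0 * (.of 1)⁻¹ * (pw (.of 0) (.of 1 ^ k) f)⁻¹], rfl, ?_, ?_⟩
  · intro G _ g X hX h0 h1 h2
    simp only [List.forall_mem_cons, List.not_mem_nil, IsEmpty.forall_iff, implies_true, and_true, map_mul, map_inv,
      map_pow, FreeGroup.lift_apply_of, mul_inv_eq_one, map_pw, ← h0, h2, conj_pow_X h1, h1,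
      pw_eq hX (conj_pow_X h1 k), m1, hf, hl, mul_one]
    exact ⟨hX.pow_char p, hX.comm _ _, hX _ _, hX.zero⟩
  · intro J _ g hr
    simp only [List.forall_mem_cons, List.not_mem_nil, IsEmpty.forall_iff, implies_true, and_true, map_mul, map_inv,
      map_pow, FreeGroup.lift_apply_of, mul_inv_eq_one, map_pw] at hr
    obtain ⟨r1, r2, r3, r4, r5⟩ := hr
    have c : ∀ i j, Commute (g 1 ^ i) (g 1 ^ j) := fun i j => (Commute.refl _).pow_pow _ _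
    have r0 : g 0 ^ p = 1 := baum_fix (c l k) r2 r3 (pow_mem (z_mem_NN _ _) p) (r1 ▸ c _ _) (r1 ▸ c _ _)
    obtain ⟨X, h1, h2, h3⟩ := exists_X hk m2 (baumslag (c l k) r2 r3) r0 r4
    refine ⟨r1 ▸ r0, X, h1, h2, hk.act h1 h3 ((Commute.refl _).pow_right k) ?_⟩
    rw [h2, r5, ← h2, pw_eq h1 h3, hf]

theorem up_small (p : ℕ) [Fact p.Prime] [CharP F p] {x : F} (hk : Gens x) {ε : ℤ} (hε : x ^ 2 = ε)
    (N : ℕ) : UP.{u} x N 5 := by
  obtain ⟨m, m1, m2⟩ := exists_m p x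
  refine ⟨[.of 0 ^ p, .of 1 ^ N, .of 0 * (.of 1 * .of 0 * (.of 1)⁻¹) * (.of 1 * .of 0 * (.of 1)⁻¹ * .of 0)⁻¹,
    .of 1 ^ 2 * .of 0 * (.of 1 ^ 2)⁻¹ * (.of 0 ^ ε)⁻¹, pw (.of 0) (.of 1) m], rfl, ?_, ?_⟩
  · intro G _ g X hX h0 h1 h2
    simp only [List.forall_mem_cons, List.not_mem_nil, IsEmpty.forall_iff, implies_true, and_true, map_mul, map_inv,
      map_pow, FreeGroup.lift_apply_of, mul_inv_eq_one, map_pw, ← h0, h2, conj_pow_X h1, h1, map_zpow,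
      pw_eq hX h1, m1, hε, true_and]
    exact ⟨hX.pow_char p, hX.comm _ _, hX.zsmul _ _, hX.zero⟩
  · intro J _ g hr
    simp only [List.forall_mem_cons, List.not_mem_nil, IsEmpty.forall_iff, implies_true, and_true, map_mul, map_inv,
      map_pow, FreeGroup.lift_apply_of, mul_inv_eq_one, map_pw, map_zpow] at hr
    obtain ⟨r1, r2, r3, r4, r5⟩ := hr
    have c : ∀ i : ℕ, (∃ k : ℤ, g 1 ^ i * g 0 * (g 1 ^ i)⁻¹ = g 0 ^ k) ∨
        ∃ k : ℤ, g 1 ^ i * g 0 * (g 1 ^ i)⁻¹ = (g 1 * g 0 * (g 1)⁻¹) ^ k := fun i => by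
      induction i with
      | zero => exact Or.inl ⟨1, by simp⟩
      | succ i ih =>
        have e : g 1 ^ (i + 1) * g 0 * (g 1 ^ (i + 1))⁻¹ = g 1 * (g 1 ^ i * g 0 * (g 1 ^ i)⁻¹) * (g 1)⁻¹ := by
          simp [pow_succ', mul_assoc]
        rcases ih with ⟨k, hk⟩ | ⟨k, hk⟩
        · exact Or.inr ⟨k, by rw [e, hk, conj_zpow]⟩
        · exact Or.inl ⟨ε * k, by rw [e, hk, ← conj_zpow, zpow_mul, ← r4]; simp [pow_two, mul_assoc]⟩
    obtain ⟨X, h1, h2, h3⟩ := exists_X hk m2 (fun i j => by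
      have r3' : Commute (g 0) (g 1 * g 0 * (g 1)⁻¹) := r3
      rcases c i with ⟨k, a⟩ | ⟨k, a⟩ <;> rcases c j with ⟨l, b⟩ | ⟨l, b⟩ <;> rw [a, b]
      · exact (Commute.refl _).zpow_zpow _ _
      · exact r3'.zpow_zpow _ _
      · exact r3'.symm.zpow_zpow _ _
      · exact (Commute.refl _).zpow_zpow _ _) r1 r5
    exact ⟨r2, X, h1, h2, h3⟩

theorem π_X {x : F} (hx : Gens x) (π : J →* G) {X : F → J} (hX : Ad X) {Y : F → G} (hY : Ad Y) {h : J}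
    (h0 : π (X 1) = Y 1) (h1 : ∀ a, h * X a * h⁻¹ = X (x * a)) (h2 : ∀ a, π h * Y a * (π h)⁻¹ = Y (x * a)) (a : F) :
    π (X a) = Y a := by
  obtain ⟨f, rfl⟩ := hx a
  rw [← pw_eq hX h1, map_pw, h0, pw_eq hY h2]

theorem sl2_pres {G : Type u} [Group G] (ρ : SpecialLinearGroup (Fin 2) F →* G) (hρ : ρ.ker ≤ Subgroup.center _)
    (hs : Function.Surjective ρ) {ζ : Fˣ} (hζ : ∀ a : Fˣ, ∃ k : ℕ, ζ ^ k = a) (hx : Gens ((ζ : F) ^ 2)) {N r : ℕ}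
    (hN : ∀ k : ℤ, H2 ζ ^ k ∈ ρ.ker ↔ (N : ℤ) ∣ k) (hU : UP.{u} ((ζ : F) ^ 2) N r) :
    HasPres ![ρ (U2 1), ρ (H2 ζ), ρ T2] (r + 4) := by
  obtain ⟨L, l1, l2, l3⟩ := hU
  obtain ⟨e, he⟩ := hζ (-1)
  obtain ⟨l, hl⟩ := hζ ζ⁻¹
  obtain ⟨f1, hf1⟩ := hx (-((1 : Fˣ)⁻¹ : Fˣ))
  obtain ⟨f2, hf2⟩ := hx ζ
  obtain ⟨f3, hf3⟩ := hx (-(ζ⁻¹ : Fˣ))
  have hY := (U2_ad (F := F)).map ρ
  have hH : ∀ a, ρ (H2 ζ) * ρ (U2 a) * (ρ (H2 ζ))⁻¹ = ρ (U2 ((ζ : F) ^ 2 * a)) := fun a => by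
    rw [← H2_U2]; simp
  have := hasPres_of ((.of 2 * .of 2 * (.of 1 ^ e)⁻¹) :: (.of 2 * .of 1 * (.of 2)⁻¹ * .of 1) ::
    (.of 2 * .of 0 * (.of 2)⁻¹ * (pw (.of 0) (.of 1) f1 * .of 2 * pw (.of 0) (.of 1) f1)⁻¹) ::
    (.of 2 * pw (.of 0) (.of 1) f2 * (.of 2)⁻¹ *
      (pw (.of 0) (.of 1) f3 * .of 1 ^ l * .of 2 * pw (.of 0) (.of 1) f3)⁻¹) :: L)
    ![ρ (U2 1), ρ (H2 ζ), ρ T2] ?_ ?_ ?_
  · simpa [l1] using this
  · simp only [List.forall_mem_cons, map_mul, map_inv, map_pow, FreeGroup.lift_apply_of, mul_inv_eq_one, map_pw,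
      Matrix.cons_val, pw_eq hY hH, hf1, hf2, hf3]
    simp only [← map_mul, ← map_inv, ← map_pow, he, hl, T2_sq, T2_H2, T2_U2, inv_mul_cancel, map_one, true_and]
    refine ⟨?_, l2 G _ _ hY rfl hH ?_⟩
    · have := T2_U2 (F := F) 1
      simp only [inv_one, map_one, mul_one] at this ⊢
      exact congrArg ρ this
    · have := (hN N).2 dvd_rfl
      rwa [zpow_natCast, MonoidHom.mem_ker, map_pow] at this
  · set K := Subgroup.closure (Set.range ![ρ (U2 1), ρ (H2 ζ), ρ T2])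
    have m : ∀ i, ![ρ (U2 1), ρ (H2 ζ), ρ T2] i ∈ K := fun i => Subgroup.subset_closure ⟨i, rfl⟩
    have : K.comap ρ = ⊤ := sl2_gen (fun a => by
      obtain ⟨f, rfl⟩ := hx a
      rw [Subgroup.mem_comap, ← pw_eq hY hH]
      exact NN_le (m 1) (m 0) (pw_mem _ _ _)) (m 2)
    rw [← Subgroup.map_comap_eq_self_of_surjective hs K, this, Subgroup.map_top_of_surjective _ hs]
  · intro J _ g π hr hπ hg j
    simp only [List.forall_mem_cons, map_mul, map_inv, map_pow, FreeGroup.lift_apply_of, mul_inv_eq_one, map_pw] at hr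
    obtain ⟨r1, r2, r3, r4, r5⟩ := hr
    obtain ⟨a1, X, a2, a3, a4⟩ := l3 J g r5
    rw [← a3, pw_eq a2 a4] at r3
    rw [← a3, pw_eq a2 a4, pw_eq a2 a4, hf2] at r4
    refine sl2_core ρ hρ π a2 (π_X hx π a2 hY (a3 ▸ hπ 0) a4 (by rw [hπ]; exact hH)) (hπ 1) (hπ 2) a4
      (eq_inv_of_mul_eq_one_left r2) ⟨e, r1⟩ (fun a ha => ?_) (fun k hk => ?_) ?_ (hg ▸ Subgroup.mem_top j)
    · obtain ⟨k, hk⟩ := hζ (Units.mk0 a ha)
      have hk' : a = (ζ : F) ^ k := by simpa using (congrArg Units.val hk).symm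
      obtain ⟨n, rfl | rfl⟩ := k.even_or_odd'
      · exact ⟨n, 1, _, _, 0, by rw [hk', pow_mul, mul_one], by simpa using r3⟩
      · exact ⟨n, ζ, _, _, l, by rw [hk', pow_succ, pow_mul], r4⟩
    · obtain ⟨c, rfl⟩ := (hN k).1 hk
      rw [zpow_mul, zpow_natCast, a1, one_zpow]
    · rintro _ ⟨i, rfl⟩
      fin_cases i
      · exact Or.inr (Or.inr ⟨1, a3.symm⟩)
      · exact Or.inl rfl
      · exact Or.inr (Or.inl rfl)

end Cfsg.Agent.Classical.Pres
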