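import Cfsg.Agent.Lib.Classical.Pres8
import Mathlib.FieldTheory.Finite.Basic

/-! Field lemmas and the presentations of `SL₂(q)`. -/
set_option autoImplicit false
open Polynomial Matrix

namespace Cfsg.Agent.Classical.Pres
universe u
variable {G J : Type*} [Group G] [Group J] {F : Type*} [Field F]

theorem gens_or [Fintype F] (p : ℕ) [hp : Fact p.Prime] [CharP F p] (y : F) :
    Gens y ∨ ∃ j : ℕ, 0 < j ∧ p ^ j * p ∣ Fintype.card F ∧ y ^ p ^ j = y := by
  classical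
  let K := (aeval y : ℤ[X] →ₐ[ℤ] F).range.toSubring
  letI : Fintype K := Fintype.ofFinite K
  letI : Field K := (Finite.isField_of_domain K).toField
  have h1 : Fintype.card K ∣ Fintype.card F := by
    have := AddSubgroup.card_addSubgroup_dvd_card K.toAddSubgroup
    simpa using this
  obtain ⟨n, -, hn⟩ := FiniteField.card F p
  rw [hn] at h1
  obtain ⟨j, hj, e⟩ := (Nat.dvd_prime_pow hp.out).1 h1
  have hy : y ∈ K := ⟨X, by simp⟩
  have h2 : y ^ p ^ j = y := by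
    have := congrArg Subtype.val (FiniteField.pow_card (⟨y, hy⟩ : K))
    rw [e] at this
    exact this
  rcases hj.eq_or_lt with rfl | hj
  · left
    intro z
    have : Function.Bijective (Subtype.val : K → F) :=
      (Fintype.bijective_iff_injective_and_card _).2 ⟨Subtype.val_injective, by rw [e, hn]⟩
    obtain ⟨⟨_, f, rfl⟩, rfl⟩ := this.2 z
    exact ⟨f, rfl⟩
  · refine Or.inr ⟨j, Nat.pos_of_ne_zero ?_, by rw [hn, ← pow_succ]; exact pow_dvd_pow _ hj, h2⟩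
    rintro rfl
    have := Fintype.one_lt_card (α := K)
    simp [e] at this

theorem gens_sq {ζ : Fˣ} (hζ : ∀ a : Fˣ, ∃ k : ℕ, ζ ^ k = a) [Finite F] : Gens ((ζ : F) ^ 2) := by
  have h : ∀ a : F, ∃ f : ℤ[X], aeval ((ζ : F) ^ 2) f = a ^ 2 := fun a => by
    by_cases ha : a = 0
    · exact ⟨0, by simp [ha]⟩
    · obtain ⟨k, hk⟩ := hζ (Units.mk0 a ha)
      have hk' : (ζ : F) ^ k = a := by simpa using congrArg Units.val hk
      exact ⟨X ^ k, by rw [← hk']; simp [← pow_mul, mul_comm]⟩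
  intro a
  by_cases h2 : (2 : F) = 0
  · haveI : CharP F 2 := CharTwo.of_one_ne_zero_of_two_eq_zero one_ne_zero h2
    obtain ⟨b, rfl⟩ := FiniteField.isSquare_of_char_two (ringChar.eq F 2) a
    simpa [sq] using h b
  · obtain ⟨f, hf⟩ := h ((a + 1) / 2)
    obtain ⟨g, hg⟩ := h ((a - 1) / 2)
    exact ⟨f - g, by rw [map_sub, hf, hg]; field_simp; ring⟩

theorem exists_gen (F : Type*) [Field F] [Fintype F] : ∃ ζ : Fˣ, (∀ a : Fˣ, ∃ k : ℕ, ζ ^ k = a) ∧
    orderOf ζ = Fintype.card F - 1 := by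
  obtain ⟨ζ, h⟩ := IsCyclic.exists_generator (α := Fˣ)
  refine ⟨ζ, fun a => ?_, ?_⟩
  · exact (mem_powers_iff_mem_zpowers.2 (h a) : a ∈ Submonoid.powers ζ)
  · rw [orderOf_eq_card_of_forall_mem_zpowers h, Nat.card_units, Nat.card_eq_fintype_card]

theorem sq_pow {ζ : Fˣ} (hζ : ∀ a : Fˣ, ∃ k : ℕ, ζ ^ k = a) {a : F} (ha : a ≠ 0) :
    ∃ k : ℕ, ((ζ : F) ^ 2) ^ k = a ^ 2 := by
  obtain ⟨k, hk⟩ := hζ (Units.mk0 a ha)
  have hk' : (ζ : F) ^ k = a := by simpa using congrArg Units.val hk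
  exact ⟨k, by rw [← hk', ← pow_mul, ← pow_mul, mul_comm]⟩

theorem UP.mono {x : F} {N r s : ℕ} (h : UP.{u} x N r) (hrs : r ≤ s) : UP.{u} x N s := by
  obtain ⟨L, l1, l2, l3⟩ := h
  refine ⟨List.replicate (s - r) 1 ++ L, by simp [l1]; omega, fun G _ g X a b c d r hr => ?_, fun J _ g hr =>
    l3 J g fun r h => hr r (List.mem_append_right _ h)⟩
  rcases List.mem_append.1 hr with h | h
  · rw [List.eq_of_mem_replicate h, map_one]
  · exact l2 G g X a b c d r h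

theorem up_two [Fintype F] [CharP F 2] {ζ : Fˣ} (hζ : ∀ a : Fˣ, ∃ k : ℕ, ζ ^ k = a) (N : ℕ) :
    UP.{u} ((ζ : F) ^ 2) N 3 := by
  classical
  have hx := gens_sq hζ
  by_cases h1 : (ζ : F) = 1
  · have h01 : ∀ a : F, a = 0 ∨ a = 1 := fun a => by
      by_cases ha : a = 0
      · exact Or.inl ha
      · obtain ⟨k, hk⟩ := hζ (Units.mk0 a ha)
        exact Or.inr (by simpa [h1] using (congrArg Units.val hk).symm)
    refine ⟨[.of 1 ^ N, .of 0 ^ 2, .of 1 * .of 0 * (.of 1)⁻¹ * (.of 0)⁻¹], rfl, ?_, ?_⟩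
    · intro G _ g X hX h0 h2 h3
      simp only [List.forall_mem_cons, List.not_mem_nil, IsEmpty.forall_iff, implies_true, and_true, map_mul, map_inv,
        map_pow, FreeGroup.lift_apply_of, mul_inv_eq_one, ← h0, h2, h3, h1, one_pow, mul_one, true_and]
      exact hX.pow_char 2
    · intro J _ g hr
      simp only [List.forall_mem_cons, List.not_mem_nil, IsEmpty.forall_iff, implies_true, and_true, map_mul, map_inv,
        map_pow, FreeGroup.lift_apply_of, mul_inv_eq_one] at hr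
      refine ⟨hr.1, fun a => if a = 0 then 1 else g 0, fun a b => ?_, by simp, fun a => ?_⟩
      · rcases h01 a with rfl | rfl <;> rcases h01 b with rfl | rfl <;> simp [CharTwo.add_self_eq_zero, ← sq, hr.2.1]
      · rcases h01 a with rfl | rfl <;> simp [h1, hr.2.2]
  · have h2 : 1 + (ζ : F) ≠ 0 := fun h => h1 (by
      rw [eq_neg_of_add_eq_zero_right h, CharTwo.neg_eq])
    obtain ⟨l, hl⟩ := sq_pow hζ h2
    rw [CharTwo.add_sq, one_pow] at hl
    obtain ⟨m, m1, m2⟩ := exists_m 2 ((ζ : F) ^ 2)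
    refine ⟨[.of 1 ^ l * .of 0 * (.of 1 ^ l)⁻¹ * (.of 0 * (.of 1 * .of 0 * (.of 1)⁻¹))⁻¹, .of 0 ^ 2,
      pw (.of 0) (.of 1) m * (.of 1 ^ N)⁻¹], rfl, ?_, ?_⟩
    · intro G _ g X hX h0 h1 h2
      simp only [List.forall_mem_cons, List.not_mem_nil, IsEmpty.forall_iff, implies_true, and_true, map_mul, map_inv,
        map_pow, FreeGroup.lift_apply_of, mul_inv_eq_one, map_pw, ← h0, h2, conj_pow_X h1, h1,
        pw_eq hX h1, m1, hl, mul_one]
      exact ⟨hX _ _, hX.pow_char 2, hX.zero⟩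
    · intro J _ g hr
      simp only [List.forall_mem_cons, List.not_mem_nil, IsEmpty.forall_iff, implies_true, and_true, map_mul, map_inv,
        map_pow, FreeGroup.lift_apply_of, mul_inv_eq_one, map_pw] at hr
      obtain ⟨r1, r2, r3⟩ := hr
      have c : Commute (g 1 ^ l) (g 1) := (Commute.refl _).pow_left _
      have r0 : Commute (g 0) (g 1 * g 0 * (g 1)⁻¹) := comm_of_sq (by rw [← sq, r2])
        (by rw [← sq, conj_pow, r2]; simp) (by rw [← r1, conj_pow, r2]; simp)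
      have r4 : pw (g 0) (g 1) m = 1 := baum_fix c r0 r1 (pw_mem _ _ _) (r3 ▸ (Commute.refl _).pow_right _)
        (r3 ▸ (Commute.refl _).pow_pow _ _)
      obtain ⟨X, h1, h2, h3⟩ := exists_X hx m2 (baumslag c r0 r1) r2 r4
      exact ⟨r3 ▸ r4, X, h1, h2, h3⟩

theorem up_all [Fintype F] {ζ : Fˣ} (hζ : ∀ a : Fˣ, ∃ k : ℕ, ζ ^ k = a) (ho : orderOf ζ = Fintype.card F - 1)
    (N : ℕ) : UP.{u} ((ζ : F) ^ 2) N 5 := by
  obtain ⟨p, hp⟩ := CharP.exists F
  haveI : Fact p.Prime := ⟨CharP.char_is_prime F p⟩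
  by_cases h2 : (2 : F) = 0
  · haveI : CharP F 2 := CharTwo.of_one_ne_zero_of_two_eq_zero one_ne_zero h2
    exact (up_two hζ N).mono (by norm_num)
  have hz : (ζ : F) ≠ 0 := ζ.ne_zero
  by_cases h8 : (ζ : F) ^ 8 = 1
  · have : ((ζ : F) ^ 2) ^ 2 = 1 ∨ ((ζ : F) ^ 2) ^ 2 = -1 := sq_eq_one_iff.1 (by rw [← h8]; ring)
    rcases this with h | h
    · exact up_small p (gens_sq hζ) (ε := 1) (by simpa using h) N
    · exact up_small p (gens_sq hζ) (ε := -1) (by simpa using h) N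
  have h4 : (ζ : F) ^ 4 ≠ 1 := fun h => h8 (by rw [show (8 : ℕ) = 4 * 2 from rfl, pow_mul, h, one_pow])
  have ha : ((ζ : F)⁻¹ - ζ) / 2 ≠ 0 := div_ne_zero (fun h => h4 (by
    have : (ζ : F) ^ 2 = 1 := by field_simp at h; linear_combination -h
    rw [show (4 : ℕ) = 2 * 2 from rfl, pow_mul, this, one_pow])) h2
  have hb : ((ζ : F)⁻¹ + ζ) / 2 ≠ 0 := div_ne_zero (fun h => h4 (by
    have : (ζ : F) ^ 2 = -1 := by field_simp at h; linear_combination h
    rw [show (4 : ℕ) = 2 * 2 from rfl, pow_mul, this]; ring)) h2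
  obtain ⟨k, hk⟩ := sq_pow hζ ha
  obtain ⟨l, hl⟩ := sq_pow hζ hb
  refine up_gen p (k := k) (l := l) ?_ (by rw [hk, hl]; field_simp; ring) N
  rw [hk]
  refine (gens_or p _).resolve_right ?_
  rintro ⟨j, hj, h1, h3⟩
  have hp3 : 3 ≤ p := by
    have := (Fact.out : p.Prime).two_le
    rcases this.eq_or_lt with rfl | h
    · exact absurd (CharP.cast_eq_zero F 2) h2
    · exact h
  have hr : 3 ≤ p ^ j := hp3.trans (Nat.le_self_pow hj.ne' p)
  have hq : p ^ j * 3 ≤ Fintype.card F := (Nat.mul_le_mul_left _ hp3).trans (Nat.le_of_dvd Fintype.card_pos h1)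
  set φ := iterateFrobenius F p j
  have e1 : φ ((((ζ : F)⁻¹ - ζ) / 2) ^ 2) = (((ζ : F)⁻¹ - ζ) / 2) ^ 2 := h3
  have e2 : φ ζ = (ζ : F) ^ p ^ j := rfl
  rw [map_pow, map_div₀, map_sub, map_inv₀, map_ofNat, e2] at e1
  generalize p ^ j = r at *
  have hd : ∀ n : ℕ, 0 < n → (ζ : F) ^ n = 1 → Fintype.card F - 1 ≤ n := fun n hn h => by
    rw [← ho]; exact orderOf_le_of_pow_eq_one hn (Units.ext (by simpa using h))
  have e3 : (((ζ : F) ^ r) ^ 2 - ζ ^ 2) * (((ζ : F) ^ r) ^ 2 * ζ ^ 2 - 1) = 0 := by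
    have := pow_ne_zero r hz
    field_simp at e1
    linear_combination e1
  rcases mul_eq_zero.1 e3 with h | h
  · obtain ⟨s, rfl⟩ : ∃ s, r = s + 1 := ⟨r - 1, by omega⟩
    have := hd (s * 2) (by omega) (mul_right_cancel₀ (pow_ne_zero 2 hz) (by linear_combination h))
    omega
  · have h' : (ζ : F) ^ (r * 2 + 2) = 1 := by linear_combination h
    have := hd _ (by omega) h'
    obtain rfl : r = 3 := by omega
    exact h8 h'

theorem sl2_pres9 {G : Type u} [Group G] [Fintype F] (ρ : SpecialLinearGroup (Fin 2) F →* G)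
    (hρ : ρ.ker ≤ Subgroup.center _) (hs : Function.Surjective ρ) : ∃ x : Fin 3 → G, HasPres x 9 := by
  obtain ⟨ζ, h1, h2⟩ := exists_gen F
  exact ⟨_, sl2_pres ρ hρ hs h1 (gens_sq h1) (N := orderOf (ρ (H2 ζ))) (fun k => by
    rw [MonoidHom.mem_ker, map_zpow, orderOf_dvd_iff_zpow_eq_one]) (up_all h1 h2 _)⟩

theorem sl2_pres5 {G : Type u} [Group G] [Fintype F] [CharP F 2] (ρ : SpecialLinearGroup (Fin 2) F →* G)
    (hρ : ρ.ker ≤ Subgroup.center _) (hs : Function.Surjective ρ) : ∃ x : Fin 3 → G, HasPres x 5 := by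
  obtain ⟨ζ, hζ, -⟩ := exists_gen F
  have hx := gens_sq hζ
  obtain ⟨L, l1, l2, l3⟩ := up_two.{u} hζ (orderOf (ρ (H2 ζ)))
  have hY := (U2_ad (F := F)).map ρ
  have hH : ∀ a, ρ (H2 ζ) * ρ (U2 a) * (ρ (H2 ζ))⁻¹ = ρ (U2 ((ζ : F) ^ 2 * a)) := fun a => by
    rw [← H2_U2]; simp
  have := hasPres_of ((.of 2 * .of 1 * (.of 2)⁻¹ * .of 1) ::
    (.of 2 * .of 0 * .of 2 * (.of 0 * .of 2 * .of 0)⁻¹) :: L)
    ![ρ (U2 1), ρ (H2 ζ), ρ T2] ?_ ?_ ?_
  · exact ⟨_, by simpa [l1] using this⟩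
  · simp only [List.forall_mem_cons, map_mul, map_inv, FreeGroup.lift_apply_of, mul_inv_eq_one, Matrix.cons_val]
    simp only [← map_mul, ← map_inv, T2_H2, inv_mul_cancel, map_one, true_and]
    refine ⟨congrArg ρ ?_, l2 G _ _ hY rfl hH (pow_orderOf_eq_one _)⟩
    apply Subtype.ext
    simp [T2_val, U2_val, CharTwo.neg_eq, CharTwo.add_self_eq_zero]
  · set K := Subgroup.closure (Set.range ![ρ (U2 1), ρ (H2 ζ), ρ T2])
    have m : ∀ i, ![ρ (U2 1), ρ (H2 ζ), ρ T2] i ∈ K := fun i => Subgroup.subset_closure ⟨i, rfl⟩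
    have : K.comap ρ = ⊤ := sl2_gen (fun a => by
      obtain ⟨f, rfl⟩ := hx a
      rw [Subgroup.mem_comap, ← pw_eq hY hH]
      exact NN_le (m 1) (m 0) (pw_mem _ _ _)) (m 2)
    rw [← Subgroup.map_comap_eq_self_of_surjective hs K, this, Subgroup.map_top_of_surjective _ hs]
  · intro J _ g π hr hπ hg j
    simp only [List.forall_mem_cons, map_mul, map_inv, FreeGroup.lift_apply_of, mul_inv_eq_one] at hr
    obtain ⟨r2, r3, r5⟩ := hr
    obtain ⟨a1, X, a2, a3, a4⟩ := l3 J g r5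
    have u2 : g 0 ^ 2 = 1 := a3 ▸ a2.pow_char 2
    have t2 : g 2 * g 2 = 1 := by
      have : g 2 = g 0 * g 2 * g 0 * (g 0 * g 2)⁻¹ := by rw [← r3]; simp [mul_assoc]
      rw [← sq, this, conj_pow, u2]; simp
    refine sl2_core ρ hρ π a2 (π_X hx π a2 hY (a3 ▸ hπ 0) a4 (by rw [hπ]; exact hH)) (hπ 1) (hπ 2) a4
      (eq_inv_of_mul_eq_one_left r2) ⟨0, by simpa using t2⟩ (fun a ha => ?_) (fun k hk => ?_) ?_
      (hg ▸ Subgroup.mem_top j)
    · obtain ⟨b, rfl⟩ := FiniteField.isSquare_of_char_two (ringChar.eq F 2) a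
      obtain ⟨k, hk⟩ := sq_pow hζ (left_ne_zero_of_mul ha)
      exact ⟨k, 1, 1, 1, 0, by rw [hk, mul_one, sq], by
        rw [a3, inv_eq_of_mul_eq_one_right t2, r3]; simp⟩
    · rw [MonoidHom.mem_ker, map_zpow, ← orderOf_dvd_iff_zpow_eq_one] at hk
      obtain ⟨c, rfl⟩ := hk
      rw [zpow_mul, zpow_natCast, a1, one_zpow]
    · rintro _ ⟨i, rfl⟩
      fin_cases i
      · exact Or.inr (Or.inr ⟨1, a3.symm⟩)
      · exact Or.inl rfl
      · exact Or.inr (Or.inl rfl)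

theorem HasPres.out {ι : Type*} {x : ι → G} {r : ℕ} (h : HasPres x r) :
    ∃ rels : Finset (FreeGroup ι), rels.card ≤ r ∧ Nonempty (PresentedGroup (rels : Set (FreeGroup ι)) ≃* G) := by
  obtain ⟨rels, h1, e, -⟩ := h
  exact ⟨rels, h1, ⟨e⟩⟩

end Cfsg.Agent.Classical.Pres
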