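import Cfsg.Agent.Lib.Classical.Wt4

/-! Orbits of quadratic forms in characteristic two. -/
set_option autoImplicit false
open Matrix Module

namespace Cfsg.Agent.Classical.Quad2
variable {F : Type*} [Field F] {ι : Type*} [Fintype ι] [DecidableEq ι]

theorem exists_mat2 {u w : Fin 2 → ι → F} (hu : LinearIndependent F u) (hw : LinearIndependent F w) :
    ∃ g : Matrix ι ι F, g.det ≠ 0 ∧ ∀ k, g *ᵥ u k = w k := by
  obtain ⟨e, he⟩ := Wt.exists_equiv_of_li hu hw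
  refine ⟨LinearMap.toMatrix' e.toLinearMap, ?_, fun k => by rw [← toLin'_apply, toLin'_toMatrix']; exact he k⟩
  rw [LinearMap.det_toMatrix']
  exact (LinearEquiv.isUnit_det' e).ne_zero

theorem li_of {V : Type*} [AddCommGroup V] [Module F V] {u w : V} (l l' : V →ₗ[F] F) (h1 : l u ≠ 0) (h2 : l w = 0)
    (h3 : l' u = 0) (h4 : l' w ≠ 0) : LinearIndependent F ![u, w] :=
  LinearIndependent.pair_iff.2 fun s t h => ⟨by simpa [h1, h2] using congrArg l h, by simpa [h3, h4] using congrArg l' h⟩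

theorem card_O2 [Fintype F] [DecidableEq F] [CharP F 2] {a b : F} (ha : a ≠ 0) :
    (Finset.univ.filter fun M : (F × F) × F × F => a * M.1.1 ^ 2 + M.1.1 * M.1.2 + b * M.1.2 ^ 2 = a ∧
      a * M.2.1 ^ 2 + M.2.1 * M.2.2 + b * M.2.2 ^ 2 = b ∧ M.1.1 * M.2.2 + M.1.2 * M.2.1 = 1).card ≤
        2 * (Fintype.card F + 1) := by
  have h2 : (2 : F) = 0 := CharP.cast_eq_zero F 2
  have sq : ∀ x y : F, x ^ 2 = y ^ 2 → x = y := fun x y h => frobenius_inj F 2 h
  refine (Finset.card_le_mul_card_image_of_maps_to (f := Prod.fst) (t := Finset.univ.filter fun u : F × F =>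
    a * u.1 ^ 2 + u.1 * u.2 + b * u.2 ^ 2 = a) (fun M hM => by simp at hM ⊢; exact hM.1) 2 fun u _ => ?_).trans
    (Nat.mul_le_mul_left _ ?_)
  · rcases Finset.eq_empty_or_nonempty ((Finset.univ.filter fun M : (F × F) × F × F =>
      a * M.1.1 ^ 2 + M.1.1 * M.1.2 + b * M.1.2 ^ 2 = a ∧
      a * M.2.1 ^ 2 + M.2.1 * M.2.2 + b * M.2.2 ^ 2 = b ∧ M.1.1 * M.2.2 + M.1.2 * M.2.1 = 1).filter
        fun M => Prod.fst M = u) with e | ⟨M, hM⟩
    · rw [e]; simp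
    refine le_trans (Finset.card_le_card (t := {M, (M.1, M.2 + a⁻¹ • M.1)}) fun N hN => ?_) Finset.card_le_two
    obtain ⟨⟨x, y⟩, z, w⟩ := M
    obtain ⟨⟨x', y'⟩, z', w'⟩ := N
    simp only [Finset.mem_filter, Finset.mem_univ, true_and] at hM hN
    obtain ⟨⟨m1, m2, m3⟩, rfl⟩ := hM
    obtain ⟨⟨-, n2, n3⟩, n4⟩ := hN
    obtain ⟨rfl, rfl⟩ := Prod.ext_iff.1 n4
    obtain ⟨t, rfl, rfl⟩ : ∃ t, z' = z + t * x' ∧ w' = w + t * y' :=
      ⟨w' * z + z' * w, by grind, by grind⟩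
    have : t * (1 + a * t) = 0 := by grind
    rcases mul_eq_zero.1 this with h | h
    · simp [h]
    · have : t = a⁻¹ := by field_simp; grind
      simp [this]
  · rw [← Fintype.card_option, ← Finset.card_univ]
    refine Finset.card_le_card_of_injOn (fun u => if u.2 = 0 then none else some (u.1 / u.2)) (by simp) ?_
    rintro ⟨x, y⟩ h ⟨x', y'⟩ h' e
    simp only [Finset.coe_filter, Finset.mem_univ, true_and, Set.mem_ofPred_eq] at h h' e
    split_ifs at e with c c' c'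
    · subst c c'
      rw [sq x x' (mul_left_cancel₀ ha (by linear_combination h - h'))]
    · obtain ⟨r, rfl⟩ : ∃ r, x = r * y := ⟨x / y, by field_simp⟩
      obtain ⟨r', rfl⟩ : ∃ r, x' = r * y' := ⟨x' / y', by field_simp⟩
      rw [mul_div_cancel_right₀ _ c, mul_div_cancel_right₀ _ c', Option.some.injEq] at e
      subst e
      have : a * r ^ 2 + r + b ≠ 0 := fun e => ha (by linear_combination y ^ 2 * e - h)
      rw [sq y y' (mul_left_cancel₀ this (by linear_combination h - h'))]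

theorem li01 {m : ℕ} : LinearIndependent F ![(Pi.single 0 1 : Fin (m + 2) → F), Pi.single 1 1] :=
  li_of (LinearMap.proj 0) (LinearMap.proj 1) (by simp) (by simp) (by simp) (by simp)

theorem fiber [Fintype F] [DecidableEq F] [CharP F 2] {m : ℕ} {a b : F} (ha : a ≠ 0) (u : Fin 2 → Fin (m + 2) → F)
    (hu : LinearIndependent F u) (T : Finset (Fin 2 → Fin (m + 2) → F))
    (hT : ∀ u' ∈ T, ∀ v, a * (u' 0 ⬝ᵥ v) ^ 2 + (u' 0 ⬝ᵥ v) * (u' 1 ⬝ᵥ v) + b * (u' 1 ⬝ᵥ v) ^ 2 =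
      a * (u 0 ⬝ᵥ v) ^ 2 + (u 0 ⬝ᵥ v) * (u 1 ⬝ᵥ v) + b * (u 1 ⬝ᵥ v) ^ 2) : T.card ≤ 2 * (Fintype.card F + 1) := by
  have h2 : (2 : F) = 0 := CharP.cast_eq_zero F 2
  obtain ⟨g, -, e⟩ := exists_mat2 hu li01
  have d : ∀ k i, u k ⬝ᵥ g i = (g *ᵥ u k) i := fun k i => dotProduct_comm _ _
  have d00 : u 0 ⬝ᵥ g 0 = 1 := by rw [d, e]; simp
  have d01 : u 0 ⬝ᵥ g 1 = 0 := by rw [d, e]; simp
  have d10 : u 1 ⬝ᵥ g 0 = 0 := by rw [d, e]; simp
  have d11 : u 1 ⬝ᵥ g 1 = 1 := by rw [d, e]; simp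
  have p : ∀ u' ∈ T, ∀ v w,
      u' 0 ⬝ᵥ v * (u' 1 ⬝ᵥ w) + u' 1 ⬝ᵥ v * (u' 0 ⬝ᵥ w) = u 0 ⬝ᵥ v * (u 1 ⬝ᵥ w) + u 1 ⬝ᵥ v * (u 0 ⬝ᵥ w) :=
    fun u' h v w => by
      have x := hT u' h (v + w)
      simp only [dotProduct_add] at x
      linear_combination x - hT u' h v - hT u' h w - (a * (u' 0 ⬝ᵥ v * (u' 0 ⬝ᵥ w) - u 0 ⬝ᵥ v * (u 0 ⬝ᵥ w)) +
        b * (u' 1 ⬝ᵥ v * (u' 1 ⬝ᵥ w) - u 1 ⬝ᵥ v * (u 1 ⬝ᵥ w))) * h2
  refine le_trans (Finset.card_le_card_of_injOn (fun u' => ((u' 0 ⬝ᵥ g 0, u' 1 ⬝ᵥ g 0), u' 0 ⬝ᵥ g 1, u' 1 ⬝ᵥ g 1))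
    (fun u' hu' => ?_) fun u' hu' u'' hu'' h => ?_) (card_O2 (b := b) ha)
  · have x := hT u' hu' (g 0)
    have y := hT u' hu' (g 1)
    have z := p u' hu' (g 0) (g 1)
    rw [d00, d10] at x z
    rw [d01, d11] at y z
    simp only [Finset.coe_filter, Finset.mem_univ, true_and, Set.mem_ofPred_eq]
    exact ⟨by linear_combination x, by linear_combination y, by linear_combination z⟩
  · simp only [Prod.mk.injEq] at h
    obtain ⟨⟨h1, h3⟩, h4, h5⟩ := h
    have c := p u' hu' (g 0) (g 1)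
    rw [d00, d10, d01, d11] at c
    have k : ∀ j, u' 0 j = u'' 0 j ∧ u' 1 j = u'' 1 j := fun j => by
      have a0 := (p u' hu' (g 0) (Pi.single j 1)).trans (p u'' hu'' _ _).symm
      have a1 := (p u' hu' (g 1) (Pi.single j 1)).trans (p u'' hu'' _ _).symm
      simp only [dotProduct_single, mul_one, ← h1, ← h3, ← h4, ← h5] at a0 a1
      generalize u' 0 ⬝ᵥ g 0 = x, u' 1 ⬝ᵥ g 0 = y, u' 0 ⬝ᵥ g 1 = z, u' 1 ⬝ᵥ g 1 = w at c a0 a1
      constructor
      · linear_combination (-(u' 0 j - u'' 0 j)) * c - z * a0 + x * a1 + y * z * (u' 0 j - u'' 0 j) * h2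
      · linear_combination (-(u' 1 j - u'' 1 j)) * c + w * a0 - y * a1 + y * z * (u' 1 j - u'' 1 j) * h2
    funext i j
    fin_cases i
    exacts [(k j).1, (k j).2]

theorem orbitA [Fintype F] [CharP F 2] {m : ℕ} {a b : F} (ha : a ≠ 0) {w : Fin 2 → Fin (m + 2) → F}
    (hw : LinearIndependent F w) (O : Finset ((Fin (m + 2) → F) → F))
    (hO : ∀ g : Matrix (Fin (m + 2)) (Fin (m + 2)) F, det g ≠ 0 → (fun v => a * (w 0 ⬝ᵥ g *ᵥ v) ^ 2 +
      (w 0 ⬝ᵥ g *ᵥ v) * (w 1 ⬝ᵥ g *ᵥ v) + b * (w 1 ⬝ᵥ g *ᵥ v) ^ 2) ∈ O) :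
    (Fintype.card F ^ (m + 2) - 1) * (Fintype.card F ^ (m + 2) - Fintype.card F) ≤
      2 * (Fintype.card F + 1) * O.card := by
  classical
  have : (Finset.univ.filter fun u : Fin 2 → Fin (m + 2) → F => LinearIndependent F u).card ≤
      2 * (Fintype.card F + 1) * O.card := by
    refine Finset.card_le_mul_card_image_of_maps_to (f := fun u v =>
      a * (u 0 ⬝ᵥ v) ^ 2 + (u 0 ⬝ᵥ v) * (u 1 ⬝ᵥ v) + b * (u 1 ⬝ᵥ v) ^ 2) (fun u hu => ?_) _ fun R _ => ?_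
    · obtain ⟨g, hg, e⟩ := exists_mat2 hw (Finset.mem_filter.1 hu).2
      simpa only [dotProduct_mulVec, vecMul_transpose, e] using hO gᵀ (by rwa [det_transpose])
    · refine (Finset.eq_empty_or_nonempty _).elim (fun e => (Finset.card_eq_zero.2 e).le.trans (Nat.zero_le _))
        fun ⟨u, hu⟩ => ?_
      simp only [Finset.mem_filter, Finset.mem_univ, true_and] at hu
      exact fiber ha u hu.1 _ fun u' h => congrFun ((Finset.mem_filter.1 h).2.trans hu.2.symm)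
  rw [← Fintype.card_subtype, ← Nat.card_eq_fintype_card, card_linearIndependent (by simp)] at this
  simpa [Fin.prod_univ_two] using this

theorem orbitB [Fintype F] [DecidableEq F] {m : ℕ} (Q : (Fin (m + 2) → F) → F) (B : LinearMap.BilinForm F (Fin (m + 2) → F))
    (hQ : ∀ u v, Q (u + v) = Q u + Q v + B u v) (sy : ∀ u v, B u v = B v u) (al : ∀ u, B u u = 0)
    (h : ∀ a b r : F, r ≠ 0 → ∃ p0 p1, Q p0 = a ∧ Q p1 = b ∧ B p0 p1 = r) (O : Finset ((Fin (m + 2) → F) → F))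
    (hO : ∀ g : Matrix (Fin (m + 2)) (Fin (m + 2)) F, det g ≠ 0 → (fun v => Q (g *ᵥ v)) ∈ O) :
    ((Finset.univ : Finset (F × F × (Fin m → F) × (Fin m → F))) ×ˢ (Finset.univ : Finset Fˣ)).card ≤ O.card := by
  classical
  have pol : ∀ (g : Matrix (Fin (m + 2)) (Fin (m + 2)) F) u v,
      Q (g *ᵥ (u + v)) - Q (g *ᵥ u) - Q (g *ᵥ v) = B (g *ᵥ u) (g *ᵥ v) := fun g u v => by rw [mulVec_add, hQ]; ring
  let P : ((Fin (m + 2) → F) → F) → Fin (m + 2) → Fin (m + 2) → F := fun R i j =>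
    R (Pi.single i 1 + Pi.single j 1) - R (Pi.single i 1) - R (Pi.single j 1)
  refine Finset.card_le_card_of_surjOn (fun R => ((R (Pi.single 0 1), R (Pi.single 1 1),
    fun j => P R 0 j.succ.succ, fun j => P R 1 j.succ.succ), if h : P R 0 1 = 0 then 1 else Units.mk0 _ h)) ?_
  rintro ⟨⟨a, b, c, d⟩, r⟩ -
  have hr := r.ne_zero
  obtain ⟨p0, p1, a0, a1, a2⟩ := h a b r hr
  obtain ⟨g, hg, e⟩ := exists_mat2 li01 (li_of (u := p0) (w := p1) (B p1) (B p0) (by rwa [sy, a2]) (al _) (al _)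
    (by rwa [a2]))
  have e0 : g *ᵥ Pi.single 0 1 = p0 := e 0
  have e1 : g *ᵥ Pi.single 1 1 = p1 := e 1
  obtain ⟨x, x0, x1, x2⟩ : ∃ x : Fin (m + 2) → F, x 0 = 0 ∧ x 1 = 0 ∧
      ∀ j : Fin m, x j.succ.succ = (d j - B p1 (g *ᵥ Pi.single j.succ.succ 1)) / r :=
    ⟨Fin.cons 0 (Fin.cons 0 fun j => (d j - B p1 (g *ᵥ Pi.single j.succ.succ 1)) / r), rfl, rfl, fun _ => rfl⟩
  obtain ⟨y, y0, y1, y2⟩ : ∃ y : Fin (m + 2) → F, y 0 = 0 ∧ y 1 = 0 ∧
      ∀ j : Fin m, y j.succ.succ = (c j - B p0 (g *ᵥ Pi.single j.succ.succ 1)) / r :=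
    ⟨Fin.cons 0 (Fin.cons 0 fun j => (c j - B p0 (g *ᵥ Pi.single j.succ.succ 1)) / r), rfl, rfl, fun _ => rfl⟩
  obtain ⟨G, hd, hG⟩ : ∃ G : Matrix (Fin (m + 2)) (Fin (m + 2)) F, G.det ≠ 0 ∧
      ∀ j, G *ᵥ Pi.single j 1 = g *ᵥ Pi.single j 1 + x j • p0 + y j • p1 := by
    refine ⟨g * ((1 + vecMulVec (Pi.single 0 1) x) * (1 + vecMulVec (Pi.single 1 1) y)),
      by simp [Wt.det_one_add_vv, x0, y1, hg], fun j => ?_⟩
    simp only [← mulVec_mulVec, add_mulVec, one_mulVec, vecMulVec_mulVec, dotProduct_single, mul_one,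
      op_smul_eq_smul, mulVec_add, mulVec_smul, e0, e1, x1, dotProduct_add, dotProduct_smul, smul_zero, add_zero]
    simp [add_assoc]
  refine ⟨_, hO G hd, ?_⟩
  simp only [P, pol, hG, x0, x1, y0, y1, zero_smul, add_zero, e0, e1, a0, a1, a2, Prod.mk.injEq, true_and,
    dif_neg hr, Units.mk0_val, and_true]
  constructor <;> ext j <;> simp [al, a2, sy p1 p0, x2, y2, hr]

theorem orbit [Fintype F] [CharP F 2] {m : ℕ} (Q : (Fin (m + 2) → F) → F) (B : LinearMap.BilinForm F (Fin (m + 2) → F))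
    (hQ : ∀ u v, Q (u + v) = Q u + Q v + B u v) (hs : ∀ c v, Q (c • v) = c ^ 2 * Q v) {e0 e1 : Fin (m + 2) → F}
    (h01 : B e0 e1 = 1) (O : Finset ((Fin (m + 2) → F) → F))
    (hO : ∀ g : Matrix (Fin (m + 2)) (Fin (m + 2)) F, det g ≠ 0 → (fun v => Q (g *ᵥ v)) ∈ O) :
    (Fintype.card F ^ (m + 2) - 1) * (Fintype.card F ^ (m + 2) - Fintype.card F) ≤
      2 * (Fintype.card F + 1) * O.card := by
  classical
  have h2 : (2 : F) = 0 := CharP.cast_eq_zero F 2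
  have sy : ∀ u v, B u v = B v u := fun u v => by
    have := hQ u v; rw [add_comm u, hQ] at this; linear_combination -this
  have al : ∀ u, B u u = 0 := fun u => by
    have := hQ u u; rw [← two_smul F, hs] at this; linear_combination Q u * h2 - this
  obtain ⟨f0, f1, h0, h1⟩ : ∃ f0 f1, Q f0 ≠ 0 ∧ B f0 f1 = 1 := by
    by_cases a : Q e0 = 0
    · by_cases b : Q e1 = 0
      · exact ⟨e0 + e1, e1, by simp [hQ, a, b, h01], by simp [h01, al]⟩
      · exact ⟨e1, e0, b, (sy _ _).trans h01⟩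
    · exact ⟨e0, e1, a, h01⟩
  have h1' := (sy _ _).trans h1
  by_cases hA : ∀ v, Q (v + B f1 v • f0 + B f0 v • f1) = 0
  · have dec : ∀ v, Q v = Q f0 * B f1 v ^ 2 + B f1 v * B f0 v + Q f1 * B f0 v ^ 2 := fun v => by
      have := hA v
      simp only [hQ, hs, map_add, map_smul, LinearMap.add_apply, LinearMap.smul_apply, smul_eq_mul, h1, sy v] at this
      linear_combination this - (Q f0 * B f1 v ^ 2 + 2 * B f1 v * B f0 v + Q f1 * B f0 v ^ 2) * h2
    have k : ∀ f v, (fun j => B f (Pi.single j 1)) ⬝ᵥ v = B f v := fun f v => by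
      conv_rhs => rw [pi_eq_sum_univ' v]
      simp [dotProduct, mul_comm]
    refine orbitA (b := Q f1) h0 (li_of (u := fun j => B f1 (Pi.single j 1)) (w := fun j => B f0 (Pi.single j 1))
      (dotProductBilin F F f0) (dotProductBilin F F f1) (by simp [dotProduct_comm f0, k, h1'])
      (by simp [dotProduct_comm f0, k, al]) (by simp [dotProduct_comm f1, k, al])
      (by simp [dotProduct_comm f1, k, h1])) O fun g hg => ?_
    convert hO g hg using 2 with v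
    rw [dec (g *ᵥ v), ← k f1 (g *ᵥ v), ← k f0 (g *ᵥ v)]; rfl
  · push Not at hA
    obtain ⟨w, hw, w0, w1⟩ : ∃ w, Q w ≠ 0 ∧ B f0 w = 0 ∧ B f1 w = 0 := by
      obtain ⟨v, hv⟩ := hA
      exact ⟨_, hv, by simp [al, h1, ← two_mul, h2], by simp [al, h1', ← two_mul, h2]⟩
    have rt : ∀ c : F, ∃ s, s ^ 2 = c := fun c => (bijective_frobenius F 2).2 c
    have := orbitB Q B hQ sy al (fun a b r hr => by
      obtain ⟨s, hs1⟩ := rt ((a - Q f0) / Q w)
      obtain ⟨t, ht1⟩ := rt ((b - r ^ 2 * Q f1) / Q w)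
      exact ⟨f0 + s • w, r • f1 + t • w, by simp [hQ, hs, hs1, hw, w0], by simp [hQ, hs, ht1, hw, w1],
          by simp [h1, w0, sy w f1, w1, al]⟩) O hO
    simp only [Finset.card_product, Finset.card_univ, Fintype.card_prod, Fintype.card_fun, Fintype.card_fin,
      Fintype.card_units] at this
    refine le_trans ?_ (Nat.mul_le_mul_left _ this)
    obtain ⟨k, hk⟩ : ∃ k, Fintype.card F = k + 2 := ⟨_, (Nat.sub_add_cancel Fintype.one_lt_card).symm⟩
    rw [hk, pow_add, show k + 2 - 1 = k + 1 from rfl]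
    generalize (k + 2) ^ m = t
    refine (Nat.mul_le_mul (Nat.sub_le _ _) (Nat.sub_le _ _)).trans ?_
    have : (k + 2) ^ 2 ≤ 2 * (k + 2 + 1) * (k + 1) := by nlinarith
    calc _ = (k + 2) ^ 2 * ((k + 2) ^ 2 * t * t) := by ring
      _ ≤ _ := Nat.mul_le_mul_right _ this
      _ = _ := by ring

variable {n : ℕ}

def sm (l : Fin n × Fin n → F) : Matrix (Fin n) (Fin n) F := of fun i j => if i ≤ j then l (i, j) else l (j, i)

theorem sm_symm (l : Fin n × Fin n → F) : (sm l)ᵀ = sm l := by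
  ext i j
  rcases lt_trichotomy i j with h | rfl | h
  · simp [sm, h.le, h.not_ge]
  · rfl
  · simp [sm, h.le, h.not_ge]

theorem sm_of {S : Matrix (Fin n) (Fin n) F} (h : Sᵀ = S) : sm (fun p => S p.1 p.2) = S := by
  ext i j
  simp only [sm, of_apply]
  split_ifs
  · rfl
  · exact congrFun (congrFun h i) j

def xs (l : Fin n × Fin n → F) : symplecticGroup (Fin n) F :=
  ⟨fromBlocks 1 0 (sm l) 1, SymplecticGroup.fromBlocks_mem_iff.2 ⟨by simp [sm_symm], by simp, by simp⟩⟩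

theorem xs_mul (v w : Fin n × Fin n → F) : xs v * xs w = xs (v + w) := by
  apply Subtype.ext
  change fromBlocks _ _ _ _ * fromBlocks _ _ _ _ = fromBlocks _ _ _ _
  rw [fromBlocks_multiply]
  simp
  ext i j; simp only [sm, Matrix.add_apply, of_apply, Pi.add_apply]; split_ifs <;> rfl

theorem xs_lev (g : Matrix (Fin n) (Fin n) F) (hg : g.det ≠ 0) (l : Fin n × Fin n → F) :
    xs l * Weil.lev g hg = Weil.lev g hg * xs fun p => (g * sm l * gᵀ) p.1 p.2 := by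
  apply Subtype.ext
  change fromBlocks _ _ _ _ * fromBlocks _ _ _ _ = fromBlocks _ _ _ _ * fromBlocks _ _ _ _
  rw [fromBlocks_multiply, fromBlocks_multiply, sm_of (by simp [sm_symm, Matrix.mul_assoc]), Matrix.mul_assoc,
    nonsing_inv_mul_cancel_left _ _ (Ne.isUnit hg)]
  simp

theorem lower [Fintype F] [DecidableEq F] [CharP F 2] {m k : ℕ} (hm : 1 ≤ m ∨ 3 ≤ Fintype.card F)
    (ρ : Representation ℂ (symplecticGroup (Fin (m + 2)) F) (Fin k → ℂ)) (hρ : ρ.IsIrreducible) (hk : 2 ≤ k) :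
    (Fintype.card F ^ (m + 2) - 1) * (Fintype.card F ^ (m + 2) - Fintype.card F) ≤ 2 * (Fintype.card F + 1) * k := by
  classical
  have hp := symp_perfect_fin (spForm_nondeg (F := F) (m + 2))
    (hm.imp (fun h => by simp; omega) fun h => .inl ⟨by simp; omega, h⟩)
  haveI := Form.symp_simple (spForm_nondeg (F := F) (m + 2)) (by simp) hp
  let vv : (Fin (m + 2) → F) → (Fin (m + 2) → F) → Fin (m + 2) × Fin (m + 2) → F := fun u v p => u p.1 * v p.2
  let l := vv (Pi.single 0 1) (Pi.single 1 1) + vv (Pi.single 1 1) (Pi.single 0 1)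
  have hc : ∀ a b : _ → F, Commute (xs (n := m + 2) a) (xs b) := fun a b => by
    change _ * _ = _ * _
    rw [xs_mul, xs_mul, add_comm a b]
  obtain ⟨χ, hχ, h1⟩ := Wt.WS.exists hc (Wt.ne_one_of (spEquiv _ F) hp ρ hρ hk (x := xs l)
    (y := ⟨J _ F, SymplecticGroup.J_mem _ _⟩) fun h => by
      have h3 := congrArg Subtype.val h
      change fromBlocks _ _ _ _ * fromBlocks _ _ _ _ = fromBlocks _ _ _ _ * fromBlocks _ _ _ _ at h3
      rw [fromBlocks_multiply, fromBlocks_multiply] at h3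
      simpa [sm, l, vv] using congrFun (congrFun h3 (.inl 0)) (.inl 1))
  have hχm : ∀ a b, χ a * χ b = χ (a + b) := fun a b => Wt.WS.mul hχ (xs_mul a b)
  let ψ : F → ℂ := fun t => χ (t • l)
  have hψm : ∀ a b, ψ a * ψ b = ψ (a + b) := fun a b => by simp only [ψ, hχm, add_smul]
  have hψ0 : ∀ a, ψ a ≠ 0 := fun a => Wt.WS.ne hχ _
  have hψ1 : ∃ t, ψ t ≠ 1 := ⟨1, by simpa [ψ] using h1⟩
  obtain ⟨a, ha⟩ := Wt.char_dual hψm hψ0 hψ1 hχm (Wt.WS.ne hχ)
  let A : Matrix (Fin (m + 2)) (Fin (m + 2)) F := of fun i j => a (i, j)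
  have hA : ∀ u v, a ⬝ᵥ vv u v = u ⬝ᵥ A *ᵥ v := fun u v => by
    simp only [dotProduct, mulVec, Fintype.sum_prod_type, Finset.mul_sum, A, vv, of_apply]
    exact Finset.sum_congr rfl fun i _ => Finset.sum_congr rfl fun j _ => by ring
  have sw : ∀ u v, u ⬝ᵥ Aᵀ *ᵥ v = v ⬝ᵥ A *ᵥ u := fun u v => by rw [mulVec_transpose, dotProduct_comm, dotProduct_mulVec]
  let T := Finset.univ.filter fun g : Matrix (Fin (m + 2)) (Fin (m + 2)) F => g.det ≠ 0
  refine (orbit (fun v => v ⬝ᵥ A *ᵥ v) (toBilin' (A + Aᵀ)) (fun u v => ?_) (fun c v => ?_) (e0 := Pi.single 0 1)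
    (e1 := Pi.single 1 1) ?_ (T.image fun g v => (g *ᵥ v) ⬝ᵥ A *ᵥ (g *ᵥ v))
    fun g hg => Finset.mem_image_of_mem _ (by simpa [T] using hg)).trans (Nat.mul_le_mul_left _ ?_)
  · simp only [toBilin'_apply', add_mulVec, mulVec_add, add_dotProduct, dotProduct_add, sw]; ring
  · simp only [mulVec_smul, smul_dotProduct, dotProduct_smul, smul_eq_mul]; ring
  · rw [toBilin'_apply', add_mulVec, dotProduct_add, sw, ← hA, ← hA, ← dotProduct_add]
    refine Wt.psi_scal hψm hψ0 hψ1 fun t => ?_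
    rw [one_mul, mul_comm, ← smul_eq_mul, ← dotProduct_smul, ← ha]
  have := Wt.WS.sum_le (ρ := ρ) hc (T.image fun g => χ ∘ fun l p => (g * sm l * gᵀ) p.1 p.2) ⊤ (r := 1)
    (fun _ _ => le_top) fun χ' h => by
      obtain ⟨g, hg, rfl⟩ := Finset.mem_image.1 h
      exact le_trans (Submodule.one_le_finrank_iff.2 hχ) (Wt.WS.act _ _ (xs_lev g (by simpa [T] using hg)) χ)
  simp only [mul_one, finrank_top, finrank_fin_fun] at this
  refine le_trans (Finset.card_le_card_of_forall_subsingleton (fun R χ' => ∀ v t, χ' (t • vv v v) = ψ (R v * t))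
    (fun R hR => ?_) fun χ' _ R hR R' hR' => funext fun v => Wt.psi_scal hψm hψ0 hψ1 fun t => by
      rw [← hR.2 v t, ← hR'.2 v t]) this
  obtain ⟨g, hg, rfl⟩ := Finset.mem_image.1 hR
  refine ⟨_, Finset.mem_image_of_mem _ hg, fun v t => ?_⟩
  have e : sm (t • vv v v) = t • vecMulVec v v := sm_of (S := t • vecMulVec v v) (by simp)
  rw [Function.comp_apply, e, Matrix.mul_smul, Matrix.smul_mul, mul_vecMulVec, vecMulVec_mul, vecMul_transpose, ha]
  beta_reduce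
  rw [← hA, mul_comm, ← smul_eq_mul, ← dotProduct_smul]
  rfl

end Cfsg.Agent.Classical.Quad2
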