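import Mathlib
import Cfsg.Agent.Lib.Classical.Zsig

namespace Cfsg.Agent.Classical.Singer
open Module

variable (F K : Type*) [Field F] [Field K] [Algebra F K]

/-- the Singer embedding -/
noncomputable abbrev lm : Kˣ →* (Module.End F K)ˣ :=
  Units.map ((Algebra.lmul F K : K →ₐ[F] Module.End F K) : K →* Module.End F K)

variable {F K}

theorem lm_apply (c : Kˣ) (x : K) : ((lm F K c : (End F K)ˣ) : End F K) x = c * x := rfl

theorem lm_inj : Function.Injective (lm F K) := by
  intro a b h
  have := congrArg (fun u : (End F K)ˣ => (u : End F K) 1) h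
  simp only [lm_apply, mul_one] at this
  exact Units.ext this

theorem unit_ne_zero (g : (End F K)ˣ) {x : K} (hx : x ≠ 0) : (g : End F K) x ≠ 0 := by
  intro h
  apply hx
  have : ((g⁻¹ * g : (End F K)ˣ) : End F K) x = x := by simp
  rw [← this, Units.val_mul, End.mul_apply, h, map_zero]

theorem mem_range_iff (g : (End F K)ˣ) : g ∈ (lm F K).range ↔ ∀ k x : K, (g : End F K) (k * x) = k * (g : End F K) x := by
  constructor
  · rintro ⟨c, rfl⟩ k x
    simp only [lm_apply]; ring
  · intro h
    refine ⟨Units.mk0 _ (unit_ne_zero g one_ne_zero), Units.ext (LinearMap.ext fun x => ?_)⟩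
    rw [lm_apply]
    have := h x 1
    rw [mul_one] at this
    rw [this, Units.val_mk0, mul_comm]

theorem centralizer_eq : Subgroup.centralizer (((lm F K).range : Subgroup (End F K)ˣ) : Set (End F K)ˣ) = (lm F K).range := by
  ext g
  rw [mem_range_iff, Subgroup.mem_centralizer_iff]
  constructor
  · intro h k x
    by_cases hk : k = 0
    · simp [hk]
    · have := h (lm F K (Units.mk0 k hk)) ⟨_, rfl⟩
      exact (congrArg (fun u : (End F K)ˣ => (u : End F K) x) this).symm
  · rintro h _ ⟨c, rfl⟩
    exact Units.ext (LinearMap.ext fun x => (h c x).symm)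

theorem card_range [Fintype K] : Nat.card (lm F K).range = Fintype.card K - 1 := by
  classical
  rw [← Nat.card_congr (MonoidHom.ofInjective (lm_inj (F := F) (K := K))).toEquiv, Nat.card_units, Nat.card_eq_fintype_card]

/-- the semilinear map `x ↦ c σ(x)` -/
noncomputable def semi (σ : K ≃ₐ[F] K) (c : Kˣ) : (End F K)ˣ :=
  lm F K c * (LinearMap.GeneralLinearGroup.generalLinearEquiv F K).symm σ.toLinearEquiv

theorem semi_apply (σ : K ≃ₐ[F] K) (c : Kˣ) (x : K) : (semi σ c : End F K) x = c * σ x := rfl

theorem semi_mem (σ : K ≃ₐ[F] K) (c : Kˣ) :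
    semi σ c ∈ Subgroup.normalizer (((lm F K).range : Subgroup (End F K)ˣ) : Set (End F K)ˣ) := by
  rw [Subgroup.mem_normalizer_iff]
  have key : ∀ d : Kˣ, semi σ c * lm F K d * (semi σ c)⁻¹ = lm F K (Units.map (σ : K →* K) d) := by
    intro d
    rw [mul_inv_eq_iff_eq_mul]
    refine Units.ext (LinearMap.ext fun x => ?_)
    simp only [Units.val_mul, End.mul_apply, semi_apply, lm_apply, map_mul]
    simp; ring
  intro h
  constructor
  · rintro ⟨d, rfl⟩
    exact ⟨_, (key d).symm⟩
  · rintro ⟨d, hd⟩
    refine ⟨Units.map (σ.symm : K →* K) d, ?_⟩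
    have := key (Units.map (σ.symm : K →* K) d)
    have h2 : Units.map (σ : K →* K) (Units.map (σ.symm : K →* K) d) = d := by ext; simp
    rw [h2, hd] at this
    simpa using this

theorem exists_semi [Finite K] (g : (End F K)ˣ)
    (hg : g ∈ Subgroup.normalizer (((lm F K).range : Subgroup (End F K)ˣ) : Set (End F K)ˣ)) :
    ∃ σ c, g = semi σ c := by
  have h1 : (g : End F K) 1 ≠ 0 := unit_ne_zero g one_ne_zero
  have key : ∀ k x : K, (g : End F K) (k * x) = ((g : End F K) k * ((g : End F K) 1)⁻¹) * (g : End F K) x := by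
    intro k x
    by_cases hk : k = 0
    · simp [hk]
    obtain ⟨d, hd⟩ := (Subgroup.mem_normalizer_iff.1 hg (lm F K (Units.mk0 k hk))).1 ⟨_, rfl⟩
    rw [eq_mul_inv_iff_mul_eq] at hd
    have h2 : ∀ y, (d : K) * (g : End F K) y = (g : End F K) (k * y) := fun y =>
      congrArg (fun u : (End F K)ˣ => (u : End F K) y) hd
    have h3 := h2 1
    rw [mul_one] at h3
    rw [← h2, ← h3]; field_simp
  let s : K →ₐ[F] K :=
    { toFun := fun x => (g : End F K) x * ((g : End F K) 1)⁻¹
      map_one' := mul_inv_cancel₀ h1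
      map_mul' := fun x y => by rw [key]; ring
      map_zero' := by simp
      map_add' := fun x y => by rw [map_add, add_mul]
      commutes' := fun r => by
        rw [Algebra.algebraMap_eq_smul_one, map_smul, smul_mul_assoc, mul_inv_cancel₀ h1] }
  refine ⟨AlgEquiv.ofBijective s (Finite.injective_iff_bijective.1 s.injective), Units.mk0 _ h1,
    Units.ext (LinearMap.ext fun x => ?_)⟩
  rw [semi_apply]
  change _ = (g : End F K) 1 * ((g : End F K) x * ((g : End F K) 1)⁻¹)
  field_simp

theorem card_normalizer [Finite F] [Fintype K] :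
    Nat.card (Subgroup.normalizer (((lm F K).range : Subgroup (End F K)ˣ) : Set (End F K)ˣ)) =
      finrank F K * (Fintype.card K - 1) := by
  let φ : (K ≃ₐ[F] K) × Kˣ → Subgroup.normalizer (((lm F K).range : Subgroup (End F K)ˣ) : Set (End F K)ˣ) :=
    fun p => ⟨semi p.1 p.2, semi_mem _ _⟩
  have hφ : Function.Bijective φ := by
    constructor
    · rintro ⟨σ, c⟩ ⟨τ, d⟩ h
      have h1 : ∀ x, (c : K) * σ x = d * τ x := fun x =>
        congrArg (fun u : Subgroup.normalizer (((lm F K).range : Subgroup (End F K)ˣ) : Set (End F K)ˣ) =>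
          ((u : (End F K)ˣ) : End F K) x) h
      have h2 : c = d := by
        have := h1 1
        simp only [map_one, mul_one] at this
        exact Units.ext this
      subst h2
      refine Prod.ext (AlgEquiv.ext fun x => mul_left_cancel₀ c.ne_zero (h1 x)) rfl
    · rintro ⟨g, hg⟩
      obtain ⟨σ, c, rfl⟩ := exists_semi g hg
      exact ⟨(σ, c), rfl⟩
  rw [← Nat.card_congr (Equiv.ofBijective φ hφ), Nat.card_prod, IsGalois.card_aut_eq_finrank, Nat.card_units,
    Nat.card_eq_fintype_card]

end Cfsg.Agent.Classical.Singer
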