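import Cfsg.Agent.Lib.Classical.Small1

/-! Elements of `PSL₃(4)`. -/
set_option autoImplicit false
open Matrix

namespace Cfsg.Agent.Classical.Pres
variable {F : Type*} [Field F]

theorem four_cases [Fintype F] (hF : Fintype.card F = 4) :
    (2 : F) = 0 ∧ ∃ ω : F, ω ^ 2 = ω + 1 ∧ ∀ a : F, a = 0 ∨ a = 1 ∨ a = ω ∨ a = ω + 1 := by
  have h2 : (2 : F) = 0 := by
    have := FiniteField.cast_card_eq_zero F
    rw [hF, show ((4 : ℕ) : F) = 2 * 2 by norm_num] at this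
    exact mul_self_eq_zero.1 this
  obtain ⟨ζ, h1, h3⟩ := exists_gen F
  have h4 : ∀ a : F, a ^ 4 = a := fun a => hF ▸ FiniteField.pow_card a
  have h5 : (ζ : F) ≠ 1 := fun h => by
    rw [show ζ = 1 from Units.ext h, orderOf_one, hF] at h3; omega
  have h6 : (ζ : F) ^ 2 = ζ + 1 := by
    have : (ζ : F) * (ζ - 1) * (ζ ^ 2 - ζ - 1) = 0 := by linear_combination h4 ζ + (ζ - (ζ : F) ^ 3) * h2
    exact sub_eq_zero.1 (by simpa [sub_sub, sub_ne_zero.2 h5] using this)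
  refine ⟨h2, ζ, h6, fun a => ?_⟩
  have : a * (a - 1) * (a - ζ) * (a - (ζ + 1)) = 0 := by
    have := h4 a
    grind
  simpa [sub_eq_zero, or_assoc] using this

theorem cayley3 (A : Matrix (Fin 3) (Fin 3) F) : ∃ t s : F, A ^ 3 = t • A ^ 2 + s • A + A.det • 1 := by
  refine ⟨A 0 0 + A 1 1 + A 2 2, -(A 0 0 * A 1 1 - A 0 1 * A 1 0 + A 0 0 * A 2 2 - A 0 2 * A 2 0 + A 1 1 * A 2 2 -
    A 1 2 * A 2 1), ?_⟩
  ext i j
  fin_cases i <;> fin_cases j <;> simp [pow_succ, mul_apply, Fin.sum_univ_three, det_fin_three] <;> ring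

theorem psl34_pow [Fintype F] (hF : Fintype.card F = 4) (g : ProjectiveSpecialLinearGroup (Fin 3) F) :
    g ^ 3 = 1 ∨ g ^ 4 = 1 ∨ g ^ 5 = 1 ∨ g ^ 7 = 1 := by
  obtain ⟨A, rfl⟩ := QuotientGroup.mk_surjective g
  obtain ⟨h2, ω, h3, h4⟩ := four_cases hF
  obtain ⟨t, s, e3⟩ := cayley3 A.1
  rw [A.2, one_smul] at e3
  have st : ∀ (k : ℕ) (a b c : F), A.1 ^ k = a • A.1 ^ 2 + b • A.1 + c • 1 →
      A.1 ^ (k + 1) = (t * a + b) • A.1 ^ 2 + (s * a + c) • A.1 + a • 1 := fun k a b c h => by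
    rw [pow_succ, h, add_mul, add_mul, smul_mul_assoc, smul_mul_assoc, smul_mul_assoc, ← pow_succ, e3, ← sq, one_mul]
    module
  have fin : ∀ (k : ℕ) (a b c : F), A.1 ^ k = a • A.1 ^ 2 + b • A.1 + c • 1 → a = 0 ∧ b = 0 →
      (A : ProjectiveSpecialLinearGroup (Fin 3) F) ^ k = 1 := fun k a b c h h' => by
    rw [h'.1, h'.2, zero_smul, zero_smul, zero_add, zero_add] at h
    rw [← QuotientGroup.mk_pow, QuotientGroup.eq_one_iff, Subgroup.mem_center_iff]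
    intro B
    apply Subtype.ext
    show B.1 * A.1 ^ k = A.1 ^ k * B.1
    simp [h]
  have e3' : A.1 ^ 3 = t • A.1 ^ 2 + s • A.1 + (1 : F) • 1 := by rw [e3, one_smul]
  have e4 := st _ _ _ _ e3'
  have e5 := st _ _ _ _ e4
  have e7 := st _ _ _ _ (st _ _ _ _ e5)
  have k3 := fin _ _ _ _ e3'
  have k4 := fin _ _ _ _ e4
  have k5 := fin _ _ _ _ e5
  have k7 := fin _ _ _ _ e7
  clear e3 e3' e4 e5 e7 st fin
  rcases h4 t with rfl | rfl | rfl | rfl <;> rcases h4 s with rfl | rfl | rfl | rfl <;>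
    first
    | exact Or.inl (k3 ⟨rfl, rfl⟩)
    | exact Or.inr (Or.inl (k4 ⟨by grind, by grind⟩))
    | exact Or.inr (Or.inr (Or.inl (k5 ⟨by grind, by grind⟩)))
    | exact Or.inr (Or.inr (Or.inr (k7 ⟨by grind, by grind⟩)))

theorem psl34_order [Fintype F] (hF : Fintype.card F = 4) (g : ProjectiveSpecialLinearGroup (Fin 3) F) :
    orderOf g ≠ 15 := fun h => by
  rcases psl34_pow hF g with e | e | e | e <;> have := orderOf_dvd_of_pow_eq_one e <;> rw [h] at this <;> omega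

end Cfsg.Agent.Classical.Pres
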