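import Cfsg.Agent.Lib.Classical.Pres9
import Cfsg.Agent.Lib.Classical.Orth

/-! The rank one Steinberg relations over a finite field. -/
set_option autoImplicit false
open Matrix

namespace Cfsg.Agent.Classical.Pres
variable {J : Type*} [Group J] {F : Type*} [Field F]

def w2 (X Y : F → J) (a : Fˣ) : J := X a * Y (-(a : F)⁻¹) * X a
def h2 (X Y : F → J) (a : Fˣ) : J := w2 X Y a * w2 X Y (-1)

structure St2 (X Y : F → J) : Prop where
  aX : Ad X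
  aY : Ad Y
  wX : ∀ (t : Fˣ) u, w2 X Y t * X u * (w2 X Y t)⁻¹ = Y (-((t : F)⁻¹ ^ 2 * u))

namespace St2
variable {X Y : F → J} (h : St2 X Y)
include h

theorem w_inv (a : Fˣ) : (w2 X Y a)⁻¹ = w2 X Y (-a) := by
  simp only [w2, _root_.mul_inv_rev, ← h.aX.neg, ← h.aY.neg, mul_assoc, Units.val_neg, inv_neg]

theorem wY (t : Fˣ) (u : F) : w2 X Y t * Y u * (w2 X Y t)⁻¹ = X (-((t : F) ^ 2 * u)) := by
  have := h.wX (-t) (-((t : F) ^ 2 * u))
  rw [← h.w_inv, show -(((-t : Fˣ) : F)⁻¹ ^ 2 * -((t : F) ^ 2 * u)) = u by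
    simp only [Units.val_neg]; field_simp] at this
  rw [← this]; group

theorem w_symm (a : Fˣ) : w2 X Y a = Y (-(a : F)⁻¹) * X a * Y (-(a : F)⁻¹) := by
  have e1 := h.wX a a
  have e2 := h.wY a (-(a : F)⁻¹)
  rw [show -((a : F)⁻¹ ^ 2 * a) = -(a : F)⁻¹ by field_simp] at e1
  rw [show -((a : F) ^ 2 * -(a : F)⁻¹) = a by field_simp] at e2
  calc w2 X Y a = w2 X Y a * (X a * Y (-(a : F)⁻¹) * X a) * (w2 X Y a)⁻¹ := by
        rw [← w2]; group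
    _ = (w2 X Y a * X a * (w2 X Y a)⁻¹) * (w2 X Y a * Y (-(a : F)⁻¹) * (w2 X Y a)⁻¹) *
        (w2 X Y a * X a * (w2 X Y a)⁻¹) := by group
    _ = _ := by rw [e1, e2]

theorem ww (t u : Fˣ) : w2 X Y t * w2 X Y u * (w2 X Y t)⁻¹ = w2 X Y (t ^ 2 * u⁻¹) := by
  rw [h.w_symm (t ^ 2 * u⁻¹)]
  have e1 := h.wX t u
  have e2 := h.wY t (-(u : F)⁻¹)
  rw [show -((t : F)⁻¹ ^ 2 * u) = -((t ^ 2 * u⁻¹ : Fˣ) : F)⁻¹ by simp; field_simp] at e1
  rw [show -((t : F) ^ 2 * -(u : F)⁻¹) = (t ^ 2 * u⁻¹ : Fˣ) by simp] at e2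
  rw [← e1, ← e2, w2.eq_def X Y u]; group

theorem hX (t : Fˣ) (u : F) : h2 X Y t * X u * (h2 X Y t)⁻¹ = X ((t : F) ^ 2 * u) := by
  have e1 := h.wX (-1) u
  have e2 := h.wY t (-(((-1 : Fˣ) : F)⁻¹ ^ 2 * u))
  rw [← e1] at e2
  rw [show (t : F) ^ 2 * u = -((t : F) ^ 2 * -(((-1 : Fˣ) : F)⁻¹ ^ 2 * u)) by simp, ← e2, h2]; group

theorem hY (t : Fˣ) (u : F) : h2 X Y t * Y u * (h2 X Y t)⁻¹ = Y ((t : F)⁻¹ ^ 2 * u) := by
  have e1 := h.wY (-1) u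
  have e2 := h.wX t (-(((-1 : Fˣ) : F) ^ 2 * u))
  rw [← e1] at e2
  rw [show (t : F)⁻¹ ^ 2 * u = -((t : F)⁻¹ ^ 2 * -(((-1 : Fˣ) : F) ^ 2 * u)) by simp, ← e2, h2]; group

theorem hw (t u : Fˣ) : h2 X Y t * w2 X Y u * (h2 X Y t)⁻¹ = w2 X Y (t ^ 2 * u) := by
  have e1 := h.hX t u
  have e2 := h.hY t (-(u : F)⁻¹)
  rw [show (t : F) ^ 2 * u = (t ^ 2 * u : Fˣ) by simp] at e1
  rw [show (t : F)⁻¹ ^ 2 * -(u : F)⁻¹ = -((t ^ 2 * u : Fˣ) : F)⁻¹ by simp; field_simp] at e2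
  rw [w2.eq_def X Y (t ^ 2 * u), ← e1, ← e2, w2.eq_def X Y u]; group

theorem h_one : h2 X Y 1 = 1 := by rw [h2, ← h.w_inv, mul_inv_cancel]

theorem stein {u v : Fˣ} (e : (u : F) + v = 1) : h2 X Y (u * v) = h2 X Y u * h2 X Y v := by
  have e1 : w2 X Y u * Y 1 = X (-((u : F) ^ 2 * 1)) * w2 X Y u := by rw [← h.wY]; group
  have e2 : Y 1 * w2 X Y v = w2 X Y v * X (-((v : F) ^ 2 * 1)) := by
    have := h.wY (-v) 1
    rw [← h.w_inv, Units.val_neg, neg_sq] at this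
    rw [← this]; group
  have e3 : w2 X Y (-1) = Y 1 * X (-1) * Y 1 := by
    rw [h.w_symm]; simp
  have hu : (u : F) ≠ 0 := u.ne_zero
  have hv : (v : F) ≠ 0 := v.ne_zero
  rw [h2, h2, h2, ← mul_assoc, mul_left_inj, e3, ← mul_assoc, ← mul_assoc, e1, mul_assoc _ (Y 1), e2,
    w2, w2, w2]
  simp only [mul_assoc]
  rw [← h.aX, ← mul_assoc (X (-1)), ← h.aX, ← mul_assoc (X u) (X _), ← h.aX,
    show (u : F) + (-1 + v) = 0 by linear_combination e, h.aX.zero, one_mul, ← mul_assoc (Y _),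
    ← h.aY, ← mul_assoc (X _) (X _), ← h.aX]
  congr 2
  · simp; linear_combination (u : F) * e
  · congr 1; simp; field_simp; linear_combination e
  · congr 1; simp; linear_combination (v : F) * e

omit h in
theorem comm_of {g : J} (h1 : ∀ u, Commute g (X u)) (h3 : ∀ u, Commute g (Y u)) (a : Fˣ) :
    Commute g (h2 X Y a) :=
  (((h1 _).mul_right (h3 _)).mul_right (h1 _)).mul_right (((h1 _).mul_right (h3 _)).mul_right (h1 _))

theorem h_comm [Finite F] (a b : Fˣ) : Commute (h2 X Y a) (h2 X Y b) := by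
  haveI := Fintype.ofFinite F
  obtain ⟨ζ, hζ, -⟩ := exists_gen F
  have key : ∀ a, ∃ k : ℕ, ∀ b, Commute ((h2 X Y ζ ^ k)⁻¹ * h2 X Y a) (h2 X Y b) := fun a => by
    obtain ⟨k, rfl⟩ := hζ a
    refine ⟨k, comm_of (fun u => ?_) fun u => ?_⟩
    · have e1 := conj_pow_X (h.hX ζ) k u
      have e2 := h.hX (ζ ^ k) u
      rw [Units.val_pow_eq_pow_val, ← pow_mul, mul_comm k, pow_mul, ← e1] at e2
      calc _ = (h2 X Y ζ ^ k)⁻¹ * (h2 X Y (ζ ^ k) * X u * (h2 X Y (ζ ^ k))⁻¹) * h2 X Y (ζ ^ k) := by group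
        _ = _ := by rw [e2]; group
    · have e1 := conj_pow_X (h.hY ζ) k u
      have e2 := h.hY (ζ ^ k) u
      rw [Units.val_pow_eq_pow_val, ← inv_pow, ← pow_mul, mul_comm k, pow_mul, ← e1] at e2
      calc _ = (h2 X Y ζ ^ k)⁻¹ * (h2 X Y (ζ ^ k) * Y u * (h2 X Y (ζ ^ k))⁻¹) * h2 X Y (ζ ^ k) := by group
        _ = _ := by rw [e2]; group
  have k1 : ∀ a, Commute (h2 X Y ζ) (h2 X Y a) := fun a => by
    obtain ⟨k, hk⟩ := key a
    rw [← mul_inv_cancel_left (h2 X Y ζ ^ k) (h2 X Y a)]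
    exact ((Commute.refl _).pow_right k).mul_right (hk ζ).symm
  obtain ⟨k, hk⟩ := key a
  rw [← mul_inv_cancel_left (h2 X Y ζ ^ k) (h2 X Y a)]
  exact ((k1 b).pow_left k).mul_left (hk b)

theorem h_sq [Finite F] (t u : Fˣ) : h2 X Y (u * t ^ 2) = h2 X Y u * h2 X Y (t ^ 2) := by
  have e : h2 X Y t * h2 X Y u * (h2 X Y t)⁻¹ = h2 X Y (t ^ 2 * u) * (h2 X Y (t ^ 2))⁻¹ := by
    have e1 := h.hw t u
    have e2 := h.hw t (-1)
    rw [mul_neg_one, ← h.w_inv (t ^ 2)] at e2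
    calc _ = (h2 X Y t * w2 X Y u * (h2 X Y t)⁻¹) * (h2 X Y t * w2 X Y (-1) * (h2 X Y t)⁻¹) := by
          rw [h2.eq_def X Y u]; group
      _ = _ := by rw [e1, e2, h2, h2]; group
  rw [(h.h_comm t u).eq, mul_inv_cancel_right] at e
  rw [e, mul_comm u, inv_mul_cancel_right]

theorem h_mul [Finite F] (a b : Fˣ) : h2 X Y (a * b) = h2 X Y a * h2 X Y b := by
  by_cases hb : ∃ t, b = t ^ 2
  · obtain ⟨t, rfl⟩ := hb
    exact h.h_sq t a
  by_cases ha : ∃ t, a = t ^ 2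
  · obtain ⟨t, rfl⟩ := ha
    rw [mul_comm, h.h_sq, (h.h_comm _ _).eq]
  have h2' : (2 : F) ≠ 0 := fun h0 => by
    haveI := Fintype.ofFinite F
    obtain ⟨t, ht⟩ := FiniteField.isSquare_of_char_two (F := F) (by
      haveI := ringChar.of_eq (rfl : ringChar F = _)
      exact CharP.ringChar_of_prime_eq_zero Nat.prime_two (by exact_mod_cast h0)) (a : F)
    refine ha ⟨Units.mk0 t fun h1 => a.ne_zero (by rw [ht, h1, zero_mul]), Units.ext ?_⟩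
    simp [ht, sq]
  obtain ⟨x, y, hxy⟩ := exists_sq_add_sq h2' a.ne_zero b.ne_zero 1
  have hx : x ≠ 0 := by
    rintro rfl
    have hy : y ≠ 0 := by rintro rfl; simp at hxy
    refine hb ⟨(Units.mk0 y hy)⁻¹, Units.ext ?_⟩
    simp; field_simp; linear_combination hxy
  have hy : y ≠ 0 := by
    rintro rfl
    refine ha ⟨(Units.mk0 x hx)⁻¹, Units.ext ?_⟩
    simp; field_simp; linear_combination hxy
  have e := h.stein (u := a * Units.mk0 x hx ^ 2) (v := b * Units.mk0 y hy ^ 2) (by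
    simp; linear_combination hxy)
  rw [mul_mul_mul_comm, ← mul_pow, h.h_sq, h.h_sq, h.h_sq, mul_pow, h.h_sq, mul_assoc, ← mul_assoc _ (h2 X Y b),
    (h.h_comm _ b).eq, mul_assoc, ← mul_assoc (h2 X Y a)] at e
  exact mul_right_cancel e

theorem h_pow [Finite F] (a : Fˣ) (k : ℤ) : h2 X Y (a ^ k) = h2 X Y a ^ k :=
  map_zpow (MonoidHom.mk' (h2 X Y) h.h_mul) a k

theorem inj [Finite F] (π : J →* SpecialLinearGroup (Fin 2) F) (p1 : ∀ a, π (X a) = U2 a)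
    (p2 : ∀ a, (π (Y a)).1 = !![1, 0; a, 1]) {j : J}
    (hj : j ∈ Subgroup.closure (Set.range X ∪ Set.range Y)) (hj' : π j = 1) : j = 1 := by
  haveI := Fintype.ofFinite F
  obtain ⟨ζ, hζ, -⟩ := exists_gen F
  have pm : ∀ x y, (π (x * y)).1 = (π x).1 * (π y).1 := fun x y => by rw [map_mul]; rfl
  have pw : ∀ a : Fˣ, (π (w2 X Y a)).1 = !![0, (a : F); -(a : F)⁻¹, 0] := fun a => by
    rw [w2, pm, pm, p1, p2, U2_val]
    ext i j; fin_cases i <;> fin_cases j <;> simp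
  have hp : ∀ (a : Fˣ) (k : ℕ), h2 X Y (a ^ k) = h2 X Y a ^ k := fun a k => by
    simpa using h.h_pow a k
  refine sl2_core (MonoidHom.id _) (by simp) (ζ := ζ) π h.aX (h := h2 X Y ζ) (t := w2 X Y 1) p1
    (Subtype.ext ?_) (Subtype.ext ?_) (h.hX ζ) ?_ ?_ (fun a ha => ?_) (fun k hk => ?_)
    (S := insert (w2 X Y 1) (Set.range X)) (fun s hs => ?_) ?_ hj'
  · rw [h2, pm, pw, pw]
    simp [H2_val]
  · rw [pw]; simp [T2_val]
  · have e1 := h.ww 1 ζ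
    have e2 := h.ww 1 (-1)
    simp only [one_pow, one_mul, inv_neg, inv_one] at e1 e2
    calc _ = (w2 X Y 1 * w2 X Y ζ * (w2 X Y 1)⁻¹) * (w2 X Y 1 * w2 X Y (-1) * (w2 X Y 1)⁻¹) := by
          rw [h2]; group
      _ = h2 X Y (ζ ^ (-1 : ℤ)) := by rw [e1, e2, h2, _root_.zpow_neg_one]
      _ = _ := by rw [h.h_pow, _root_.zpow_neg_one]
  · obtain ⟨k, hk⟩ := hζ (-1)
    refine ⟨k, ?_⟩
    rw [← hp, hk, ← _root_.inv_inj, ← _root_.zpow_neg_one (h2 X Y _), ← h.h_pow, _root_.mul_inv_rev, h.w_inv]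
    simp [h2]
  · obtain ⟨l, hl⟩ := hζ (Units.mk0 a ha)⁻¹
    refine ⟨0, a, -a⁻¹, -a⁻¹, l, by simp, ?_⟩
    rw [h.wX, ← hp, hl, h2, ← h.w_inv, mul_assoc (X _), inv_mul_cancel_right, w2, h.aX.neg]
    simp [mul_assoc]
  · have h1 : ζ ^ k = 1 := by
      have h0 : H2 (ζ ^ k) = 1 := (map_zpow _ _ _).trans hk
      have : (H2 (ζ ^ k)).1 0 0 = 1 := by rw [h0]; rfl
      exact Units.ext this
    rw [← h.h_pow, h1, h.h_one]
  · rcases hs with rfl | ⟨a, rfl⟩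
    · exact .inr (.inl rfl)
    · exact .inr (.inr ⟨a, rfl⟩)
  · refine (Subgroup.closure_le _).2 ?_ hj
    rintro _ (⟨a, rfl⟩ | ⟨a, rfl⟩)
    · exact Subgroup.subset_closure (.inr ⟨a, rfl⟩)
    · have := h.wX 1 (-a)
      simp only [Units.val_one, inv_one, one_pow, one_mul, neg_neg] at this
      rw [← this]
      exact mul_mem (mul_mem (Subgroup.subset_closure (.inl rfl)) (Subgroup.subset_closure (.inr ⟨_, rfl⟩)))
        (inv_mem (Subgroup.subset_closure (.inl rfl)))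

end St2
end Cfsg.Agent.Classical.Pres
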