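import Cfsg.Agent.Lib.Classical.Max4
import Cfsg.Agent.Lib.Solv.Frob3

/-! Rational structures over a subfield. -/

set_option autoImplicit false

namespace Cfsg.Agent.Classical

open Module Pointwise

/-- an abelian Frobenius complement is cyclic -/
theorem isCyclic_of_ti {G : Type*} [Group G] [Finite G] {A B : Subgroup G} (hAB : A ≤ B) (hne : ¬ B ≤ A)
    (hc : ∀ a ∈ A, ∀ b ∈ A, a * b = b * a) (h : ∀ g ∈ B, g ∉ A → ∀ a ∈ A, g⁻¹ * a * g ∈ A → a = 1) :
    ∃ γ ∈ A, ∀ a ∈ A, ∃ n : ℕ, a = γ ^ n := by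
  by_cases h0 : A.subgroupOf B = ⊥
  · refine ⟨1, A.one_mem, fun a ha => ⟨0, ?_⟩⟩
    have : (⟨a, hAB ha⟩ : B) ∈ A.subgroupOf B := ha
    rw [h0, Subgroup.mem_bot] at this
    simpa using congrArg Subtype.val this
  obtain ⟨K, -, h1, -, h2, h3⟩ := Solv.exists_frobenius_kernel (H := A.subgroupOf B)
    ⟨h0, fun k => hne (Subgroup.subgroupOf_eq_top.1 k), fun g hg => eq_bot_iff.2 fun a ha => by
      have := (Subgroup.mem_pointwise_smul_iff_inv_smul_mem).1 ha.2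
      exact Subtype.ext (h g g.2 hg a ha.1 (by simpa [Subgroup.mem_subgroupOf] using this))⟩
  obtain ⟨γ, hγ⟩ := (Solv.isCyclic_of_fpf_of_abelian (Subgroup.normalizer_eq_top K ▸ le_top) h3 h2
    (Solv.isMulCommutative_iff.2 fun a ha b hb => Subtype.ext (hc _ ha _ hb))).exists_monoid_generator
  refine ⟨γ.1.1, γ.2, fun a ha => ?_⟩
  obtain ⟨n, hn⟩ := hγ ⟨⟨a, hAB ha⟩, ha⟩
  exact ⟨n, by simpa using (congrArg (fun x => x.1.1) hn).symm⟩

section Lin
variable {F : Type*} [Field F] {V : Type*} [AddCommGroup V] [Module F V]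

/-- automorphisms acting trivially on the quotient by `L` -/
def imSub (L : Submodule F V) : Subgroup (V ≃ₗ[F] V) where
  carrier := {g | ∀ x, g x - x ∈ L}
  one_mem' := by simp
  mul_mem' {a b} ha hb x := by simpa using add_mem (ha (b x)) (hb x)
  inv_mem' {a} ha x := by simpa using neg_mem (ha (a⁻¹ x))

theorem pow_apply_of_fix {g : V ≃ₗ[F] V} {x : V} (h : g (g x - x) = g x - x) (n : ℕ) :
    (g ^ n) x = x + (n : F) • (g x - x) := by
  induction n with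
  | zero => simp
  | succ n ih => rw [pow_succ', LinearEquiv.mul_apply, ih, map_add, map_smul, h]; push_cast; module

instance [Finite V] : Finite (V ≃ₗ[F] V) := Finite.of_injective _ DFunLike.coe_injective

variable {F₀ : Subfield F} {V₀ : Type*} [AddCommGroup V₀] [Module F₀ V₀]

theorem exists_lam {c : F} (hc : c ∉ F₀) (a b : F₀) : ∃ l : F →ₗ[F₀] F₀, l 1 = a ∧ l c = b := by
  have h1 : c ∉ F₀ ∙ (1 : F) := fun k => by
    obtain ⟨a, rfl⟩ := Submodule.mem_span_singleton.1 k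
    exact hc (by simp [Subfield.smul_def])
  obtain ⟨φ, p1, p2⟩ := exists_dual_one h1
  obtain ⟨ψ, q1, q2⟩ := exists_dual_one (notMem_span_of one_ne_zero (Submodule.mem_span_singleton_self _) h1)
  exact ⟨a • ψ + b • φ, by simp [q2, p1], by simp [q1, p2]⟩

theorem exists_lam_one (F₀ : Subfield F) : ∃ l : F →ₗ[F₀] F₀, l 1 = 1 := by
  obtain ⟨φ, -, h⟩ := exists_dual_one (F := F₀) (L := ⊥) (v := (1 : F)) (by simp)
  exact ⟨φ, h⟩

theorem lam_coe (l : F →ₗ[F₀] F₀) (a : F₀) : l a = a * l 1 := by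
  rw [← smul_eq_mul, ← map_smul]; simp [Subfield.smul_def]

/-- `V` is obtained from `V₀` by extension of scalars -/
structure RS (j : V₀ →ₛₗ[F₀.subtype] V) (ρ : (F →ₗ[F₀] F₀) → V →+ V₀) : Prop where
  span : Submodule.span F (Set.range j) = ⊤
  eq : ∀ l (c : F) u, ρ l (c • j u) = l c • u

/-- `g` is `c` times a rational map -/
def Pres (j : V₀ →ₛₗ[F₀.subtype] V) (c : F) (g : V ≃ₗ[F] V) : Prop := ∀ u, ∃ u', g (j u) = c • j u'

/-- multiples of rational vectors -/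
def IsP (j : V₀ →ₛₗ[F₀.subtype] V) (v : V) : Prop := ∃ (c : F) (u : V₀), v = c • j u

variable {j : V₀ →ₛₗ[F₀.subtype] V} {ρ : (F →ₗ[F₀] F₀) → V →+ V₀}

theorem j_smul (j : V₀ →ₛₗ[F₀.subtype] V) (a : F₀) (u : V₀) : j (a • u) = (a : F) • j u := map_smulₛₗ j a u

theorem IsP.smul {v : V} (h : IsP j v) (c : F) : IsP j (c • v) := by
  obtain ⟨a, u, rfl⟩ := h
  exact ⟨c * a, u, by rw [mul_smul]⟩

theorem IsP.of_smul {v : V} {c : F} (h : IsP j (c • v)) (hc : c ≠ 0) : IsP j v := by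
  simpa [smul_smul, hc] using h.smul c⁻¹

theorem Pres.one {c : F} {g : V ≃ₗ[F] V} (h : Pres j c g) (hc : c ∈ F₀) : Pres j 1 g := fun u => by
  obtain ⟨u', hu⟩ := h u
  exact ⟨(⟨c, hc⟩ : F₀) • u', by rw [hu, j_smul, one_smul]⟩

namespace RS
variable (h : RS j ρ)
include h

theorem ind {P : V → Prop} (h0 : P 0) (h1 : ∀ x y, P x → P y → P (x + y)) (h2 : ∀ (c : F) u, P (c • j u))
    (v : V) : P v := by
  have hv : v ∈ Submodule.span F (Set.range j) := h.span ▸ trivial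
  have : ∀ c : F, P (c • v) := by
    induction hv using Submodule.span_induction with
    | mem x hx => obtain ⟨u, rfl⟩ := hx; exact fun c => h2 c u
    | zero => simpa using h0
    | add x y _ _ hx hy => exact fun c => smul_add c x y ▸ h1 _ _ (hx c) (hy c)
    | smul a x _ hx => exact fun c => mul_smul c a x ▸ hx _
  simpa using this 1

theorem mem_of {X : Submodule F V} (k : ∀ u, j u ∈ X) (v : V) : v ∈ X :=
  h.ind X.zero_mem (fun _ _ => X.add_mem) (fun c u => X.smul_mem c (k u)) v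

theorem ρ_j (l : F →ₗ[F₀] F₀) (u : V₀) : ρ l (j u) = l 1 • u := by simpa using h.eq l 1 u

theorem ρ_smul (l : F →ₗ[F₀] F₀) (c : F) (v : V) : ρ l (c • v) = ρ (l ∘ₗ LinearMap.mulLeft F₀ c) v :=
  h.ind (P := fun v => ρ l (c • v) = ρ (l ∘ₗ LinearMap.mulLeft F₀ c) v) (by simp)
    (fun x y a b => by simp only [smul_add, map_add, a, b]) (fun a u => by rw [smul_smul, h.eq, h.eq]; rfl) v

theorem j_eq_zero {u : V₀} : j u = 0 ↔ u = 0 := by
  refine ⟨fun k => ?_, fun k => by simp [k]⟩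
  obtain ⟨l, hl⟩ := exists_lam_one F₀
  simpa [k, hl] using (h.ρ_j l u).symm

/-- extension of scalars of a subspace -/
def ex (S : Submodule F₀ V₀) : Submodule F V where
  carrier := {v | ∀ l, ρ l v ∈ S}
  zero_mem' := by simp
  add_mem' {a b} ha hb l := by rw [map_add]; exact add_mem (ha l) (hb l)
  smul_mem' c v hv l := by rw [h.ρ_smul]; exact hv _

theorem j_mem {S : Submodule F₀ V₀} {u : V₀} : j u ∈ h.ex S ↔ u ∈ S := by
  refine ⟨fun k => ?_, fun k l => h.ρ_j l u ▸ S.smul_mem _ k⟩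
  obtain ⟨l, hl⟩ := exists_lam_one F₀
  simpa [h.ρ_j, hl] using k l

theorem ex_mono {S S' : Submodule F₀ V₀} (k : S ≤ S') : h.ex S ≤ h.ex S' := fun _ a l => k (a l)

theorem mem_of_comb {S : Submodule F₀ V₀} {c : F} (hc : c ∉ F₀) {u u' : V₀} (k : j u + c • j u' ∈ h.ex S) :
    u ∈ S ∧ u' ∈ S := by
  obtain ⟨l, a, b⟩ := exists_lam hc 1 0
  obtain ⟨l', a', b'⟩ := exists_lam hc 0 1
  exact ⟨by simpa [h.eq, h.ρ_j, a, b] using k l, by simpa [h.eq, h.ρ_j, a', b'] using k l'⟩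

theorem ρ_pres {s : V ≃ₗ[F] V} (hs : Pres j 1 s) (l : F →ₗ[F₀] F₀) (v : V) : j (ρ l (s v)) = s (j (ρ l v)) :=
  h.ind (P := fun v => j (ρ l (s v)) = s (j (ρ l v))) (by simp)
    (fun x y a b => by simp only [map_add, a, b]) (fun a u => by
      obtain ⟨u', hu⟩ := hs u
      rw [map_smul, hu, one_smul, h.eq, h.eq, j_smul, j_smul, map_smul, hu, one_smul]) v

theorem mem_of_pres [FiniteDimensional F V] [FiniteDimensional F₀ V₀] {c : F} {g : V ≃ₗ[F] V} (hg : Pres j c g)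
    {L : Submodule F V} (hL : g ∈ imSub L) (hd : 2 * finrank F L < finrank F₀ V₀) : c ∈ F₀ := by
  by_contra hc
  have k : ∀ k ≤ finrank F L + 1, ∃ S : Submodule F₀ V₀, finrank F₀ S ≤ 2 * k ∧
      k ≤ finrank F (L ⊓ h.ex S : Submodule F V) := fun k => by
    induction k with
    | zero => exact fun _ => ⟨⊥, by simp, by simp⟩
    | succ k ih =>
      intro hk
      obtain ⟨S, a, b⟩ := ih (by omega)
      obtain ⟨u, -, hu⟩ := exists_notMem_of_lt (X := ⊤) (L := S) (by rw [finrank_top]; omega)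
      obtain ⟨u', hu'⟩ := hg u
      have := finrank_sup_le S ((F₀ ∙ u) ⊔ F₀ ∙ u')
      have := finrank_two_le (F := F₀) u u'
      refine ⟨S ⊔ ((F₀ ∙ u) ⊔ F₀ ∙ u'), by omega, b.trans_lt (Submodule.finrank_lt_finrank_of_lt
        (lt_of_le_of_ne (inf_le_inf_left _ (h.ex_mono le_sup_left)) fun e => hu ?_))⟩
      have : g (j u) - j u ∈ L ⊓ h.ex (S ⊔ ((F₀ ∙ u) ⊔ F₀ ∙ u')) := ⟨hL _, hu' ▸ sub_mem (Submodule.smul_mem _ _
        (h.j_mem.2 (Submodule.mem_sup_right (Submodule.mem_sup_right (Submodule.mem_span_singleton_self _)))))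
        (h.j_mem.2 (Submodule.mem_sup_right (Submodule.mem_sup_left (Submodule.mem_span_singleton_self _))))⟩
      rw [← e, hu', sub_eq_neg_add, ← map_neg] at this
      simpa using (h.mem_of_comb hc this.2).1
  obtain ⟨S, -, b⟩ := k _ le_rfl
  have := Submodule.finrank_mono (inf_le_left : L ⊓ h.ex S ≤ L)
  omega

variable [Finite F]

theorem sum_eq (v : V) : ∑ b, finBasis F₀ F b • j (ρ ((finBasis F₀ F).coord b) v) = v :=
  h.ind (P := fun v => ∑ b, finBasis F₀ F b • j (ρ ((finBasis F₀ F).coord b) v) = v) (by simp)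
    (fun x y a b => by simp only [map_add, smul_add, Finset.sum_add_distrib, a, b]) (fun a u => by
      conv_rhs => rw [← (finBasis F₀ F).sum_repr a, Finset.sum_smul]
      refine Finset.sum_congr rfl fun b _ => ?_
      rw [h.eq, j_smul, smul_smul, mul_comm]; rfl) v

theorem mem_of_ρ {X : Submodule F V} {v : V} (k : ∀ l, j (ρ l v) ∈ X) : v ∈ X :=
  h.sum_eq v ▸ sum_mem fun _ _ => X.smul_mem _ (k _)

theorem ex_le {S : Submodule F₀ V₀} {X : Submodule F V} (k : ∀ u ∈ S, j u ∈ X) : h.ex S ≤ X :=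
  fun _ a => h.mem_of_ρ fun l => k _ (a l)

theorem ex_span (u : V₀) : h.ex (F₀ ∙ u) = F ∙ j u := le_antisymm (h.ex_le fun w hw => by
    obtain ⟨a, rfl⟩ := Submodule.mem_span_singleton.1 hw
    exact Submodule.mem_span_singleton.2 ⟨a, (j_smul j a u).symm⟩)
  ((Submodule.span_singleton_le_iff_mem _ _).2 (h.j_mem.2 (Submodule.mem_span_singleton_self u)))

theorem ex_sup (S S' : Submodule F₀ V₀) : h.ex (S ⊔ S') = h.ex S ⊔ h.ex S' := le_antisymm (h.ex_le fun w hw => by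
    obtain ⟨a, ha, b, hb, rfl⟩ := Submodule.mem_sup.1 hw
    rw [map_add]
    exact Submodule.add_mem_sup (h.j_mem.2 ha) (h.j_mem.2 hb))
  (sup_le (h.ex_mono le_sup_left) (h.ex_mono le_sup_right))

theorem isP_of_ρ {v : V} (k : ∀ l, j (ρ l v) ∈ F ∙ v) : IsP j v := by
  by_cases h0 : ∀ l, ρ l v = 0
  · exact ⟨0, 0, by simpa using h.mem_of_ρ (X := ⊥) (v := v) (by simp [h0])⟩
  push Not at h0
  obtain ⟨l, hl⟩ := h0
  obtain ⟨c, hc⟩ := Submodule.mem_span_singleton.1 (k l)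
  exact IsP.of_smul ⟨1, _, by rw [hc, one_smul]⟩ (by rintro rfl; exact hl (h.j_eq_zero.1 (by simp [← hc])))

theorem isP_of_le_one [FiniteDimensional F₀ V₀] {S : Submodule F₀ V₀} (hS : finrank F₀ S ≤ 1) {v : V}
    (hv : v ∈ h.ex S) : IsP j v := by
  obtain ⟨u, hu⟩ := finrank_le_one_iff.1 hS
  have : S ≤ F₀ ∙ u.1 := fun w hw => by
    obtain ⟨c, hc⟩ := hu ⟨w, hw⟩
    exact Submodule.mem_span_singleton.2 ⟨c, congrArg Subtype.val hc⟩
  obtain ⟨c, hc⟩ := Submodule.mem_span_singleton.1 (h.ex_span u.1 ▸ h.ex_mono this hv)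
  exact ⟨c, u, hc.symm⟩

/-- the scalars agree along rational lines -/
theorem same_scalar {s : V ≃ₗ[F] V} {c : F} {u v u' : V₀} (hc : c ≠ 0) (hu : s (j u) = c • j u')
    (hv : IsP j (s (j v))) (huv : IsP j (s (j (u + v)))) (hu0 : u ≠ 0) (hne : v ∉ F₀ ∙ u) :
    ∃ v', s (j v) = c • j v' := by
  obtain ⟨d, v', hv⟩ := hv
  obtain ⟨d', w, hw⟩ := huv
  by_cases k : d / c ∈ F₀
  · exact ⟨(⟨_, k⟩ : F₀) • v', by rw [hv, j_smul, smul_smul, mul_div_cancel₀ _ hc]⟩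
  have k1 : j u' + (d / c) • j v' ∈ h.ex (F₀ ∙ w) := by
    rw [h.ex_span]
    refine Submodule.mem_span_singleton.2 ⟨c⁻¹ * d', ?_⟩
    rw [mul_smul, ← hw, map_add, map_add, hu, hv]
    match_scalars <;> field_simp
  obtain ⟨a, b⟩ := h.mem_of_comb k k1
  rw [← h.j_mem, h.ex_span] at a b
  obtain ⟨α, a⟩ := Submodule.mem_span_singleton.1 a
  obtain ⟨β, b⟩ := Submodule.mem_span_singleton.1 b
  have a0 : α ≠ 0 := by
    rintro rfl
    rw [← a, zero_smul, smul_zero, LinearEquiv.map_eq_zero_iff] at hu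
    exact hu0 (h.j_eq_zero.1 hu)
  refine absurd (h.j_mem.1 (h.ex_span u ▸ Submodule.mem_span_singleton.2 ⟨d * β / (c * α), s.injective ?_⟩)) hne
  rw [map_smul, hu, hv, ← a, ← b]
  match_scalars; field_simp

end RS

end Lin

namespace Form
variable {F : Type*} [Field F] {K : Kind F} {V : Type*} [AddCommGroup V] [Module F V]
  {Φ : Form K V} {e : V} [FiniteDimensional F V]

theorem exists_sing_perp (hΦ : Φ.Nondeg) (h3 : Φ.Sg3) {L L' : Submodule F V}
    (h : finrank F L + finrank F L' + 3 ≤ finrank F V) : ∃ v, Φ.Sing v ∧ (∀ x ∈ L, Φ.B x v = 0) ∧ v ∉ L' := by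
  have := hΦ.finrank_perp L
  obtain ⟨v, v1, v2, v3⟩ := h3.exists_notMem' (X := Φ.perp L) (L := L') (by omega)
  exact ⟨v, v2, Φ.mem_perp'.1 v1, v3⟩

theorem exists_sing_three (hΦ : Φ.Nondeg) (h3 : Φ.Sg3) (hn : 9 ≤ finrank F V) (a b c : V) :
    ∃ v, Φ.Sing v ∧ Φ.B a v = 0 ∧ Φ.B b v = 0 ∧ Φ.B c v = 0 ∧ v ∉ ((F ∙ a) ⊔ F ∙ b) ⊔ F ∙ c := by
  have := finrank_sup_one_le ((F ∙ a) ⊔ F ∙ b) c
  have := finrank_two_le (F := F) a b
  obtain ⟨v, v1, v2, v3⟩ := exists_sing_perp hΦ h3 (L := ((F ∙ a) ⊔ F ∙ b) ⊔ F ∙ c)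
    (L' := ((F ∙ a) ⊔ F ∙ b) ⊔ F ∙ c) (by omega)
  exact ⟨v, v1, v2 _ (Submodule.mem_sup_left (Submodule.mem_sup_left (Submodule.mem_span_singleton_self _))),
    v2 _ (Submodule.mem_sup_left (Submodule.mem_sup_right (Submodule.mem_span_singleton_self _))),
    v2 _ (Submodule.mem_sup_right (Submodule.mem_span_singleton_self _)), v3⟩

theorem perp_add_closure (hΦ : Φ.Nondeg) (h3 : Φ.Sg3) (hn : 9 ≤ finrank F V) {P : V → Prop}
    (hadd : ∀ x y, P x → P y → P (x + y)) (h : ∀ v, Φ.N v = 0 → Φ.B e v = 0 → P v) {y : V} (hy : Φ.B e y = 0) :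
    P y := by
  obtain ⟨w, w1, w2, -, -, w5⟩ := exists_sing_three hΦ h3 hn e e e
  obtain ⟨w', hw, hw'⟩ := hΦ.exists_hyp_perp (U := F ∙ e) w1.2 (fun k => w5 (Submodule.mem_sup_right k))
    (Φ.mem_perp'.1 (Φ.mem_perp_singleton.2 (Φ.B_symm_zero w2)))
  have w6 := hw' e (Submodule.mem_span_singleton_self e)
  obtain ⟨α, β, h1⟩ := hw.exists_add_sing y
  simpa using hadd _ _ (hadd _ _ (h _ h1 (by simp [hy, w2, w6])) (h (β • w') (by simp [N_smul, hw.hf])
    (by simp [w6]))) (h (α • w) (by simp [N_smul, hw.he]) (by simp [w2]))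

theorem perp_closure (hΦ : Φ.Nondeg) (h3 : Φ.Sg3) (hn : 9 ≤ finrank F V) {P : V → Prop}
    (hadd : ∀ x y, P x → P y → P (x + y))
    (hs : ∀ z v, P z → Φ.N v = 0 → Φ.B e v = 0 → Φ.B z v = 0 → z ∉ (F ∙ e) ⊔ F ∙ v → P v)
    {z : V} (hz : P z) (hz' : z ∉ F ∙ e) {y : V} (hy : Φ.B e y = 0) : P y :=
  perp_add_closure hΦ h3 hn hadd (fun v hv hv' => by
    obtain ⟨w, w1, w2, w3, w4, w5⟩ := exists_sing_three hΦ h3 hn e z v
    exact hs _ _ (hs _ _ hz w1.2 w2 w3 (notMem_swap hz' fun k => w5 (Submodule.mem_sup_left k)))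
      hv hv' (Φ.B_symm_zero w4) fun k => w5 ((sup_le_sup_right le_sup_left _ : (F ∙ e) ⊔ _ ≤ _) k)) hy

theorem sing_connect (hΦ : Φ.Nondeg) (h3 : Φ.Sg3) (hn : 9 ≤ finrank F V) {P : V → Prop}
    (hs : ∀ u v, Φ.Sing u → Φ.Sing v → Φ.B u v = 0 → v ∉ (F ∙ u) → P u → P v) (he : Φ.Sing e) (h : P e)
    {v : V} (hv : Φ.Sing v) : P v := by
  obtain ⟨w, w1, w2, w3, -, w5⟩ := exists_sing_three hΦ h3 hn e v v
  exact hs w v w1 hv (Φ.B_symm_zero w3) (notMem_span_of hv.1 (Submodule.mem_sup_right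
    (Submodule.mem_span_singleton_self v)) w5)
    (hs e w he w1 w2 (fun k => w5 (Submodule.mem_sup_left (Submodule.mem_sup_left k))) h)

end Form

end Cfsg.Agent.Classical
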