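import Cfsg.Agent.Lib.Classical.Sub1

/-! Maximality of subfield subgroups of classical groups: the root elements. -/

set_option autoImplicit false

namespace Cfsg.Agent.Classical

open Module

theorem Kind.ε_mem {F : Type*} [Field F] (K : Kind F) (F₀ : Subfield F) : K.ε ∈ F₀ := by
  rcases mul_self_eq_one_iff.1 K.εε with h | h <;> simp [h]

namespace Form
variable {F : Type*} [Field F] {K : Kind F} {V : Type*} [AddCommGroup V] [Module F V]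
  {F₀ : Subfield F} {K₀ : Kind F₀} {V₀ : Type*} [AddCommGroup V₀] [Module F₀ V₀]

/-- a form over a subfield whose extension is proportional to `Φ` -/
structure Rat (Φ : Form K V) (Φ₀ : Form K₀ V₀) (j : V₀ →ₛₗ[F₀.subtype] V) (ρ : (F →ₗ[F₀] F₀) → V →+ V₀)
    (κ : F) : Prop where
  rs : RS j ρ
  B : ∀ u v, (Φ₀.B u v : F) = κ * Φ.B (j u) (j v)
  κ0 : κ ≠ 0
  δ : K.σ κ / κ ∈ F₀
  N : ∀ u, Φ.N (j u) = 0 ↔ Φ₀.N u = 0
  T : ∀ y, ∃ a ∈ F₀, K.T (κ * a) = Φ.N (K.σ κ • j y)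
  nd : Φ.Nondeg
  sg : Φ₀.Sg3
  dim : 11 ≤ finrank F₀ V₀

variable {Φ : Form K V} {Φ₀ : Form K₀ V₀} {j : V₀ →ₛₗ[F₀.subtype] V} {ρ : (F →ₗ[F₀] F₀) → V →+ V₀} {κ : F}
  {H : Subgroup (V ≃ₗ[F] V)}

/-- `c` times the rational root elements with centre `e` lie in `H` -/
def Gd (Φ : Form K V) (Φ₀ : Form K₀ V₀) (j : V₀ →ₛₗ[F₀.subtype] V) (κ : F) (H : Subgroup (V ≃ₗ[F] V)) (c : F)
    (e : V₀) : Prop := ∀ y, Φ₀.B e y = 0 → Φ.InA H (j e) (c • K.σ κ • j y)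

namespace Rat
variable (h : Rat Φ Φ₀ j ρ κ)
include h

theorem B' (u v : V₀) : Φ.B (j u) (K.σ κ • j v) = Φ₀.B u v := by rw [Φ.B_smul_right, K.σσ, h.B]

theorem B0 {u v : V₀} : Φ.B (j u) (j v) = 0 ↔ Φ₀.B u v = 0 := by
  rw [← ZeroMemClass.coe_eq_zero, h.B]; simp [h.κ0]

theorem σκ0 : K.σ κ ≠ 0 := by simpa using h.κ0

theorem nd₀ : Φ₀.Nondeg := fun v hv => h.rs.j_eq_zero.1 (h.nd _ fun u =>
  Φ.mem_perp_singleton.1 (h.rs.mem_of (fun u => Φ.mem_perp_singleton.2 (h.B0.2 (hv u))) u))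

theorem dim9 : 9 ≤ finrank F₀ V₀ := h.dim.trans' (by norm_num)

theorem B_ρ (l : F →ₗ[F₀] F₀) (v : V) (y : V₀) : Φ₀.B (ρ l v) y = l (κ * Φ.B v (j y)) :=
  h.rs.ind (P := fun v => Φ₀.B (ρ l v) y = l (κ * Φ.B v (j y))) (by simp)
    (fun x y a b => by simp only [map_add, LinearMap.add_apply, mul_add, a, b]) (fun c u => by
      rw [h.rs.eq, Φ.B_smul_left, mul_left_comm, ← h.B, Φ₀.B_smul_left, mul_comm c, mul_comm (l c),
        ← smul_eq_mul, ← map_smul]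
      rfl) v

theorem isEich {e y : V₀} (he : Φ₀.N e = 0) (hy : Φ₀.N y = 0) (k : Φ₀.B e y = 0) (c : F) :
    Φ.IsEich (j e) (c • j y) 0 :=
  ⟨(h.N _).2 he, by rw [Φ.B_smul_left, h.B0.2 (Φ₀.B_symm_zero k), mul_zero], by simp [N_smul, (h.N _).2 hy]⟩

variable (hH : ∀ g ∈ Φ.E, Pres j 1 g → g ∈ H)
include hH

theorem rat_eich {e y : V₀} {a : F} (ha : a ∈ F₀) (k : Φ.IsEich (j e) (K.σ κ • j y) (κ * a)) :
    Φ.eich _ _ _ k ∈ H := hH _ (Φ.eich_mem_E _ _ _ _) fun u =>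
  ⟨u + Φ₀.B u y • e - ((⟨_, K.ε_mem F₀⟩ : F₀) * ⟨_, h.δ⟩ * Φ₀.B u e) • y -
    ((⟨_, K.ε_mem F₀⟩ : F₀) * ⟨a, ha⟩ * Φ₀.B u e) • e, by
    have := h.κ0
    simp only [eich_apply, h.B', map_sub, map_add, j_smul, Subfield.coe_mul, h.B u e]
    match_scalars <;> field_simp⟩

theorem eich0 {e y : V₀} (k : Φ.IsEich (j e) (K.σ κ • j y) 0) : Φ.eich _ _ _ k ∈ H := by
  have := h.rat_eich hH F₀.zero_mem (e := e) (y := y) (by simpa using k)
  rwa [Φ.eich_congr _ rfl (mul_zero κ)] at this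

theorem gd_rat {e : V₀} (he : Φ₀.N e = 0) {c : F} (hc : c ∈ F₀) : Φ.Gd Φ₀ j κ H c e := fun y hy => by
  obtain ⟨a, ha, k⟩ := h.T ((⟨c, hc⟩ : F₀) • y)
  rw [smul_comm, ← j_smul j ⟨c, hc⟩]
  exact ⟨_, ⟨(h.N _).2 he, by rw [Φ.B_smul_left, h.B0.2 (by simp [Φ₀.B_symm_zero hy]), mul_zero], k⟩,
    h.rat_eich hH ha _⟩

omit hH in
theorem comm {e v y y' : V₀} {c c' : F} (h1 : Φ.InA H (j e) (c • K.σ κ • j y))
    (h2 : Φ.InA H (j v) (c' • K.σ κ • j y')) (k1 : Φ₀.B e v = 0) (k2 : Φ₀.B e y' = 0) (k3 : Φ₀.B y v = 0)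
    (k4 : Φ₀.B y y' = 1) : Φ.InA H (j e) ((c * K.σ c') • K.σ κ • j v) := by
  obtain ⟨a, k, h2⟩ := h2
  have := h1.comm h2 (h.B0.2 k1) (by simp [B_smul_right, h.B0.2 k2]) (by simp [h.B0.2 k3])
  rw [Φ.B_smul_left, Φ.B_smul_left, Φ.B_smul_right, h.B', k4] at this
  convert this using 1
  simp only [smul_smul, OneMemClass.coe_one]; ring_nf

variable [FiniteDimensional F₀ V₀]

theorem gd_of_pair {e z : V₀} {c : F} (h1 : Φ.InA H (j e) (c • K.σ κ • j z)) (hz : z ∉ F₀ ∙ e) :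
    Φ.Gd Φ₀ j κ H c e := fun y hy =>
  perp_closure (P := fun y => Φ.InA H (j e) (c • K.σ κ • j y)) h.nd₀ h.sg h.dim9
    (fun x y a b => by simpa only [map_add, smul_add] using a.add b) (fun z v a b1 b2 b3 b4 => by
      obtain ⟨w, w1, w2⟩ := h.nd₀.exists_perp_one b4
      simpa using h.comm a (h.gd_rat hH b1 F₀.one_mem w (w1 _ (Submodule.mem_sup_right
        (Submodule.mem_span_singleton_self _)))) b2 (w1 _ (Submodule.mem_sup_left
        (Submodule.mem_span_singleton_self _))) b3 w2) h1 hz hy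

theorem gd_comm {e v : V₀} {c c' : F} (h1 : Φ.Gd Φ₀ j κ H c e) (h2 : Φ.Gd Φ₀ j κ H c' v) (k : Φ₀.B e v = 0)
    (hv : v ∉ F₀ ∙ e) : Φ.Gd Φ₀ j κ H (c * K.σ c') e := by
  obtain ⟨y, -, y2, y3, -, y5⟩ := exists_sing_three h.nd₀ h.sg h.dim9 e v v
  obtain ⟨w, w1, w2⟩ := h.nd₀.exists_perp_one fun k => y5 (Submodule.mem_sup_left k)
  exact h.gd_of_pair hH (h.comm (h1 y y2) (h2 w (w1 _ (Submodule.mem_sup_right
    (Submodule.mem_span_singleton_self _)))) k (w1 _ (Submodule.mem_sup_left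
    (Submodule.mem_span_singleton_self _))) (Φ₀.B_symm_zero y3) w2) hv

theorem gd_step {u v : V₀} {c : F} (hu : Φ₀.Sing u) (hv : Φ₀.Sing v) (k : Φ₀.B u v = 0) (k' : v ∉ F₀ ∙ u)
    (h1 : Φ.Gd Φ₀ j κ H c u) : Φ.Gd Φ₀ j κ H (K.σ c) v := by
  simpa using h.gd_comm hH (h.gd_rat hH hv.2 F₀.one_mem) h1 (Φ₀.B_symm_zero k)
    (notMem_span_of hu.1 (Submodule.mem_span_singleton_self u) k')

theorem gd_all {e v : V₀} {c : F} (he : Φ₀.Sing e) (h1 : Φ.Gd Φ₀ j κ H c e) (hv : Φ₀.Sing v) :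
    Φ.Gd Φ₀ j κ H c v := by
  have k : ∀ c u, Φ₀.Sing u → Φ.Gd Φ₀ j κ H c u → Φ.Gd Φ₀ j κ H (K.σ c) u := fun c u hu k => by
    obtain ⟨x, x1, x2, -, -, x5⟩ := exists_sing_three h.nd₀ h.sg h.dim9 u u u
    obtain ⟨y, y1, y2, y3, -, y5⟩ := exists_sing_three h.nd₀ h.sg h.dim9 u x x
    have := h.gd_step hH y1 hu (Φ₀.B_symm_zero y2) (notMem_span_of hu.1 (Submodule.mem_sup_left
      (Submodule.mem_sup_left (Submodule.mem_span_singleton_self u))) y5) (h.gd_step hH x1 y1 y3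
      (fun k => y5 (Submodule.mem_sup_right k)) (h.gd_step hH hu x1 x2 (fun k => x5 (Submodule.mem_sup_right k)) k))
    rwa [K.σσ] at this
  exact sing_connect h.nd₀ h.sg h.dim9 (fun u v a b c' d e => K.σσ c ▸ k _ _ b (h.gd_step hH a b c' d e)) he h1 hv

theorem gd_top (hp : (finrank F₀ F).Prime) {e : V₀} {c : F} (he : Φ₀.Sing e) (h1 : Φ.Gd Φ₀ j κ H c e)
    (hc : K.σ c ∉ F₀) (d : F) {v : V₀} (hv : Φ₀.Sing v) : Φ.Gd Φ₀ j κ H d v := by
  obtain ⟨x, x1, x2, -, -, x5⟩ := exists_sing_three h.nd₀ h.sg h.dim9 e e e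
  have k : ∀ c c', Φ.Gd Φ₀ j κ H c e → Φ.Gd Φ₀ j κ H c' e → Φ.Gd Φ₀ j κ H (c * K.σ c') e := fun c c' a b =>
    h.gd_comm hH a (h.gd_all hH he b x1) x2 fun k => x5 (Submodule.mem_sup_right k)
  have k' : ∀ c, Φ.Gd Φ₀ j κ H c e → Φ.Gd Φ₀ j κ H (K.σ c) e := fun c a => by
    simpa using k _ _ (h.gd_rat hH he.2 F₀.one_mem) a
  let A : Subalgebra F₀ F :=
    { carrier := {c | Φ.Gd Φ₀ j κ H c e}
      mul_mem' := fun {a b} ha hb => by simpa [K.σσ] using k _ _ ha (k' _ hb)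
      add_mem' := fun {a b} ha hb y hy => add_smul a b (K.σ κ • j y) ▸ (ha y hy).add (hb y hy)
      algebraMap_mem' := fun a => h.gd_rat hH he.2 a.2 }
  rcases (Subalgebra.isSimpleOrder_of_finrank_prime F₀ F hp).eq_bot_or_eq_top A with k1 | k1
  · obtain ⟨a, ha⟩ := Algebra.mem_bot.1 (k1 ▸ k' c h1 : K.σ c ∈ (⊥ : Subalgebra F₀ F))
    exact absurd (ha ▸ a.2) hc
  exact h.gd_all hH he (show d ∈ A from k1 ▸ trivial) hv

variable [Finite F] [FiniteDimensional F V]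

theorem E_le (hR : Φ.Rich0) (h2 : H ≤ Φ.Isom) (hT : (∀ a, K.T a = 0 → ∃ b, a = b - K.ε * K.σ b) ∨
    (∀ v, Φ₀.N v = 0) ∧ ∀ a, ∃ c, a = c * K.σ c) (h1 : ∀ c v, Φ₀.Sing v → Φ.Gd Φ₀ j κ H c v) : Φ.E ≤ H := by
  have hA : ∀ e, Φ₀.Sing e → ∀ x, Φ.B x (j e) = 0 → Φ.InA H (j e) x := fun e he x hx => by
    rw [← h.rs.sum_eq x]
    refine Finset.sum_induction _ _ (fun _ _ => InA.add) (InA.zero ((h.N _).2 he.2)) fun b _ => ?_
    have := h1 (finBasis F₀ F b / K.σ κ) e he (ρ ((finBasis F₀ F).coord b) x)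
      (Φ₀.B_symm_zero (by rw [h.B_ρ, hx, mul_zero, map_zero]))
    rwa [smul_smul, div_mul_cancel₀ _ h.σκ0] at this
  have hF : ∀ e, Φ₀.Sing e → Φ.Full H (j e) := fun e he => full_of (fun a ha => by
    obtain ⟨v, v1, v2, -, -, v5⟩ := exists_sing_three h.nd₀ h.sg h.dim9 e e e
    obtain ⟨w, w1, w2⟩ := h.nd₀.exists_perp_one fun k => v5 (Submodule.mem_sup_right k)
    have w3 := w1 e (Submodule.mem_span_singleton_self e)
    rcases hT with hT | ⟨hT, hT'⟩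
    · obtain ⟨b, rfl⟩ := hT a (by simpa using ha.ha)
      refine InA.comm_T (y := K.σ κ • j w) (y' := b • j v) (hA e he _ ?_) (hA e he _ ?_) ?_ _
      · simp [h.B0.2 (Φ₀.B_symm_zero w3)]
      · simp [h.B0.2 (Φ₀.B_symm_zero v2)]
      · rw [Φ.B_smul_left, h.B', w2]; simp
    have k : ∀ (c : F) v, Φ₀.B e v = 0 → v ∉ F₀ ∙ e → ∀ k, Φ.eich (j e) (c • j v) 0 k ∈ H := fun c v a b k => by
      obtain ⟨y, -, y2, y3, -, y5⟩ := exists_sing_three h.nd₀ h.sg h.dim9 e v v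
      obtain ⟨w, w1, w2⟩ := h.nd₀.exists_perp_one fun k => y5 (Submodule.mem_sup_left k)
      have w3 := w1 _ (Submodule.mem_sup_left (Submodule.mem_span_singleton_self _))
      have w4 := w1 _ (Submodule.mem_sup_right (Submodule.mem_span_singleton_self _))
      obtain ⟨α, hα, k1⟩ := hA e he (c • j y) (by simp [h.B0.2 (Φ₀.B_symm_zero y2)])
      have k2 := h.eich0 hH (h.isEich (hT v) (hT w) w4 _)
      have k3 := H.mul_mem (H.mul_mem (H.mul_mem k2 k1) (H.inv_mem k2)) (H.inv_mem k1)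
      rw [Φ.eich_conj (Φ.eich_mem _ _ _ _), eich_inv, Φ.eich_congr' _ (eich_fix _ (h.B0.2 a)
        (by rw [h.B', w3]; rfl)) (Φ.eich_of_perp _ _ _ _ (by simp [h.B0.2 (Φ₀.B_symm_zero y3)])) rfl, eich_mul] at k3
      convert k3 using 2
      · rw [Φ.B_smul_left, h.B', w2]; simp
      · simp only [map_neg, map_add, LinearMap.neg_apply, hα.Byy, B_smul_right, B_smul_left,
          h.B0.2 (Φ₀.B_symm_zero y3)]
        ring
    obtain ⟨c, hc⟩ := hT' (a * κ)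
    have n1 : w ∉ F₀ ∙ e := fun k => by
      obtain ⟨t, rfl⟩ := Submodule.mem_span_singleton.1 k
      simp [B_smul_right, Φ₀.B_symm_zero v2] at w2
    have n2 : w + v ∉ F₀ ∙ e := fun k => by
      obtain ⟨t, ht⟩ := Submodule.mem_span_singleton.1 k
      have := congrArg (Φ₀.B v) ht
      simp [B_smul_right, Φ₀.B_symm_zero v2, w2, Φ₀.B_self_of_N v1.2] at this
    have k3 := H.mul_mem (H.mul_mem (k c w w3 n1 (h.isEich he.2 (hT _) w3 _))
      (k c v v2 (fun k => v5 (Submodule.mem_sup_right k)) (h.isEich he.2 (hT _) v2 _)))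
      (H.inv_mem (k c _ (by simp [w3, v2]) n2 (h.isEich he.2 (hT _) (by simp [w3, v2]) _)))
    rw [eich_mul, eich_inv, eich_mul] at k3
    convert k3 using 2
    · simp
    · have e1 := h.B v w
      have e2 := Φ.B_self_of_N ((h.N _).2 (hT (w + v)))
      have := h.κ0
      rw [← smul_add, ← map_add j]
      simp only [map_neg, LinearMap.neg_apply, B_smul_right, B_smul_left, e2, map_zero]
      rw [w2] at e1
      simp only [OneMemClass.coe_one] at e1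
      linear_combination a * e1 + Φ.B (j v) (j w) * hc) (hA e he)
  obtain ⟨e, he, -⟩ := exists_sing_three h.nd₀ h.sg h.dim9 0 0 0
  obtain ⟨f, hf, -⟩ := h.nd₀.exists_hyp_perp (U := ⊥) he.2 he.1 (by simp)
  exact E_le_of_full h.nd hR ((h.N _).2 he.2) ((h.N _).2 hf.hf) (hF e he) (hF f hf.sing_f)
    (fun k => by simpa [hf.hef] using h.B0.1 k)

omit hH [Finite F] [FiniteDimensional F V] in
theorem rat_of_B {e : V₀} {x : V} (he : Φ₀.Sing e) (hx : ∀ v, Φ₀.B e v = 0 → Φ.B (j v) x ∈ F₀) :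
    ∃ u, ∃ d : F, x = K.σ κ • j u + d • j e := by
  obtain ⟨f, hf, -⟩ := h.nd₀.exists_hyp_perp (U := ⊥) he.2 he.1 (by simp)
  have k0 : Φ.B (j f) (j e) ≠ 0 := fun k => by simpa [hf.hef] using Φ₀.B_symm_zero (h.B0.1 k)
  set d := K.σ (Φ.B (j f) x / Φ.B (j f) (j e))
  have k1 : ∀ v, Φ.B (j v) (x - d • j e) ∈ F₀ := fun v => by
    have k2 : Φ₀.B e (v - K₀.σ (Φ₀.B e v) • f) = 0 := by simp [B_smul_right, K₀.σσ, hf.hef]
    have := hx _ k2
    have k3 := h.B0.2 (Φ₀.B_symm_zero k2)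
    simp only [map_sub, j_smul, LinearMap.sub_apply, B_smul_left] at this k3
    convert this using 1
    rw [map_sub, B_smul_right, K.σσ, sub_eq_zero.1 k3]
    field_simp
  obtain ⟨u, hu⟩ := h.nd₀.exists_repr
    { toFun := fun v => ⟨_, k1 v⟩
      map_add' := fun a b => Subtype.ext (by simp)
      map_smul' := fun a b => Subtype.ext (by simp [j_smul]) }
  refine ⟨u, d, sub_eq_iff_eq_add.1 (sub_eq_zero.1 (h.nd _ fun w => Φ.mem_perp_singleton.1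
    (h.rs.mem_of (fun v => Φ.mem_perp_singleton.2 ?_) w)))⟩
  rw [map_sub, h.B', hu, sub_eq_zero]; rfl

theorem dich (hp : (finrank F₀ F).Prime) (hR : Φ.Rich0) (h2 : H ≤ Φ.Isom)
    (hT : (∀ a, K.T a = 0 → ∃ b, a = b - K.ε * K.σ b) ∨ (∀ v, Φ₀.N v = 0) ∧ ∀ a, ∃ c, a = c * K.σ c)
    (hE : ¬ Φ.E ≤ H) {e : V₀} (he : Φ₀.Sing e) {x : V} (hx : Φ.InA H (j e) x) :
    ∃ u, ∃ d : F, x = K.σ κ • j u + d • j e := by
  refine h.rat_of_B he fun v hv => perp_add_closure (P := fun v => Φ.B (j v) x ∈ F₀) h.nd₀ h.sg h.dim9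
    (fun a b ha hb => by simpa using add_mem ha hb) (fun v v1 v2 => ?_) hv
  by_contra hc
  obtain ⟨y, y1, y2, y3, -, y5⟩ := exists_sing_three h.nd₀ h.sg h.dim9 e v v
  obtain ⟨z, z1, z2, z3, z4, z5⟩ := exists_sing_three h.nd₀ h.sg h.dim9 e v y
  obtain ⟨w, w1, w2⟩ := h.nd₀.exists_perp_one (notMem_swap (L := (F₀ ∙ e) ⊔ F₀ ∙ v)
    (fun k => y5 (Submodule.mem_sup_left k)) z5)
  have w3 := w1 e (Submodule.mem_sup_left (Submodule.mem_sup_left (Submodule.mem_span_singleton_self _)))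
  have w4 := w1 v (Submodule.mem_sup_left (Submodule.mem_sup_right (Submodule.mem_span_singleton_self _)))
  have w5 := w1 z (Submodule.mem_sup_right (Submodule.mem_span_singleton_self _))
  have k1 := (hx.fix (h.eich0 hH (h.isEich v1 y1.2 y3 _)) (Φ.eich_mem _ _ _ _)
    (eich_fix _ (h.B0.2 v2) (by rw [h.B', y2]; rfl))).sub hx
  obtain ⟨a, ha, k2⟩ := h.gd_rat hH z1.2 F₀.one_mem w w5
  have k3 := k1.comm k2 (h.B0.2 z2) (by rw [one_smul, h.B', w3]; rfl)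
    (by simp [eich_apply, h.B0.2 z3, h.B0.2 z4])
  refine hE (h.E_le hH hR h2 hT fun c u hu => h.gd_top hH hp he (h.gd_of_pair hH (c := -(K.ε * Φ.B x (j v)))
    (z := z) ?_ fun k => z5 (Submodule.mem_sup_left (Submodule.mem_sup_left k))) ?_ c hu)
  · convert k3 using 1
    simp only [eich_apply, one_smul, mul_zero, zero_mul, zero_smul, sub_zero, map_sub, map_add,
      LinearMap.sub_apply, LinearMap.add_apply, B_smul_left, h.B', w4, w2]
    simp [smul_smul]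
  · rw [map_neg, map_mul, K.σε, ← Φ.symm]
    simpa using hc

end Rat

end Form

end Cfsg.Agent.Classical
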