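import Cfsg.Agent.Lib.Classical.Sub2

/-! Maximality of subfield subgroups of classical groups. -/

set_option autoImplicit false

namespace Cfsg.Agent.Classical

open Module

section Lin
variable {F : Type*} [Field F] {V : Type*} [AddCommGroup V] [Module F V]

theorem mem_swap {L : Submodule F V} {a b : V} (ha : a ∉ L) (h : a ∈ L ⊔ F ∙ b) : b ∈ L ⊔ F ∙ a := by
  by_contra k
  exact notMem_swap ha k h

theorem sup_span_le {L X : Submodule F V} {a : V} (h : L ≤ X) (ha : a ∈ X) : L ⊔ F ∙ a ≤ X :=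
  sup_le h ((Submodule.span_singleton_le_iff_mem _ _).2 ha)

theorem mem_sup_self (L : Submodule F V) (a : V) : a ∈ L ⊔ F ∙ a :=
  Submodule.mem_sup_right (Submodule.mem_span_singleton_self a)

theorem self_mem_sup (L : Submodule F V) (a : V) : a ∈ (F ∙ a) ⊔ L :=
  Submodule.mem_sup_left (Submodule.mem_span_singleton_self a)

variable {F₀ : Subfield F} {V₀ : Type*} [AddCommGroup V₀] [Module F₀ V₀]
  {j : V₀ →ₛₗ[F₀.subtype] V} {ρ : (F →ₗ[F₀] F₀) → V →+ V₀}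

namespace RS
variable (h : RS j ρ) [FiniteDimensional F₀ V₀] [FiniteDimensional F V]
include h

theorem finrank_le {S : Submodule F₀ V₀} {X : Submodule F V} (k : ∀ u ∈ S, j u ∈ X) :
    finrank F₀ S ≤ finrank F X := by
  have : LinearIndependent F fun i => (⟨j (finBasis F₀ S i), k _ (finBasis F₀ S i).2⟩ : X) := by
    refine LinearIndependent.of_comp X.subtype (Fintype.linearIndependent_iff.2 fun g hg i => ?_)
    by_contra k
    obtain ⟨l, -, hl⟩ := exists_dual_one (F := F₀) (L := ⊥) (v := g i) k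
    have := congrArg (ρ l) hg
    simp only [Function.comp, Submodule.subtype_apply, map_sum, h.eq, map_zero] at this
    simpa [hl] using Fintype.linearIndependent_iff.1 ((finBasis F₀ S).linearIndependent.map' S.subtype
      S.ker_subtype) (fun i => l (g i)) this i
  simpa using this.fintype_card_le_finrank

omit [FiniteDimensional F V] in
theorem finrank_ex [Finite F] (S : Submodule F₀ V₀) : finrank F (h.ex S) ≤ finrank F₀ S := by
  have : h.ex S ≤ Submodule.span F (Set.range fun i => j (finBasis F₀ S i)) := h.ex_le fun u hu => by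
    have := congrArg Subtype.val ((finBasis F₀ S).sum_repr ⟨u, hu⟩)
    simp only [AddSubmonoidClass.coe_finsetSum, Submodule.coe_smul] at this
    rw [← this, map_sum]
    exact sum_mem fun i _ => j_smul j _ _ ▸ Submodule.smul_mem _ _ (Submodule.subset_span ⟨i, rfl⟩)
  haveI i := FiniteDimensional.span_of_finite F (Set.finite_range fun i => j (finBasis F₀ S i))
  simpa using (Submodule.finrank_mono this).trans (finrank_range_le_card _)

theorem exists_hull (L : Submodule F V) (W : Submodule F₀ V₀) : ∃ T, W ≤ T ∧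
    finrank F₀ T ≤ finrank F₀ W + 2 * finrank F L ∧
      ∀ z ∈ L, ∀ u u', z ∈ h.ex ((W ⊔ F₀ ∙ u) ⊔ F₀ ∙ u') → z ∈ h.ex T := by
  by_contra hc
  push Not at hc
  have k : ∀ k ≤ finrank F L + 1, ∃ S : Submodule F₀ V₀, W ≤ S ∧ finrank F₀ S ≤ finrank F₀ W + 2 * k ∧
      k ≤ finrank F (L ⊓ h.ex S : Submodule F V) := fun k => by
    induction k with
    | zero => exact fun _ => ⟨W, le_rfl, by simp, by simp⟩
    | succ k ih =>
      intro hk
      obtain ⟨S, a, b, c⟩ := ih (by omega)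
      obtain ⟨z, z1, u, u', z2, z3⟩ := hc S a (by omega)
      have := finrank_sup_one_le S u
      have := finrank_sup_one_le (S ⊔ F₀ ∙ u) u'
      have e : S ≤ (S ⊔ F₀ ∙ u) ⊔ F₀ ∙ u' := le_sup_left.trans le_sup_left
      refine ⟨(S ⊔ F₀ ∙ u) ⊔ F₀ ∙ u', a.trans e, by omega, c.trans_lt (Submodule.finrank_lt_finrank_of_lt
        (lt_of_le_of_ne (inf_le_inf_left _ (h.ex_mono e)) fun e => z3 ?_))⟩
      have : z ∈ L ⊓ h.ex ((S ⊔ F₀ ∙ u) ⊔ F₀ ∙ u') :=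
        ⟨z1, h.ex_mono (sup_le_sup_right (sup_le_sup_right a _) _) z2⟩
      exact (e ▸ this).2
  obtain ⟨S, -, -, b⟩ := k _ le_rfl
  have := Submodule.finrank_mono (inf_le_left : L ⊓ h.ex S ≤ L)
  omega

/-- `W` is in general position with respect to `L` -/
def Gen (L : Submodule F V) (W : Submodule F₀ V₀) : Prop := ∀ z ∈ L, ∀ u, z ∈ h.ex (W ⊔ F₀ ∙ u) → z ∈ h.ex W

omit [FiniteDimensional F₀ V₀] [FiniteDimensional F V] in
theorem gen_comap [Finite F] (L : Submodule F V) : h.Gen L (L.comap j) := fun z hz u k => by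
  rw [h.ex_sup, h.ex_span] at k
  obtain ⟨a, ha, b, hb, rfl⟩ := Submodule.mem_sup.1 k
  obtain ⟨c, rfl⟩ := Submodule.mem_span_singleton.1 hb
  refine add_mem ha ?_
  rcases eq_or_ne c 0 with rfl | hc
  · simp
  exact Submodule.smul_mem _ _ (h.j_mem.2 ((L.smul_mem_iff hc).1
    ((L.add_mem_iff_right (h.ex_le (fun _ k => k) ha)).1 hz)))

theorem Gen.step {L : Submodule F V} {W : Submodule F₀ V₀} (k : h.Gen L W) : ∃ T, W ≤ T ∧
    finrank F₀ T ≤ finrank F₀ W + 2 * finrank F L ∧ ∀ e ∉ T, h.Gen L (W ⊔ F₀ ∙ e) := by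
  obtain ⟨T, t1, t2, t3⟩ := h.exists_hull L W
  refine ⟨T, t1, t2, fun e he z hz u k1 => h.ex_mono le_sup_left ?_⟩
  by_contra k2
  obtain ⟨l, hl⟩ := not_forall.1 k2
  have k3 := t3 z hz e u k1
  refine k2 (k z hz (ρ l z) fun l' => ?_)
  by_contra k4
  have k5 : ρ l z ∉ W ⊔ F₀ ∙ e := fun k => he (sup_span_le t1 (k3 l) (mem_swap hl k))
  have k6 := sup_span_le le_sup_left (mem_swap k5 (k1 l)) (k1 l')
  rw [sup_right_comm] at k6
  exact he (sup_span_le (sup_span_le t1 (k3 l)) (k3 l') (mem_swap k4 k6))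

omit [FiniteDimensional F₀ V₀] [FiniteDimensional F V] in
theorem Gen.imSub [Finite F] {L : Submodule F V} {W : Submodule F₀ V₀} (k : h.Gen L W) {g : V ≃ₗ[F] V}
    (h1 : Pres j 1 g) (h2 : g ∈ imSub (h.ex W ⊔ L)) : g ∈ imSub (h.ex W) :=
  h.ind (P := fun x => g x - x ∈ h.ex W) (by simp) (fun x y a b => by
    convert add_mem a b using 1; rw [map_add]; abel) fun c u => by
    obtain ⟨u', hu⟩ := h1 u
    rw [map_smul, ← smul_sub]
    refine Submodule.smul_mem _ _ ?_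
    obtain ⟨a, ha, b, hb, e⟩ := Submodule.mem_sup.1 (h2 (j u))
    refine e ▸ add_mem ha (k b hb (u' - u) ?_)
    rw [← eq_sub_iff_add_eq', hu, one_smul, ← map_sub] at e
    exact e ▸ sub_mem (h.j_mem.2 (mem_sup_self _ _)) (h.ex_mono le_sup_left ha)

end RS
end Lin

namespace Form
variable {F : Type*} [Field F] {K : Kind F} {V : Type*} [AddCommGroup V] [Module F V]
  {F₀ : Subfield F} {K₀ : Kind F₀} {V₀ : Type*} [AddCommGroup V₀] [Module F₀ V₀]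
  {Φ : Form K V} {Φ₀ : Form K₀ V₀} {j : V₀ →ₛₗ[F₀.subtype] V} {ρ : (F →ₗ[F₀] F₀) → V →+ V₀} {κ : F}
  {H : Subgroup (V ≃ₗ[F] V)}

theorem eich_imSub {e y : V} {a : F} (h : Φ.IsEich e y a) {L : Submodule F V} (he : e ∈ L) (hy : y ∈ L) :
    Φ.eich e y a h ∈ imSub L := fun x => by
  rw [eich_apply]
  convert sub_mem (sub_mem (L.smul_mem _ he) (L.smul_mem _ hy)) (L.smul_mem _ he) using 1
  rotate_left
  · exact Φ.B x y
  · exact K.ε * Φ.B x e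
  · exact K.ε * a * Φ.B x e
  abel

theorem fix_of_imSub (hΦ : Φ.Nondeg) {W : Submodule F V} (hW : W ≤ Φ.perp W) {a : V ≃ₗ[F] V} (ha : a ∈ Φ.Isom)
    (h : a ∈ imSub W) {x : V} (hx : x ∈ W) : a x = x := hΦ.ext_left fun y => by
  have k1 := hW (h x) _ (h y)
  have k2 := hW hx _ (h y)
  have := ha.1 x y
  simp only [map_sub, LinearMap.sub_apply] at k1 k2
  linear_combination this - k1 - k2

theorem TS.sup {W : Submodule F V} (hW : Φ.TS W) {e : V} (he : Φ.N e = 0) (h : ∀ x ∈ W, Φ.B x e = 0) :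
    Φ.TS (W ⊔ F ∙ e) := by
  refine ⟨fun w hw => ?_, fun u hu v hv => ?_⟩
  · obtain ⟨a, ha, b, hb, rfl⟩ := Submodule.mem_sup.1 hw
    obtain ⟨c, rfl⟩ := Submodule.mem_span_singleton.1 hb
    simp [N_add, N_smul, he, hW.1 a ha, h a ha]
  have k : W ⊔ F ∙ e ≤ Φ.perp (F ∙ e) := sup_span_le (fun x hx => Φ.mem_perp_singleton.2 (h x hx))
    (Φ.mem_perp_singleton.2 (Φ.B_self_of_N he))
  have k' : W ⊔ F ∙ e ≤ Φ.perp W := sup_span_le hW.le_perp (Φ.mem_perp'.2 h)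
  exact (Φ.perp_sup _ _ ▸ le_inf k' k) hu v hv

theorem TS.bot : Φ.TS ⊥ := ⟨by simp, by simp⟩

namespace Rat
variable (h : Rat Φ Φ₀ j ρ κ) [Finite F] [FiniteDimensional F₀ V₀] [FiniteDimensional F V]
include h

omit [FiniteDimensional F₀ V₀] [FiniteDimensional F V] in
theorem B_ex {S : Submodule F₀ V₀} {z : V} (hz : z ∈ h.rs.ex S) {f : V₀} (hf : ∀ x ∈ S, Φ₀.B x f = 0) :
    Φ.B (j f) z = 0 := Φ.B_symm_zero (Φ.mem_perp_singleton.1
  (h.rs.ex_le (fun u hu => Φ.mem_perp_singleton.2 (h.B0.2 (hf u hu))) hz))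

omit [Finite F] in
theorem ρ_mem {z w : V} {a c : F} (k : Φ.IsEich z w a) (hw : w ∉ F ∙ z) (hc : Pres j c (Φ.eich z w a k))
    (l : F →ₗ[F₀] F₀) : j (ρ l z) ∈ (F ∙ z) ⊔ F ∙ w := by
  have k1 := eich_imSub k (self_mem_sup (F ∙ w) z) (mem_sup_self _ w)
  have := finrank_two_le (F := F) z w
  have := h.dim
  obtain ⟨y, y1, y2⟩ := h.nd.exists_perp_one hw
  have k2 : Φ.eich z w a k (K.ε • y) - K.ε • y = z := by
    rw [Φ.eich_of_perp _ _ _ _ (by simp [Φ.B_symm_zero (y1 z (Submodule.mem_span_singleton_self z))]),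
      Φ.B_smul_left, Φ.symm, y2]
    simp [K.εε]
  conv_rhs => rw [← k2, map_sub, map_sub, h.rs.ρ_pres (hc.one (h.rs.mem_of_pres hc k1 (by omega)))]
  exact k1 _

theorem isP_of_two {z w w' : V} {a a' c c' : F} (k : Φ.IsEich z w a) (k' : Φ.IsEich z w' a') (hw : w ∉ F ∙ z)
    (hw' : w' ∉ (F ∙ z) ⊔ F ∙ w) (hc : Pres j c (Φ.eich z w a k)) (hc' : Pres j c' (Φ.eich z w' a' k')) :
    IsP j z := h.rs.isP_of_ρ fun l => by
  by_contra k1
  exact hw' (sup_span_le le_sup_left (h.ρ_mem k hw hc l)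
    (mem_swap k1 (h.ρ_mem k' (fun k => hw' (Submodule.mem_sup_left k)) hc' l)))

omit [FiniteDimensional F₀ V₀] [FiniteDimensional F V] in
theorem map_notMem {s : V ≃ₗ[F] V} {u v w : V₀} (k : w ∉ (F₀ ∙ u) ⊔ F₀ ∙ v) (c : F) :
    s (K.σ κ • j w) ∉ (F ∙ s (j u)) ⊔ F ∙ s (c • j v) := fun k1 => by
  have : (F ∙ s (j u)) ⊔ F ∙ s (c • j v) ≤ (h.rs.ex ((F₀ ∙ u) ⊔ F₀ ∙ v)).map (s : V →ₗ[F] V) :=
    sup_span_le ((Submodule.span_singleton_le_iff_mem _ _).2 ⟨_, h.rs.j_mem.2 (self_mem_sup _ _), rfl⟩)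
      ⟨_, Submodule.smul_mem _ c (h.rs.j_mem.2 (mem_sup_self _ _)), rfl⟩
  obtain ⟨x, x1, x2⟩ := this k1
  exact k (h.rs.j_mem.1 ((Submodule.smul_mem_iff _ h.σκ0).1 (s.injective x2 ▸ x1)))

variable (hH : ∀ g ∈ Φ.E, Pres j 1 g → g ∈ H) (h2 : H ≤ Φ.Isom)
  (hD : ∀ e, Φ₀.Sing e → ∀ x, Φ.InA H (j e) x → ∃ u, ∃ d : F, x = K.σ κ • j u + d • j e)
include hH hD

omit [FiniteDimensional F V] in
theorem isP_of_small {S S' : Submodule F₀ V₀} (hS : S ≤ S') (h3 : finrank F₀ S' ≤ 3) {z w : V}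
    (hz : z ∈ h.rs.ex S) (hw : w ∈ h.rs.ex S') (hw' : w ∉ h.rs.ex S) (k : Φ.InA H z w) : IsP j z := by
  have := h.dim
  obtain ⟨f, f1, f2, f3⟩ := exists_sing_perp h.nd₀ h.sg (L := S') (L' := S') (by omega)
  obtain ⟨l, hl⟩ := not_forall.1 hw'
  obtain ⟨y, y1, y2⟩ := h.nd₀.exists_perp_one (notMem_swap hl fun k => f3 (sup_span_le hS (hw l) k))
  obtain ⟨a, ha, k⟩ := k
  have k1 := h.B_ex hz fun x hx => y1 x (Submodule.mem_sup_left hx)
  obtain ⟨u, d, k2⟩ := hD f f1 _ ((h.gd_rat hH f1.2 F₀.one_mem y (y1 f (mem_sup_self _ _))).comm k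
    (h.B_ex hz fun x hx => f2 x (hS hx)) (h.B_ex hw f2) (by simp [k1]))
  have k3 : Φ.B ((1 : F) • K.σ κ • j y) w ≠ 0 := fun k => by
    rw [h.B_ρ, Φ.B_symm_zero (by simpa [h.κ0] using k)] at y2
    simp at y2
  have := h.σκ0
  have k4 : (K.σ κ)⁻¹ • Φ.B ((1 : F) • K.σ κ • j y) w • z = j u + (d / K.σ κ) • j f := by
    rw [k2]; match_scalars <;> field_simp
  by_cases k5 : d / K.σ κ ∈ F₀
  · refine IsP.of_smul (IsP.of_smul ⟨1, u + (⟨_, k5⟩ : F₀) • f, ?_⟩ (inv_ne_zero this)) k3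
    rw [k4, map_add, j_smul, one_smul]
  exact absurd (h.rs.mem_of_comb k5 (k4 ▸ Submodule.smul_mem _ _ (Submodule.smul_mem _ _
    (h.rs.ex_mono hS hz)))).2 f3

include h2

omit [FiniteDimensional F V] in
theorem isP_step {s : V ≃ₗ[F] V} (hs : s ∈ H) (u v : V₀) (hu : Φ₀.Sing u) (hv : Φ₀.Sing v) (k : Φ₀.B u v = 0)
    (_ : v ∉ F₀ ∙ u) (h1 : IsP j (s (j u))) : IsP j (s (j v)) := by
  obtain ⟨c, e, he⟩ := h1
  have k0 : s (j u) ≠ 0 := by simpa [h.rs.j_eq_zero] using hu.1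
  have c0 : c ≠ 0 := by rintro rfl; simp [he] at k0
  have e0 : Φ₀.Sing e := ⟨by rintro rfl; simp [he] at k0, (h.N _).1 (by
    have := (h2 hs).2 (j u)
    rw [he, Φ.N_smul, (h.N _).2 hu.2] at this
    simpa [c0] using this)⟩
  have k1 : ∀ x, Φ₀.B u x = 0 → ∃ x', s (j x) ∈ h.rs.ex ((F₀ ∙ e) ⊔ F₀ ∙ x') := fun x hx => by
    obtain ⟨x', d, k⟩ := hD e e0 _ (InA.of_smul (he ▸ (h.gd_rat hH hu.2 F₀.one_mem x hx).map hs (h2 hs)) c0)
    refine ⟨x', (Submodule.smul_mem_iff _ h.σκ0).1 ((Submodule.smul_mem_iff _ (s := K.σ c) (by simpa)).1 ?_)⟩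
    rw [one_smul, map_smul] at k
    exact k ▸ add_mem (Submodule.smul_mem _ _ (h.rs.j_mem.2 (mem_sup_self _ _)))
      (Submodule.smul_mem _ _ (h.rs.j_mem.2 (self_mem_sup _ _)))
  obtain ⟨w, -, w2, w3, -, w5⟩ := exists_sing_three h.nd₀ h.sg h.dim9 u v v
  obtain ⟨v', hv'⟩ := k1 v k
  obtain ⟨w', hw'⟩ := k1 w w2
  by_cases k2 : s (j v) ∈ F ∙ j e
  · obtain ⟨d, hd⟩ := Submodule.mem_span_singleton.1 k2
    exact ⟨d, e, hd.symm⟩
  have := finrank_sup_one_le ((F₀ ∙ e) ⊔ F₀ ∙ v') w'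
  have := finrank_two_le (F := F₀) e v'
  refine h.isP_of_small hH hD (S' := ((F₀ ∙ e) ⊔ F₀ ∙ v') ⊔ F₀ ∙ w') le_sup_left (by omega) hv' ?_ (fun k3 => ?_)
    ((h.gd_rat hH hv.2 F₀.one_mem w w3).map hs (h2 hs))
  · rw [one_smul, map_smul]
    exact Submodule.smul_mem _ _ (h.rs.ex_mono (sup_le_sup_right le_sup_left _) hw')
  rw [h.rs.ex_sup, h.rs.ex_span, h.rs.ex_span] at k3 hv'
  refine h.map_notMem (s := s) (fun k => w5 (Submodule.mem_sup_left k)) 1 ?_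
  rw [one_smul] at k3 ⊢
  rw [he, Submodule.span_singleton_smul_eq c0.isUnit]
  exact sup_span_le le_sup_left (mem_swap k2 hv') k3

omit [FiniteDimensional F V] in
theorem pres_of_isP {s : V ≃ₗ[F] V} (hs : s ∈ H) {e : V₀} (he : Φ₀.Sing e) (h1 : IsP j (s (j e))) :
    ∃ c, Pres j c s := by
  have k : ∀ v, Φ₀.Sing v → IsP j (s (j v)) := fun v hv =>
    sing_connect h.nd₀ h.sg h.dim9 (h.isP_step hH h2 hD hs) he h1 hv
  obtain ⟨c, e', h1⟩ := h1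
  have c0 : c ≠ 0 := by rintro rfl; simp [h.rs.j_eq_zero, he.1] at h1
  obtain ⟨f, hf, -⟩ := h.nd₀.exists_hyp_perp (U := ⊥) he.2 he.1 (by simp)
  let A : Submodule F₀ V₀ :=
    { carrier := {v | ∃ v', s (j v) = c • j v'}
      zero_mem' := ⟨0, by simp⟩
      add_mem' := fun ⟨a, ha⟩ ⟨b, hb⟩ => ⟨a + b, by simp [ha, hb]⟩
      smul_mem' := fun a x ⟨b, hb⟩ => ⟨a • b, by rw [j_smul, j_smul, map_smul, hb, smul_comm]⟩ }
  refine ⟨c, fun u => show u ∈ A from hf.eq_top_of_sing (W := A) (fun v hv => ?_) ▸ trivial⟩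
  exact sing_connect (P := (· ∈ A)) h.nd₀ h.sg h.dim9 (fun u v a b c d ⟨u', e⟩ => h.rs.same_scalar c0 e (k v b)
    (k _ ⟨fun k => d (by rw [← neg_eq_iff_add_eq_zero] at k; simp [← k]), by
      rw [Φ₀.N_add_of_orth c, a.2, b.2, add_zero]⟩) a.1 d) he ⟨e', h1⟩ hv

theorem pres_of_conj {s : V ≃ₗ[F] V} (hs : s ∈ H) {e v v' : V₀} (he : Φ₀.Sing e) (hv : v ∉ F₀ ∙ e)
    (hv' : v' ∉ (F₀ ∙ e) ⊔ F₀ ∙ v) (k : Φ.IsEich (j e) (K.σ κ • j v) 0) (k' : Φ.IsEich (j e) (K.σ κ • j v') 0)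
    (h1 : ∃ c, Pres j c (s * Φ.eich _ _ _ k * s⁻¹)) (h1' : ∃ c, Pres j c (s * Φ.eich _ _ _ k' * s⁻¹)) :
    ∃ c, Pres j c s := by
  rw [Φ.eich_conj (h2 hs)] at h1 h1'
  exact h.pres_of_isP hH h2 hD hs he (h.isP_of_two _ _ (fun k => h.map_notMem (v := e) (by simpa using hv) 1
    (Submodule.mem_sup_left k)) (h.map_notMem hv' _) h1.choose_spec h1'.choose_spec)

omit hH h2 hD in
theorem exists_gen {L : Submodule F V} (hL : Φ.TS L) (h2 : finrank F L ≤ 2) :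
    ∃ W, Φ₀.TS W ∧ finrank F₀ W = 3 ∧ h.rs.Gen L W := by
  have k0 := h.rs.finrank_le (S := L.comap j) (X := L) fun _ k => k
  have k : ∀ k, finrank F₀ (L.comap j) + k ≤ 3 → ∃ W, Φ₀.TS W ∧ finrank F₀ W = finrank F₀ (L.comap j) + k ∧
      h.rs.Gen L W := fun k => by
    induction k with
    | zero => exact fun _ => ⟨_, ⟨fun w hw => (h.N _).1 (hL.1 _ hw), fun u hu v hv => h.B0.1 (hL.2 _ hu _ hv)⟩,
      rfl, h.rs.gen_comap L⟩
    | succ k ih =>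
      intro hk
      obtain ⟨W, w1, w2, w3⟩ := ih (by omega)
      obtain ⟨T, t1, t2, t3⟩ := w3.step
      have := h.dim
      obtain ⟨e, e1, e2, e3⟩ := exists_sing_perp h.nd₀ h.sg (L := W) (L' := T) (by omega)
      have := finrank_sup_one_le W e
      have := Submodule.finrank_lt_finrank_of_lt (lt_of_le_of_ne (le_sup_left : W ≤ W ⊔ F₀ ∙ e)
        fun k => e3 (t1 (k ▸ mem_sup_self W e)))
      exact ⟨_, w1.sup e1.2 e2, by omega, t3 e e3⟩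
  obtain ⟨W, w1, w2, w3⟩ := k (3 - finrank F₀ (L.comap j)) (by omega)
  exact ⟨W, w1, by omega, w3⟩

theorem pres_eich {z w : V} {k : Φ.IsEich z w 0} (ht : Φ.eich z w 0 k ∈ H) : ∃ c, Pres j c (Φ.eich z w 0 k) := by
  by_contra hc
  have d2 := finrank_two_le (F := F) z w
  have hn := h.dim
  obtain ⟨W, w1, w2, w3⟩ := h.exists_gen (L := (F ∙ z) ⊔ F ∙ w) (by
    simpa using (TS.bot.sup k.he (by simp)).sup (e := w) (by simpa using k.ha.symm) (fun x hx => by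
      obtain ⟨c, rfl⟩ := Submodule.mem_span_singleton.1 (by simpa using hx)
      simp [Φ.B_symm_zero k.hy])) d2
  have d3 := h.rs.finrank_ex W
  have d5 := finrank_sup_le (h.rs.ex W) ((F ∙ z) ⊔ F ∙ w)
  obtain ⟨e, e1, e2⟩ := exists_notMem_of_lt (X := W) (L := ⊥) (by simp [w2])
  obtain ⟨v, v1, v2⟩ := exists_notMem_of_lt (X := W) (L := F₀ ∙ e) ((finrank_span_one_le e).trans_lt (by omega))
  obtain ⟨v', v3, v4⟩ := exists_notMem_of_lt (X := W) (L := (F₀ ∙ e) ⊔ F₀ ∙ v)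
    ((finrank_two_le e v).trans_lt (by omega))
  have he : Φ₀.Sing e := ⟨e2, w1.1 e e1⟩
  have hW : h.rs.ex W ≤ Φ.perp (h.rs.ex W) := h.rs.ex_le fun u hu x hx => h.B_ex hx fun y hy => w1.2 y hy u hu
  have hf : ∀ a ∈ H ⊓ imSub (h.rs.ex W), ∀ x ∈ h.rs.ex W, a x = x := fun a ha x hx =>
    fix_of_imSub h.nd hW (h2 ha.1) ha.2 hx
  have hp : ∀ s ∈ H, ∀ u ∈ W, u ≠ 0 → s (j u) = j u → ∃ c, Pres j c s := fun s hs u hu h0 k =>
    h.pres_of_isP hH h2 hD hs ⟨h0, w1.1 u hu⟩ ⟨1, u, by rw [k, one_smul]⟩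
  have hp' : ∀ a ∈ H ⊓ imSub (h.rs.ex W), ∃ c, Pres j c a := fun a ha =>
    hp a ha.1 e e1 e2 (hf a ha _ (h.rs.j_mem.2 e1))
  have q : ∀ x ∈ W, ∃ k : Φ.IsEich (j e) (K.σ κ • j x) 0, Φ.eich _ _ _ k ∈ H ⊓ imSub (h.rs.ex W) := fun x hx =>
    ⟨h.isEich he.2 (w1.1 x hx) (w1.2 e e1 x hx) _, h.eich0 hH _,
      eich_imSub _ (h.rs.j_mem.2 e1) (Submodule.smul_mem _ _ (h.rs.j_mem.2 hx))⟩
  obtain ⟨q1, q2⟩ := q v v1
  obtain ⟨q3, q4⟩ := q v' v3
  haveI := Module.finite_of_finite F (M := V)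
  obtain ⟨γ, γ1, γ2⟩ := isCyclic_of_ti (A := H ⊓ imSub (h.rs.ex W))
    (B := H ⊓ imSub (h.rs.ex W ⊔ ((F ∙ z) ⊔ F ∙ w)))
    (fun a ha => ⟨ha.1, fun x => Submodule.mem_sup_left (ha.2 x)⟩)
    (fun k1 => hc (hp' _ (k1 ⟨ht, eich_imSub _ (Submodule.mem_sup_right (self_mem_sup _ _))
      (Submodule.mem_sup_right (mem_sup_self _ _))⟩)))
    (fun a ha b hb => LinearEquiv.ext fun x => by
      have k1 := hf a ha _ (hb.2 x)
      have k2 := hf b hb _ (ha.2 x)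
      rw [map_sub, sub_eq_iff_eq_add] at k1 k2
      rw [LinearEquiv.mul_apply, LinearEquiv.mul_apply, k1, k2]; abel)
    (fun g hg hg' a ha hb => by
      by_contra h1
      obtain ⟨c, hc⟩ := hp' a ha
      obtain ⟨u, hu⟩ : ∃ u, a (j u) ≠ j u := by
        by_contra k1
        push Not at k1
        exact h1 (LinearEquiv.ext (h.rs.ind (P := fun x => a x = x) (by simp)
          (fun x y a b => by rw [map_add, a, b]) fun c u => by rw [map_smul, k1]))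
      obtain ⟨u', hu'⟩ := hc.one (h.rs.mem_of_pres hc ha.2 (by omega)) u
      have k1 : a (j u) - j u = j (u' - u) := by rw [hu', one_smul, map_sub]
      have k2 : g⁻¹ (j (u' - u)) ∈ h.rs.ex W := by simpa [← k1] using hb.2 (g⁻¹ (j u))
      have k3 : ∀ t ∈ H ⊓ imSub (h.rs.ex W), ∃ c, Pres j c (g * t * g⁻¹) := fun t ht =>
        hp _ (H.mul_mem (H.mul_mem hg.1 ht.1) (H.inv_mem hg.1)) _ (h.rs.j_mem.1 (k1 ▸ ha.2 _))
          (fun k => hu (by rwa [k, map_zero, sub_eq_zero] at k1)) (by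
            rw [LinearEquiv.mul_apply, LinearEquiv.mul_apply, hf t ht _ k2]; simp)
      obtain ⟨c, hc⟩ := h.pres_of_conj hH h2 hD hg.1 he v2 v4 q1 q3 (k3 _ q2) (k3 _ q4)
      exact hg' ⟨hg.1, w3.imSub _ (hc.one (h.rs.mem_of_pres hc hg.2 (by omega))) hg.2⟩)
  obtain ⟨m, hm⟩ := γ2 _ q2
  obtain ⟨n, hn⟩ := γ2 _ q4
  have k1 : ∀ x (n : ℕ), (γ ^ n) x = x + (n : F) • (γ x - x) := fun x => pow_apply_of_fix (hf γ γ1 _ (γ1.2 x))
  have k2 : ∀ y x k, Φ₀.B e x = 0 → Φ.eich (j e) (K.σ κ • j y) 0 k (j x) = j x + (Φ₀.B x y : F) • j e :=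
    fun y x k hx => by rw [Φ.eich_of_perp _ _ _ _ (h.B0.2 (Φ₀.B_symm_zero hx)), h.B']
  obtain ⟨x, x1, x2⟩ := h.nd₀.exists_perp_one v4
  obtain ⟨y, y1, y2⟩ := h.nd₀.exists_perp_one v2
  have k3 := k2 v x q1 (x1 _ (self_mem_sup _ _))
  have k4 := k2 v' x q3 (x1 _ (self_mem_sup _ _))
  have k5 := k2 v y q1 (y1 _ (Submodule.mem_span_singleton_self _))
  rw [hm, k1, Φ₀.B_symm_zero (x1 _ (mem_sup_self _ _))] at k3
  rw [hn, k1] at k4
  rw [hm, k1] at k5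
  have k6 : ∀ a b, Φ₀.B a b = 1 → (Φ₀.B b a : F) • j e ≠ 0 := fun a b k => smul_ne_zero
    (fun k' => by simpa [k] using Φ₀.B_symm_zero (ZeroMemClass.coe_eq_zero.1 k')) (by simpa [h.rs.j_eq_zero])
  simp only [add_right_inj, ZeroMemClass.coe_zero, zero_smul, smul_eq_zero] at k3 k4 k5
  rcases k3 with k3 | k3
  · exact k6 _ _ y2 (by rw [← k5, k3, zero_smul])
  · exact k6 _ _ x2 (by rw [← k4, k3, smul_zero])

omit hH h2 hD in
theorem maxP (hp : (finrank F₀ F).Prime) (hR : Φ.Rich0) (hT : (∀ a, K.T a = 0 → ∃ b, a = b - K.ε * K.σ b) ∨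
    (∀ v, Φ₀.N v = 0) ∧ ∀ a, ∃ c, a = c * K.σ c) {M : Subgroup (V ≃ₗ[F] V)} (hM : ∀ g, g ∈ M ↔ ∃ c, Pres j c g) :
    MaxP Φ.E M := fun H h1 h2 g hg hg' => by
  by_contra hE
  have hH : ∀ g ∈ Φ.E, Pres j 1 g → g ∈ H := fun g a b => h1 ⟨(hM g).2 ⟨1, b⟩, a⟩
  have h2 := h2.trans Φ.E_le
  have hD := fun e he x => h.dich hH hp hR h2 hT hE (e := e) he (x := x)
  obtain ⟨e, he, -⟩ := exists_sing_three h.nd₀ h.sg h.dim9 0 0 0
  obtain ⟨v, v1, v2, -, -, v5⟩ := exists_sing_three h.nd₀ h.sg h.dim9 e e e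
  obtain ⟨w, w1, w2, -, -, w5⟩ := exists_sing_three h.nd₀ h.sg h.dim9 e v v
  have k : ∀ x k, ∃ c, Pres j c (g * Φ.eich (j e) (K.σ κ • j x) 0 k * g⁻¹) := fun x k => by
    have := H.mul_mem (H.mul_mem hg (h.eich0 hH k)) (H.inv_mem hg)
    rw [Φ.eich_conj (h2 hg)] at this ⊢
    exact h.pres_eich hH h2 hD this
  exact hg' ((hM g).2 (h.pres_of_conj hH h2 hD hg he (fun k => v5 (Submodule.mem_sup_right k))
    (fun k => w5 (Submodule.mem_sup_left k)) (h.isEich he.2 v1.2 v2 _) (h.isEich he.2 w1.2 w2 _) (k _ _) (k _ _)))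

omit hH h2 hD in
theorem not_le (h0 : F₀ ≠ ⊤) {M : Subgroup (V ≃ₗ[F] V)} (hM : ∀ g, g ∈ M ↔ ∃ c, Pres j c g) : ¬ Φ.E ≤ M := fun k => by
  obtain ⟨c, -, hc⟩ := SetLike.exists_of_lt h0.lt_top
  obtain ⟨e, he, -⟩ := exists_sing_three h.nd₀ h.sg h.dim9 0 0 0
  obtain ⟨v, v1, v2, -, -, v5⟩ := exists_sing_three h.nd₀ h.sg h.dim9 e e e
  obtain ⟨x, x1, x2⟩ := h.nd₀.exists_perp_one fun k => v5 (Submodule.mem_sup_right k)
  have k1 := h.isEich he.2 v1.2 v2 (K.σ (c / Φ.B (j x) (j v)))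
  obtain ⟨d, hd⟩ := (hM _).1 (k (Φ.eich_mem_E _ _ _ k1))
  have := finrank_two_le (F := F) (j e) (K.σ (c / Φ.B (j x) (j v)) • j v)
  have := h.dim
  obtain ⟨u, hu⟩ := hd.one (h.rs.mem_of_pres hd (eich_imSub _ (self_mem_sup _ _) (mem_sup_self _ _)) (by omega)) x
  rw [Φ.eich_of_perp _ _ _ _ (h.B0.2 (Φ₀.B_symm_zero (x1 _ (Submodule.mem_span_singleton_self _)))),
    Φ.B_smul_right, K.σσ, div_mul_cancel₀ _ (fun k => by simpa [x2] using Φ₀.B_symm_zero (h.B0.1 k)),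
    one_smul, ← sub_eq_zero, add_sub_right_comm, ← map_sub] at hu
  exact he.1 (h.rs.mem_of_comb (S := ⊥) hc (hu ▸ zero_mem _)).2

end Rat

end Form

end Cfsg.Agent.Classical
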