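import Cfsg.Agent.Lib.Classical.Sub3
import Cfsg.Agent.Lib.Classical.Max6

/-! Maximality of subfield subgroups of classical groups: matrices. -/

set_option autoImplicit false

namespace Cfsg.Agent.Classical.Asch

open Module Matrix Cfsg.Geo

variable {ι : Type} [Fintype ι] [DecidableEq ι] {F : Type*} [Field F] {σ : F →+* F}

local notation "σ₀" => RingHom.id _

/-- the rational vectors -/
def jm (F₀ : Subfield F) (P : GL ι F) : (ι → F₀) →ₛₗ[F₀.subtype] (ι → F) where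
  toFun u := P.val *ᵥ fun i => (u i : F)
  map_add' u v := by rw [← mulVec_add]; rfl
  map_smul' a u := by rw [← mulVec_smul]; rfl

/-- the rational coordinates -/
def rm (F₀ : Subfield F) (P : GL ι F) (l : F →ₗ[F₀] F₀) : (ι → F) →+ (ι → F₀) where
  toFun v i := l ((P⁻¹.val *ᵥ v) i)
  map_zero' := by ext; simp
  map_add' u v := by ext; simp [mulVec_add]

variable {F₀ : Subfield F} {P : GL ι F}

theorem jm_apply (u : ι → F₀) : jm F₀ P u = P.val *ᵥ fun i => (u i : F) := rfl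

theorem jm_single (i : ι) : jm F₀ P (Pi.single i 1) = P.val *ᵥ Pi.single i 1 := by
  rw [jm_apply]; congr 1; ext k; by_cases h : k = i <;> simp [h]

theorem rs_jm (F₀ : Subfield F) (P : GL ι F) : RS (jm F₀ P) (rm F₀ P) where
  span := eq_top_iff.2 fun v _ => by
    have : v = ∑ i, (P⁻¹.val *ᵥ v) i • jm F₀ P (Pi.single i 1) := by
      simp only [jm_single, ← mulVec_smul, ← mulVec_sum]
      rw [← pi_eq_sum_univ', mulVec_mulVec]; simp
    rw [this]
    exact sum_mem fun i _ => Submodule.smul_mem _ _ (Submodule.subset_span ⟨_, rfl⟩)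
  eq l c u := by
    ext i
    simp only [rm, jm_apply, AddMonoidHom.coe_mk, ZeroHom.coe_mk, mulVec_smul, inv_mulVec_mulVec, Pi.smul_apply,
      smul_eq_mul]
    rw [mul_comm c, mul_comm (l c), ← smul_eq_mul (u i), ← map_smul]; rfl

theorem mem_mp_sub [Finite F] (g : (ι → F) ≃ₗ[F] (ι → F)) : g ∈ mp (subfieldSubgroup F₀ P) ↔ ∃ c, Pres (jm F₀ P) c g := by
  obtain ⟨g, rfl⟩ := glEquiv.surjective g
  rw [mem_mp, mem_subfieldSubgroup]
  have k : ∀ v, P.val *ᵥ (cjm P⁻¹ g.val *ᵥ v) = g.val *ᵥ (P.val *ᵥ v) := fun v => by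
    rw [← cjm_mulVec P, cjm_cjm_inv]
  refine ⟨fun ⟨c, hc⟩ => ⟨(c : F)⁻¹, fun u => ⟨fun i => ∑ k, ⟨_, hc i k⟩ * u k, ?_⟩⟩, fun ⟨c, hc⟩ => ?_⟩
  · rw [glEquiv_apply, jm_apply, jm_apply, ← k, ← mulVec_smul]
    congr 1; ext i
    simp [mulVec, dotProduct, Finset.mul_sum, mul_assoc]
  by_cases h0 : c = 0
  · refine ⟨1, fun i _ => ?_⟩
    obtain ⟨u, hu⟩ := hc (Pi.single i 1)
    rw [h0, zero_smul, LinearEquiv.map_eq_zero_iff, (rs_jm F₀ P).j_eq_zero] at hu
    simp at hu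
  refine ⟨(Units.mk0 c h0)⁻¹, fun i l => ?_⟩
  obtain ⟨u, hu⟩ := hc (Pi.single l 1)
  rw [glEquiv_apply, jm_single, ← k, jm_apply, ← mulVec_smul] at hu
  have := congrFun (congrArg (P⁻¹.val *ᵥ ·) hu) i
  simp only [inv_mulVec_mulVec, mulVec_single_one, col_apply, Pi.smul_apply, smul_eq_mul] at this
  simp [this, h0]

theorem finrank_eq_of_card [Fintype F] {r : ℕ} (h : Fintype.card F = Nat.card F₀ ^ r) : finrank F₀ F = r :=
  Nat.pow_right_injective (Finite.one_lt_card (α := F₀)) (by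
    simp only [← card_eq_pow_subfield, ← h, Nat.card_eq_fintype_card])

section
variable {K : Kind F} {Φ : Form K (ι → F)} {X : Subgroup (GL ι F)}

theorem Cl.max_sub [Fintype F] (h : Cl Φ X) {K₀ : Kind F₀} {Φ₀ : Form K₀ (ι → F₀)} {κ : F}
    (hR : Φ.Rat Φ₀ (jm F₀ P) (rm F₀ P) κ) {r : ℕ} (hr : r.Prime) (hc : Fintype.card F = Nat.card F₀ ^ r)
    (hT : (∀ a, K.T a = 0 → ∃ b, a = b - K.ε * K.σ b) ∨ (∀ v, Φ₀.N v = 0) ∧ ∀ a, ∃ c, a = c * K.σ c) :
    IsMaximalIn X (subfieldSubgroup F₀ P ⊓ X) :=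
  h.max (fun k => hR.not_le (ne_top_of_card hr hc) mem_mp_sub (h.eq ▸ Subgroup.map_mono k))
    (hR.maxP (finrank_eq_of_card hc ▸ hr) h.rich hT mem_mp_sub)

/-- the rational form -/
def ratB (Φ : Form K (ι → F)) (κ : F) (h : IsFormRationalStructure (fun u v => Φ.B u v) F₀ κ P) (τ : F₀ →+* F₀)
    (hσ : ∀ a, (τ a : F) = K.σ a) : (ι → F₀) →ₗ[F₀] (ι → F₀) →ₛₗ[τ] F₀ :=
  LinearMap.mk₂'ₛₗ (RingHom.id F₀) τ (fun u v => ⟨κ * Φ.B (jm F₀ P u) (jm F₀ P v),
    h _ _ (fun i => (u i).2) fun i => (v i).2⟩) (fun _ _ _ => Subtype.ext (by simp [mul_add]))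
    (fun _ _ _ => Subtype.ext (by simp [j_smul, mul_left_comm])) (fun _ _ _ => Subtype.ext (by simp [mul_add]))
    (fun _ _ _ => Subtype.ext (by simp [j_smul, mul_left_comm, hσ]))

theorem ratB_apply {κ : F} (h : IsFormRationalStructure (fun u v => Φ.B u v) F₀ κ P) (τ : F₀ →+* F₀)
    (hσ : ∀ a, (τ a : F) = K.σ a) (u v) : (ratB Φ κ h τ hσ u v : F) = κ * Φ.B (jm F₀ P u) (jm F₀ P v) := rfl

end

theorem max_Sp_sub [Fintype F] {B : GL ι F} (hB : Alt B.val) (hι : 11 ≤ Fintype.card ι) {r : ℕ} (hr : r.Prime)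
    (hc : Fintype.card F = Nat.card F₀ ^ r) {ζ : F} (hζ : ζ ≠ 0) (hP : IsFormRationalStructure (gf σ₀ B.val) F₀ ζ P) :
    IsMaximalIn (Iso σ₀ B.val) (subfieldSubgroup F₀ P ⊓ Iso σ₀ B.val) := by
  have h := cl_Sp hB (by omega)
  refine h.max_sub (Φ₀ := Form.ofAlt (ratB hB.form ζ hP (RingHom.id _) fun _ => rfl)
    fun v => Subtype.ext (mul_eq_zero_of_right _ (hB _))) ⟨rs_jm _ _, fun _ _ => rfl, hζ, by simp [hζ],
    fun u => by simp [Form.symp_N], fun y => ⟨0, zero_mem _, by simp [Form.symp_N]⟩, h.nd, Form.symp_sg3 _,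
    by simpa using hι⟩ hr hc ?_
  by_cases h2 : (2 : F) = 0
  · refine Or.inr ⟨fun _ => rfl, fun a => ?_⟩
    haveI : CharP F 2 := CharTwo.of_one_ne_zero_of_two_eq_zero one_ne_zero h2
    exact FiniteField.isSquare_of_char_two (ringChar.eq F 2) a
  exact Or.inl fun a _ => ⟨a / 2, by simp; field_simp; ring⟩

theorem max_O_sub [Fintype F] {Q : (ι → F) → F} {B : GL ι F} (hQ : QF Q B.val) (hι : 11 ≤ Fintype.card ι) {r : ℕ}
    (hr : r.Prime) (hc : Fintype.card F = Nat.card F₀ ^ r) {ζ : F} (hζ : ζ ≠ 0)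
    (hP : IsQuadFormRationalStructure (fun v => ζ * Q v) F₀ P) :
    IsMaximalIn (omegaGL Q) (subfieldSubgroup F₀ P ⊓ omegaGL Q) := by
  have h := cl_O hQ (by omega)
  have hP' : IsFormRationalStructure (fun u v => hQ.form.B u v) F₀ ζ P := fun u v hu hv => by
    have := sub_mem (sub_mem (hP (u + v) fun i => add_mem (hu i) (hv i)) (hP u hu)) (hP v hv)
    simp only [mulVec_add, hQ.add] at this
    convert this using 1
    simp only [hQ.form_B]; ring
  refine h.max_sub (Φ₀ := Form.ofQuadFun (fun u => ⟨ζ * Q (jm F₀ P u), hP _ fun i => (u i).2⟩)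
    (ratB hQ.form ζ hP' (RingHom.id _) fun _ => rfl) (fun u v => Subtype.ext ?_) fun c v => Subtype.ext ?_)
    ⟨rs_jm _ _, fun _ _ => rfl, hζ, by simp [hζ], fun u => ?_,
    fun y => ⟨_, hP _ fun i => (y i).2, ?_⟩, h.nd, Form.orth_sg3 _,
    by simpa using hι⟩ hr hc (Or.inl fun a ha => ⟨0, by simpa using ha⟩)
  · simp only [map_add, hQ.add, Subfield.coe_add, mul_add]; rfl
  · simp only [j_smul, hQ.smul, Subfield.coe_mul]; ring
  · exact ⟨fun k => Subtype.ext (mul_eq_zero_of_right _ k),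
      fun k => (mul_eq_zero.1 (congrArg Subtype.val k)).resolve_left hζ⟩
  · rw [Form.N_smul]; exact (mul_assoc _ _ _).symm

section U
variable [Fintype F] {q : ℕ} (h : US σ q) {B : GL ι F} (hB : RF σ 1 B) (hι : 11 ≤ Fintype.card ι)
include h hB hι

theorem max_SU_sub {K₀ : Kind F₀} {Φ₀ : Form K₀ (ι → F₀)} {κ : F}
    (hR : (hB.form h.ne).Rat Φ₀ (jm F₀ P) (rm F₀ P) κ) {r : ℕ} (hr : r.Prime) (hc : Fintype.card F = Nat.card F₀ ^ r) :
    IsMaximalIn (Iso σ B.val ⊓ specialLinear ι F) (subfieldSubgroup F₀ P ⊓ (Iso σ B.val ⊓ specialLinear ι F)) :=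
  (cl_SU h hB (by omega)).max_sub hR hr hc (Or.inl fun a ha => by
    obtain ⟨s, hs⟩ := Form.exists_sub_conj h.ne hB.σσ ha
    exact ⟨s, hs.symm.trans (by simp)⟩)

theorem max_SU_U {r : ℕ} (hr : r.Prime) (ho : Odd r) (hc : Fintype.card F = Nat.card F₀ ^ r)
    (hP : IsFormRationalStructure (gf σ B.val) F₀ 1 P) :
    IsMaximalIn (Iso σ B.val ⊓ specialLinear ι F) (subfieldSubgroup F₀ P ⊓ (Iso σ B.val ⊓ specialLinear ι F)) := by
  have hc' := Nat.card_eq_fintype_card.trans hc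
  let τ : F₀ →+* F₀ := σ.restrict F₀ F₀ fun x hx => h.eq x ▸ pow_mem hx q
  have t1 : ∀ a, τ (τ a) = a := fun a => Subtype.ext (h.σσ a)
  have t2 : τ ≠ RingHom.id _ := fun k => by
    obtain ⟨θ, a, b⟩ := h.exists_ne hc' ho
    exact b (congrArg Subtype.val (DFunLike.congr_fun k ⟨θ, (mem_iff_pow_card hc').2 a⟩) :)
  let Φ₀ := Form.ofHerm τ t2 t1 (ratB (hB.form h.ne) 1 hP τ fun _ => rfl) fun u v => Subtype.ext (by
    change 1 * _ = σ (1 * _)
    rw [one_mul, one_mul, Form.symm]; simp)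
  refine max_SU_sub h hB hι (Φ₀ := Φ₀) ⟨rs_jm _ _, fun _ _ => rfl, one_ne_zero, by simp, fun u => ?_, fun y => ?_,
    (cl_SU h hB (by omega)).nd, Form.unit_sg3 t2 _, by simpa using hι⟩ hr hc
  · exact ⟨fun k => Subtype.ext (mul_eq_zero_of_right _ k), fun k => (one_mul _).symm.trans (congrArg Subtype.val k)⟩
  · obtain ⟨a, ha⟩ := Φ₀.N_range y
    refine ⟨a, a.2, ?_⟩
    rw [map_one, one_mul, one_smul]
    exact (congrArg Subtype.val ha).trans (one_mul _)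

omit hB hι in
theorem US.fix_of_sq (hc : Fintype.card F = Nat.card F₀ ^ 2) {a : F} (ha : a ∈ F₀) : σ a = a := by
  rw [h.eq, Nat.pow_left_injective two_ne_zero (h.card.symm.trans hc), pow_card_of_mem ha]

theorem max_SU_O (ho : Odd q) (hc : Fintype.card F = Nat.card F₀ ^ 2)
    (hP : IsFormRationalStructure (gf σ B.val) F₀ 1 P) :
    IsMaximalIn (Iso σ B.val ⊓ specialLinear ι F) (subfieldSubgroup F₀ P ⊓ (Iso σ B.val ⊓ specialLinear ι F)) := by
  have h2 := h.odd_iff.2 ho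
  let C := ratB (hB.form h.ne) 1 hP (RingHom.id _) fun a => (h.fix_of_sq hc a.2).symm
  have hS : LinearMap.BilinForm.IsSymm C := ⟨fun u v => Subtype.ext (by
    refine (h.fix_of_sq hc (C u v).2).symm.trans ?_
    change σ (1 * _) = 1 * _
    rw [one_mul, one_mul, Form.symm _ (jm F₀ P u)]; simp)⟩
  have e2 : σ 2 = 2 := map_ofNat σ 2
  refine max_SU_sub h hB hι (Φ₀ := Form.ofSymm C hS) (κ := 2) ⟨rs_jm _ _, fun u v => ?_, h2, by simp [e2, h2],
    fun u => ?_, fun y => ⟨_, (C y y).2, ?_⟩, (cl_SU h hB (by omega)).nd, Form.orth_sg3 _, by simpa using hι⟩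
    Nat.prime_two hc
  · exact congrArg ((2 : F) * ·) (one_mul _)
  · exact ⟨fun k => Subtype.ext (mul_eq_zero_of_right _ k), fun k => (one_mul _).symm.trans (congrArg Subtype.val k)⟩
  · rw [Form.N_smul, Kind.unit_T, map_mul, h.fix_of_sq hc (C y y).2,
      show (C y y : F) = (hB.form h.ne).N (jm F₀ P y) from one_mul _]
    simp only [Kind.unit_σ, e2]; ring

theorem max_SU_Sp (hc : Fintype.card F = Nat.card F₀ ^ 2) {ζ : F} (h0 : ζ ≠ 0) (hζ : ζ + ζ ^ q = 0)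
    (hP : IsFormRationalStructure (gf σ B.val) F₀ ζ P)
    (ha : ∀ u : ι → F, (∀ i, u i ∈ F₀) → gf σ B.val (P.val *ᵥ u) (P.val *ᵥ u) = 0) :
    IsMaximalIn (Iso σ B.val ⊓ specialLinear ι F) (subfieldSubgroup F₀ P ⊓ (Iso σ B.val ⊓ specialLinear ι F)) := by
  have k : ∀ u, (hB.form h.ne).N (jm F₀ P u) = 0 := fun u => ha _ fun i => (u i).2
  have k' : σ ζ = -ζ := by rw [h.eq]; linear_combination hζ
  exact max_SU_sub h hB hι (Φ₀ := Form.ofAlt (ratB (hB.form h.ne) ζ hP (RingHom.id _)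
    fun a => (h.fix_of_sq hc a.2).symm) fun v => Subtype.ext (mul_eq_zero_of_right _ (k v)))
    ⟨rs_jm _ _, fun u v => rfl, h0, by simp [k', h0, neg_div], fun u => ⟨fun _ => rfl, fun _ => k u⟩,
    fun y => ⟨0, zero_mem _, by simp [Form.N_smul, k]⟩, (cl_SU h hB (by omega)).nd, Form.symp_sg3 _,
    by simpa using hι⟩ Nat.prime_two hc

end U

end Cfsg.Agent.Classical.Asch
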