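import Cfsg.Agent.Lib.Classical.Sub4

/-! Maximality of subfield subgroups of the special linear group. -/

set_option autoImplicit false

namespace Cfsg.Agent.Classical

open Module

section Lin
variable {F : Type*} [Field F] {V : Type*} [AddCommGroup V] [Module F V] {H : Subgroup (V ≃ₗ[F] V)}

theorem HasT.comm {u v : V} {φ ψ : V →ₗ[F] F} (h : HasT H u φ) (h' : HasT H v ψ) (k : ψ u = 0) :
    HasT H u (φ v • ψ) := by
  obtain ⟨a, g, hg, b⟩ := h'
  have := h.map' hg (ψ := φ - φ v • ψ) fun x => by simp [b, a, mul_comm]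
  rw [b, k, zero_smul, add_zero] at this
  simpa using h.sub this

theorem exists_tv {g : V ≃ₗ[F] V} {u : V} (h : g ∈ imSub (F ∙ u)) (hu : u ≠ 0) :
    ∃ φ : V →ₗ[F] F, ∀ x, g x = x + φ x • u := by
  obtain ⟨ψ, -, k⟩ := exists_dual_one (L := ⊥) (F := F) hu
  refine ⟨ψ ∘ₗ ((g : V →ₗ[F] V) - LinearMap.id), fun x => ?_⟩
  obtain ⟨c, hc⟩ := Submodule.mem_span_singleton.1 (h x)
  simp [← hc, k, sub_eq_iff_eq_add.1 hc.symm, add_comm]

theorem fix_of_det [FiniteDimensional F V] {g : V ≃ₗ[F] V} {u : V} (h : g ∈ imSub (F ∙ u)) (hu : u ≠ 0)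
    (hd : LinearEquiv.det g = 1) : g u = u := by
  obtain ⟨φ, k⟩ := exists_tv h hu
  have e : (g : V →ₗ[F] V) = LinearMap.transvection φ u := LinearMap.ext fun x => k x
  have := LinearEquiv.coe_det g
  rw [hd, e, LinearMap.transvection.det] at this
  rw [k, show φ u = 0 by simpa using this]; simp

variable {F₀ : Subfield F} {V₀ : Type*} [AddCommGroup V₀] [Module F₀ V₀]
  {j : V₀ →ₛₗ[F₀.subtype] V} {ρ : (F →ₗ[F₀] F₀) → V →+ V₀}

/-- rational functionals -/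
def IsR (j : V₀ →ₛₗ[F₀.subtype] V) (φ : V →ₗ[F] F) : Prop := ∀ u, φ (j u) ∈ F₀

/-- restriction of a rational functional -/
def IsR.res {φ : V →ₗ[F] F} (h : IsR j φ) : V₀ →ₗ[F₀] F₀ where
  toFun u := ⟨_, h u⟩
  map_add' a b := Subtype.ext (by simp)
  map_smul' a b := Subtype.ext (by simp [j_smul])

theorem exists_ker [FiniteDimensional F₀ V₀] {φ ψ : V →ₗ[F] F} (h : IsR j φ) (h' : IsR j ψ) {L : Submodule F₀ V₀}
    (hL : finrank F₀ L + 2 < finrank F₀ V₀) : ∃ f ∉ L, φ (j f) = 0 ∧ ψ (j f) = 0 := by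
  have k1 := (h.res.prod h'.res).finrank_range_add_finrank_ker
  have k2 := (h.res.prod h'.res).range.finrank_le
  simp only [finrank_prod, finrank_self] at k2
  obtain ⟨f, f1, f2⟩ := exists_notMem_of_lt (X := (h.res.prod h'.res).ker) (L := L) (by omega)
  exact ⟨f, f2, congrArg (·.1.1) f1, congrArg (·.2.1) f1⟩

namespace RS
variable (h : RS j ρ) [Finite F]
include h

theorem exists_ext (φ₀ : V₀ →ₗ[F₀] F₀) : ∃ φ : V →ₗ[F] F, ∀ u, φ (j u) = φ₀ u := by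
  let f : V → F := fun v => ∑ b, finBasis F₀ F b * φ₀ (ρ ((finBasis F₀ F).coord b) v)
  have k0 : ∀ x y, f (x + y) = f x + f y := fun x y => by simp [f, mul_add, Finset.sum_add_distrib]
  have k : ∀ (c : F) u, f (c • j u) = c * φ₀ u := fun c u => by
    conv_rhs => rw [← (finBasis F₀ F).sum_repr c, Finset.sum_mul]
    refine Finset.sum_congr rfl fun b _ => ?_
    rw [h.eq, map_smul, Subfield.smul_def]
    simp; ring
  refine ⟨⟨⟨f, k0⟩, fun c v => ?_⟩, fun u => by simpa using k 1 u⟩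
  exact h.ind (P := fun v => f (c • v) = c * f v) (by simp [f])
    (fun x y a b => by rw [smul_add, k0, k0, a, b, mul_add]) (fun d u => by rw [smul_smul, k, k, mul_assoc]) v

theorem exists_dual {L : Submodule F₀ V₀} {v : V₀} (hv : v ∉ L) :
    ∃ φ, IsR j φ ∧ (∀ x ∈ L, φ (j x) = 0) ∧ φ (j v) = 1 := by
  obtain ⟨ψ, a, b⟩ := exists_dual_one hv
  obtain ⟨φ, k⟩ := h.exists_ext ψ
  exact ⟨φ, fun u => k u ▸ (ψ u).2, fun x hx => by simp [k, a x hx], by simp [k, b]⟩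

omit [Finite F] in
theorem res_ρ {φ : V →ₗ[F] F} (k : IsR j φ) (l : F →ₗ[F₀] F₀) (v : V) : k.res (ρ l v) = l (φ v) :=
  h.ind (P := fun v => k.res (ρ l v) = l (φ v)) (by simp) (fun x y a b => by simp only [map_add, a, b])
    (fun c u => by
      rw [h.eq, map_smul, map_smul, smul_eq_mul, mul_comm, ← smul_eq_mul, ← map_smul, smul_eq_mul, mul_comm]
      rfl) v

theorem rat_of_dual {x : V} (k : ∀ ψ, IsR j ψ → ψ x ∈ F₀) : ∃ u, x = j u := by
  obtain ⟨l, hl⟩ := exists_lam_one F₀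
  refine ⟨ρ l x, sub_eq_zero.1 (h.mem_of_ρ (X := ⊥) fun l' => ?_)⟩
  by_contra k1
  obtain ⟨ψ, a, -, b⟩ := h.exists_dual (L := ⊥) (v := ρ l' (x - j (ρ l x)))
    (fun k => k1 (by rw [(Submodule.mem_bot _).1 k, map_zero]; rfl))
  have k2 : ψ (x - j (ρ l x)) = 0 := by
    rw [map_sub, sub_eq_zero]
    have := lam_coe l ⟨_, k ψ a⟩
    rw [hl, mul_one, ← h.res_ρ a] at this
    exact (congrArg Subtype.val this).symm
  have := congrArg Subtype.val (h.res_ρ a l' (x - j (ρ l x)))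
  rw [k2, map_zero] at this
  exact one_ne_zero (b.symm.trans this)

variable [FiniteDimensional F₀ V₀] [FiniteDimensional F V] (hn : 7 ≤ finrank F₀ V₀)
  (hH : ∀ g, LinearEquiv.det g = 1 → Pres j 1 g → g ∈ H)
include hn hH

omit h [Finite F] [FiniteDimensional F₀ V₀] hn in
theorem hasT_rat {φ : V →ₗ[F] F} (k : IsR j φ) {e : V₀} (he : φ (j e) = 0) : HasT H (j e) φ :=
  hasT_tv he (hH _ (det_tv he) fun u => ⟨u + k.res u • e, by rw [tv_apply, map_add, j_smul, one_smul]; rfl⟩)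

theorem isR_of_hasT (hp : (finrank F₀ F).Prime) (hF : ¬ ∀ u, FullT H u) {e : V₀} (he : e ≠ 0) {φ : V →ₗ[F] F}
    (hφ : HasT H (j e) φ) : IsR j φ := fun v => by
  by_contra hc
  have m : ∀ {c c' : F} {e v : V₀} {φ χ : V →ₗ[F] F}, HasT H (j e) (c • φ) → HasT H (j v) (c' • χ) → φ (j v) = 1 →
      χ (j e) = 0 → HasT H (j e) ((c * c') • χ) := fun a b c d => by
    simpa [c, smul_smul] using a.comm b (by simp [d])
  have r : ∀ {e : V₀} {χ : V →ₗ[F] F}, IsR j χ → χ (j e) = 0 → HasT H (j e) ((1 : F) • χ) := fun a b => by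
    simpa using hasT_rat hH a b
  let A : Subalgebra F₀ F :=
    { carrier := {c | ∀ e χ, IsR j χ → χ (j e) = 0 → HasT H (j e) (c • χ)}
      mul_mem' := fun {a b} ha hb e χ k1 k2 => by
        have := finrank_span_one_le (F := F₀) e
        obtain ⟨v, v1, v2, -⟩ := exists_ker k1 k1 (L := F₀ ∙ e) (by omega)
        obtain ⟨ψ, p1, p2, p3⟩ := h.exists_dual v1
        exact m (ha e ψ p1 (p2 e (Submodule.mem_span_singleton_self e))) (hb v χ k1 v2) p3 k2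
      add_mem' := fun {a b} ha hb e χ k1 k2 => add_smul a b χ ▸ (ha e χ k1 k2).add (hb e χ k1 k2)
      algebraMap_mem' := fun a e χ k1 k2 => hasT_rat hH (fun u => mul_mem a.2 (k1 u)) (by simp [k2]) }
  have hA : φ (j v) ∈ A := fun e' χ k1 k2 => by
    have := finrank_two_le (F := F₀) e e'
    obtain ⟨f, -, f1⟩ := exists_notMem_of_lt (X := ⊤) (L := (F₀ ∙ e) ⊔ F₀ ∙ e') (by rw [finrank_top]; omega)
    have := finrank_sup_one_le ((F₀ ∙ e) ⊔ F₀ ∙ e') f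
    have := finrank_sup_one_le (((F₀ ∙ e) ⊔ F₀ ∙ e') ⊔ F₀ ∙ f) v
    obtain ⟨w, w1, w2, -⟩ := exists_ker k1 k1 (L := (((F₀ ∙ e) ⊔ F₀ ∙ e') ⊔ F₀ ∙ f) ⊔ F₀ ∙ v) (by omega)
    obtain ⟨ψ, p1, p2, p3⟩ := h.exists_dual w1
    have q1 := p2 e (Submodule.mem_sup_left (Submodule.mem_sup_left (self_mem_sup _ _)))
    have q2 := p2 e' (Submodule.mem_sup_left (Submodule.mem_sup_left (mem_sup_self _ _)))
    have q3 := p2 f (Submodule.mem_sup_left (mem_sup_self _ _))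
    obtain ⟨α, a1, a2, a3⟩ := h.exists_dual (notMem_span_of he (self_mem_sup _ _) f1)
    obtain ⟨β, b1, b2, b3⟩ := h.exists_dual (L := F₀ ∙ e') fun k => f1 (Submodule.mem_sup_right k)
    simpa using m (m (r b1 (b2 _ (Submodule.mem_span_singleton_self _))) (m (r a1 (a2 _
      (Submodule.mem_span_singleton_self _))) (hφ.comm (hasT_rat hH p1 (p2 v (mem_sup_self _ _))) q1) a3 q3) b3 q2)
      (r k1 w2) p3 k2
  rcases (Subalgebra.isSimpleOrder_of_finrank_prime F₀ F hp).eq_bot_or_eq_top A with k1 | k1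
  · obtain ⟨a, ha⟩ := Algebra.mem_bot.1 (k1 ▸ hA)
    exact hc (ha ▸ a.2)
  refine hF (h.mem_of (X := fullSub H) fun u χ hχ => ?_)
  have k : ∀ b, ∃ ψ, IsR j ψ ∧ ∀ x, ψ (j x) = (finBasis F₀ F).coord b (χ (j x)) := fun b => by
    obtain ⟨ψ, k⟩ := h.exists_ext
      { toFun := fun x => (finBasis F₀ F).coord b (χ (j x))
        map_add' := fun x y => by simp
        map_smul' := fun c x => by rw [j_smul, map_smul χ]; exact map_smul _ c _ }
    exact ⟨ψ, fun x => k x ▸ Subtype.prop _, k⟩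
  choose ψ p1 p2 using k
  have : χ = ∑ b, finBasis F₀ F b • ψ b := LinearMap.ext_on_range h.span fun x => by
    conv_lhs => rw [← (finBasis F₀ F).sum_repr (χ (j x))]
    simp [p2, Subfield.smul_def, mul_comm]
  rw [this]
  exact Finset.sum_induction _ _ (fun _ _ => HasT.add) (HasT.zero _) fun b _ =>
    (show _ ∈ A from k1 ▸ trivial) u _ (p1 b) (by simp [p2, hχ])

variable (hD : ∀ e : V₀, e ≠ 0 → ∀ φ, HasT H (j e) φ → IsR j φ)
include hD

theorem pres_inv {s : V ≃ₗ[F] V} (hs : s ∈ H) {e : V₀} (he : e ≠ 0) (h1 : IsP j (s (j e))) :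
    ∃ c, Pres j c s⁻¹ := by
  obtain ⟨c, e', h1⟩ := h1
  have k0 : s (j e) ≠ 0 := by simpa [h.j_eq_zero] using he
  have c0 : c ≠ 0 := by rintro rfl; simp [h1] at k0
  refine ⟨c⁻¹, fun u => ?_⟩
  have := finrank_two_le (F := F₀) e' u
  obtain ⟨x, -, hx⟩ := exists_notMem_of_lt (X := ⊤) (L := (F₀ ∙ e') ⊔ F₀ ∙ u) (by rw [finrank_top]; omega)
  obtain ⟨φ, p1, p2, p3⟩ := h.exists_dual hx
  have k1 : IsR j (c⁻¹ • φ ∘ₗ (s : V →ₗ[F] V)) := hD e he _ (hasT_smul.1 (by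
    have := (hasT_rat hH p1 (p2 e' (self_mem_sup _ _))).map' (H.inv_mem hs) (ψ := φ ∘ₗ (s : V →ₗ[F] V)) (by simp)
    rwa [show j e' = s (c⁻¹ • j e) by simp [h1, smul_smul, c0], LinearEquiv.coe_inv,
      LinearEquiv.symm_apply_apply] at this))
  have k2 := (hasT_rat hH p1 (p2 u (mem_sup_self _ _))).map' (H.inv_mem hs) (ψ := φ ∘ₗ (s : V →ₗ[F] V)) (by simp)
  obtain ⟨y, hy⟩ : ∃ y, φ (s (j y)) ≠ 0 := by
    by_contra k
    push Not at k
    simpa [p3] using h.mem_of (X := LinearMap.ker (φ ∘ₗ (s : V →ₗ[F] V))) k (s⁻¹ (j x))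
  obtain ⟨u', hu⟩ := h.rat_of_dual (x := c • s⁻¹ (j u)) fun ψ hψ => by
    obtain ⟨f, f1, f2, f3⟩ := exists_ker k1 hψ (L := ⊥) (by simp; omega)
    have := div_mem (hD f f1 _ ((hasT_rat hH hψ f3).comm k2 (by simpa [c0] using f2)) y) (k1 y)
    convert this using 1
    simp only [map_smul, smul_eq_mul, LinearMap.smul_apply, LinearMap.comp_apply, LinearEquiv.coe_coe]
    field_simp
  exact ⟨u', by rw [← hu, smul_smul, inv_mul_cancel₀ c0, one_smul]⟩

theorem isP_of_hasT (h2 : ∀ g ∈ H, LinearEquiv.det g = 1) {M : Subgroup (V ≃ₗ[F] V)}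
    (hM : ∀ g, g ∈ M ↔ ∃ c, Pres j c g) {z : V} {θ : V →ₗ[F] F} (hz : HasT H z θ) (h0 : θ ≠ 0) : IsP j z := by
  by_contra hc
  have hp : ∀ s ∈ H, ∀ e, e ≠ 0 → IsP j (s (j e)) → s ∈ M := fun s a e b c =>
    M.inv_mem_iff.1 ((hM _).2 (h.pres_inv hn hH hD a b c))
  have d1 := finrank_span_one_le (F := F) z
  obtain ⟨T, -, t2, t3⟩ := (h.gen_comap (F ∙ z)).step
  have k0 : (F ∙ z).comap j = ⊥ := eq_bot_iff.2 fun u hu => by
    obtain ⟨c, k⟩ := Submodule.mem_span_singleton.1 hu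
    by_contra k1
    exact hc (IsP.of_smul ⟨1, u, by rw [k, one_smul]⟩ (by rintro rfl; exact k1 (h.j_eq_zero.1 (by simp [← k]))))
  rw [k0] at t2 t3
  obtain ⟨e, -, he⟩ := exists_notMem_of_lt (X := ⊤) (L := T) (by rw [finrank_top]; simp at t2; omega)
  have e0 : e ≠ 0 := by rintro rfl; exact he T.zero_mem
  have e1 : j e ≠ 0 := by simpa [h.j_eq_zero]
  have w3 := t3 e he
  rw [bot_sup_eq] at w3
  have d2 := finrank_span_one_le (F := F) (j e)
  have d3 := finrank_two_le (F := F) (j e) z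
  have hf : ∀ a ∈ H ⊓ imSub (F ∙ j e), ∀ x ∈ F ∙ j e, a x = x := fun a ha x hx => by
    obtain ⟨c, rfl⟩ := Submodule.mem_span_singleton.1 hx
    rw [map_smul, fix_of_det ha.2 e1 (h2 a ha.1)]
  obtain ⟨-, t, ht, ht'⟩ := hz
  have q : ∀ φ, IsR j φ → φ (j e) = 0 → ∃ t ∈ H ⊓ imSub (F ∙ j e), ∀ x, t x = x + φ x • j e := fun φ a b => by
    obtain ⟨-, t, c, d⟩ := hasT_rat hH a b
    exact ⟨t, ⟨c, fun x => by simp [d, Submodule.smul_mem, Submodule.mem_span_singleton_self]⟩, d⟩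
  haveI := Module.finite_of_finite F (M := V)
  obtain ⟨γ, γ1, γ2⟩ := isCyclic_of_ti (A := H ⊓ imSub (F ∙ j e)) (B := H ⊓ imSub ((F ∙ j e) ⊔ F ∙ z))
    (fun a ha => ⟨ha.1, fun x => Submodule.mem_sup_left (ha.2 x)⟩)
    (fun k1 => by
      obtain ⟨x, hx⟩ := DFunLike.ne_iff.1 h0
      obtain ⟨c, k⟩ := Submodule.mem_span_singleton.1 ((k1 ⟨ht, fun x => by
        simp [ht', Submodule.smul_mem _ _ (mem_sup_self _ _)]⟩).2 x)
      exact hc (IsP.of_smul ⟨c, e, by simp [k, ht']⟩ hx))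
    (fun a ha b hb => LinearEquiv.ext fun x => by
      have k1 := hf a ha _ (hb.2 x)
      have k2 := hf b hb _ (ha.2 x)
      rw [map_sub, sub_eq_iff_eq_add] at k1 k2
      rw [LinearEquiv.mul_apply, LinearEquiv.mul_apply, k1, k2]; abel)
    (fun g hg hg' a ha hb => by
      by_contra h1
      obtain ⟨x, hx⟩ := DFunLike.ne_iff.1 h1
      obtain ⟨c, k1⟩ := Submodule.mem_span_singleton.1 (ha.2 x)
      obtain ⟨d, k2⟩ := Submodule.mem_span_singleton.1 (hb.2 (g⁻¹ x))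
      have k3 : c • g⁻¹ (j e) = d • j e := by rw [k2, ← map_smul, k1]; simp
      obtain ⟨c, hc⟩ := (hM _).1 (M.inv_mem_iff.1 (hp _ (H.inv_mem hg.1) e e0 (IsP.of_smul ⟨d, e, k3⟩
        (by rintro rfl; exact hx (by rwa [zero_smul, eq_comm, sub_eq_zero] at k1)))))
      exact hg' ⟨hg.1, h.ex_span e ▸ w3.imSub _ (hc.one (h.mem_of_pres hc hg.2 (by omega))) (h.ex_span e ▸ hg.2)⟩)
  obtain ⟨x, -, hx⟩ := exists_notMem_of_lt (X := ⊤) (L := F₀ ∙ e) ((finrank_span_one_le e).trans_lt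
    (by rw [finrank_top]; omega))
  obtain ⟨y, -, hy⟩ := exists_notMem_of_lt (X := ⊤) (L := (F₀ ∙ e) ⊔ F₀ ∙ x) ((finrank_two_le e x).trans_lt
    (by rw [finrank_top]; omega))
  obtain ⟨φ, p1, p2, p3⟩ := h.exists_dual hx
  obtain ⟨ψ, p4, p5, p6⟩ := h.exists_dual hy
  obtain ⟨a, a1, a2⟩ := q φ p1 (p2 _ (Submodule.mem_span_singleton_self _))
  obtain ⟨b, b1, b2⟩ := q ψ p4 (p5 _ (self_mem_sup _ _))
  obtain ⟨n, hn⟩ := γ2 _ a1
  obtain ⟨m, hm⟩ := γ2 _ b1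
  have k1 : ∀ x (n : ℕ), (γ ^ n) x = x + (n : F) • (γ x - x) := fun x => pow_apply_of_fix (hf γ γ1 _ (γ1.2 x))
  have k3 := b2 (j x)
  have k4 := a2 (j x)
  have k5 := b2 (j y)
  rw [hm, k1, p5 _ (mem_sup_self _ _)] at k3
  rw [hn, k1, p3] at k4
  rw [hm, k1, p6] at k5
  simp only [add_right_inj, zero_smul, smul_eq_zero, one_smul] at k3 k4 k5
  rcases k3 with k3 | k3
  · exact e1 (by rw [← k5, k3, zero_smul])
  · exact e1 (by rw [← k4, k3, smul_zero])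

end RS

end Lin

namespace Asch
open Cfsg.Geo
variable {ι : Type} [Fintype ι] [DecidableEq ι] {F : Type*} [Field F] [Fintype F]

theorem max_SL_sub (hι : 7 ≤ Fintype.card ι) {F₀ : Subfield F} {r : ℕ} (hr : r.Prime)
    (hc : Fintype.card F = Nat.card F₀ ^ r) (P : GL ι F) :
    IsMaximalIn (specialLinear ι F) (subfieldSubgroup F₀ P ⊓ specialLinear ι F) := by
  haveI : Nontrivial ι := Fintype.one_lt_card_iff_nontrivial.1 (by omega)
  refine isMaximalIn_of_mp (not_SL_le_subfield (by omega) (ne_top_of_card hr hc) P) fun H h1 h2 g hg hg' => ?_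
  refine SL_le_of_fullT (by_contra fun hF => hg' ?_)
  have h := rs_jm F₀ P
  have hn : 7 ≤ finrank F₀ (ι → F₀) := by simpa using hι
  have hH : ∀ g, LinearEquiv.det g = 1 → Pres (jm F₀ P) 1 g → g ∈ H := fun g a b =>
    h1 ⟨(mem_mp_sub g).2 ⟨1, b⟩, mem_mp_SL.2 a⟩
  have hD := fun e he φ => h.isR_of_hasT hn hH (finrank_eq_of_card hc ▸ hr) hF (e := e) he (φ := φ)
  obtain ⟨e, -, he⟩ := exists_notMem_of_lt (X := ⊤) (L := (⊥ : Submodule F₀ (ι → F₀))) (by simp; omega)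
  obtain ⟨x, -, hx⟩ := exists_notMem_of_lt (X := ⊤) (L := F₀ ∙ e) ((finrank_span_one_le e).trans_lt
    (by rw [finrank_top]; omega))
  obtain ⟨φ, p1, p2, p3⟩ := h.exists_dual hx
  refine (Subgroup.inv_mem_iff _).1 ((mem_mp_sub _).2 (h.pres_inv hn hH hD hg he (h.isP_of_hasT hn hH hD
    (fun g k => mem_mp_SL.1 (h2 k)) mem_mp_sub
    ((RS.hasT_rat hH p1 (p2 _ (Submodule.mem_span_singleton_self _))).map hg) fun k => ?_)))
  simpa [p3] using DFunLike.congr_fun k (g (jm F₀ P x))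

end Asch

end Cfsg.Agent.Classical
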