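import Cfsg.Agent.Lib.Classical.Symm
import Cfsg.Agent.Lib.Fusion.SymSyl
import Mathlib.NumberTheory.Multiplicity
import Mathlib.GroupTheory.SemidirectProduct

/-! Sylow 2-subgroups of classical groups in odd characteristic: wreath products. -/
set_option autoImplicit false
open Equiv SemidirectProduct

namespace Cfsg.Agent.Classical.Syl2

theorem exists_S {Γ : Type*} [Group Γ] (K : Subgroup Γ) : ∃ S : Subgroup Γ, ∀ x, x ∈ S ↔ x ∈ K ∧ x ^ 2 ∈ ⁅K, K⁆ := by
  refine ⟨((powMonoidHom 2).ker.comap (Abelianization.of (G := K))).map K.subtype, fun x => ?_⟩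
  have k : ∀ y : K, y ∈ (powMonoidHom 2).ker.comap (Abelianization.of (G := K)) ↔ y.1 ^ 2 ∈ ⁅K, K⁆ := fun y => by
    rw [Subgroup.mem_comap, MonoidHom.mem_ker, powMonoidHom_apply, ← map_pow, ← MonoidHom.mem_ker,
      Abelianization.ker_of, ← K.map_subtype_commutator]
    exact (Subgroup.mem_map_iff_mem K.subtype_injective).symm
  exact ⟨fun ⟨y, h, e⟩ => e ▸ ⟨y.2, (k y).1 h⟩, fun ⟨h, h'⟩ => ⟨⟨x, h⟩, (k _).2 h', rfl⟩⟩

theorem transfer {Γ G N C : Type*} [Group Γ] [Group G] [Finite G] [Group N] [CommGroup C] (f : N →* G)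
    (hf : Function.Injective f) (ν : G →* C) (hν : ∀ g, g ∈ f.range ↔ ν g = 1) (ρ : Γ →* G)
    (hρ : Function.Injective ρ) (W : Subgroup Γ) {e : ℕ} (hW : Nat.card W = 2 ^ e) (he : padicValNat 2 (Nat.card G) ≤ e)
    (h : ∀ x ∈ W ⊓ (ν.comp ρ).ker, x ^ 2 ∈ ⁅W ⊓ (ν.comp ρ).ker, W ⊓ (ν.comp ρ).ker⁆) (P : Sylow 2 N) (x : P.1) :
    x ^ 2 ∈ commutator P.1 := by
  have h1 : Nat.card (W.map ρ) = 2 ^ e := by rw [Subgroup.card_map_of_injective hρ, hW]
  have h2 : e ≤ padicValNat 2 (Nat.card G) :=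
    (padicValNat_dvd_iff_le Nat.card_pos.ne').1 (h1 ▸ Subgroup.card_subgroup_dvd_card _)
  obtain ⟨Q, hQ⟩ := P.exists_comap_eq_of_injective hf
  obtain ⟨g, rfl⟩ := MulAction.exists_smul_eq G (Sylow.ofCard (p := 2) (W.map ρ) (by
    rw [h1, Nat.factorization_def _ Nat.prime_two, le_antisymm he h2])) Q
  have k : ∀ y, f y ∈ (W.map ρ).map (MulAut.conj g).toMonoidHom ↔ y ∈ P.1 := fun y => by rw [← hQ]; rfl
  obtain ⟨_, ⟨y, hy, rfl⟩, e1⟩ := (k _).2 x.2
  have e2 : ∀ z, ν (MulAut.conj g z) = ν z := fun z => by simp [mul_comm]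
  have h3 := Subgroup.mem_map_of_mem ((MulAut.conj g).toMonoidHom.comp ρ) (h y ⟨hy, by
    have := (hν _).1 ⟨x.1, rfl⟩
    rw [← e1] at this; exact (e2 _).symm.trans this⟩)
  have h4 : (W ⊓ (ν.comp ρ).ker).map ((MulAut.conj g).toMonoidHom.comp ρ) ≤ P.1.map f := by
    rintro _ ⟨z, ⟨hz, hz'⟩, rfl⟩
    obtain ⟨n, hn⟩ := (hν _).2 ((e2 (ρ z)).trans hz')
    exact ⟨n, (k n).1 ⟨_, ⟨z, hz, rfl⟩, hn.symm⟩, hn⟩
  rw [Subgroup.map_commutator] at h3
  have h5 := Subgroup.commutator_mono h4 h4 h3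
  rw [← Subgroup.map_commutator, map_pow, show ((MulAut.conj g).toMonoidHom.comp ρ) y = f x.1 from e1, ← map_pow,
    Subgroup.mem_map_iff_mem hf, ← Subgroup.map_subtype_commutator] at h5
  exact (Subgroup.mem_map_iff_mem (Subgroup.subtype_injective _)).1 h5

variable {I : Type} [Fintype I] [DecidableEq I] {D X : Type*} [Group D] [Group X]

abbrev Wr (I : Type) (D X : Type*) [Group D] [Group X] := ((I → D) ⋊[mulAutArrow (G := Perm I)] Perm I) × X

def bs : (I → D) →* Wr I D X := (MonoidHom.inl _ _).comp inl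
def pm : Perm I →* Wr I D X := (MonoidHom.inl _ _).comp inr
def ex : X →* Wr I D X := MonoidHom.inr _ _
def io (i : I) : D →* Wr I D X := bs.comp (MonoidHom.mulSingle (fun _ => D) i)
def WT (D X : Type*) [Group D] [Group X] (T : Subgroup (Perm I)) : Subgroup (Wr I D X) :=
  T.comap (rightHom.comp (MonoidHom.fst _ _))

omit [Fintype I] in
theorem io_conj (σ : Perm I) (i : I) (d : D) : (io (σ i) d : Wr I D X) = pm σ * io i d * (pm σ)⁻¹ := by
  rw [← map_inv]
  refine Prod.ext (Eq.trans (congrArg inl (funext fun j => ?_))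
    (inl_aut (φ := mulAutArrow (G := Perm I)) σ (Pi.mulSingle (M := fun _ => D) i d))) (by simp [io, bs, pm])
  change Pi.mulSingle (M := fun _ => D) (σ i) d j = Pi.mulSingle (M := fun _ => D) i d (σ⁻¹ j)
  simp only [Pi.mulSingle_apply, Perm.inv_eq_iff_eq]

omit [Fintype I] [DecidableEq I] in
theorem card_WT [Finite I] (T : Subgroup (Perm I)) :
    Nat.card (WT D X T) = Nat.card D ^ Nat.card I * Nat.card T * Nat.card X := by
  rw [← Nat.card_fun, ← Nat.card_prod, ← Nat.card_prod]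
  exact Nat.card_congr ⟨fun g => ((g.1.1.left, ⟨g.1.1.right, g.2⟩), g.1.2), fun p => ⟨(⟨p.1.1, p.1.2.1⟩, p.2), p.1.2.2⟩,
    fun _ => rfl, fun _ => rfl⟩

theorem core {C : Type*} [CommGroup C] (ν : Wr I D X →* C) (hν : ∀ σ, ν (pm σ) = 1) (T : Sylow 2 (Perm I))
    (hX : ∀ x : X, x ^ 2 = 1) {i0 : I}
    (hD : ∀ d : D, ∃ a b y, a ^ 2 = 1 ∧ b ^ 2 = 1 ∧ (b = 1 ∨ ∃ i, i ≠ i0) ∧ ν (io i0 y) = 1 ∧
      y ^ 2 ∈ ⁅(ν.comp (io i0)).ker, (ν.comp (io i0)).ker⁆ ∧ d = a * b * y) :
    ∀ x ∈ WT D X T.1 ⊓ ν.ker, x ^ 2 ∈ ⁅WT D X T.1 ⊓ ν.ker, WT D X T.1 ⊓ ν.ker⁆ := by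
  obtain ⟨S, hS⟩ := exists_S (WT D X T.1 ⊓ ν.ker)
  have hb : ∀ d x, bs d * ex x ∈ WT D X T.1 := fun d x => by
    show (inl d * 1 : _ ⋊[_] _).right ∈ T.1
    simpa using T.1.one_mem
  have hb' : ∀ d, bs d ∈ WT D X T.1 := fun d => by simpa using hb d 1
  have ni : ∀ i d, ν (io i d) = ν (io i0 d) := fun i d => by
    conv_lhs => rw [← swap_apply_left i0 i, io_conj]
    simp [hν]
  have inv : ∀ g ∈ WT D X T.1, ν g = 1 → g ^ 2 = 1 → g ∈ S := fun g h1 h2 h3 =>
    (hS g).2 ⟨⟨h1, h2⟩, h3 ▸ one_mem _⟩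
  have cm : ∀ i j, i ≠ j → ∀ a b : D, Commute (io i a : Wr I D X) (io j b) := fun i j h a b =>
    (Pi.mulSingle_commute (f := fun _ => D) h a b).map bs
  have k1 : ∀ i y, ν (io i0 y) = 1 → y ^ 2 ∈ ⁅(ν.comp (io i0)).ker, (ν.comp (io i0)).ker⁆ → io i y ∈ S :=
    fun i y h1 h2 => by
      have h4 : (ν.comp (io i0)).ker.map (io i) ≤ WT D X T.1 ⊓ ν.ker := by
        rintro _ ⟨z, hz, rfl⟩
        exact ⟨hb' _, (ni i z).trans hz⟩
      have h3 := Subgroup.mem_map_of_mem (io (X := X) i) h2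
      rw [Subgroup.map_commutator, map_pow] at h3
      exact (hS _).2 ⟨⟨hb' _, (ni i y).trans h1⟩, Subgroup.commutator_mono h4 h4 h3⟩
  have k2 : ∀ i j, i ≠ j → ∀ a : D, a ^ 2 = 1 → io i a * io j a ∈ S := fun i j h a ha =>
    inv _ (mul_mem (hb' _) (hb' _)) (by rw [map_mul, ni i, ni j, ← map_mul, ← map_mul, ← sq, ha, map_one, map_one])
      (by rw [(cm i j h a a).mul_pow, ← map_pow, ← map_pow, ha, map_one, map_one, one_mul])
  have k3 : ∀ i j, i ≠ j → ∀ d : D, io i d * io j d ∈ S := fun i j h d => by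
    obtain ⟨a, b, y, ha, hb, -, h1, h2, rfl⟩ := hD d
    have := mul_mem (mul_mem (k2 i j h a ha) (k2 i j h b hb)) (mul_mem (k1 i y h1 h2) (k1 j y h1 h2))
    rwa [(cm i j h b a).symm.mul_mul_mul_comm, ← map_mul, ← map_mul, (cm i j h y _).symm.mul_mul_mul_comm, ← map_mul,
      ← map_mul] at this
  have k4 : ∀ (s : Finset I) (d : I → D) (x : X), (∀ i, i ≠ i0 → i ∉ s → d i = 1) → ν (bs d * ex x) = 1 →
      bs d * ex x ∈ S := fun s => by
    induction s using Finset.induction_on with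
    | empty =>
      intro d x h1 h2
      obtain ⟨a, b, y, ha, hb2, h3, h4, h5, h6⟩ := hD (d i0)
      have cx : ∀ d : I → D, Commute (bs d : Wr I D X) (ex x) := fun d => Prod.ext (by simp [bs, ex]) (by simp [bs, ex])
      have cy : ∀ i d, Commute (io i d : Wr I D X) (ex x) := fun i d => cx _
      have e : (bs d : Wr I D X) = io i0 a * io i0 b * io i0 y := by
        rw [← map_mul, ← map_mul, ← h6]
        exact congrArg bs (funext fun i => by
          by_cases h : i = i0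
          · simp [h]
          · simp [h, h1 i h])
      rw [e] at h2 ⊢
      simp only [map_mul, h4, mul_one] at h2
      rw [mul_assoc, (cy i0 y).eq, ← mul_assoc]
      refine mul_mem ?_ (k1 _ y h4 h5)
      rcases h3 with rfl | ⟨i, hi⟩
      · rw [map_one, mul_one]
        exact inv _ (hb _ _) (by simpa using h2) (by
          rw [(cy i0 a).mul_pow, ← map_pow, ← map_pow, ha, hX, map_one, map_one, one_mul])
      · have := mul_mem (inv (io i0 a * io i b * ex x) (by rw [mul_assoc]; exact mul_mem (hb' _) (hb _ _))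
          (by simpa [ni i] using h2) (by
            rw [((cy i0 a).mul_left (cy i b)).mul_pow, (cm _ _ hi.symm _ _).mul_pow]
            simp only [← map_pow, ha, hb2, hX, map_one, one_mul])) (k2 i i0 hi b hb2)
        rwa [mul_assoc, ← ((cy i b).mul_left (cy i0 b)).eq, ← mul_assoc,
          ← mul_assoc, mul_assoc _ _ (io i b), ← map_mul, ← sq, hb2, map_one, mul_one] at this
    | insert j s _ ih =>
      intro d x h1 h2
      by_cases hj : j = i0
      · exact ih d x (fun i hi hi' => h1 i hi (by simp [hi', hj, hi])) h2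
      have h3 := k3 j i0 hj (d j)⁻¹
      rw [← mul_mem_cancel_left h3]
      have e : io j (d j)⁻¹ * io i0 (d j)⁻¹ * (bs d * ex x : Wr I D X) =
          bs (Pi.mulSingle j (d j)⁻¹ * Pi.mulSingle i0 (d j)⁻¹ * d) * ex x := by
        rw [map_mul, map_mul, ← mul_assoc]; rfl
      rw [e]
      refine ih _ x (fun i hi hi' => ?_) (by rw [← e, map_mul, h2, mul_one]; exact ((hS _).1 h3).1.2)
      by_cases h : i = j
      · simp [h, hj]
      · simp [h, hi, h1 i hi (by simp [h, hi'])]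
  rintro ⟨⟨d, σ⟩, x⟩ ⟨h1, h2⟩
  have e : ((⟨d, σ⟩, x) : Wr I D X) = bs d * ex x * pm σ := Prod.ext (by simp [bs, pm, ex]) (by simp [bs, pm, ex])
  refine ((hS _).1 ?_).2
  rw [e] at h2 ⊢
  have : σ ∈ S.comap pm := Fusion.Sym.gen_sym _ I rfl T (S.comap pm)
    (fun t ht h => inv (pm t) ht (hν t) (by rw [← map_pow, h, map_one])) h1
  exact mul_mem (k4 Finset.univ d x (by simp) (by simpa [hν] using h2)) this

section rho
variable {F : Type*} [Field F] {κ J : Type} (δ : D →* ((κ → F) ≃ₗ[F] (κ → F))) (ξ : X →* ((J → F) ≃ₗ[F] (J → F)))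

def rho0 : Wr I D X →* Module.End F ((I × κ) ⊕ J → F) where
  toFun g :=
    { toFun := fun v => Sum.elim (fun p => δ (g.1.left p.1) (fun l => v (.inl (g.1.right⁻¹ p.1, l))) p.2)
        (ξ g.2 fun j => v (.inr j))
      map_add' := fun v w => funext fun p => by
        cases p
        exacts [congrFun (map_add (δ _) _ _) _, congrFun (map_add (ξ _) _ _) _]
      map_smul' := fun c v => funext fun p => by
        cases p
        exacts [congrFun (map_smul (δ _) _ _) _, congrFun (map_smul (ξ _) _ _) _] }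
  map_one' := LinearMap.ext fun v => funext fun p => by cases p <;> simp
  map_mul' a b := LinearMap.ext fun v => funext fun p => by
    cases p
    · exact congrFun (LinearEquiv.congr_fun (map_mul δ _ _) _) _
    · exact congrFun (LinearEquiv.congr_fun (map_mul ξ _ _) _) _

noncomputable def rho : Wr I D X →* (((I × κ) ⊕ J → F) ≃ₗ[F] ((I × κ) ⊕ J → F)) :=
  (LinearMap.GeneralLinearGroup.generalLinearEquiv F _).toMonoidHom.comp (rho0 δ ξ).toHomUnits

omit [Fintype I] [DecidableEq I] in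
theorem rho_inl (g : Wr I D X) (v : (I × κ) ⊕ J → F) (i : I) (k : κ) :
    rho δ ξ g v (.inl (i, k)) = δ (g.1.left i) (fun l => v (.inl (g.1.right⁻¹ i, l))) k := rfl

omit [Fintype I] [DecidableEq I] in
theorem rho_inr (g : Wr I D X) (v : (I × κ) ⊕ J → F) (j : J) :
    rho δ ξ g v (.inr j) = ξ g.2 (fun l => v (.inr l)) j := rfl

omit [Fintype I] in
theorem rho_inj [Nonempty κ] (hδ : Function.Injective δ) (hξ : Function.Injective ξ) :
    Function.Injective (rho (I := I) δ ξ) := (injective_iff_map_eq_one _).2 fun g h => by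
  have k := fun v p => congrFun (LinearEquiv.congr_fun h v) p
  have h1 : g.1.right⁻¹ = 1 := Equiv.ext fun i => by
    by_contra e
    have := k (Sum.elim (fun p => if p.1 = i then 1 else 0) 0) (.inl (i, Classical.arbitrary κ))
    rw [rho_inl] at this
    simp only [Sum.elim_inl, if_neg (show ¬ g.1.right⁻¹ i = i from e)] at this
    rw [show (fun _ : κ => (0 : F)) = 0 from rfl, map_zero] at this
    simp at this
  refine Prod.ext (SemidirectProduct.ext (funext fun i => hδ (LinearEquiv.ext fun u => funext fun l => ?_))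
    (inv_eq_one.1 h1)) (hξ (LinearEquiv.ext fun u => funext fun l => ?_))
  · simpa [rho_inl] using k (Sum.elim (fun p => u p.2) 0) (.inl (i, l))
  · simpa [rho_inr] using k (Sum.elim 0 u) (.inr l)

end rho

theorem val_prod {q : ℕ} (hq : Odd q) (h1 : 1 < q) (m : ℕ) :
    padicValNat 2 (∏ i ∈ Finset.range m, (q ^ (2 * (i + 1)) - 1)) =
      m * padicValNat 2 (q ^ 2 - 1) + padicValNat 2 m.factorial := by
  have h2 : ¬ 2 ∣ q := by rwa [← even_iff_two_dvd, Nat.not_even_iff_odd]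
  have h3 : ∀ i, q ^ (2 * (i + 1)) - 1 ≠ 0 := fun i => Nat.sub_ne_zero_of_lt (Nat.one_lt_pow (by omega) h1)
  induction m with
  | zero => simp
  | succ m ih =>
    have a := padicValNat.pow_two_sub_one h1 h2 (n := 2 * (m + 1)) (by omega) (even_two_mul _)
    have b := padicValNat.pow_two_sub_one h1 h2 (n := 2) (by omega) even_two
    rw [padicValNat.mul (by omega) (by omega)] at a
    rw [Finset.prod_range_succ, padicValNat.mul (Finset.prod_ne_zero_iff.2 fun i _ => h3 i) (h3 m), ih,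
      Nat.factorial_succ, padicValNat.mul (by omega) m.factorial_ne_zero, add_mul]
    omega

theorem card_T (m : ℕ) (T : Sylow 2 (Perm (Fin m))) : Nat.card T.1 = 2 ^ padicValNat 2 m.factorial := by
  rw [T.card_eq_multiplicity, Nat.factorization_def _ Nat.prime_two, Nat.card_perm]; simp

theorem hom_sign {α C : Type*} [Fintype α] [DecidableEq α] [CommGroup C] (f : Perm α →* C) {σ : Perm α}
    (h : Perm.sign σ = 1) : f σ = 1 := by
  have k : ∀ σ : Perm α, (Perm.sign σ = 1 ∧ f σ = 1) ∨ Perm.sign σ = -1 ∧ ∀ x y, x ≠ y → f σ = f (swap x y) := fun σ => by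
    induction σ using Perm.swap_induction_on with
    | one => simp
    | swap_mul σ x y hxy ih =>
      rcases ih with ⟨h1, h2⟩ | ⟨h1, h2⟩
      · exact .inr ⟨by simp [h1, hxy], fun a b hab => by
          rw [map_mul, h2, mul_one]; exact isConj_iff_eq.1 (f.map_isConj (Perm.isConj_swap hxy hab))⟩
      · exact .inl ⟨by simp [h1, hxy], by rw [map_mul, h2 x y hxy, ← map_mul, swap_mul_self, map_one]⟩
  exact (k σ).elim (·.2) fun h' => absurd (h.symm.trans h'.1) (by decide)

end Cfsg.Agent.Classical.Syl2
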