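import Cfsg.Agent.Lib.Classical.Syl2a

/-! Sylow 2-subgroups of `Ω_n(q)`, `q` odd. -/
set_option autoImplicit false
open Equiv SemidirectProduct Module

namespace Cfsg.Agent.Classical.Syl2
variable {F : Type*} [Field F]

def dg {ι : Type} [Fintype ι] (w : ι → F) : Form (Kind.orth F) (ι → F) :=
  Form.ofQuadFun (fun v => ∑ i, w i * v i ^ 2) (LinearMap.mk₂ F (fun u v => ∑ i, 2 * w i * u i * v i)
      (by intros; simp [← Finset.sum_add_distrib, mul_add, add_mul])
      (by intros; simp [Finset.mul_sum]; congr; ext; ring)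
      (by intros; simp [← Finset.sum_add_distrib, mul_add])
      (by intros; simp [Finset.mul_sum]; congr; ext; ring))
    (by intros; simp [← Finset.sum_add_distrib]; congr; ext; ring)
    (by intros; simp [Finset.mul_sum]; congr; ext; ring)

theorem dg_N {ι : Type} [Fintype ι] (w v : ι → F) : (dg w).N v = ∑ i, w i * v i ^ 2 := rfl
theorem dg_B {ι : Type} [Fintype ι] (w u v : ι → F) : (dg w).B u v = ∑ i, 2 * w i * u i * v i := rfl

theorem dg_nondeg (h2 : (2 : F) ≠ 0) {ι : Type} [Fintype ι] (w : ι → Fˣ) : (dg fun i => (w i : F)).Nondeg := by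
  classical
  intro v hv
  funext i
  simpa [dg_B, Pi.single_apply, h2] using hv (Pi.single i 1)

theorem dg_type [Finite F] (h2 : (2 : F) ≠ 0) {ι : Type} [Fintype ι] (w : ι → Fˣ) {m : ℕ} (h : Fintype.card ι = 2 * m) :
    (dg fun i => (w i : F)).IsType m (sqSign F (-1) ^ m * sqSign F (∏ i, w i) : ℤˣ) := by
  classical
  obtain ⟨η, hη⟩ : ∃ η : ℤˣ, (dg fun i => (w i : F)).IsType m η :=
    (exists_isType m _ (dg_nondeg h2 w) (by simpa using h)).elim (fun h => ⟨1, h⟩) fun h => ⟨-1, h⟩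
  have k : ∀ i, (dg fun i => (w i : F)).N (Pi.basisFun F ι i) = w i := fun i => by simp [dg_N, Pi.single_apply]
  have := hη.eq_disc (dg_nondeg h2 w) h2 (Pi.basisFun F ι) (fun i j hij => by simp [dg_B, Pi.single_apply, hij.symm])
    fun i => k i ▸ (w i).ne_zero
  simp only [k, Units.mk0_val] at this
  rwa [← this]

theorem val_le {q : ℕ} {η : ℤˣ} (h : (q : ℤ) % 4 = η % 4) (h1 : 1 < q) :
    padicValInt 2 (2 * (q - η)) = padicValNat 2 (q ^ 2 - 1) := by
  have e : ((q ^ 2 - 1 : ℕ) : ℤ) = (q + η) * (q - η) := by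
    rw [Nat.cast_sub (Nat.one_le_pow 2 q (by omega))]
    rcases Int.units_eq_one_or η with rfl | rfl <;> simp <;> ring
  obtain ⟨t, ht, ht'⟩ : ∃ t : ℤ, (q : ℤ) + η = 2 * t ∧ ¬ 2 ∣ t := by
    rcases Int.units_eq_one_or η with rfl | rfl <;> simp at h ⊢
    exacts [⟨(q + 1) / 2, by omega, by omega⟩, ⟨(q - 1) / 2, by omega, by omega⟩]
  have h0 : (q : ℤ) - η ≠ 0 := by rcases Int.units_eq_one_or η with rfl | rfl <;> simp <;> omega
  have h3 : t ≠ 0 := fun e => ht' (by simp [e])
  rw [← padicValInt.of_nat, e, ht, padicValInt.mul (mul_ne_zero two_ne_zero h3) h0, padicValInt.mul two_ne_zero h3,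
    padicValInt.mul two_ne_zero h0, padicValInt.eq_zero_of_not_dvd (p := 2) ht', add_zero]

theorem sq_mod [Fintype F] (hq : Odd (Fintype.card F)) : (Fintype.card F : ℤ) % 4 = (sqSign F (-1) : ℤ) % 4 := by
  have := Nat.odd_iff.1 hq
  rcases Int.units_eq_one_or (sqSign F (-1)) with h | h
  · have : ¬ Fintype.card F % 4 = 3 := fun e => absurd (h.symm.trans (sqSign_neg_one.2 e)) (by decide)
    simp [h]; omega
  · have := sqSign_neg_one.1 h
    simp [h]; omega

theorem split_inv {G : Type*} [Group G] (P : Subgroup G) {s : G} (h : s ∈ P) (hs : s ^ 2 = 1)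
    (k : ∀ g, g ^ 2 = 1 ∨ (s * g) ^ 2 = 1) (d : P) : ∃ a b, a ^ 2 = 1 ∧ b ^ 2 = 1 ∧ d = a * b := by
  rcases k d with e | e
  · exact ⟨d, 1, Subtype.ext e, one_pow _, (mul_one _).symm⟩
  · exact ⟨⟨s, h⟩, ⟨s, h⟩ * d, Subtype.ext hs, Subtype.ext e, Subtype.ext (by simp [← mul_assoc, ← sq, hs])⟩

theorem exists_D [Fintype F] (hq : Odd (Fintype.card F)) : ∃ D : Subgroup (dg fun _ : Fin 2 => (1 : F)).Isom,
    Nat.card D = 2 ^ padicValNat 2 (Fintype.card F ^ 2 - 1) ∧ ∀ d : D, ∃ a b, a ^ 2 = 1 ∧ b ^ 2 = 1 ∧ d = a * b := by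
  have h2 := two_ne_zero_of_odd hq
  let s : (dg fun _ : Fin 2 => (1 : F)).Isom := ⟨LinearEquiv.funCongrLeft F F (swap 0 1), Form.mem_Isom_orth.2 fun v => by
    simp [dg_N, add_comm]⟩
  have hs : s ^ 2 = 1 := by ext v i; fin_cases i <;> simp [s, sq]
  have hz : IsPGroup 2 (Subgroup.zpowers s) := .of_card ((Nat.card_zpowers s).trans
    ((Nat.dvd_prime_pow Nat.prime_two (m := 1)).1 (orderOf_dvd_of_pow_eq_one hs)).choose_spec.2)
  obtain ⟨P, hP⟩ := hz.exists_le_sylow
  haveI : Finite (dg fun _ : Fin 2 => (1 : F)).Isom :=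
    .of_injective (fun g => (g.1 : (Fin 2 → F) → Fin 2 → F)) fun _ _ h => Subtype.ext (DFunLike.coe_injective h)
  refine ⟨P, ?_, fun d => ?_⟩
  · have := card_orth_even (η := _) (by rcases Int.units_eq_one_or (sqSign F (-1)) with h | h <;> simp [h]) 0 _
      (dg_nondeg h2 fun _ : Fin 2 => 1) (dg_type h2 (fun _ => 1) rfl)
    rw [P.card_eq_multiplicity, Nat.factorization_def _ Nat.prime_two, ← padicValInt.of_nat,
      ← val_le (sq_mod hq) Fintype.one_lt_card]
    simp only [Units.val_one] at this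
    simp [this]
  have k : ∀ g : (dg fun _ : Fin 2 => (1 : F)).Isom, g ^ 2 = 1 ∨ (s * g) ^ 2 = 1 := fun g => by
    obtain ⟨a, b, c, d, hg⟩ : ∃ a b c d, ∀ v, g.1 v = ![a * v 0 + b * v 1, c * v 0 + d * v 1] :=
      ⟨g.1 ![1, 0] 0, g.1 ![0, 1] 0, g.1 ![1, 0] 1, g.1 ![0, 1] 1, fun v => by
        conv_lhs => rw [show v = v 0 • ![1, 0] + v 1 • ![0, 1] by ext i; fin_cases i <;> simp, map_add, map_smul, map_smul]
        ext i; fin_cases i <;> simp [mul_comm]⟩
    have h := fun v => Form.mem_Isom_orth.1 g.2 v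
    simp only [dg_N, hg, Fin.sum_univ_two, one_mul, Matrix.cons_val_zero, Matrix.cons_val_one] at h
    have h1 := h ![1, 0]
    have h3 := h ![0, 1]
    have h4 := h ![1, 1]
    simp at h1 h3 h4
    have h5 : a * b + c * d = 0 := mul_left_cancel₀ h2 (by linear_combination h4 - h1 - h3)
    have h6 : (a * d - b * c + 1) * (a * d - b * c - 1) = 0 := by
      linear_combination (b ^ 2 + d ^ 2) * h1 + h3 - (a * b + c * d) * h5
    refine (mul_eq_zero.1 h6).imp (fun e => ?_) fun e => ?_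
    · obtain rfl : d = -a := by linear_combination -d * h1 + a * e + c * h5
      obtain rfl : b = c := by linear_combination -b * h1 + a * h5 - c * e
      ext v i; fin_cases i <;> simp [sq, hg]
      · linear_combination v 0 * h1
      · linear_combination v 1 * h1
    · obtain rfl : a = d := by linear_combination d * h1 - a * e - c * h5
      obtain rfl : b = -c := by linear_combination -b * h1 + a * h5 - c * e
      ext v i; fin_cases i <;> simp [sq, hg, s]
      · linear_combination v 0 * h1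
      · linear_combination v 1 * h1
  exact split_inv P.1 (hP (Subgroup.mem_zpowers s)) hs k d

def sg (J : Type) : (J → ℤˣ) →* ((J → F) ≃ₗ[F] (J → F)) :=
  haveI := SMulCommClass.symm F (J → ℤˣ) (J → F)
  DistribMulAction.toModuleAut F (J → F)

theorem sg_apply {J : Type} (x : J → ℤˣ) (v : J → F) (j : J) : sg J x v j = x j • v j := rfl

theorem sg_inj (h2 : (2 : F) ≠ 0) (J : Type) : Function.Injective (sg (F := F) J) :=
  (injective_iff_map_eq_one _).2 fun x h => funext fun j => by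
    have := congrFun (LinearEquiv.congr_fun h 1) j
    rcases Int.units_eq_one_or (x j) with e | e
    · exact e
    · simp [sg_apply, e] at this
      exact absurd (by linear_combination -this) h2

theorem orth_main [Fintype F] (hq : Odd (Fintype.card F)) {m : ℕ} {J : Type} [Fintype J] (c : J → Fˣ) {G : Type*} [Group G]
    [Finite G] (e : (dg fun i : (Fin (m + 2) × Fin 2) ⊕ J => ((Sum.elim 1 c i : Fˣ) : F)).Isom ≃* G)
    (he : padicValNat 2 (Nat.card G) ≤
      (m + 2) * padicValNat 2 (Fintype.card F ^ 2 - 1) + padicValNat 2 (m + 2).factorial + Fintype.card J)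
    (P : Sylow 2 (commutator G)) (x : P.1) : x ^ 2 ∈ commutator P.1 := by
  classical
  have h2 := two_ne_zero_of_odd hq
  obtain ⟨D, hD, hD'⟩ := exists_D hq
  let δ := (Subgroup.subtype _).comp D.subtype
  have hδ : Function.Injective δ := Subtype.val_injective.comp Subtype.val_injective
  have hρ : ∀ g, rho (I := Fin (m + 2)) δ (sg J) g ∈
      (dg fun i : (Fin (m + 2) × Fin 2) ⊕ J => ((Sum.elim 1 c i : Fˣ) : F)).Isom := fun g =>
    Form.mem_Isom_orth.2 fun v => by
      simp only [dg_N, Fintype.sum_sum_type, Fintype.sum_prod_type, rho_inl, rho_inr, Sum.elim_inl, Sum.elim_inr,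
        Pi.one_apply, Units.val_one]
      congr 1
      · exact Fintype.sum_equiv g.1.right⁻¹ _ _ fun i => Form.mem_Isom_orth.1 (g.1.left i).1.2 _
      · refine Finset.sum_congr rfl fun j _ => ?_
        rw [sg_apply]; rcases Int.units_eq_one_or (g.2 j) with h | h <;> simp [h]
  let π : Perm (Fin (m + 2) × Fin 2) →* (dg fun i : (Fin (m + 2) × Fin 2) ⊕ J => ((Sum.elim 1 c i : Fˣ) : F)).Isom :=
    MonoidHom.mk' (fun σ => ⟨LinearEquiv.funCongrLeft F F (Equiv.sumCongr σ⁻¹ (Equiv.refl J)),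
      Form.mem_Isom_orth.2 fun v => Fintype.sum_equiv (Equiv.sumCongr σ⁻¹ (Equiv.refl J)) _ _ fun i => by
        cases i <;> rfl⟩) fun σ τ => by ext v i; cases i <;> rfl
  obtain ⟨T⟩ : Nonempty (Sylow 2 (Perm (Fin (m + 2)))) := inferInstance
  refine transfer (commutator G).subtype Subtype.val_injective Abelianization.of (fun g => by
    rw [Subgroup.range_subtype, ← MonoidHom.mem_ker, Abelianization.ker_of])
    (e.toMonoidHom.comp ((rho δ (sg J)).codRestrict _ hρ))
    (e.injective.comp fun a b h => rho_inj δ _ hδ (sg_inj h2 J) (congrArg Subtype.val h)) (WT _ _ T.1) ?_ he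
    (core _ (fun σ => ?_) T (fun x => funext fun j => Int.units_sq _) (i0 := 0) fun d => ?_) P x
  · rw [card_WT, hD, card_T, Nat.card_fun]
    simp [pow_add 2, ← pow_mul, mul_comm]
  · refine Eq.trans (congrArg (fun z => Abelianization.of (e z)) ?_)
      (hom_sign (Abelianization.of.comp (e.toMonoidHom.comp π)) (σ := Equiv.prodCongrLeft fun _ => σ)
        (by simp [Perm.sign_prodCongrLeft]))
    ext v i
    rcases i with ⟨i, k⟩ | j
    · rfl
    · exact one_smul ℤˣ (v (.inr j))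
  · obtain ⟨a, b, ha, hb, h⟩ := hD' d
    exact ⟨a, b, 1, ha, hb, .inr ⟨1, by simp⟩, by rw [map_one, map_one], by simpa using one_mem _, by simpa using h⟩

theorem orth_odd [Fintype F] (hq : Odd (Fintype.card F)) {ι : Type} [Fintype ι] [DecidableEq ι] {m : ℕ}
    (Φ : Form (Kind.orth F) (ι → F)) (hΦ : Φ.Nondeg) (h : Fintype.card ι = 2 * (m + 2) + 1)
    (P : Sylow 2 (Cfsg.Omega F Φ.N)) (x : P.1) : x ^ 2 ∈ commutator P.1 := by
  have h2 := two_ne_zero_of_odd hq
  obtain ⟨c, hc, e⟩ := orth_iso_odd (m + 2) Φ _ hΦ (dg_nondeg h2 (ι := (Fin (m + 2) × Fin 2) ⊕ Unit) (Sum.elim 1 1))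
    (by simpa using h) (by simp; ring)
  obtain ⟨e⟩ := e.nonempty_equiv
  rw [Φ.Isom_scale hc] at e
  refine orth_main hq 1 (e.symm.trans (orthEquiv Φ).symm) ?_ P x
  have h1 := Fintype.one_lt_card (α := F)
  rw [Nat.card_congr (orthEquiv Φ).toEquiv, card_orth_odd (m + 2) Φ hΦ (by simpa using h), Nat.card_eq_fintype_card,
    padicValNat.mul (by positivity) (Finset.prod_ne_zero_iff.2 fun i _ =>
      Nat.sub_ne_zero_of_lt (Nat.one_lt_pow (by omega) h1)), val_prod hq h1, padicValNat.mul (by omega) (by positivity),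
    padicValNat.eq_zero_of_not_dvd (n := _ ^ _) (by simpa [← even_iff_two_dvd] using hq.pow)]
  simp [add_comm]

theorem orth_even [Fintype F] (hq : Odd (Fintype.card F)) {ι : Type} [Fintype ι] [DecidableEq ι] {m : ℕ}
    (Φ : Form (Kind.orth F) (ι → F)) (hΦ : Φ.Nondeg) {η : ℤˣ} (h : Φ.IsType (m + 2) η) (hm : m = 0 → η = 1)
    (P : Sylow 2 (Cfsg.Omega F Φ.N)) (x : P.1) : x ^ 2 ∈ commutator P.1 := by
  have h2 := two_ne_zero_of_odd hq
  have h1 := Fintype.one_lt_card (α := F)
  have h3 : 1 < Fintype.card F ^ (m + 2) := Nat.one_lt_pow (by omega) h1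
  have h0 : (Fintype.card F : ℤ) ^ (m + 2) - η ≠ 0 := by
    zify at h3; rcases Int.units_eq_one_or η with rfl | rfl <;> simp <;> omega
  have hc : padicValNat 2 (Nat.card (Cfsg.isometryGroup F Φ.N)) = padicValInt 2 (2 * (Fintype.card F ^ (m + 2) - η)) +
      ((m + 1) * padicValNat 2 (Fintype.card F ^ 2 - 1) + padicValNat 2 (m + 1).factorial) := by
    have k : ∀ i, 1 < Fintype.card F ^ (2 * (i + 1)) := fun i => Nat.one_lt_pow (by omega) h1
    rw [Nat.card_congr (orthEquiv Φ).toEquiv, ← padicValInt.of_nat, card_orth_even (by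
      rcases Int.units_eq_one_or η with rfl | rfl <;> simp) (m + 1) Φ hΦ h, Nat.card_eq_fintype_card, ← val_prod hq h1,
      ← padicValInt.of_nat, Nat.cast_prod, mul_right_comm 2, padicValInt.mul (by positivity)
        (Finset.prod_ne_zero_iff.2 fun i _ => by have := k i; zify at this; omega),
      padicValInt.mul (by positivity) (by positivity), padicValInt.eq_zero_of_not_dvd (z := _ ^ _) (by
        simpa [← even_iff_two_dvd] using hq.natCast.pow), add_zero]
    simp only [Nat.cast_sub (k _).le]; simp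
  have hm4 : ((Fintype.card F ^ (m + 2) : ℕ) : ℤ) % 4 = (sqSign F (-1) ^ (m + 2) : ℤˣ) % 4 := by
    push_cast; exact Int.ModEq.pow _ (sq_mod hq)
  by_cases hη : η = sqSign F (-1) ^ (m + 2)
  · obtain ⟨e⟩ := (orth_iso_even η (m + 2) Φ _ hΦ (dg_nondeg h2 (ι := (Fin (m + 2) × Fin 2) ⊕ Empty) (Sum.elim 1 1)) h
      (by simpa [hη] using dg_type h2 (ι := (Fin (m + 2) × Fin 2) ⊕ Empty) (Sum.elim 1 1) (m := m + 2)
            (by simp; ring))).nonempty_equiv
    refine orth_main hq 1 (e.symm.trans (orthEquiv Φ).symm) ?_ P x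
    have a := val_le hm4 h3
    have b := val_prod hq h1 (m + 2)
    rw [Finset.prod_range_succ, padicValNat.mul (Finset.prod_ne_zero_iff.2 fun i _ =>
      Nat.sub_ne_zero_of_lt (Nat.one_lt_pow (by omega) h1)) (Nat.sub_ne_zero_of_lt (Nat.one_lt_pow (by omega) h1)),
      val_prod hq h1, mul_comm 2, pow_mul, ← a, ← hη] at b
    push_cast at b
    rw [hc, add_comm, b]; simp
  · obtain ⟨k, rfl⟩ : ∃ k, m = k + 1 := ⟨m - 1, by
      by_contra e; exact hη (by rw [show m = 0 by omega, hm (by omega), Int.units_sq])⟩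
    obtain ⟨α, hα⟩ := FiniteField.exists_nonsquare (F := F) (fun e => h2 (by rw [← Nat.cast_ofNat, ← e, ringChar.Nat.cast_ringChar]))
    have hα0 : α ≠ 0 := fun e => hα (e ▸ IsSquare.zero)
    have hη' : η = -sqSign F (-1) ^ (k + 1 + 2) := Int.units_ne_iff_eq_neg.1 hη
    obtain ⟨e⟩ := (orth_iso_even η (k + 1 + 2) Φ _ hΦ (dg_nondeg h2 (ι := (Fin (k + 2) × Fin 2) ⊕ Fin 2)
      (Sum.elim 1 ![1, Units.mk0 α hα0])) h
      (by simpa [hη', (sqSign_eq_neg_one_iff (x := Units.mk0 α hα0)).2 hα] using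
        dg_type h2 (ι := (Fin (k + 2) × Fin 2) ⊕ Fin 2) (Sum.elim 1 ![1, Units.mk0 α hα0]) (m := k + 1 + 2)
            (by simp; ring))).nonempty_equiv
    refine orth_main hq _ (e.symm.trans (orthEquiv Φ).symm) ?_ P x
    obtain ⟨t, ht, ht'⟩ : ∃ t : ℤ, (Fintype.card F : ℤ) ^ (k + 1 + 2) - η = 2 * t ∧ ¬ 2 ∣ t := by
      push_cast at hm4
      rw [hη', Units.val_neg, Units.val_pow_eq_pow_val]
      rw [← Units.val_pow_eq_pow_val] at hm4 ⊢
      generalize (Fintype.card F : ℤ) ^ (k + 1 + 2) = y at hm4 ⊢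
      rcases Int.units_eq_one_or (sqSign F (-1) ^ (k + 1 + 2)) with h | h <;> simp [h] at hm4 ⊢
      exacts [⟨(y + 1) / 2, by omega, by omega⟩, ⟨(y - 1) / 2, by omega, by omega⟩]
    have h4 : t ≠ 0 := fun e => ht' (by simp [e])
    rw [hc, ht, padicValInt.mul two_ne_zero (mul_ne_zero two_ne_zero h4), padicValInt.mul two_ne_zero h4,
      padicValInt.eq_zero_of_not_dvd (p := 2) ht', show padicValInt 2 2 = 1 from padicValInt.self one_lt_two,
      Fintype.card_fin, add_comm]

end Cfsg.Agent.Classical.Syl2
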