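import Mathlib
import Cfsg.Agent.Lib.Perm.Prim

/-! Imprimitive wreath products in symmetric and alternating groups. -/

namespace Cfsg.Agent.Classical.Sym
open Equiv Equiv.Perm

variable {Ω ι : Type*}

/-- the stabiliser of the partition into fibres of `f` -/
def W (f : Ω → ι) : Subgroup (Perm Ω) where
  carrier := {g | ∀ x y : Ω, f x = f y ↔ f (g x) = f (g y)}
  one_mem' := fun _ _ => Iff.rfl
  mul_mem' := fun {a b} ha hb x y => (hb x y).trans (ha _ _)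
  inv_mem' := fun {a} ha x y => by
    have := ha (a⁻¹ x) (a⁻¹ y)
    simp only [Perm.coe_inv, apply_symm_apply] at this
    exact this.symm

theorem closure_W (f : Ω → ι) :
    Subgroup.closure {g : Perm Ω | ∀ x y : Ω, f x = f y ↔ f (g x) = f (g y)} = W f := (W f).closure_eq

theorem mem_W_of_semiconj {f : Ω → ι} {g : Perm Ω} (σ : ι → ι) (hσ : Function.Injective σ)
    (h : ∀ x, f (g x) = σ (f x)) : g ∈ W f := fun x y => by rw [h, h, hσ.eq_iff]

theorem exists_lift [Finite Ω] {f : Ω → ι} {a : ℕ} (hf : ∀ i, Nat.card {x : Ω // f x = i} = a) (σ : Perm ι) :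
    ∃ g : Perm Ω, ∀ x, f (g x) = σ (f x) := by
  have e : ∀ c, {x // σ (f x) = c} ≃ {x // f x = c} := fun c =>
    (Equiv.subtypeEquivRight (fun x => σ.eq_symm_apply.symm)).trans
      (Finite.card_eq.1 ((hf _).trans (hf _).symm)).some
  exact ⟨Equiv.ofFiberEquiv e, fun x => Equiv.ofFiberEquiv_map e x⟩

variable [DecidableEq Ω]

theorem f_swap {f : Ω → ι} {x y : Ω} (h : f x = f y) (z : Ω) : f (swap x y z) = f z := by
  rw [swap_apply_def]; split_ifs with h1 h2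
  · rw [h1, h]
  · rw [h2, h]
  · rfl

theorem swap_mem_W {f : Ω → ι} {x y : Ω} (h : f x = f y) : swap x y ∈ W f :=
  mem_W_of_semiconj id Function.injective_id (f_swap h)

theorem exists_perm_pair {α : Type*} {x y u v : α} (h1 : x ≠ y) (h2 : u ≠ v) : ∃ σ : Perm α, σ x = u ∧ σ y = v := by
  obtain ⟨σ, hσ⟩ := Perm.exists_extending_pair (α := Fin 2) ![x, y] ![u, v]
    (by intro i j; fin_cases i <;> fin_cases j <;> simp [h1, h1.symm])
    (by intro i j; fin_cases i <;> fin_cases j <;> simp [h2, h2.symm])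
  exact ⟨σ, hσ 0, hσ 1⟩

theorem W_diff [Finite Ω] {f : Ω → ι} {a : ℕ} (hf : ∀ i, Nat.card {x : Ω // f x = i} = a) {x y u v : Ω}
    (h1 : f x ≠ f y) (h2 : f u ≠ f v) : ∃ w ∈ W f, w x = u ∧ w y = v := by
  obtain ⟨σ, hx, hy⟩ := exists_perm_pair h1 h2
  obtain ⟨g, hg⟩ := exists_lift hf σ
  have e1 : f (g x) = f u := by rw [hg, hx]
  have e2 : f (g y) = f v := by rw [hg, hy]
  refine ⟨swap (g y) v * swap (g x) u * g, (W f).mul_mem ((W f).mul_mem (swap_mem_W e2) (swap_mem_W e1))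
    (mem_W_of_semiconj σ σ.injective hg), ?_, ?_⟩
  · simp only [Perm.mul_apply, swap_apply_left]
    refine swap_apply_of_ne_of_ne ?_ ?_ <;> intro h
    · exact h2 (by rw [← e2, ← h])
    · exact h2 (by rw [h])
  · simp only [Perm.mul_apply]
    rw [swap_apply_of_ne_of_ne (a := g x), swap_apply_left] <;> intro h
    · exact h2 (by rw [← e2, h, e1])
    · exact h2 (by rw [← e2, h])

theorem W_same [Finite Ω] {f : Ω → ι} {a : ℕ} (hf : ∀ i, Nat.card {x : Ω // f x = i} = a) {x y u v : Ω}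
    (h1 : f x = f y) (h2 : f u = f v) (hxy : x ≠ y) (huv : u ≠ v) : ∃ w ∈ W f, w x = u ∧ w y = v := by
  classical
  obtain ⟨g, hg⟩ := exists_lift hf (swap (f x) (f u))
  have e1 : f (g x) = f u := by rw [hg, swap_apply_left]
  have e2 : f (g y) = f u := by rw [hg, ← h1, swap_apply_left]
  have hm := (W f).mul_mem (swap_mem_W e1) (mem_W_of_semiconj _ (swap (f x) (f u)).injective hg)
  set k := swap (g x) u * g with hk
  have e3 : k x = u := by simp [hk]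
  have e4 : f (k y) = f v := by rw [hk, Perm.mul_apply, f_swap e1, e2, h2]
  refine ⟨swap (k y) v * k, (W f).mul_mem (swap_mem_W e4) hm, ?_, by simp⟩
  rw [Perm.mul_apply, e3]
  refine swap_apply_of_ne_of_ne ?_ huv
  rw [← e3]; exact k.injective.ne hxy

omit [DecidableEq Ω] in
theorem exists_two [Finite Ω] {f : Ω → ι} {a : ℕ} (hf : ∀ i, Nat.card {x : Ω // f x = i} = a) (ha : 2 ≤ a) (i : ι) :
    ∃ x y, x ≠ y ∧ f x = i ∧ f y = i := by
  have : Nontrivial {x : Ω // f x = i} := Finite.one_lt_card_iff_nontrivial.1 (by rw [hf]; omega)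
  obtain ⟨x, y, h⟩ := exists_pair_ne {x : Ω // f x = i}
  exact ⟨x, y, fun h' => h (Subtype.ext h'), x.2, y.2⟩

omit [DecidableEq Ω] in
theorem exists_partner [Finite Ω] {f : Ω → ι} {a : ℕ} (hf : ∀ i, Nat.card {x : Ω // f x = i} = a) (ha : 2 ≤ a) (x : Ω) :
    ∃ y, y ≠ x ∧ f y = f x := by
  obtain ⟨u, v, h, h1, h2⟩ := exists_two hf ha (f x)
  by_cases hu : u = x
  · exact ⟨v, fun h' => h (hu.trans h'.symm), h2⟩
  · exact ⟨u, hu, h1⟩

omit [DecidableEq Ω] in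
theorem exists_third [Finite Ω] {f : Ω → ι} {a : ℕ} (hf : ∀ i, Nat.card {x : Ω // f x = i} = a) (ha : 3 ≤ a) (x : Ω) :
    ∃ y z, y ≠ x ∧ z ≠ x ∧ y ≠ z ∧ f y = f x ∧ f z = f x := by
  classical
  haveI := Fintype.ofFinite {y : Ω // f y = f x}
  have h : 1 < (Finset.univ.erase (⟨x, rfl⟩ : {y : Ω // f y = f x})).card := by
    rw [Finset.card_erase_of_mem (Finset.mem_univ _), Finset.card_univ, ← Nat.card_eq_fintype_card, hf]; omega
  obtain ⟨y, hy, z, hz, hyz⟩ := Finset.one_lt_card.1 h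
  exact ⟨y, z, fun h => (Finset.mem_erase.1 hy).1 (Subtype.ext h), fun h => (Finset.mem_erase.1 hz).1 (Subtype.ext h),
    fun h => hyz (Subtype.ext h), y.2, z.2⟩

omit [DecidableEq Ω] in
theorem eq_of_two [Finite Ω] {f : Ω → ι} (hf : ∀ i, Nat.card {x : Ω // f x = i} = 2) {x y z : Ω} (hxy : x ≠ y)
    (h1 : f y = f x) (h2 : f z = f x) : z = x ∨ z = y := by
  by_contra hc
  push Not at hc
  have := Nat.card_le_card_of_injective (β := {y : Ω // f y = f x}) (![⟨x, rfl⟩, ⟨y, h1⟩, ⟨z, h2⟩] : Fin 3 → _) (by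
    intro i j; fin_cases i <;> fin_cases j <;> simp [hxy, hxy.symm, hc.1, hc.2, hc.1.symm, hc.2.symm])
  rw [hf] at this
  simp at this

omit [DecidableEq Ω] in
theorem exists_bad {f : Ω → ι} {K : Subgroup (Perm Ω)} (h : ¬ K ≤ W f) :
    ∃ g ∈ K, ∃ x y, f x = f y ∧ f (g x) ≠ f (g y) := by
  by_contra hc
  push Not at hc
  refine h fun g hg x y => ⟨hc g hg x y, fun h => ?_⟩
  simpa using hc g⁻¹ (K.inv_mem hg) _ _ h

theorem W_ne_top [Finite Ω] [Nontrivial ι] {f : Ω → ι} {a : ℕ} (hf : ∀ i, Nat.card {x : Ω // f x = i} = a)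
    (ha : 2 ≤ a) : ∃ x y z : Ω, x ≠ y ∧ x ≠ z ∧ y ≠ z ∧ f x = f y ∧ f x ≠ f z := by
  obtain ⟨i, j, hij⟩ := exists_pair_ne ι
  obtain ⟨x, y, h, h1, h2⟩ := exists_two hf ha i
  obtain ⟨z, -, -, h3, -⟩ := exists_two hf ha j
  refine ⟨x, y, z, h, ?_, ?_, h1.trans h2.symm, by rw [h1, h3]; exact hij⟩ <;> rintro rfl
  · exact hij (h1.symm.trans h3)
  · exact hij (h2.symm.trans h3)

theorem isCoatom_W [Fintype Ω] [Nontrivial ι] {f : Ω → ι} {a : ℕ} (hf : ∀ i, Nat.card {x : Ω // f x = i} = a)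
    (ha : 2 ≤ a) : IsCoatom (W f) := by
  constructor
  · obtain ⟨x, y, z, h1, h2, h3, h4, h5⟩ := W_ne_top hf ha
    intro h
    have : swap y z ∈ W f := h ▸ Subgroup.mem_top _
    have := (this x y).1 h4
    rw [swap_apply_of_ne_of_ne h1 h2, swap_apply_left] at this
    exact h5 this
  · intro K hK
    obtain ⟨g, hg, x, y, h1, h2⟩ := exists_bad hK.2
    rw [eq_top_iff, ← closure_isSwap, Subgroup.closure_le]
    rintro _ ⟨u, v, -, rfl⟩
    by_cases h : f u = f v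
    · exact hK.1 (swap_mem_W h)
    · obtain ⟨w, hw, rfl, rfl⟩ := W_diff hf h2 h
      rw [swap_apply_apply, swap_apply_apply]
      exact K.mul_mem (K.mul_mem (hK.1 hw) (K.mul_mem (K.mul_mem hg (hK.1 (swap_mem_W h1))) (K.inv_mem hg)))
        (K.inv_mem (hK.1 hw))

omit [DecidableEq Ω] in
theorem prim_of_two_trans {K : Subgroup (Perm Ω)}
    (h : ∀ x y u v : Ω, x ≠ y → u ≠ v → ∃ k ∈ K, k x = u ∧ k y = v) : MulAction.IsPreprimitive K Ω := by
  haveI : MulAction.IsPretransitive K Ω := ⟨fun x u => by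
    by_cases hx : x = u
    · exact ⟨1, by simpa using hx⟩
    · obtain ⟨k, hk, h1, -⟩ := h x u u x hx (Ne.symm hx)
      exact ⟨⟨k, hk⟩, h1⟩⟩
  refine Cfsg.Agent.Perm.prim_of_rel fun r hr hinv => ?_
  by_cases h1 : ∀ x y, r x y → x = y
  · exact Or.inl h1
  right
  push Not at h1
  obtain ⟨x, y, hxy, hne⟩ := h1
  intro u v
  by_cases huv : u = v
  · exact huv ▸ hr.1 u
  obtain ⟨k, hk, rfl, rfl⟩ := h x y u v hne huv
  exact hinv ⟨k, hk⟩ x y hxy

variable [Fintype Ω]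

theorem fix_parity {K : Subgroup (Perm Ω)} {w : Perm Ω} (hw : w ∈ K) {p q : Ω} (hpq : p ≠ q) (hs : swap p q ∈ K)
    {u v x y : Ω} (h1 : w x = u) (h2 : w y = v) (hup : u ≠ p) (huq : u ≠ q) (hvp : v ≠ p) (hvq : v ≠ q) :
    ∃ w ∈ K ⊓ alternatingGroup Ω, w x = u ∧ w y = v := by
  rcases Int.units_eq_one_or (sign w) with h | h
  · exact ⟨w, ⟨hw, h⟩, h1, h2⟩
  · refine ⟨swap p q * w, ⟨K.mul_mem hs hw, ?_⟩, ?_, ?_⟩
    · simp [mem_alternatingGroup, h, hpq]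
    · rw [Perm.mul_apply, h1, swap_apply_of_ne_of_ne hup huq]
    · rw [Perm.mul_apply, h2, swap_apply_of_ne_of_ne hvp hvq]

theorem WA_same [Nontrivial ι] {f : Ω → ι} {a : ℕ} (hf : ∀ i, Nat.card {x : Ω // f x = i} = a) (ha : 2 ≤ a)
    {x y u v : Ω} (h1 : f x = f y) (h2 : f u = f v) (hxy : x ≠ y) (huv : u ≠ v) :
    ∃ w ∈ W f ⊓ alternatingGroup Ω, w x = u ∧ w y = v := by
  obtain ⟨w, hw, e1, e2⟩ := W_same hf h1 h2 hxy huv
  obtain ⟨j, hj⟩ := exists_ne (f u)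
  obtain ⟨p, q, hpq, hp, hq⟩ := exists_two hf ha j
  refine fix_parity hw hpq (swap_mem_W (hp.trans hq.symm)) e1 e2 ?_ ?_ ?_ ?_ <;> rintro rfl
  · exact hj hp.symm
  · exact hj hq.symm
  · exact hj (hp.symm.trans h2.symm)
  · exact hj (hq.symm.trans h2.symm)

theorem WA_diff {f : Ω → ι} {a : ℕ} (hf : ∀ i, Nat.card {x : Ω // f x = i} = a) (ha : 2 ≤ a)
    (h3 : 3 ≤ a ∨ ∀ i j : ι, ∃ k, k ≠ i ∧ k ≠ j)
    {x y u v : Ω} (h1 : f x ≠ f y) (h2 : f u ≠ f v) :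
    ∃ w ∈ W f ⊓ alternatingGroup Ω, w x = u ∧ w y = v := by
  obtain ⟨w, hw, e1, e2⟩ := W_diff hf h1 h2
  rcases h3 with h3 | h3
  · obtain ⟨p, q, hp, hq, hpq, hp2, hq2⟩ := exists_third hf h3 u
    refine fix_parity hw hpq (swap_mem_W (hp2.trans hq2.symm)) e1 e2 hp.symm hq.symm ?_ ?_ <;> rintro rfl
    · exact h2 hp2.symm
    · exact h2 hq2.symm
  · obtain ⟨j, hj1, hj2⟩ := h3 (f u) (f v)
    obtain ⟨p, q, hpq, hp, hq⟩ := exists_two hf ha j
    refine fix_parity hw hpq (swap_mem_W (hp.trans hq.symm)) e1 e2 ?_ ?_ ?_ ?_ <;> rintro rfl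
    · exact hj1 hp.symm
    · exact hj1 hq.symm
    · exact hj2 hp.symm
    · exact hj2 hq.symm

theorem two_trans [Nontrivial ι] {f : Ω → ι} {a : ℕ} (hf : ∀ i, Nat.card {x : Ω // f x = i} = a) (ha : 2 ≤ a)
    (h3 : 3 ≤ a ∨ ∀ i j : ι, ∃ k, k ≠ i ∧ k ≠ j) {K : Subgroup (Perm Ω)} (hK : W f ⊓ alternatingGroup Ω ≤ K)
    (hK2 : ¬ K ≤ W f) (x y u v : Ω) (hxy : x ≠ y) (huv : u ≠ v) : ∃ k ∈ K, k x = u ∧ k y = v := by
  obtain ⟨g, hg, p, q, h1, h2⟩ := exists_bad hK2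
  have hpq : p ≠ q := by rintro rfl; exact h2 rfl
  have key : ∀ x y, x ≠ y → ∃ k ∈ K, k p = x ∧ k q = y := by
    intro x y hxy
    by_cases h : f x = f y
    · obtain ⟨w, hw, e⟩ := WA_same hf ha h1 h hpq hxy
      exact ⟨w, hK hw, e⟩
    · obtain ⟨w, hw, e⟩ := WA_diff hf ha h3 h2 h
      exact ⟨w * g, K.mul_mem (hK hw) hg, e⟩
  obtain ⟨k, hk, rfl, rfl⟩ := key x y hxy
  obtain ⟨l, hl, rfl, rfl⟩ := key u v huv
  exact ⟨l * k⁻¹, K.mul_mem hl (K.inv_mem hk), by simp, by simp⟩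

theorem dbl_mem_A {p q r s : Ω} (h1 : p ≠ q) (h2 : r ≠ s) : swap p q * swap r s ∈ alternatingGroup Ω := by
  simp [mem_alternatingGroup, h1, h2]

omit [Fintype Ω] in
theorem dbl_mem_W [Finite Ω] {f : Ω → ι} (hf : ∀ i, Nat.card {x : Ω // f x = i} = 2) {p q r s : Ω}
    (hpr : p ≠ r) (hqs : q ≠ s) (h1 : f r = f p) (h2 : f s = f q) (h3 : f p ≠ f q) : swap p q * swap r s ∈ W f := by
  classical
  have n1 : p ≠ q := fun h => h3 (by rw [h])
  have n2 : p ≠ s := fun h => h3 (by rw [h, h2])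
  have n3 : r ≠ q := fun h => h3 (by rw [← h1, h])
  have n4 : r ≠ s := fun h => h3 (by rw [← h1, h, h2])
  refine mem_W_of_semiconj _ (swap (f p) (f q)).injective fun x => ?_
  rw [Perm.mul_apply]
  by_cases e1 : f x = f p
  · rw [e1, swap_apply_left]
    rcases eq_of_two hf hpr h1 e1 with rfl | rfl
    · rw [swap_apply_of_ne_of_ne hpr n2, swap_apply_left]
    · rw [swap_apply_left, swap_apply_of_ne_of_ne n2.symm hqs.symm, h2]
  by_cases e2 : f x = f q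
  · rw [e2, swap_apply_right]
    rcases eq_of_two hf hqs h2 e2 with rfl | rfl
    · rw [swap_apply_of_ne_of_ne n3.symm hqs, swap_apply_right]
    · rw [swap_apply_right, swap_apply_of_ne_of_ne hpr.symm n3, h1]
  · rw [swap_apply_of_ne_of_ne e1 e2, swap_apply_of_ne_of_ne (x := x), swap_apply_of_ne_of_ne] <;> rintro rfl
    · exact e1 rfl
    · exact e2 rfl
    · exact e1 h1
    · exact e2 h2

theorem alt_le_of_three [Nontrivial ι] {f : Ω → ι} {a : ℕ} (hf : ∀ i, Nat.card {x : Ω // f x = i} = a) (ha : 3 ≤ a)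
    {K : Subgroup (Perm Ω)} (hK : W f ⊓ alternatingGroup Ω ≤ K) (hK2 : ¬ K ≤ W f) : alternatingGroup Ω ≤ K := by
  have hp := prim_of_two_trans (two_trans hf (by omega) (Or.inl ha) hK hK2)
  obtain ⟨x, -, -, -, -, -, -, -⟩ := W_ne_top hf (by omega)
  obtain ⟨y, z, h1, h2, h3, h4, h5⟩ := exists_third hf ha x
  exact alternatingGroup_le_of_isPreprimitive_of_isThreeCycle_mem hp
    (isThreeCycle_swap_mul_swap_same h1.symm h2.symm h3)
    (hK ⟨(W f).mul_mem (swap_mem_W h4.symm) (swap_mem_W h5.symm), dbl_mem_A h1.symm h2.symm⟩)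

theorem conj_dbl_mem {K : Subgroup (Perm Ω)} {g : Perm Ω} (hg : g ∈ K) {p q r s : Ω} (h : swap p q * swap r s ∈ K) :
    swap (g p) (g q) * swap (g r) (g s) ∈ K := by
  have := K.mul_mem (K.mul_mem hg h) (K.inv_mem hg)
  rw [swap_apply_apply, swap_apply_apply]
  convert this using 1
  group

theorem alt_le_of_five [Fintype ι] (h5 : 5 ≤ Fintype.card ι) {f : Ω → ι} (hf : ∀ i, Nat.card {x : Ω // f x = i} = 2)
    {K : Subgroup (Perm Ω)} (hK : W f ⊓ alternatingGroup Ω ≤ K) (hK2 : ¬ K ≤ W f) : alternatingGroup Ω ≤ K := by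
  classical
  have hav : ∀ i j k l : ι, ∃ m, m ≠ i ∧ m ≠ j ∧ m ≠ k ∧ m ≠ l := by
    intro i j k l
    obtain ⟨m, -, hm⟩ := Finset.exists_mem_notMem_of_card_lt_card (s := {i, j, k, l}) (t := Finset.univ)
      (lt_of_le_of_lt Finset.card_le_four (by rw [Finset.card_univ]; omega))
    exact ⟨m, by simpa using hm⟩
  haveI : Nontrivial ι := Fintype.one_lt_card_iff_nontrivial.1 (by omega)
  have hp := prim_of_two_trans (two_trans hf le_rfl
    (Or.inr fun i j => (hav i j i j).imp fun m h => ⟨h.1, h.2.1⟩) hK hK2)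
  obtain ⟨g, hg, x, x', h1, h2⟩ := exists_bad hK2
  have hxx : x ≠ x' := by rintro rfl; exact h2 rfl
  obtain ⟨u', hu, hu2⟩ := exists_partner hf le_rfl (g x)
  obtain ⟨u', rfl⟩ := g.surjective u'
  obtain ⟨i, hi1, hi2, -, -⟩ := hav (f x) (f u') (f x) (f x)
  obtain ⟨y, y', hyy, hy, hy'⟩ := exists_two hf le_rfl i
  obtain ⟨j, j1, j2, j3, j4⟩ := hav (f (g x)) (f (g x')) (f (g y)) (f (g y'))
  obtain ⟨z, z', hzz, hz, hz'⟩ := exists_two hf le_rfl j
  have hs : swap (g x) (g x') * swap (g y) (g y') ∈ K :=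
    conj_dbl_mem hg (hK ⟨(W f).mul_mem (swap_mem_W h1) (swap_mem_W (hy.trans hy'.symm)), dbl_mem_A hxx hyy⟩)
  have ht : swap (g x) (g u') * swap z z' ∈ K :=
    hK ⟨(W f).mul_mem (swap_mem_W hu2.symm) (swap_mem_W (hz.trans hz'.symm)), dbl_mem_A hu.symm hzz⟩
  have h3 := conj_dbl_mem hs ht
  have ne1 : ∀ {p q : Ω}, f p ≠ f q → p ≠ q := fun h h' => h (by rw [h'])
  have ne2 : ∀ {p q : Ω}, f p ≠ f q → g p ≠ g q := fun h => g.injective.ne (ne1 h)
  have n0 : g u' ≠ g x' := ne1 (by rw [hu2]; exact h2)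
  simp only [Perm.mul_apply] at h3
  rw [swap_apply_of_ne_of_ne (x := g x) (ne2 (by rw [hy]; exact hi1.symm)) (ne2 (by rw [hy']; exact hi1.symm)),
    swap_apply_left,
    swap_apply_of_ne_of_ne (x := g u') (ne2 (by rw [hy]; exact hi2.symm)) (ne2 (by rw [hy']; exact hi2.symm)),
    swap_apply_of_ne_of_ne (x := g u') hu n0,
    swap_apply_of_ne_of_ne (x := z) (ne1 (by rw [hz]; exact j3)) (ne1 (by rw [hz]; exact j4)),
    swap_apply_of_ne_of_ne (x := z) (ne1 (by rw [hz]; exact j1)) (ne1 (by rw [hz]; exact j2)),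
    swap_apply_of_ne_of_ne (x := z') (ne1 (by rw [hz']; exact j3)) (ne1 (by rw [hz']; exact j4)),
    swap_apply_of_ne_of_ne (x := z') (ne1 (by rw [hz']; exact j1)) (ne1 (by rw [hz']; exact j2))] at h3
  have h4 := K.mul_mem h3 (K.inv_mem ht)
  rw [mul_inv_rev, mul_assoc, mul_inv_cancel_left, swap_inv, swap_comm (g x'), swap_comm (g x)] at h4
  exact alternatingGroup_le_of_isPreprimitive_of_isThreeCycle_mem hp
    (isThreeCycle_swap_mul_swap_same n0 hu (ne1 h2).symm) h4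

set_option synthInstance.maxSize 4096 in
theorem six_aux : ∀ (a b c d e : Fin 3), a ≠ e → b ≠ e → c ≠ e → d ≠ e → ¬(b = a ∧ c = a) → ¬(b = a ∧ d = a) →
    ¬(c = a ∧ d = a) → ¬(c = b ∧ d = b) → a = b ∧ c = d ∨ c = a ∧ d = b ∧ a ≠ b ∨ d = a ∧ c = b ∧ a ≠ b := by
  decide +kernel

theorem alt_le_of_six {f : Ω → Fin 3} (hf : ∀ i, Nat.card {x : Ω // f x = i} = 2)
    {K : Subgroup (Perm Ω)} (hK : W f ⊓ alternatingGroup Ω ≤ K) (hK2 : ¬ K ≤ W f) : alternatingGroup Ω ≤ K := by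
  have hav : ∀ i j : Fin 3, ∃ k, k ≠ i ∧ k ≠ j := by decide
  have hp := prim_of_two_trans (two_trans hf le_rfl (Or.inr hav) hK hK2)
  obtain ⟨g, hg, x, x', h1, h2⟩ := exists_bad hK2
  have hxx : x ≠ x' := by rintro rfl; exact h2 rfl
  obtain ⟨p, hp1, hp2⟩ := exists_partner hf le_rfl (g x)
  obtain ⟨q, hq1, hq2⟩ := exists_partner hf le_rfl (g x')
  obtain ⟨k, hk1, hk2⟩ := hav (f (g x)) (f (g x'))
  obtain ⟨r, s, hrs, hr, hs⟩ := exists_two hf le_rfl k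
  obtain ⟨p, rfl⟩ := g.surjective p
  obtain ⟨q, rfl⟩ := g.surjective q
  obtain ⟨r, rfl⟩ := g.surjective r
  obtain ⟨s, rfl⟩ := g.surjective s
  have ne1 : ∀ {p q : Ω}, f (g p) ≠ f (g q) → p ≠ q := fun h h' => h (by rw [h'])
  have hpq : p ≠ q := ne1 (by rw [hp2, hq2]; exact h2)
  have hpr : p ≠ r := ne1 (by rw [hp2, hr]; exact hk1.symm)
  have hps : p ≠ s := ne1 (by rw [hp2, hs]; exact hk1.symm)
  have hqr : q ≠ r := ne1 (by rw [hq2, hr]; exact hk2.symm)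
  have hqs : q ≠ s := ne1 (by rw [hq2, hs]; exact hk2.symm)
  have hrs' : r ≠ s := fun h => hrs (by rw [h])
  have out : ∀ t, t ≠ x → t ≠ x' → f t ≠ f x := fun t a b h => (eq_of_two hf hxx h1.symm h).elim a b
  have o1 := out p (fun h => hp1 (by rw [h])) (ne1 (by rw [hp2]; exact h2))
  have o2 := out q (ne1 (by rw [hq2]; exact h2.symm)) (fun h => hq1 (by rw [h]))
  have o3 := out r (ne1 (by rw [hr]; exact hk1)) (ne1 (by rw [hr]; exact hk2))
  have o4 := out s (ne1 (by rw [hs]; exact hk1)) (ne1 (by rw [hs]; exact hk2))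
  have tri : ∀ a b c : Ω, a ≠ b → a ≠ c → b ≠ c → ¬ (f b = f a ∧ f c = f a) := fun a b c h1 h2 h3 h =>
    (eq_of_two hf h1 h.1 h.2).elim h2.symm h3.symm
  have hcase : (f p = f q ∧ f r = f s) ∨ (f r = f p ∧ f s = f q ∧ f p ≠ f q) ∨ (f s = f p ∧ f r = f q ∧ f p ≠ f q) := by
    have t1 := tri p q r hpq hpr hqr
    have t2 := tri p q s hpq hps hqs
    have t3 := tri p r s hpr hps hrs'
    have t4 := tri q r s hqr hqs hrs'
    exact six_aux _ _ _ _ _ o1 o2 o3 o4 t1 t2 t3 t4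
  have hm : swap p q * swap r s ∈ W f := by
    rcases hcase with ⟨a, b⟩ | ⟨a, b, c⟩ | ⟨a, b, c⟩
    · exact (W f).mul_mem (swap_mem_W a) (swap_mem_W b)
    · exact dbl_mem_W hf hpr hqs a b c
    · rw [swap_comm r s]; exact dbl_mem_W hf hps hqr a b c
  have h3 := conj_dbl_mem hg (hK ⟨hm, dbl_mem_A hpq hrs'⟩)
  have ht : swap (g p) (g x) * swap (g r) (g s) ∈ K :=
    hK ⟨(W f).mul_mem (swap_mem_W hp2) (swap_mem_W (hr.trans hs.symm)), dbl_mem_A hp1 hrs⟩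
  have h4 := K.mul_mem h3 (K.inv_mem ht)
  rw [mul_inv_rev, mul_assoc, mul_inv_cancel_left, swap_inv] at h4
  exact alternatingGroup_le_of_isPreprimitive_of_isThreeCycle_mem hp
    (isThreeCycle_swap_mul_swap_same (g.injective.ne hpq) hp1 (fun h => h2 (by rw [← h, hq2]))) h4

end Cfsg.Agent.Classical.Sym
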