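import Cfsg.Agent.Lib.Classical.Sym1
import Cfsg.Agent.S3681

/-! Subgroups of small index in symmetric and alternating groups. -/

namespace Cfsg.Agent.Classical.Sym
open Equiv Equiv.Perm MulAction
open scoped Pointwise

variable {Ω : Type*} [Fintype Ω] [DecidableEq Ω]

theorem le_choose : ∀ (n k : ℕ), 1 ≤ k → k + 1 ≤ n → n ≤ n.choose k
  | 0, _, _, _ => by omega
  | _ + 1, 0, _, _ => by omega
  | n + 1, k + 1, _, h => by
    rw [Nat.choose_succ_succ]
    by_cases hk : k = 0
    · subst hk; simp [add_comm]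
    · have h1 := le_choose n k (by omega) (by omega)
      have h2 : 0 < n.choose (k + 1) := Nat.choose_pos (by omega)
      simp only [Nat.succ_eq_add_one]
      omega

theorem two_le_choose (n k : ℕ) (h1 : 2 ≤ k) (h2 : k + 2 ≤ n) : 2 * n ≤ n.choose k + 2 := by
  obtain ⟨n, rfl⟩ : ∃ m, n = m + 1 := ⟨n - 1, by omega⟩
  obtain ⟨k, rfl⟩ : ∃ m, k = m + 1 := ⟨k - 1, by omega⟩
  rw [Nat.choose_succ_succ]
  have := le_choose n k (by omega) (by omega)
  have := le_choose n (k + 1) (by omega) (by omega)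
  simp only [Nat.succ_eq_add_one]
  omega

theorem exists_smul_finset {s t : Finset Ω} (h : s.card = t.card) : ∃ g : Perm Ω, g • s = t := by
  obtain ⟨g, hg⟩ := Perm.exists_map_finset_eq s t h
  refine ⟨g, ?_⟩
  rw [← hg, Finset.map_eq_image]; rfl

theorem index_stab_finset (s : Finset Ω) : (stabilizer (Perm Ω) s).index = (Fintype.card Ω).choose s.card := by
  rw [index_stabilizer, ← Finset.card_univ, ← Finset.card_powersetCard, ← Set.ncard_coe_finset]
  congr 1
  ext t
  simp only [Finset.mem_coe, Finset.mem_powersetCard, Finset.subset_univ, true_and]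
  constructor
  · rintro ⟨g, rfl⟩; exact Finset.card_smul_finset g s
  · intro h; exact exists_smul_finset h.symm

theorem swap_smul_of_mem {s : Finset Ω} {x y : Ω} (h : x ∈ s ↔ y ∈ s) : swap x y • s = s := by
  ext z
  rw [← Finset.inv_smul_mem_iff, swap_inv, Perm.smul_def, swap_apply_def]
  split_ifs with h1 h2
  · rw [h1, h]
  · rw [h2, h]
  · rfl

theorem index_stab_pair (s : Finset Ω) (x : Ω) (hx : x ∈ s) :
    (stabilizer (Perm Ω) (s, x)).index = (Fintype.card Ω).choose s.card * s.card := by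
  rw [index_stabilizer]
  have : orbit (Perm Ω) (s, x) = (fun p : (Σ _ : Finset Ω, Ω) => (p.1, p.2)) ''
      ((Finset.powersetCard s.card Finset.univ).sigma (fun t => t) : Finset (Σ _ : Finset Ω, Ω)) := by
    ext ⟨t, y⟩
    constructor
    · rintro ⟨g, hg⟩
      obtain ⟨rfl, rfl⟩ := Prod.ext_iff.1 hg
      exact ⟨⟨g • s, g • x⟩, Finset.mem_coe.2 (Finset.mem_sigma.2
        ⟨Finset.mem_powersetCard.2 ⟨Finset.subset_univ _, Finset.card_smul_finset g s⟩,
          Finset.smul_mem_smul_finset hx⟩), rfl⟩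
    · rintro ⟨⟨t', y'⟩, h, h2⟩
      obtain ⟨rfl, rfl⟩ := Prod.ext_iff.1 h2
      simp only [Finset.mem_coe, Finset.mem_sigma, Finset.mem_powersetCard, Finset.subset_univ, true_and] at h
      obtain ⟨g, rfl⟩ := exists_smul_finset h.1.symm
      refine ⟨swap (g x) y' * g, Prod.ext ?_ ?_⟩
      · change (swap (g x) y' * g) • s = g • s
        rw [mul_smul, swap_smul_of_mem]
        exact iff_of_true (Finset.smul_mem_smul_finset hx) h.2
      · simp
  rw [this, Set.ncard_image_of_injective _ (fun ⟨a, b⟩ ⟨c, d⟩ h => by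
    obtain ⟨rfl, rfl⟩ := Prod.ext_iff.1 h; rfl), Set.ncard_coe_finset, Finset.card_sigma,
    Finset.sum_const_nat (m := s.card) (fun t ht => (Finset.mem_powersetCard.1 ht).2), Finset.card_powersetCard,
    Finset.card_univ]

/-- index `m` in the symmetric group, or index `m` in the alternating group -/
def Sm (H : Subgroup (Perm Ω)) (m : ℕ) : Prop := H.index = m ∨ (H ≤ alternatingGroup Ω ∧ H.index = 2 * m)

theorem index_inf_alt {L : Subgroup (Perm Ω)} (h : ¬ L ≤ alternatingGroup Ω) :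
    (alternatingGroup Ω ⊓ L).index = 2 * L.index := by
  haveI : Nontrivial Ω := by
    by_contra hc
    rw [not_nontrivial_iff_subsingleton] at hc
    exact h (Subsingleton.elim L (alternatingGroup Ω)).le
  rw [← Subgroup.relIndex_mul_index (inf_le_right : alternatingGroup Ω ⊓ L ≤ L), Subgroup.inf_relIndex_right]
  congr 1
  have h1 := Subgroup.relIndex_dvd_index_of_normal (alternatingGroup Ω) L
  rw [alternatingGroup.index_eq_two] at h1
  exact ((Nat.dvd_prime Nat.prime_two).1 h1).resolve_left (fun h2 => h (Subgroup.relIndex_eq_one.1 h2))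

theorem Sm.dvd {H L : Subgroup (Perm Ω)} {m : ℕ} (h : Sm H m) (hL : H ≤ L) {x y : Ω} (hxy : x ≠ y)
    (hs : swap x y ∈ L) : L.index ∣ m := by
  rcases h with rfl | ⟨h1, h2⟩
  · exact Subgroup.index_dvd_of_le hL
  · have := Subgroup.index_dvd_of_le (le_inf h1 hL)
    rw [index_inf_alt (fun h => by simpa [mem_alternatingGroup, hxy] using h hs), h2] at this
    exact Nat.dvd_of_mul_dvd_mul_left two_pos this

theorem eq_of_le_of_index {G : Type*} [Group G] [Finite G] {H K : Subgroup G} (h1 : H ≤ K) (h2 : H.index = K.index) :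
    H = K := by
  refine Subgroup.eq_of_le_of_card_ge h1 ?_
  have := H.index_mul_card.trans K.index_mul_card.symm
  rw [h2] at this
  exact (Nat.eq_of_mul_eq_mul_left (Nat.pos_of_ne_zero Subgroup.index_ne_zero_of_finite) this).ge

theorem fix_of_invariant {H : Subgroup (Perm Ω)} (h : Sm H (Fintype.card Ω)) (hn : 3 ≤ Fintype.card Ω) (s : Finset Ω)
    (hs : H ≤ stabilizer (Perm Ω) s) (h0 : s.Nonempty) (h1 : s ≠ Finset.univ) : ∃ x : Ω, H ≤ stabilizer (Perm Ω) x := by
  have hc := Finset.card_add_card_compl s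
  have hp := h0.card_pos
  have hlt : s.card < Fintype.card Ω := Finset.card_lt_card (Finset.ssubset_univ_iff.2 h1)
  obtain ⟨x, y, hxy, hm⟩ : ∃ x y, x ≠ y ∧ (x ∈ s ↔ y ∈ s) := by
    by_cases h2 : 1 < s.card
    · obtain ⟨x, hx, y, hy, hxy⟩ := Finset.one_lt_card.1 h2
      exact ⟨x, y, hxy, iff_of_true hx hy⟩
    · obtain ⟨x, hx, y, hy, hxy⟩ := Finset.one_lt_card.1 (by omega : 1 < sᶜ.card)
      exact ⟨x, y, hxy, iff_of_false (by simpa using hx) (by simpa using hy)⟩
  have h3 := Nat.le_of_dvd (by omega) (h.dvd hs hxy (swap_smul_of_mem hm))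
  rw [index_stab_finset] at h3
  have hmem : ∀ g ∈ H, ∀ z, g z ∈ s ↔ z ∈ s := fun g hg z => mem_stabilizer_finset.1 (hs hg) z
  by_cases h4 : s.card = 1
  · obtain ⟨z, rfl⟩ := Finset.card_eq_one.1 h4
    exact ⟨z, fun g hg => by simpa using hmem g hg z⟩
  by_cases h5 : sᶜ.card = 1
  · obtain ⟨z, hz⟩ := Finset.card_eq_one.1 h5
    refine ⟨z, fun g hg => ?_⟩
    have h6 : ∀ w, w ∉ s ↔ w = z := fun w => by rw [← Finset.mem_compl, hz, Finset.mem_singleton]
    exact (h6 _).1 (fun h => (h6 z).2 rfl ((hmem g hg z).1 h))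
  have := two_le_choose (Fintype.card Ω) s.card (by omega) (by omega)
  omega

theorem Sm.trans_or {H : Subgroup (Perm Ω)} (h : Sm H (Fintype.card Ω)) (hn : 3 ≤ Fintype.card Ω) :
    (∃ x : Ω, H ≤ stabilizer (Perm Ω) x) ∨ IsPretransitive H Ω := by
  classical
  by_cases ht : IsPretransitive H Ω
  · exact Or.inr ht
  left
  obtain ⟨x, y, hxy⟩ : ∃ x y : Ω, ∀ g : H, g • x ≠ y := by
    by_contra hc
    push Not at hc
    exact ht ⟨hc⟩
  refine fix_of_invariant h hn (Finset.univ.filter (· ∈ orbit H x)) (fun g hg => ?_) ⟨x, by simp⟩ fun h => ?_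
  · rw [mem_stabilizer_finset]
    intro z
    simp only [Finset.mem_filter, Finset.mem_univ, true_and]
    exact ⟨fun h => inv_smul_smul (⟨g, hg⟩ : H) z ▸ mem_orbit_of_mem_orbit (⟨g, hg⟩ : H)⁻¹ h,
      fun h => mem_orbit_of_mem_orbit (⟨g, hg⟩ : H) h⟩
  · obtain ⟨g, hg⟩ := (Finset.mem_filter.1 (h.ge (Finset.mem_univ y))).2
    exact hxy g hg

theorem index_inf_stab {H : Subgroup (Perm Ω)} [IsPretransitive H Ω] (x : Ω) :
    (stabilizer (Perm Ω) x ⊓ H).index = Fintype.card Ω * H.index := by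
  rw [← Subgroup.relIndex_mul_index (inf_le_right : stabilizer (Perm Ω) x ⊓ H ≤ H), Subgroup.inf_relIndex_right,
    ← Nat.card_eq_fintype_card, ← index_stabilizer_of_transitive H x]
  rfl

theorem Sm.prim {H : Subgroup (Perm Ω)} (h : Sm H (Fintype.card Ω)) (hn : 5 ≤ Fintype.card Ω) [IsPretransitive H Ω] :
    IsPreprimitive H Ω := by
  classical
  refine Cfsg.Agent.Perm.prim_of_rel fun r hr hinv => ?_
  by_contra hc
  push Not at hc
  obtain ⟨⟨x, y, hxy, hne⟩, u, v, huv⟩ := hc
  set s := Finset.univ.filter (r x) with hs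
  have hms : ∀ z, z ∈ s ↔ r x z := fun z => by simp [hs]
  have hx : x ∈ s := (hms x).2 (hr.1 x)
  have h2 : Sm (stabilizer (Perm Ω) x ⊓ H) (Fintype.card Ω * Fintype.card Ω) := by
    rcases h with h | ⟨h1, h2⟩
    · left; rw [index_inf_stab, h]
    · right; exact ⟨inf_le_right.trans h1, by rw [index_inf_stab, h2]; ring⟩
  have hle : stabilizer (Perm Ω) x ⊓ H ≤ stabilizer (Perm Ω) (s, x) := by
    rintro g ⟨h1, h2⟩
    refine Prod.ext ?_ h1
    change g • s = s
    rw [← mem_stabilizer_iff, mem_stabilizer_finset']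
    intro z hz
    have := hinv ⟨g, h2⟩ _ _ ((hms z).1 hz)
    rw [hms, ← show g • x = x from h1]
    exact this
  have hc := Finset.card_add_card_compl s
  have h1 : 1 < s.card := Finset.one_lt_card.2 ⟨x, hx, y, (hms y).2 hxy, hne⟩
  have hlt : s.card < Fintype.card Ω := by
    refine Finset.card_lt_card (Finset.ssubset_univ_iff.2 fun h => huv ?_)
    exact hr.3 (hr.2 ((hms u).1 (h ▸ Finset.mem_univ _))) ((hms v).1 (h ▸ Finset.mem_univ _))
  obtain ⟨p, q, hpq, hm, hp, hq⟩ : ∃ p q, p ≠ q ∧ (p ∈ s ↔ q ∈ s) ∧ x ≠ p ∧ x ≠ q := by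
    by_cases h2 : 1 < (s.erase x).card
    · obtain ⟨p, hp, q, hq, hpq⟩ := Finset.one_lt_card.1 h2
      rw [Finset.mem_erase] at hp hq
      exact ⟨p, q, hpq, iff_of_true hp.2 hq.2, hp.1.symm, hq.1.symm⟩
    · rw [Finset.card_erase_of_mem hx] at h2
      obtain ⟨p, hp, q, hq, hpq⟩ := Finset.one_lt_card.1 (by omega : 1 < sᶜ.card)
      rw [Finset.mem_compl] at hp hq
      exact ⟨p, q, hpq, iff_of_false hp hq, fun h => hp (h ▸ hx), fun h => hq (h ▸ hx)⟩
  have h3 := h2.dvd hle hpq (Prod.ext (swap_smul_of_mem hm) (swap_apply_of_ne_of_ne hp hq))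
  rw [index_stab_pair s x hx] at h3
  obtain ⟨N, hN⟩ : ∃ N, Fintype.card Ω = N + 1 := ⟨Fintype.card Ω - 1, by omega⟩
  obtain ⟨k, hk⟩ : ∃ k, s.card = k + 1 := ⟨s.card - 1, by omega⟩
  rw [hN, hk, ← Nat.add_one_mul_choose_eq] at h3
  have h4 := Nat.dvd_of_mul_dvd_mul_left (by omega) h3
  by_cases h5 : k = 1 ∨ k + 1 = N
  · have : N.choose k = N := by
      rcases h5 with rfl | rfl
      · simp
      · simp
    rw [this] at h4
    have := Nat.le_of_dvd one_pos ((Nat.dvd_add_right (dvd_refl N)).1 h4)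
    omega
  · have := two_le_choose N k (by omega) (by omega)
    have := Nat.le_of_dvd (by omega) h4
    omega

theorem fact_half (n : ℕ) (hn : 7 ≤ n) : 2 * n < ((n + 1) / 2).factorial := by
  obtain ⟨m, hm⟩ : ∃ m, (n + 1) / 2 = m + 4 := ⟨(n + 1) / 2 - 4, by omega⟩
  rw [hm]
  have : ∀ m : ℕ, 4 * (m + 4) < (m + 4).factorial := by
    intro m
    rw [Nat.factorial_succ]
    have : 6 ≤ (m + 3).factorial := Nat.factorial_le (show 3 ≤ m + 3 by omega)
    nlinarith
  have := this m
  omega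

theorem Sm.fix {H : Subgroup (Perm Ω)} (h : Sm H (Fintype.card Ω)) (hn : 3 ≤ Fintype.card Ω) (h6 : Fintype.card Ω ≠ 6)
    (h3 : Fintype.card Ω = 3 → H.index = 3) : ∃ x : Ω, H ≤ stabilizer (Perm Ω) x := by
  refine (h.trans_or hn).resolve_right fun ht => ?_
  have hc := H.index_mul_card
  rw [Nat.card_perm, Nat.card_eq_fintype_card (α := Ω)] at hc
  have hi : H.index = Fintype.card Ω ∨ H.index = 2 * Fintype.card Ω := h.imp_right And.right
  by_cases h7 : 7 ≤ Fintype.card Ω
  · have hp := h.prim (by omega)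
    have hb := S3681.result (G := H) hp (fun hA => by
      have h1 : alternatingGroup Ω ≤ H := by
        rintro g hg
        obtain ⟨k, rfl⟩ := hA hg
        exact k.2
      haveI : Nontrivial Ω := Fintype.one_lt_card_iff_nontrivial.1 (by omega)
      have := Nat.le_of_dvd two_pos (alternatingGroup.index_eq_two (α := Ω) ▸ Subgroup.index_dvd_of_le h1)
      omega)
    rw [← hc, mul_comm] at hb
    have := Nat.le_of_mul_le_mul_right hb Nat.card_pos
    have := fact_half _ h7
    omega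
  · haveI : Nonempty Ω := Fintype.card_pos_iff.1 (by omega)
    obtain ⟨x⟩ := ‹Nonempty Ω›
    have hd := Subgroup.index_dvd_card (stabilizer H x)
    rw [index_stabilizer_of_transitive, Nat.card_eq_fintype_card] at hd
    generalize Fintype.card Ω = n at *
    interval_cases n
    · rw [h3 rfl] at hc; simp [Nat.factorial] at hc; omega
    · rcases hi with hi | hi <;> rw [hi] at hc <;> simp [Nat.factorial] at hc <;> omega
    · rcases hi with hi | hi <;> rw [hi] at hc <;> simp [Nat.factorial] at hc <;> omega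
    · exact h6 rfl

end Cfsg.Agent.Classical.Sym
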