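import Cfsg.Agent.Lib.Classical.Sym2

/-! Subgroups of index 6 in the symmetric group of degree 6. -/

namespace Cfsg.Agent.Classical.Sym
open Equiv Equiv.Perm MulAction

variable {Ω : Type*} [Fintype Ω] [DecidableEq Ω]

omit [Fintype Ω] in
theorem range_ofSubtype_ne (x : Ω) :
    (ofSubtype : Perm {y // y ≠ x} →* Perm Ω).range = stabilizer (Perm Ω) x := by
  ext g
  constructor
  · rintro ⟨k, rfl⟩
    exact ofSubtype_apply_of_not_mem k (by simp)
  · intro hg
    have hg' : g x = x := hg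
    refine ⟨g.subtypePerm (fun y => not_congr ⟨fun h => g.injective (h.trans hg'.symm), fun h => h ▸ hg'⟩), ?_⟩
    exact ofSubtype_subtypePerm _ (fun y hy h => hy (h ▸ hg'))

theorem stab_equiv (x : Ω) {n : ℕ} (h : Fintype.card Ω = n + 1) : Nonempty (stabilizer (Perm Ω) x ≃* Perm (Fin n)) := by
  have e : {y // y ≠ x} ≃ Fin n := Fintype.equivFinOfCardEq (by simp [h])
  exact ⟨((MulEquiv.subgroupCongr (range_ofSubtype_ne x)).symm.trans
    (MonoidHom.ofInjective ofSubtype_injective).symm).trans e.permCongrHom⟩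

theorem core_eq_bot (h5 : 5 ≤ Fintype.card Ω) {H : Subgroup (Perm Ω)} (hH : 2 < H.index) : H.normalCore = ⊥ := by
  by_contra hc
  have h := (alternatingGroup_le_of_normal (α := Ω) (by simpa using h5)
      ((Subgroup.nontrivial_iff_ne_bot _).2 hc)).trans H.normalCore_le
  haveI : Nontrivial Ω := Fintype.one_lt_card_iff_nontrivial.1 (by omega)
  have := Nat.le_of_dvd two_pos (alternatingGroup.index_eq_two (α := Ω) ▸ Subgroup.index_dvd_of_le h)
  omega

theorem index_stab (x : Ω) : (stabilizer (Perm Ω) x).index = Fintype.card Ω := by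
  rw [index_stabilizer_of_transitive, Nat.card_eq_fintype_card]

theorem exists_aut (h5 : 5 ≤ Fintype.card Ω) {H : Subgroup (Perm Ω)} (hH : H.index = Fintype.card Ω) :
    ∃ (α : Perm Ω ≃* Perm Ω) (o : Ω), H.map α.toMonoidHom = stabilizer (Perm Ω) o := by
  have e : (Perm Ω ⧸ H) ≃ Ω := (Finite.card_eq.1 (by rw [← Subgroup.index_eq_card, hH, Nat.card_eq_fintype_card])).some
  let φ : Perm Ω →* Perm Ω := e.permCongrHom.toMonoidHom.comp (toPermHom (Perm Ω) (Perm Ω ⧸ H))
  have hφ : Function.Injective φ := by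
    refine e.permCongrHom.injective.comp ?_
    rw [← MonoidHom.ker_eq_bot_iff, ← Subgroup.normalCore_eq_ker]
    exact core_eq_bot h5 (by omega)
  have hb := Finite.injective_iff_bijective.1 hφ
  refine ⟨MulEquiv.ofBijective φ hb, e (1 : Perm Ω), eq_of_le_of_index ?_ ?_⟩
  · rintro _ ⟨h, hh, rfl⟩
    change e (h • e.symm (e (1 : Perm Ω))) = _
    rw [e.symm_apply_apply]
    congr 1
    exact QuotientGroup.eq.2 (by simpa using hh)
  · rw [Subgroup.index_map_of_bijective (f := (MulEquiv.ofBijective φ hb).toMonoidHom) hb, hH, index_stab]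

theorem card_sylow5 : Nat.card (Sylow 5 (Perm (Fin 5))) = 6 := by
  haveI : Fact (Nat.Prime 5) := ⟨by norm_num⟩
  obtain ⟨P⟩ : Nonempty (Sylow 5 (Perm (Fin 5))) := inferInstance
  have hG : Nat.card (Perm (Fin 5)) = 120 := by rw [Nat.card_perm]; simp [Nat.factorial]
  have hP : Nat.card P = 5 := by
    rw [P.card_eq_multiplicity, hG]
    have : Nat.factorization 120 5 = 1 := by
      rw [show 120 = 5 * 24 from rfl, Nat.factorization_mul (by norm_num) (by norm_num)]
      simp [Nat.Prime.factorization (show Nat.Prime 5 by norm_num), Nat.factorization_eq_zero_of_not_dvd]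
    rw [this, pow_one]
  have h1 := P.card_dvd_index
  have h2 := (P : Subgroup (Perm (Fin 5))).index_mul_card
  rw [hP, hG] at h2
  have h3 : (P : Subgroup (Perm (Fin 5))).index = 24 := by omega
  rw [h3] at h1
  have h4 := card_sylow_modEq_one 5 (Perm (Fin 5))
  have h5 : Nat.card (Sylow 5 (Perm (Fin 5))) ≠ 1 := by
    intro h
    haveI : Subsingleton (Sylow 5 (Perm (Fin 5))) := (Nat.card_eq_one_iff_unique.1 h).1
    have := core_eq_bot (Ω := Fin 5) (by simp) (H := P) (by omega)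
    rw [Subgroup.normalCore_eq_self] at this
    rw [this] at hP
    simp at hP
  have h6 := Nat.le_of_dvd (by norm_num) h1
  generalize Nat.card (Sylow 5 (Perm (Fin 5))) = m at *
  unfold Nat.ModEq at h4
  interval_cases m <;> omega

theorem exists_trans (h6 : Fintype.card Ω = 6) : ∃ T : Subgroup (Perm Ω), T.index = 6 ∧ IsPretransitive T Ω := by
  haveI : Fact (Nat.Prime 5) := ⟨by norm_num⟩
  have e : Sylow 5 (Perm (Fin 5)) ≃ Ω := (Finite.card_eq.1 (by rw [card_sylow5, Nat.card_eq_fintype_card, h6])).some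
  let φ : Perm (Fin 5) →* Perm Ω := e.permCongrHom.toMonoidHom.comp (toPermHom (Perm (Fin 5)) (Sylow 5 (Perm (Fin 5))))
  obtain ⟨P⟩ : Nonempty (Sylow 5 (Perm (Fin 5))) := inferInstance
  have hφ : Function.Injective φ := by
    refine e.permCongrHom.injective.comp ?_
    rw [← MonoidHom.ker_eq_bot_iff, eq_bot_iff, ← core_eq_bot (Ω := Fin 5) (by simp) (H := stabilizer _ P)
      (by rw [index_stabilizer_of_transitive, card_sylow5]; norm_num), Subgroup.normal_le_normalCore]
    intro g hg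
    exact congrArg (fun u : Perm (Sylow 5 (Perm (Fin 5))) => u P) hg
  refine ⟨φ.range, ?_, ⟨fun x y => ?_⟩⟩
  · have := φ.range.index_mul_card
    rw [← Nat.card_congr (MonoidHom.ofInjective hφ).toEquiv, Nat.card_perm, Nat.card_perm, Nat.card_eq_fintype_card (α := Ω),
      h6] at this
    simp [Nat.factorial] at this
    omega
  · obtain ⟨g, hg⟩ := exists_smul_eq (Perm (Fin 5)) (e.symm x) (e.symm y)
    refine ⟨⟨φ g, g, rfl⟩, ?_⟩
    change e (g • e.symm x) = y
    rw [hg, e.apply_symm_apply]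

theorem order3_cases (h6 : Fintype.card Ω = 6) {g : Perm Ω} (hg : orderOf g = 3) :
    g.IsThreeCycle ∨ (g.cycleType = {3, 3} ∧ ∀ x, g x ≠ x) := by
  obtain ⟨n, hn⟩ := cycleType_prime_order (σ := g) (by rw [hg]; norm_num)
  have h1 := g.sum_cycleType_le
  have h2 := g.sum_cycleType
  rw [hn, hg, Multiset.sum_replicate, smul_eq_mul] at h1 h2
  rw [hg] at hn
  have : n = 0 ∨ n = 1 := by omega
  rcases this with rfl | rfl
  · exact Or.inl hn
  · refine Or.inr ⟨hn, fun x => ?_⟩
    have : g.support = Finset.univ := Finset.eq_univ_of_card _ (by omega)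
    exact mem_support.1 (this ▸ Finset.mem_univ x)

theorem exists33 (h6 : Fintype.card Ω = 6) {H : Subgroup (Perm Ω)} (hH : H.index = 6) :
    (∃ x : Ω, H = stabilizer (Perm Ω) x) ∨ ((∃ g ∈ H, orderOf g = 3) ∧ ∀ g ∈ H, ¬ g.IsThreeCycle) := by
  have hs : Sm H (Fintype.card Ω) := Or.inl (hH.trans h6.symm)
  rcases hs.trans_or (by omega) with ⟨x, hx⟩ | ht
  · exact Or.inl ⟨x, eq_of_le_of_index hx (by rw [index_stab, hH, h6])⟩
  right
  constructor
  · haveI : Fact (Nat.Prime 3) := ⟨by norm_num⟩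
    have := H.index_mul_card
    rw [Nat.card_perm, Nat.card_eq_fintype_card (α := Ω), h6, hH] at this
    simp only [Nat.factorial] at this
    obtain ⟨g, hg⟩ := exists_prime_orderOf_dvd_card' (G := H) 3 (by omega)
    exact ⟨g, g.2, by simpa using hg⟩
  · intro g hg h3
    have h := alternatingGroup_le_of_isPreprimitive_of_isThreeCycle_mem (hs.prim (by omega)) h3 hg
    haveI : Nontrivial Ω := Fintype.one_lt_card_iff_nontrivial.1 (by omega)
    have := Nat.le_of_dvd two_pos (alternatingGroup.index_eq_two (α := Ω) ▸ Subgroup.index_dvd_of_le h)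
    omega

theorem not_trans_stab [Nontrivial Ω] (x : Ω) : ¬ IsPretransitive (stabilizer (Perm Ω) x) Ω := by
  intro h
  obtain ⟨y, hy⟩ := exists_ne x
  obtain ⟨g, hg⟩ := h.exists_smul_eq x y
  exact hy (hg.symm.trans g.2)

theorem six_class (h6 : Fintype.card Ω = 6) : ∃ (α : Perm Ω ≃* Perm Ω),
    (∀ x y : Ω, (stabilizer (Perm Ω) x).map α.symm.toMonoidHom ≠ stabilizer (Perm Ω) y) ∧
    ∀ H : Subgroup (Perm Ω), H.index = 6 → (∃ x : Ω, H = stabilizer (Perm Ω) x) ∨
      ∃ x : Ω, H = (stabilizer (Perm Ω) x).map α.symm.toMonoidHom := by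
  haveI : Nontrivial Ω := Fintype.one_lt_card_iff_nontrivial.1 (by omega)
  obtain ⟨T, hT, ht⟩ := exists_trans h6
  obtain ⟨α, o, hα⟩ := exists_aut (by omega) (hT.trans h6.symm)
  obtain ⟨⟨t, ht1, ht2⟩, ht3⟩ := (exists33 h6 hT).resolve_left (by
    rintro ⟨x, rfl⟩; exact not_trans_stab x ht)
  have ht4 := (order3_cases h6 ht2).resolve_left (ht3 t ht1)
  have ht5 : (α t).IsThreeCycle := by
    refine (order3_cases h6 ((α.orderOf_eq t).trans ht2)).resolve_right fun h => h.2 o ?_
    exact (hα.le ⟨t, ht1, rfl⟩ : α t ∈ stabilizer (Perm Ω) o)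
  have hconj : ∀ g : Perm Ω, g.cycleType = {3, 3} → (α g).IsThreeCycle := by
    intro g hg
    have := α.toMonoidHom.map_isConj (isConj_iff_cycleType_eq.2 (hg.trans ht4.1.symm))
    exact (isConj_iff_cycleType_eq.1 this).trans ht5
  have hmm : ∀ H : Subgroup (Perm Ω), (H.map α.toMonoidHom).map α.symm.toMonoidHom = H := by
    intro H
    rw [Subgroup.map_map]
    convert Subgroup.map_id H
    ext1 x; simp
  refine ⟨α, fun x y h => ?_, fun H hH => ?_⟩
  · obtain ⟨g, rfl⟩ := exists_smul_eq (Perm Ω) o x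
    obtain ⟨z, hz⟩ := exists_ne ((α.symm g)⁻¹ y)
    obtain ⟨⟨k, hk⟩, hk2⟩ := ht.exists_smul_eq ((α.symm g)⁻¹ y) z
    have h1 : α k ∈ stabilizer (Perm Ω) o := hα.le ⟨k, hk, rfl⟩
    have h2 : α.symm (g * α k * g⁻¹) ∈ stabilizer (Perm Ω) y := by
      rw [← h, stabilizer_smul_eq_stabilizer_map_conj]
      exact ⟨_, ⟨_, h1, rfl⟩, rfl⟩
    rw [map_mul, map_mul, map_inv, α.symm_apply_apply] at h2
    apply hz
    rw [← hk2]
    exact Perm.eq_inv_iff_eq.2 h2
  · refine (exists33 h6 hH).imp_right fun ⟨⟨g, hg1, hg2⟩, hg3⟩ => ?_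
    have h1 := hconj g ((order3_cases h6 hg2).resolve_left (hg3 g hg1)).1
    obtain ⟨x, hx⟩ := (exists33 h6 (H := H.map α.toMonoidHom) (by
      rw [Subgroup.index_map_of_bijective (f := α.toMonoidHom) α.bijective, hH])).resolve_right
      (fun h => h.2 _ ⟨g, hg1, rfl⟩ h1)
    exact ⟨x, by rw [← hx, hmm]⟩

theorem stab_inj (h3 : 3 ≤ Fintype.card Ω) : Function.Injective (fun x : Ω => stabilizer (Perm Ω) x) := by
  intro x y h
  by_contra hxy
  obtain ⟨z, -, hz⟩ := Finset.exists_mem_notMem_of_card_lt_card (s := {x, y}) (t := Finset.univ)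
    (lt_of_le_of_lt Finset.card_le_two (by rw [Finset.card_univ]; omega))
  simp only [Finset.mem_insert, Finset.mem_singleton, not_or] at hz
  have h1 : swap y z ∈ stabilizer (Perm Ω) x := swap_apply_of_ne_of_ne hxy (Ne.symm hz.1)
  have h2 : swap y z y = y := (h.le h1 : swap y z ∈ stabilizer (Perm Ω) y)
  rw [swap_apply_left] at h2
  exact hz.2 h2

end Cfsg.Agent.Classical.Sym
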