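import Cfsg.Agent.Lib.Classical.Wt2
import Cfsg.Agent.Lib.Classical.SpUE
import Cfsg.Agent.Lib.Classical.Omega

/-! The lower bound `(q^n - 1)/2` for complex representations of `Sp_{2n}(q)`, `q` odd. -/
set_option autoImplicit false
open Matrix Module Polynomial

namespace Cfsg.Agent.Classical.Weil
variable {F : Type*} [Field F] {ι : Type*} [Fintype ι] [DecidableEq ι]

theorem exists_mat {u w : ι → F} (hu : u ≠ 0) (hw : w ≠ 0) : ∃ g : Matrix ι ι F, g.det ≠ 0 ∧ g *ᵥ u = w := by
  obtain ⟨e, he⟩ := Wt.exists_equiv_of_li (F := F) (u := fun _ : Unit => u) (w := fun _ => w)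
    (linearIndependent_unique_iff.2 hu) (linearIndependent_unique_iff.2 hw)
  refine ⟨LinearMap.toMatrix' e.toLinearMap, ?_, by rw [← toLin'_apply, toLin'_toMatrix']; exact he ()⟩
  rw [LinearMap.det_toMatrix']
  exact (LinearEquiv.isUnit_det' e).ne_zero

theorem exists_aniso (h2 : (2 : F) ≠ 0) {A : Matrix ι ι F} (hA : Aᵀ = A) (h0 : A ≠ 0) :
    ∃ v, v ⬝ᵥ A *ᵥ v ≠ 0 := by
  by_contra! h
  refine h0 (Matrix.ext fun i j => mul_left_cancel₀ h2 ?_)
  have a := h (Pi.single i 1 + Pi.single j 1)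
  rw [mulVec_add, add_dotProduct, dotProduct_add, dotProduct_add, h, h] at a
  have b : A j i = A i j := congrFun (congrFun hA i) j
  simp [b] at a
  simp [two_mul, a]

theorem sq_univ [Fintype F] (hq : Odd (Fintype.card F)) {a b : F} (ha : a ≠ 0) (hb : b ≠ 0) (c : F) :
    ∃ x y, a * x ^ 2 + b * y ^ 2 = c := by
  obtain ⟨x, y, h⟩ := FiniteField.exists_root_sum_quadratic (f := C a * X ^ 2) (g := C b * X ^ 2 - C c)
    (by compute_degree!) (by compute_degree!) (Nat.odd_iff.1 hq)
  exact ⟨x, y, by simp at h; linear_combination h⟩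

theorem orbit [Fintype F] (hq : Odd (Fintype.card F)) {m : ℕ} {A : Matrix (Fin (m + 1)) (Fin (m + 1)) F} (hA : Aᵀ = A)
    (h0 : A ≠ 0) (O : Finset (Matrix (Fin (m + 1)) (Fin (m + 1)) F)) (hO : ∀ g, det g ≠ 0 → g * A * gᵀ ∈ O) :
    Fintype.card F ^ (m + 1) - 1 ≤ 2 * O.card := by
  classical
  have h2 : (2 : F) ≠ 0 := two_ne_zero_of_odd hq
  have sy : ∀ u v, u ⬝ᵥ A *ᵥ v = v ⬝ᵥ A *ᵥ u := fun u v => by
    rw [dotProduct_mulVec, ← mulVec_transpose, hA, dotProduct_comm]
  obtain ⟨φ, hφ⟩ := exists_aniso h2 hA h0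
  set a := φ ⬝ᵥ A *ᵥ φ with ha
  by_cases h1 : A - a⁻¹ • vecMulVec (A *ᵥ φ) (A *ᵥ φ) = 0
  · have : (Finset.univ.erase (0 : Fin (m + 1) → F)).card ≤ 2 * O.card := by
      refine Finset.card_le_mul_card_image_of_maps_to (f := fun u => a⁻¹ • vecMulVec u u) (fun u hu => ?_) 2
        fun B _ => ?_
      · obtain ⟨g, hg, e⟩ := exists_mat (u := A *ᵥ φ) (fun e => hφ (by rw [ha, e, dotProduct_zero]))
          (Finset.ne_of_mem_erase hu)
        convert hO g hg using 1
        rw [sub_eq_zero.1 h1, Matrix.mul_smul, Matrix.smul_mul, mul_vecMulVec, vecMulVec_mul, vecMul_transpose, e]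
      · rcases Finset.eq_empty_or_nonempty ((Finset.univ.erase (0 : Fin (m + 1) → F)).filter
          fun u => a⁻¹ • vecMulVec u u = B) with e | ⟨u, hu⟩
        · rw [e]; simp
        refine le_trans (Finset.card_le_card (t := {u, -u}) fun w hw => ?_) Finset.card_le_two
        simp only [Finset.mem_filter, Finset.mem_erase] at hu hw
        have e := smul_right_injective _ (inv_ne_zero hφ) (hw.2.trans hu.2.symm)
        obtain ⟨i, hi⟩ := Function.ne_iff.1 hu.1.1
        have e' : ∀ j, w i * w j = u i * u j := fun j => congrFun (congrFun e i) j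
        rcases mul_self_eq_mul_self_iff.1 (e' i) with h | h
        · simp [show w = u from funext fun j => mul_left_cancel₀ hi (by rw [← e', h])]
        · simp [show w = -u from funext fun j => mul_left_cancel₀ hi (by
            have := e' j; rw [h] at this; rw [Pi.neg_apply]; linear_combination -this)]
    simpa [Finset.card_erase_of_mem] using this
  · obtain ⟨χ, hχ⟩ := exists_aniso h2 (by simp [hA]) h1
    have : (Finset.univ : Finset (Fˣ × (Fin m → F))).card ≤ O.card := by
      rw [← Finset.card_image_of_injective (f := fun p : Fˣ × (Fin m → F) => (Fin.cons p.1 p.2 : Fin (m + 1) → F)) _ (fun p p' h =>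
        Prod.ext (Units.ext (congrFun h 0)) (funext fun i => congrFun h i.succ))]
      refine Finset.card_le_card_of_surjOn (fun B => B *ᵥ Pi.single 0 1) fun w hw => ?_
      obtain ⟨p, -, rfl⟩ := Finset.mem_image.1 hw
      obtain ⟨x, y, h⟩ := sq_univ hq hφ hχ p.1
      obtain ⟨v, hv⟩ : ∃ v, v ⬝ᵥ A *ᵥ v = p.1 := by
        refine ⟨(x - y * (χ ⬝ᵥ A *ᵥ φ) / a) • φ + y • χ, ?_⟩
        rw [← h]
        simp only [mulVec_add, mulVec_smul, add_dotProduct, dotProduct_add, smul_dotProduct, dotProduct_smul, ← ha,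
          sub_mulVec, smul_mulVec, dotProduct_sub, vecMulVec_mulVec, smul_eq_mul, sy φ χ, op_smul_eq_smul,
          dotProduct_comm (A *ᵥ φ) χ]
        field_simp; ring
      obtain ⟨g, hg, e⟩ := exists_mat (u := Pi.single 0 1) (w := v) (by simp)
        (fun e => p.1.ne_zero (by rw [← hv, e, zero_dotProduct]))
      have e0 : (gᵀ *ᵥ A *ᵥ v) 0 = p.1 := by
        rw [← hv, mulVec_transpose]; nth_rewrite 2 [← e]
        rw [dotProduct_comm, dotProduct_mulVec]; simp
      let y : Fin (m + 1) → F := (p.1 : F)⁻¹ • (Fin.cons p.1 p.2 - gᵀ *ᵥ A *ᵥ v)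
      have y0 : y 0 = 0 := by simp only [y, Pi.smul_apply, Pi.sub_apply, e0]; simp
      refine ⟨_, hO ((1 + vecMulVec y (Pi.single 0 1)) * gᵀ) (by
        rw [det_mul, Wt.det_one_add_vv, det_transpose]; simpa [y0] using hg), ?_⟩
      simp only [transpose_mul, transpose_transpose, ← mulVec_mulVec, transpose_add, transpose_vecMulVec, add_mulVec,
        transpose_one, one_mulVec, vecMulVec_mulVec, dotProduct_single, y0, single_dotProduct, mul_one, one_mul,
        op_smul_eq_smul, zero_smul, add_zero, e, e0]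
      simp [y, smul_smul]
    rw [Finset.card_univ, Fintype.card_prod, Fintype.card_units, Fintype.card_fun, Fintype.card_fin] at this
    obtain ⟨k, hk⟩ : ∃ k, Fintype.card F = k + 2 := ⟨_, (Nat.sub_add_cancel Fintype.one_lt_card).symm⟩
    rw [hk] at this ⊢
    rw [pow_succ]
    generalize (k + 2) ^ m = t at this ⊢
    have : (k + 2 - 1) * t = (k + 1) * t := rfl
    have : t * (k + 2) ≤ 2 * ((k + 1) * t) := by nlinarith
    omega

def xs (l : ι × ι → F) : symplecticGroup ι F :=
  ⟨fromBlocks 1 0 (of fun i j => l (i, j) + l (j, i)) 1, SymplecticGroup.fromBlocks_mem_iff.2 (by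
    refine ⟨?_, by simp, by simp⟩
    ext i j; simp [add_comm])⟩

theorem xs_mul (v w : ι × ι → F) : xs v * xs w = xs (v + w) := by
  apply Subtype.ext
  change fromBlocks _ _ _ _ * fromBlocks _ _ _ _ = fromBlocks _ _ _ _
  rw [fromBlocks_multiply]
  simp
  ext i j; simp; ring

noncomputable def lev (g : Matrix ι ι F) (hg : g.det ≠ 0) : symplecticGroup ι F :=
  ⟨fromBlocks gᵀ 0 0 g⁻¹, SymplecticGroup.fromBlocks_mem_iff.2 (by
    refine ⟨by simp, by simp, ?_⟩
    simp [mul_nonsing_inv _ (Ne.isUnit hg)])⟩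

theorem xs_lev (g : Matrix ι ι F) (hg : g.det ≠ 0) (l : ι × ι → F) :
    xs l * lev g hg = lev g hg * xs fun p => (g * (of fun i j => l (i, j)) * gᵀ) p.1 p.2 := by
  apply Subtype.ext
  change fromBlocks _ _ _ _ * fromBlocks _ _ _ _ = fromBlocks _ _ _ _ * fromBlocks _ _ _ _
  have e : (of fun i j => (g * (of fun i j => l (i, j)) * gᵀ) i j + (g * (of fun i j => l (i, j)) * gᵀ) j i) =
      g * ((of fun i j => l (i, j) + l (j, i)) * gᵀ) := by
    rw [show (of fun i j => l (i, j) + l (j, i)) = (of fun i j => l (i, j)) + (of fun i j => l (i, j))ᵀ from rfl]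
    show _ + (g * (of fun i j => l (i, j)) * gᵀ)ᵀ = _
    simp [mul_add, add_mul, Matrix.mul_assoc]
  rw [fromBlocks_multiply, fromBlocks_multiply, e, nonsing_inv_mul_cancel_left _ _ (Ne.isUnit hg)]
  simp

theorem bound0 [Fintype F] (hq : Odd (Fintype.card F)) {m d : ℕ} (ρ : symplecticGroup (Fin (m + 1)) F →* GL (Fin d) ℂ)
    {l : _ → F} (h : ρ (xs l) ≠ 1) : Fintype.card F ^ (m + 1) - 1 ≤ 2 * d := by
  classical
  obtain ⟨Ξ, hfin, hcard, hmul, hne, hnt, hact⟩ := Wt.weights ρ (p := ringChar F)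
    (Nat.cast_ne_zero.2 (CharP.ringChar_ne_zero_of_finite F)) xs (fun a b => by
      change _ * _ = _ * _
      rw [xs_mul, xs_mul, add_comm a b]) (Wt.pow_ringChar _ xs_mul)
  obtain ⟨χ, hχ, h1⟩ := hnt l h
  have hχm : ∀ a b, χ a * χ b = χ (a + b) := fun a b => hmul χ hχ a b _ (xs_mul a b)
  let ψ : F → AlgebraicClosure ℂ := fun t => χ (t • l)
  have hψm : ∀ a b, ψ a * ψ b = ψ (a + b) := fun a b => by simp only [ψ, hχm, add_smul]
  have hψ0 : ∀ a, ψ a ≠ 0 := fun a => hne χ hχ _
  have hψ1 : ∃ t, ψ t ≠ 1 := ⟨1, by simpa [ψ] using h1⟩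
  obtain ⟨a, ha⟩ := Wt.char_dual hψm hψ0 hψ1 hχm (hne χ hχ)
  let A : Matrix (Fin (m + 1)) (Fin (m + 1)) F := of fun i j => a (i, j)
  let f : Matrix (Fin (m + 1)) (Fin (m + 1)) F → (_ → F) → AlgebraicClosure ℂ := fun B v =>
    ψ ((fun p : _ × _ => B p.1 p.2) ⬝ᵥ v)
  have hf : Function.Injective f := fun B B' h => by
    have := Wt.psi_inj hψm hψ0 hψ1 (congrFun h)
    exact Matrix.ext fun i j => congrFun this (i, j)
  have hA : Aᵀ = A := hf (funext fun v => by
    have := hmul χ hχ (fun p => v p.swap) 0 v (by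
      rw [xs_mul, add_zero]; apply Subtype.ext; simp [xs, add_comm])
    rw [Wt.psi_zero hχm (hne χ hχ), mul_one, ha, ha] at this
    refine Eq.trans (congrArg ψ ?_) this
    exact Fintype.sum_equiv (Equiv.prodComm _ _) _ _ fun _ => rfl)
  have h0 : A ≠ 0 := fun e => h1 (by
    rw [ha, show a = 0 from funext fun p => congrFun (congrFun e p.1) p.2, zero_dotProduct, Wt.psi_zero hψm hψ0])
  refine (orbit hq hA h0 (Finset.univ.filter fun B => f B ∈ Ξ) fun g hg => ?_).trans (Nat.mul_le_mul_left _ ?_)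
  · have := hact _ _ (xs_lev gᵀ (by rwa [det_transpose])) χ hχ
    rw [Finset.mem_filter]
    refine ⟨Finset.mem_univ _, ?_⟩
    convert this using 1
    funext v
    simp only [Function.comp_apply, ha, f]
    congr 1
    have k : ∀ (B C : Matrix (Fin (m + 1)) (Fin (m + 1)) F),
        (fun p : _ × _ => B p.1 p.2) ⬝ᵥ (fun p : _ × _ => C p.1 p.2) = trace (B * Cᵀ) := fun B C => by
      simp [dotProduct, trace, mul_apply, Fintype.sum_prod_type]
    refine (k _ (of fun i j => v (i, j))).trans (Eq.trans ?_ (k A _).symm)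
    simp only [transpose_mul, transpose_transpose, Matrix.mul_assoc]
    rw [trace_mul_comm]; simp only [Matrix.mul_assoc]
  · refine le_trans ?_ hcard
    rw [Set.ncard_eq_toFinset_card _ hfin]
    exact Finset.card_le_card_of_injOn f (fun B hB => by simpa using hB) hf.injOn

theorem bound [Fintype F] (hq : Odd (Fintype.card F)) {m : ℕ} {V : Type*} [AddCommGroup V] [Module ℂ V]
    [FiniteDimensional ℂ V] (ρ : Representation ℂ (symplecticGroup (Fin (m + 1)) F) V)
    {l : _ → F} (h : ρ (xs l) ≠ 1) : Fintype.card F ^ (m + 1) - 1 ≤ 2 * finrank ℂ V := by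
  let e := LinearMap.toMatrixAlgEquiv (finBasis ℂ V)
  refine bound0 hq (((e : End ℂ V →* _).comp ρ).toHomUnits) (l := l) fun h' => h (e.injective ?_)
  rw [map_one]; exact congrArg Units.val h'

theorem normal_cases {G : Type*} [Group G] (hp : commutator G = ⊤) [IsSimpleGroup (G ⧸ Subgroup.center G)]
    (N : Subgroup G) [hN : N.Normal] : N ≤ Subgroup.center G ∨ N = ⊤ := by
  refine (hN.map _ (QuotientGroup.mk'_surjective (Subgroup.center G))).eq_bot_or_eq_top.imp (fun h => ?_) fun h => ?_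
  · rwa [Subgroup.map_eq_bot_iff, QuotientGroup.ker_mk'] at h
  · have := congrArg (Subgroup.comap (QuotientGroup.mk' _)) h
    rw [Subgroup.comap_map_eq, QuotientGroup.ker_mk', Subgroup.comap_top] at this
    exact top_unique (hp ▸ hN.commutator_le_of_self_sup_commutative_eq_top this inferInstance)

theorem lower [Fintype F] (hq : Odd (Fintype.card F)) {m k : ℕ} (hm : 1 ≤ m)
    (ρ : Representation ℂ (symplecticGroup (Fin (m + 1)) F) (Fin k → ℂ)) (hρ : ρ.IsIrreducible) (hk : 2 ≤ k) :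
    Fintype.card F ^ (m + 1) - 1 ≤ 2 * k := by
  have h2 : (2 : F) ≠ 0 := two_ne_zero_of_odd hq
  by_cases h : ρ (xs (Pi.single (0, 0) 1)) = 1
  swap; · simpa using bound hq ρ h
  exfalso
  have hp := Form.symp_perfect (spForm_nondeg (F := F) (m + 1)) (.inr (.inl ⟨h2, by simp; omega⟩))
  haveI := Form.symp_simple (spForm_nondeg (F := F) (m + 1)) (by simp) hp
  rcases normal_cases hp (ρ.toHomUnits.comp (spEquiv _ F).symm.toMonoidHom).ker with e | e
  · have h3 := (spEquiv _ F).injective (((map_mul _ _ _).trans (Subgroup.mem_center_iff.1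
      (e (x := spEquiv _ F (xs (Pi.single (0, 0) 1))) (Units.ext (by simpa using h)))
      (spEquiv _ F ⟨J _ F, SymplecticGroup.J_mem _ _⟩))).trans (map_mul _ _ _).symm)
    have h3 := congrArg Subtype.val h3
    change fromBlocks _ _ _ _ * fromBlocks _ _ _ _ = fromBlocks _ _ _ _ * fromBlocks _ _ _ _ at h3
    rw [fromBlocks_multiply, fromBlocks_multiply] at h3
    have h4 := congrFun (congrFun h3 (.inl 0)) (.inl 0)
    simp at h4
    exact h2 (by linear_combination -h4)
  · have h1 : ∀ g, ρ g = 1 := fun g => by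
      have : ρ.toHomUnits ((spEquiv _ F).symm (spEquiv _ F g)) = 1 := e.ge (Subgroup.mem_top (spEquiv _ F g))
      simpa using congrArg Units.val this
    rcases hρ.eq_bot_or_eq_top ⟨ℂ ∙ Pi.single ⟨0, by omega⟩ 1, fun g v hv => by rwa [h1]⟩ with e | e
    · have := congrArg Subrepresentation.toSubmodule e
      exact absurd (Submodule.span_singleton_eq_bot.1 this) (by simp)
    · have : Pi.single ⟨1, by omega⟩ 1 ∈ (ℂ ∙ (Pi.single ⟨0, by omega⟩ 1 : Fin k → ℂ)) :=
        (congrArg Subrepresentation.toSubmodule e).ge trivial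
      obtain ⟨c, hc⟩ := Submodule.mem_span_singleton.1 this
      simpa [Pi.single_apply, Fin.ext_iff] using congrFun hc ⟨1, by omega⟩

end Cfsg.Agent.Classical.Weil
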