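import Cfsg.Agent.Lib.Classical.Weil1

/-! The Weil representation of `Sp_{2n}(q)`, `q` odd. -/
set_option autoImplicit false
set_option linter.unusedSectionVars false
open Matrix Module

namespace Cfsg.Agent.Classical.Weil
variable {F : Type*} [Field F] [Fintype F] [DecidableEq F] {ι : Type*} [Fintype ι] [DecidableEq ι]
  (ψ : AddChar F ℂ) (h : F)

def P (a b : ι → F) : Matrix (ι → F) (ι → F) ℂ := of fun x y => if y = x + a then ψ (b ⬝ᵥ x + h * (a ⬝ᵥ b)) else 0

def Sg (F ι : Type*) [Field F] [DecidableEq F] [Fintype ι] : Matrix (ι → F) (ι → F) ℂ :=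
  of fun x y => if y = -x then 1 else 0

def Int (g : Matrix (ι ⊕ ι) (ι ⊕ ι) F) (T : Matrix (ι → F) (ι → F) ℂ) : Prop :=
  ∀ v : ι ⊕ ι → F, T * P ψ h (v ∘ .inl) (v ∘ .inr) = P ψ h ((g *ᵥ v) ∘ .inl) ((g *ᵥ v) ∘ .inr) * T

variable {ψ h}

theorem sum_dot (hψ : ψ.IsPrimitive) (b : ι → F) :
    ∑ x, ψ (b ⬝ᵥ x) = if b = 0 then (Fintype.card (ι → F) : ℂ) else 0 := by
  split_ifs with hb
  · simp [hb]
  obtain ⟨i, hi⟩ := Function.ne_iff.1 hb
  obtain ⟨t, ht⟩ := AddChar.ne_one_iff.1 (hψ hi)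
  exact AddChar.sum_eq_zero_of_ne_one (ψ := ψ.compAddMonoidHom (AddMonoidHom.mk' (b ⬝ᵥ ·) (dotProduct_add b)))
    (AddChar.ne_one_iff.2 ⟨Pi.single i t, by simpa using ht⟩)

theorem P_mul (h2 : 2 * h = 1) (a b a' b' : ι → F) :
    P ψ h a b * P ψ h a' b' = ψ (h * (a ⬝ᵥ b' - a' ⬝ᵥ b)) • P ψ h (a + a') (b + b') := by
  ext x y
  simp only [P, mul_apply, of_apply, ite_mul, zero_mul, Finset.sum_ite_eq', Finset.mem_univ, if_true]
  simp only [Matrix.smul_apply, of_apply, add_assoc, smul_eq_mul, mul_ite, mul_zero, ← AddChar.map_add_eq_mul]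
  split_ifs; swap; · rfl
  congr 1
  simp only [dotProduct_add, add_dotProduct, dotProduct_comm b' a]
  linear_combination (-(a ⬝ᵥ b')) * h2

theorem trace_P (hψ : ψ.IsPrimitive) (a b : ι → F) :
    trace (P ψ h a b) = if a = 0 ∧ b = 0 then (Fintype.card (ι → F) : ℂ) else 0 := by
  by_cases ha : a = 0
  · simp [trace, P, ha, sum_dot hψ]
  · simp [trace, P, ha]

theorem span_top (hψ : ψ.IsPrimitive) (S : Submodule ℂ (Matrix (ι → F) (ι → F) ℂ)) (hS : ∀ a b, P ψ h a b ∈ S)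
    (A : Matrix (ι → F) (ι → F) ℂ) : A ∈ S := by
  rw [matrix_eq_sum_single A]
  refine S.sum_mem fun c _ => S.sum_mem fun d _ => ?_
  have := S.smul_mem (A c d / Fintype.card (ι → F)) (S.sum_mem fun b (_ : b ∈ Finset.univ) =>
    S.smul_mem (ψ (-(b ⬝ᵥ c) - h * ((d - c) ⬝ᵥ b))) (hS (d - c) b))
  convert this using 1
  ext x y
  simp only [P, Matrix.smul_apply, Matrix.sum_apply, of_apply, smul_eq_mul, mul_ite, mul_zero, ← AddChar.map_add_eq_mul]
  have e : ∀ b : ι → F, -(b ⬝ᵥ c) - h * ((d - c) ⬝ᵥ b) + (b ⬝ᵥ x + h * ((d - c) ⬝ᵥ b)) = (x - c) ⬝ᵥ b := fun b => by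
    rw [sub_dotProduct x, dotProduct_comm x, dotProduct_comm c b]; ring
  simp only [e, Finset.sum_ite_irrel, sum_dot hψ, single_apply, sub_eq_zero]
  by_cases hx : x = c
  · subst hx; simp [eq_comm]
  · simp [hx, Ne.symm hx]

theorem exists_T (hψ : ψ.IsPrimitive) (h2 : 2 * h = 1) (Q : (ι → F) → (ι → F) → Matrix (ι → F) (ι → F) ℂ)
    (hQ : ∀ a b a' b', Q a b * Q a' b' = ψ (h * (a ⬝ᵥ b' - a' ⬝ᵥ b)) • Q (a + a') (b + b'))
    (h0 : ∑ b, Q 0 b ≠ 0) : ∃ T, det T ≠ 0 ∧ ∀ a b, T * P ψ h a b = Q a b * T := by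
  obtain ⟨u, hu⟩ : ∃ u, (∑ b, Q 0 b) *ᵥ u ≠ 0 := by
    by_contra! e
    exact h0 (toLin'.injective (LinearMap.ext fun u => by rw [toLin'_apply, e]; simp))
  set z := (∑ b, Q 0 b) *ᵥ u with hz
  have h1 : ∀ b, Q 0 b *ᵥ z = z := fun b => by
    rw [hz, mulVec_mulVec, Finset.mul_sum]
    congr 1
    exact Fintype.sum_equiv (Equiv.addLeft b) _ _ fun c => by simp [hQ]
  let T : Matrix (ι → F) (ι → F) ℂ := of fun x c => (Q (-c) 0 *ᵥ z) x
  have hT : ∀ a b, T * P ψ h a b = Q a b * T := fun a b => by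
    ext x c
    have e1 : (Q a b * T) x c = (Q a b *ᵥ Q (-c) 0 *ᵥ z) x := rfl
    have e2 : Q (a - c) 0 *ᵥ z = ψ (h * ((a - c) ⬝ᵥ b)) • Q (a - c) b *ᵥ z := by
      conv_lhs => rw [← h1 b]
      simp [hQ, smul_mulVec]
    rw [e1, mul_apply, Finset.sum_eq_single (c - a) (fun y _ hy => by
      simp [P, show c ≠ y + a from fun e => hy (by simp [e])]) (by simp)]
    simp only [T, of_apply, neg_sub, e2, mulVec_mulVec, hQ, smul_mulVec, P, sub_add_cancel, if_true, Pi.smul_apply,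
      smul_eq_mul, add_zero, zero_add, ← sub_eq_add_neg]
    rw [mul_right_comm, ← AddChar.map_add_eq_mul]
    congr 2
    simp only [dotProduct_sub, sub_dotProduct, dotProduct_comm b, neg_dotProduct, dotProduct_zero, zero_dotProduct]
    linear_combination (a ⬝ᵥ b - c ⬝ᵥ b) * h2
  refine ⟨T, fun hd => ?_, hT⟩
  obtain ⟨f, hf, e⟩ := exists_mulVec_eq_zero_iff.2 hd
  obtain ⟨i, hi⟩ := Function.ne_iff.1 hf
  have := span_top (h := h) hψ (LinearMap.ker ((mulVecBilin ℂ ℂ).flip f ∘ₗ LinearMap.mulLeft ℂ T)) (fun a b => by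
    simp [hT, ← mulVec_mulVec, e]) (single 0 i 1)
  refine hu (funext fun x => mul_right_cancel₀ hi ?_)
  have := congrFun this x
  rw [LinearMap.comp_apply, LinearMap.mulLeft_apply, LinearMap.flip_apply, mulVecBilin_apply, ← mulVec_mulVec,
    single_mulVec, show Function.update (0 : (ι → F) → ℂ) 0 (1 * f i) = Pi.single 0 (f i) by rw [one_mul]; rfl,
    mulVec_single] at this
  simpa [T, h1] using this

theorem exists_int (hψ : ψ.IsPrimitive) (h2 : 2 * h = 1) {n : ℕ} (g : symplecticGroup (Fin n) F) :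
    ∃ T, det T ≠ 0 ∧ Int ψ h g.1 T := by
  obtain ⟨T, h0, hT⟩ := exists_T hψ h2
    (fun a b => P ψ h ((g.1 *ᵥ Sum.elim a b) ∘ .inl) ((g.1 *ᵥ Sum.elim a b) ∘ .inr)) (fun a b a' b' => by
      have := (mem_symplecticGroup_iff_form n).1 g.2 (Sum.elim a' b') (Sum.elim a b)
      rw [sympForm_eq, sympForm_eq] at this
      rw [P_mul h2, Sum.elim_add_add, mulVec_add]
      congr 3
      simpa [dotProduct, mul_comm] using this) fun e => by
      have := congrArg trace e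
      rw [trace_sum, Finset.sum_eq_single 0 (fun b _ hb => by
        rw [trace_P hψ, if_neg fun e => hb ?_]
        have : g.1 *ᵥ Sum.elim 0 b = 0 := by
          ext (i | i)
          · exact congrFun e.1 i
          · exact congrFun e.2 i
        exact funext fun i => congrFun (eq_zero_of_mulVec_eq_zero (SymplecticGroup.symplectic_det g.2).ne_zero this)
          (.inr i)) (by simp), trace_P hψ] at this
      simp [Function.comp_def, funext_iff] at this
  exact ⟨T, h0, fun v => by rw [hT, Sum.elim_comp_inl_inr]⟩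

theorem Int.mul {g g' : Matrix (ι ⊕ ι) (ι ⊕ ι) F} {T T' : Matrix (ι → F) (ι → F) ℂ} (a : Int ψ h g T)
    (b : Int ψ h g' T') : Int ψ h (g * g') (T * T') := fun v => by
  rw [Matrix.mul_assoc, b, ← Matrix.mul_assoc, a, mulVec_mulVec, Matrix.mul_assoc]

theorem Int.one : Int ψ h (1 : Matrix (ι ⊕ ι) (ι ⊕ ι) F) 1 := fun v => by simp

theorem Int.uniq (hψ : ψ.IsPrimitive) {g : Matrix (ι ⊕ ι) (ι ⊕ ι) F} {T T' : Matrix (ι → F) (ι → F) ℂ}
    (a : Int ψ h g T) (b : Int ψ h g T') (h0 : det T' ≠ 0) : ∃ c : ℂ, T = c • T' := by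
  have := span_top (h := h) hψ (LinearMap.eqLocus (LinearMap.mulLeft ℂ (T'⁻¹ * T)) (LinearMap.mulRight ℂ (T'⁻¹ * T)))
    fun x y => by
      have a := a (Sum.elim x y)
      have b := b (Sum.elim x y)
      simp only [Sum.elim_comp_inl, Sum.elim_comp_inr] at a b
      show T'⁻¹ * T * P ψ h x y = P ψ h x y * (T'⁻¹ * T)
      rw [Matrix.mul_assoc, a, ← nonsing_inv_mul_cancel_left T' (P ψ h x y * _) h0.isUnit, ← Matrix.mul_assoc T', b,
        Matrix.mul_assoc, mul_nonsing_inv_cancel_left _ _ h0.isUnit]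
  obtain ⟨c, hc⟩ := mem_range_scalar_iff_commute_single'.2 fun i j => (this (single i j 1)).symm
  refine ⟨c, ?_⟩
  rw [← mul_nonsing_inv_cancel_left T' T h0.isUnit, ← hc, scalar_apply, ← smul_eq_mul_diagonal]

theorem Sg_mulVec (f : (ι → F) → ℂ) (x : ι → F) : (Sg F ι *ᵥ f) x = f (-x) := by simp [Sg, mulVec, dotProduct]

theorem Sg_sq : Sg F ι * Sg F ι = 1 := by
  ext x y
  simp only [Sg, mul_apply, of_apply, ite_mul, zero_mul, Finset.sum_ite_eq', Finset.mem_univ, if_true]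
  simp [one_apply, eq_comm]

theorem trace_Sg (h2 : 2 * h = 1) : trace (Sg F ι) = 1 := by
  have : ∀ x : ι → F, x = -x ↔ x = 0 := fun x => ⟨fun e => funext fun i => by
    have := congrFun e i
    simp only [Pi.neg_apply, Pi.zero_apply] at this ⊢
    linear_combination h * this - x i * h2, fun e => by simp [e]⟩
  simp [trace, Sg, this]

theorem int_Sg : Int ψ h (-1 : Matrix (ι ⊕ ι) (ι ⊕ ι) F) (Sg F ι) := fun v => by
  ext x y
  simp only [Sg, P, mul_apply, of_apply, ite_mul, zero_mul, Finset.sum_ite_eq', Finset.mem_univ, if_true, one_mul,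
    neg_mulVec, one_mulVec, Pi.neg_comp]
  simp [add_comm]

theorem Int.comm (hψ : ψ.IsPrimitive) (h2 : 2 * h = 1) {g : Matrix (ι ⊕ ι) (ι ⊕ ι) F} {T : Matrix (ι → F) (ι → F) ℂ}
    (a : Int ψ h g T) (h0 : det T ≠ 0) : T ∈ Submonoid.centralizer {Sg F ι} := by
  have hS : det (Sg F ι) ≠ 0 := fun e => by simpa [e] using congrArg det (Sg_sq (F := F) (ι := ι))
  obtain ⟨c, hc⟩ := (int_Sg.mul a).uniq hψ (by simpa using a.mul int_Sg) (by simp [hS, h0])
  have : trace (Sg F ι * T * T⁻¹) = trace (c • (T * Sg F ι) * T⁻¹) := by rw [hc]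
  rw [mul_nonsing_inv_cancel_right _ _ h0.isUnit, Matrix.smul_mul, trace_smul, trace_mul_cycle,
    nonsing_inv_mul _ h0.isUnit, Matrix.one_mul, trace_Sg h2, smul_eq_mul, mul_one] at this
  rintro _ rfl
  rw [hc, ← this, one_smul]

variable (F ι) in
def W (s : ℂ) : Submodule ℂ ((ι → F) → ℂ) := LinearMap.eqLocus (toLin' (Sg F ι)) (s • LinearMap.id)

theorem mem_W {s : ℂ} {f : (ι → F) → ℂ} : f ∈ W F ι s ↔ Sg F ι *ᵥ f = s • f := Iff.rfl

theorem finrank_W (h2 : 2 * h = 1) {s : ℂ} (hs : s * s = 1) :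
    (finrank ℂ (W F ι s) : ℂ) = (Fintype.card (ι → F) + s) / 2 := by
  have : LinearMap.IsProj (W F ι s) (toLin' ((2 : ℂ)⁻¹ • (1 + s • Sg F ι))) := ⟨fun f => by
    rw [mem_W, toLin'_apply, mulVec_mulVec, ← smul_mulVec]
    simp [mul_add, Sg_sq, smul_smul, mul_left_comm s, hs, add_comm, mul_comm s], fun f hf => by
    rw [toLin'_apply, smul_mulVec, add_mulVec, smul_mulVec, mem_W.1 hf, smul_smul, hs, one_mulVec, one_smul,
      ← two_smul ℂ, smul_smul]; simp⟩
  rw [← this.trace, trace_toLin'_eq]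
  simp [trace_Sg h2]; ring

def res (s : ℂ) : Submonoid.centralizer {Sg F ι} →* End ℂ (W F ι s) where
  toFun T := (toLin' T.1).restrict fun f hf => by
    rw [mem_W, toLin'_apply, mulVec_mulVec, T.2 _ rfl, ← mulVec_mulVec, mem_W.1 hf, mulVec_smul]
  map_one' := by ext; simp
  map_mul' a b := by ext; simp

noncomputable def R (T : Submonoid.centralizer {Sg F ι}) : End ℂ (W F ι (-1)) :=
  (LinearMap.det (res (-1) T) / LinearMap.det (res 1 T)) • res (-1) T

theorem R_mul (T T' : Submonoid.centralizer {Sg F ι}) : R (T * T') = R T * R T' := by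
  simp only [R, map_mul, smul_mul_assoc, mul_smul_comm, smul_smul]
  congr 1; ring

theorem dims (h2 : 2 * h = 1) : finrank ℂ (W F ι 1) = finrank ℂ (W F ι (-1)) + 1 ∧
    Fintype.card (ι → F) = 2 * finrank ℂ (W F ι (-1)) + 1 := by
  have a := finrank_W (ι := ι) h2 (s := 1) (by simp)
  have b := finrank_W (ι := ι) h2 (s := -1) (by simp)
  constructor <;> apply Nat.cast_injective (R := ℂ) <;> push_cast
  · rw [a, b]; ring
  · rw [b]; ring

theorem R_smul (h2 : 2 * h = 1) {T T' : Submonoid.centralizer {Sg F ι}} {c : ℂ} (e : T.1 = c • T'.1)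
    (h0 : det T.1 ≠ 0) : R T = R T' := by
  have hc : c ≠ 0 := fun hc => h0 (by rw [e, hc, zero_smul, det_zero])
  have : ∀ s, res s T = c • res s T' := fun s => by ext; simp [res, e, smul_mulVec]
  simp only [R, this, LinearMap.det_smul, smul_smul, (dims h2).1]
  congr 1
  field_simp; ring

theorem exists_weil (hψ : ψ.IsPrimitive) (h2 : 2 * h = 1) (n : ℕ) :
    ∃ ρ : Representation ℂ (symplecticGroup (Fin n) F) (W F (Fin n) (-1)),
      ∀ g T, T.1.det ≠ 0 → Int ψ h g.1 T.1 → ρ g = R T := by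
  choose T h0 hT using exists_int (n := n) hψ h2
  have key : ∀ g T', Int ψ h g.1 T'.1 → R ⟨T g, (hT g).comm hψ h2 (h0 g)⟩ = R T' ∨ T'.1.det = 0 := fun g T' a => by
    by_cases e : T'.1.det = 0
    · exact .inr e
    obtain ⟨c, hc⟩ := (hT g).uniq hψ a e
    exact .inl (R_smul h2 hc (h0 g))
  refine ⟨⟨⟨fun g => R ⟨T g, (hT g).comm hψ h2 (h0 g)⟩, ?_⟩, fun a b => ?_⟩, fun g T' e a => (key g T' a).resolve_right e⟩
  · exact ((key 1 1 Int.one).resolve_right (by simp)).trans (by simp [R])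
  · rw [← R_mul]
    exact (key (a * b) _ ((hT a).mul (hT b))).resolve_right (by simp [h0])

theorem weil_ne (hψ : ψ.IsPrimitive) (h2 : 2 * h = 1) {m : ℕ} :
    ∃ ρ : Representation ℂ (symplecticGroup (Fin (m + 2)) F) (W F (Fin (m + 2)) (-1)), ∃ l, ρ (xs l) ≠ 1 := by
  obtain ⟨ρ, hρ⟩ := exists_weil hψ h2 (m + 2)
  obtain ⟨t, ht⟩ := AddChar.ne_one_iff.1 (hψ one_ne_zero)
  let D : Matrix (Fin (m + 2) → F) _ ℂ := diagonal fun x => ψ (t * x 0 ^ 2)
  have h0 : D.det ≠ 0 := by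
    rw [det_diagonal]; exact Finset.prod_ne_zero_iff.2 fun _ _ => (ψ.val_isUnit _).ne_zero
  have hD : Int ψ h (xs (Pi.single (0, 0) (-t))).1 D := fun v => by
    have e1 : ((xs (Pi.single (0, 0) (-t))).1 *ᵥ v) ∘ .inl = v ∘ .inl := by
      ext i; simp [xs, fromBlocks_mulVec]
    have e2 : ((xs (Pi.single (0, 0) (-t))).1 *ᵥ v) ∘ .inr = v ∘ .inr + Pi.single 0 (-2 * t * v (.inl 0)) := by
      ext i
      simp [xs, fromBlocks_mulVec, mulVec, dotProduct, Pi.single_apply, add_mul, Finset.sum_add_distrib, ite_and]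
      split_ifs <;> ring
    rw [e1, e2]
    ext x y
    simp only [D, diagonal_mul, mul_diagonal, P, of_apply]
    split_ifs with e
    · subst e
      simp only [← AddChar.map_add_eq_mul, add_dotProduct, dotProduct_add, single_dotProduct, dotProduct_single,
        Pi.add_apply, Function.comp_apply]
      congr 1
      linear_combination (t * v (.inl 0) ^ 2) * h2
    · simp
  refine ⟨ρ, Pi.single (0, 0) (-t), fun e => ?_⟩
  rw [hρ _ ⟨D, hD.comm hψ h2 h0⟩ h0 hD, R] at e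
  generalize (_ / _ : ℂ) = c at e
  have key : ∀ x : Fin (m + 2) → F, x ≠ -x → c * ψ (t * x 0 ^ 2) = 1 := fun x hx => by
    have := congrArg (fun f : End ℂ (W F (Fin (m + 2)) (-1)) => (f ⟨Pi.single x 1 - Pi.single (-x) 1, by
      rw [mem_W]; ext y
      simp [Sg_mulVec, Pi.single_apply, neg_eq_iff_eq_neg]⟩).1 x) e
    simpa [res, D, mulVec_diagonal, Pi.single_apply, hx] using this
  have h1 : (1 : F) ≠ -1 := fun e => by
    have : (0 : F) = 1 := by linear_combination h2 - h * e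
    exact zero_ne_one this
  have a := key (Pi.single 1 1) fun e => h1 (by simpa using congrFun e 1)
  have b := key (Pi.single 0 1) fun e => h1 (by simpa using congrFun e 0)
  simp at a b ht
  exact ht (by simpa [a] using b)

end Cfsg.Agent.Classical.Weil
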