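import Cfsg.Agent.Lib.Classical.Form

/-! Elementary isometries and Witt's lemma. -/

set_option autoImplicit false

namespace Cfsg.Agent.Classical

open Module

namespace Form
variable {F : Type*} [Field F] {K : Kind F} {V : Type*} [AddCommGroup V] [Module F V]
  (Φ : Form K V)

/-- the linear map `x ↦ B x w • v` -/
def rk (w v : V) : V →ₗ[F] V := (Φ.B.flip w).smulRight v

@[simp] theorem rk_apply (w v x : V) : Φ.rk w v x = Φ.B x w • v := rfl

/-! ### quasi-reflections `x ↦ x + c B(x,d) d` -/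

theorem qrefl_aux {d : V} {c : F} (h : c * K.σ c * Φ.N d + K.T (K.σ c) = 0) :
    c * K.σ c * Φ.B d d + K.σ c + K.ε * c = 0 := by
  have h1 := K.κT (K.σ c)
  rw [K.σσ] at h1
  rw [Φ.B_self]
  linear_combination K.κ * h - h1

/-- quasi-reflection (reflection or transvection) -/
def qrefl (d : V) (c : F) (h : c * K.σ c * Φ.N d + K.T (K.σ c) = 0) : V ≃ₗ[F] V :=
  LinearEquiv.ofLinearMap (LinearMap.id + c • Φ.rk d d) (LinearMap.id + (K.ε * K.σ c) • Φ.rk d d)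
    (by
      have h1 := Φ.qrefl_aux h
      have h2 := K.εε
      ext x
      simp only [LinearMap.comp_apply, LinearMap.add_apply, LinearMap.id_apply,
        LinearMap.smul_apply, rk_apply, map_add, map_smul, smul_eq_mul]
      match_scalars
      · ring
      · linear_combination (K.ε * Φ.B x d) * h1 - c * Φ.B x d * h2)
    (by
      have h1 := Φ.qrefl_aux h
      have h2 := K.εε
      ext x
      simp only [LinearMap.comp_apply, LinearMap.add_apply, LinearMap.id_apply,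
        LinearMap.smul_apply, rk_apply, map_add, map_smul, smul_eq_mul]
      match_scalars
      · ring
      · linear_combination (K.ε * Φ.B x d) * h1 - c * Φ.B x d * h2)

theorem qrefl_apply (d : V) (c : F) (h) (x : V) :
    Φ.qrefl d c h x = x + (c * Φ.B x d) • d := by
  simp [qrefl, smul_smul]

theorem qrefl_mem (d : V) (c : F) (h) : Φ.qrefl d c h ∈ Φ.Isom := by
  refine ⟨fun u v => ?_, fun v => ?_⟩
  · have h1 := Φ.qrefl_aux h
    simp only [qrefl_apply, map_add, LinearMap.add_apply, Φ.B_smul_left, Φ.B_smul_right, map_mul]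
    rw [Φ.symm v d]
    linear_combination (Φ.B u d * K.σ (Φ.B v d)) * h1
  · rw [qrefl_apply, Φ.N_add, Φ.N_smul, Φ.B_smul_right, map_mul]
    have := K.T_norm (Φ.B v d) (K.σ c)
    rw [show K.σ c * K.σ (Φ.B v d) * Φ.B v d = Φ.B v d * K.σ (Φ.B v d) * K.σ c by ring, this]
    linear_combination (Φ.B v d * K.σ (Φ.B v d)) * h

/-! ### Eichler transformations -/

/-- data for an Eichler transformation -/
structure IsEich (e y : V) (a : F) : Prop where
  he : Φ.N e = 0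
  hy : Φ.B y e = 0
  ha : K.T a = Φ.N y

/-- underlying linear map -/
def eichL (e y : V) (a : F) : V →ₗ[F] V :=
  LinearMap.id + Φ.rk y e - K.ε • Φ.rk e y - (K.ε * a) • Φ.rk e e

theorem eichL_apply (e y : V) (a : F) (x : V) :
    Φ.eichL e y a x = x + Φ.B x y • e - (K.ε * Φ.B x e) • y - (K.ε * a * Φ.B x e) • e := by
  simp [eichL, smul_smul]

theorem eichL_comp {e y y' : V} (a a' : F) (he : Φ.N e = 0) (hy : Φ.B y e = 0) (hy' : Φ.B y' e = 0)
    (x : V) : Φ.eichL e y a (Φ.eichL e y' a' x) = Φ.eichL e (y + y') (a + a' + Φ.B y' y) x := by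
  have h1 := Φ.B_self_of_N he
  have h2 := Φ.B_symm_zero hy
  simp only [eichL_apply, map_add, map_sub, LinearMap.add_apply, LinearMap.sub_apply,
    Φ.B_smul_left, h1, h2, hy']
  module

theorem eichL_zero (e x : V) : Φ.eichL e 0 0 x = x := by simp [eichL_apply]

theorem IsEich.neg {Φ : Form K V} {e y : V} {a : F} (h : Φ.IsEich e y a) :
    Φ.IsEich e (-y) (K.ε * K.σ a) := ⟨h.he, by simp [h.hy], by simp [K.T_conj, h.ha]⟩

theorem IsEich.add {Φ : Form K V} {e y y' : V} {a a' : F} (h : Φ.IsEich e y a) (h' : Φ.IsEich e y' a') :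
    Φ.IsEich e (y + y') (a + a' + Φ.B y' y) :=
  ⟨h.he, by simp [h.hy, h'.hy], by rw [add_comm y, Φ.N_add, map_add, map_add, h.ha, h'.ha]; ring⟩

theorem IsEich.Byy {Φ : Form K V} {e y : V} {a : F} (h : Φ.IsEich e y a) :
    Φ.B y y = a + K.ε * K.σ a := by rw [Φ.B_self, ← h.ha, K.κT]

theorem IsEich.zero {Φ : Form K V} {e : V} (h : Φ.N e = 0) : Φ.IsEich e 0 0 := ⟨h, by simp, by simp⟩

/-- Eichler transformation -/
def eich (e y : V) (a : F) (h : Φ.IsEich e y a) : V ≃ₗ[F] V :=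
  LinearEquiv.ofLinearMap (Φ.eichL e y a) (Φ.eichL e (-y) (K.ε * K.σ a))
    (by
      ext x
      rw [LinearMap.comp_apply, Φ.eichL_comp _ _ h.he h.hy h.neg.hy]
      simp [h.Byy, eichL_zero])
    (by
      ext x
      rw [LinearMap.comp_apply, Φ.eichL_comp _ _ h.he h.neg.hy h.hy]
      simp [h.Byy, add_comm a, eichL_zero])

theorem eich_apply (e y : V) (a : F) (h) (x : V) :
    Φ.eich e y a h x = x + Φ.B x y • e - (K.ε * Φ.B x e) • y - (K.ε * a * Φ.B x e) • e :=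
  Φ.eichL_apply e y a x

theorem eich_mul {e y y' : V} {a a' : F} (h : Φ.IsEich e y a) (h' : Φ.IsEich e y' a') :
    Φ.eich e y a h * Φ.eich e y' a' h' = Φ.eich e (y + y') (a + a' + Φ.B y' y) (h.add h') := by
  ext x
  exact Φ.eichL_comp _ _ h.he h.hy h'.hy x

theorem eich_inv {e y : V} {a : F} (h : Φ.IsEich e y a) :
    (Φ.eich e y a h)⁻¹ = Φ.eich e (-y) (K.ε * K.σ a) h.neg := by
  ext x; rfl

theorem eich_zero {e : V} (h) : Φ.eich e 0 0 h = 1 := by
  ext x; exact Φ.eichL_zero e x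

theorem eich_congr {e y y' : V} {a a' : F} (h : Φ.IsEich e y a) (hy : y = y') (ha : a = a') :
    Φ.eich e y a h = Φ.eich e y' a' (hy ▸ ha ▸ h) := by subst hy ha; rfl

theorem eich_self (e y : V) (a : F) (h) : Φ.eich e y a h e = e := by
  simp [eich_apply, Φ.B_self_of_N h.he, Φ.B_symm_zero h.hy]

theorem eich_of_perp (e y : V) (a : F) (h) {x : V} (hx : Φ.B x e = 0) :
    Φ.eich e y a h x = x + Φ.B x y • e := by
  simp [eich_apply, hx]

theorem eich_mem (e y : V) (a : F) (h) : Φ.eich e y a h ∈ Φ.Isom := by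
  have h1 := Φ.B_self_of_N h.he
  have h2 := Φ.B_symm_zero h.hy
  have h3 := h.Byy
  have h4 := K.εε
  refine ⟨fun u v => ?_, fun v => ?_⟩
  · simp only [eich_apply, map_add, map_sub, LinearMap.add_apply, LinearMap.sub_apply,
      Φ.B_smul_left, Φ.B_smul_right, map_mul, h1, h2, h.hy, h3, K.σε]
    rw [Φ.symm v e, Φ.symm v y]
    linear_combination (Φ.B u e * K.σ (Φ.B v e) * K.ε * K.σ a - Φ.B u e * K.σ (Φ.B v y)) * h4
  · have : Φ.eich e y a h v = v + ((Φ.B v y - K.ε * a * Φ.B v e) • e + (-(K.ε * Φ.B v e)) • y) := by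
      rw [eich_apply]; module
    rw [this, Φ.N_add, Φ.N_add, Φ.N_smul, Φ.N_smul, h.he]
    simp only [map_add, map_sub, map_neg, map_mul, Φ.B_smul_left, Φ.B_smul_right, h2, K.σε]
    have e1 := K.T_conj (K.σ (Φ.B v y) * Φ.B v e)
    have e2 := K.T_norm (Φ.B v e) (K.ε * K.σ a)
    rw [K.T_conj, h.ha] at e2
    rw [map_mul K.σ, K.σσ] at e1
    have e3 : (K.σ (Φ.B v y) - K.ε * K.σ a * K.σ (Φ.B v e)) * Φ.B v e =
      K.σ (Φ.B v y) * Φ.B v e - Φ.B v e * K.σ (Φ.B v e) * (K.ε * K.σ a) := by ring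
    have e4 : -(K.ε * K.σ (Φ.B v e)) * Φ.B v y = -(K.ε * (Φ.B v y * K.σ (Φ.B v e))) := by ring
    rw [e3, e4, map_sub, map_neg, e1, e2]
    simp only [mul_zero, map_zero]
    linear_combination (Φ.B v e * K.σ (Φ.B v e) * Φ.N y) * h4

theorem eich_conj {g : V ≃ₗ[F] V} (hg : g ∈ Φ.Isom) {e y : V} {a : F} (h : Φ.IsEich e y a) :
    g * Φ.eich e y a h * g⁻¹ = Φ.eich (g e) (g y) a
      ⟨by rw [hg.2, h.he], by rw [hg.1, h.hy], by rw [hg.2, h.ha]⟩ := by
  ext x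
  simp [eich_apply, LinearEquiv.coe_inv, Isom_B_right hg]

theorem qrefl_conj {g : V ≃ₗ[F] V} (hg : g ∈ Φ.Isom) (d : V) (c : F) (h) :
    g * Φ.qrefl d c h * g⁻¹ = Φ.qrefl (g d) c (by rw [hg.2]; exact h) := by
  ext x
  simp [qrefl_apply, LinearEquiv.coe_inv, Isom_B_right hg]

/-! ### hyperbolic pairs and dilations -/

/-- hyperbolic pair -/
structure IsHyp (e f : V) : Prop where
  he : Φ.N e = 0
  hf : Φ.N f = 0
  hef : Φ.B e f = 1

theorem IsHyp.Bee {Φ : Form K V} {e f : V} (h : Φ.IsHyp e f) : Φ.B e e = 0 := Φ.B_self_of_N h.he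
theorem IsHyp.Bff {Φ : Form K V} {e f : V} (h : Φ.IsHyp e f) : Φ.B f f = 0 := Φ.B_self_of_N h.hf
theorem IsHyp.Bfe {Φ : Form K V} {e f : V} (h : Φ.IsHyp e f) : Φ.B f e = K.ε := by
  rw [Φ.symm, h.hef]; simp
theorem IsHyp.e_ne {Φ : Form K V} {e f : V} (h : Φ.IsHyp e f) : e ≠ 0 := by
  rintro rfl; have := h.hef; simp at this
theorem IsHyp.f_ne {Φ : Form K V} {e f : V} (h : Φ.IsHyp e f) : f ≠ 0 := by
  rintro rfl; have := h.hef; simp at this
theorem IsHyp.swap {Φ : Form K V} {e f : V} (h : Φ.IsHyp e f) : Φ.IsHyp f (K.ε • e) :=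
  ⟨h.hf, by rw [Φ.N_smul, h.he, mul_zero], by rw [Φ.B_smul_right, h.Bfe, K.σε, K.εε]⟩
theorem IsHyp.map {Φ : Form K V} {e f : V} (h : Φ.IsHyp e f) {g : V ≃ₗ[F] V} (hg : g ∈ Φ.Isom) :
    Φ.IsHyp (g e) (g f) := ⟨by rw [hg.2, h.he], by rw [hg.2, h.hf], by rw [hg.1, h.hef]⟩

/-- a singular vector with a partner has a singular partner -/
theorem exists_hyp_of {e z : V} (he : Φ.N e = 0) (hz : Φ.B e z = 1) :
    ∃ a : F, Φ.IsHyp e (z + a • e) := by
  obtain ⟨a, ha⟩ := Φ.N_range z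
  refine ⟨-a, he, ?_, ?_⟩
  · rw [add_comm, Φ.N_add, Φ.N_smul, he, Φ.B_smul_left, hz]; simp [ha]
  · rw [map_add, Φ.B_smul_right, Φ.B_self_of_N he, hz]; simp

/-- underlying linear map of dilation -/
def dilL (e f : V) (l m : F) : V →ₗ[F] V :=
  LinearMap.id + (l - 1) • Φ.rk f e + ((m - 1) * K.ε) • Φ.rk e f

theorem dilL_apply (e f : V) (l m : F) (x : V) :
    Φ.dilL e f l m x = x + ((l - 1) * Φ.B x f) • e + ((m - 1) * K.ε * Φ.B x e) • f := by
  simp [dilL, smul_smul]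

theorem dilL_comp {e f : V} (h : Φ.IsHyp e f) (l m l' m' : F) (x : V) :
    Φ.dilL e f l m (Φ.dilL e f l' m' x) = Φ.dilL e f (l * l') (m * m') x := by
  have h4 := K.εε
  simp only [dilL_apply, map_add, LinearMap.add_apply, Φ.B_smul_left, h.Bee, h.Bff, h.hef, h.Bfe]
  match_scalars
  · ring
  · ring
  · linear_combination ((m - 1) * (m' - 1) * K.ε * Φ.B x e) * h4

/-- hyperbolic dilation: `e ↦ l e`, `f ↦ σ(l)⁻¹ f`. -/
def dil (e f : V) (h : Φ.IsHyp e f) (l : Fˣ) : V ≃ₗ[F] V :=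
  LinearEquiv.ofLinearMap (Φ.dilL e f l (K.σ l)⁻¹) (Φ.dilL e f (l : F)⁻¹ (K.σ l))
    (by ext x; rw [LinearMap.comp_apply, Φ.dilL_comp h]; simp [dilL_apply])
    (by ext x; rw [LinearMap.comp_apply, Φ.dilL_comp h]; simp [dilL_apply])

theorem dil_apply (e f : V) (h) (l : Fˣ) (x : V) :
    Φ.dil e f h l x = x + ((l - 1) * Φ.B x f) • e + (((K.σ l)⁻¹ - 1) * K.ε * Φ.B x e) • f :=
  Φ.dilL_apply _ _ _ _ _

theorem dil_e (e f : V) (h) (l : Fˣ) : Φ.dil e f h l e = (l : F) • e := by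
  rw [dil_apply, h.hef, h.Bee]; module

theorem dil_f (e f : V) (h) (l : Fˣ) : Φ.dil e f h l f = (K.σ l)⁻¹ • f := by
  have h4 := K.εε
  rw [dil_apply, h.Bfe, h.Bff]
  match_scalars
  · linear_combination ((K.σ l)⁻¹ - 1) * h4
  · ring

theorem dil_of_perp (e f : V) (h) (l : Fˣ) {x : V} (h1 : Φ.B x e = 0) (h2 : Φ.B x f = 0) :
    Φ.dil e f h l x = x := by
  simp [dil_apply, h1, h2]

theorem dil_mul (e f : V) (h) (l l' : Fˣ) : Φ.dil e f h l * Φ.dil e f h l' = Φ.dil e f h (l * l') := by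
  ext x
  have := Φ.dilL_comp h l (K.σ l)⁻¹ l' (K.σ l')⁻¹ x
  rw [LinearEquiv.mul_apply]
  refine this.trans ?_
  simp [dil, mul_comm]

theorem dil_one (e f : V) (h) : Φ.dil e f h 1 = 1 := by
  ext x; simp [dil_apply]

theorem dil_mem (e f : V) (h) (l : Fˣ) : Φ.dil e f h l ∈ Φ.Isom := by
  have h4 := K.εε
  have hl : (l : F) ≠ 0 := l.ne_zero
  have hl' : K.σ l ≠ 0 := by simp
  refine ⟨fun u v => ?_, fun v => ?_⟩
  · simp only [dil_apply, map_add, map_sub, LinearMap.add_apply,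
      Φ.B_smul_left, Φ.B_smul_right, map_mul, h.Bee, h.Bff, h.hef, h.Bfe, K.σε, map_inv₀, K.σσ,
      map_one]
    rw [Φ.symm v e, Φ.symm v f]
    field_simp
    linear_combination (l * (1 - K.σ l) * Φ.B u e * K.σ (Φ.B v f) * K.σ l) * h4
  · rw [dil_apply, add_assoc, Φ.N_add, Φ.N_add, Φ.N_smul, Φ.N_smul, h.he, h.hf]
    simp only [map_add, map_sub, map_mul, Φ.B_smul_left, Φ.B_smul_right, h.hef, K.σε, map_inv₀,
      K.σσ, map_one, mul_zero, zero_add, mul_one]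
    have e1 := K.T_conj ((K.σ l - 1) * K.σ (Φ.B v f) * Φ.B v e)
    rw [← e1, add_assoc, ← map_add, ← map_add, add_eq_left]
    simp only [map_mul, map_sub, K.σσ, map_one]
    convert K.T.map_zero
    field_simp
    ring

theorem dil_conj {g : V ≃ₗ[F] V} (hg : g ∈ Φ.Isom) (e f : V) (h : Φ.IsHyp e f) (l : Fˣ) :
    g * Φ.dil e f h l * g⁻¹ = Φ.dil (g e) (g f) (h.map hg) l := by
  ext x
  simp [dil_apply, LinearEquiv.coe_inv, Isom_B_right hg]

/-! ### Witt's lemma -/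

/-- elementary isometries -/
def elemSet : Set (V ≃ₗ[F] V) :=
  {g | (∃ d c h, g = Φ.qrefl d c h) ∨ (∃ e y a h, g = Φ.eich e y a h) ∨ ∃ e f h l, g = Φ.dil e f h l}

theorem elemSet_subset : Φ.elemSet ⊆ Φ.Isom := by
  rintro g (⟨d, c, h, rfl⟩ | ⟨e, y, a, h, rfl⟩ | ⟨e, f, h, l, rfl⟩)
  exacts [Φ.qrefl_mem _ _ _, Φ.eich_mem _ _ _ _, Φ.dil_mem _ _ _ _]

/-- if `B u (u' - u) ≠ 0` a quasi-reflection in `u' - u` sends `u` to `u'` -/
theorem qrefl_cond {u u' : V} (hN : Φ.N u = Φ.N u') (h : Φ.B u (u' - u) ≠ 0) :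
    (Φ.B u (u' - u))⁻¹ * K.σ (Φ.B u (u' - u))⁻¹ * Φ.N (u' - u) + K.T (K.σ (Φ.B u (u' - u))⁻¹) = 0 := by
  have h1 := Φ.N_add u (u' - u)
  rw [add_sub_cancel, hN] at h1
  have h2 := K.T_norm (Φ.B u (u' - u))⁻¹ (Φ.B u (u' - u))
  rw [mul_right_comm, inv_mul_cancel₀ h, one_mul] at h2
  rw [h2]
  linear_combination (-((Φ.B u (u' - u))⁻¹ * K.σ (Φ.B u (u' - u))⁻¹)) * h1

theorem qrefl_map {u u' : V} (hN : Φ.N u = Φ.N u') (h : Φ.B u (u' - u) ≠ 0) :
    Φ.qrefl (u' - u) _ (Φ.qrefl_cond hN h) u = u' := by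
  rw [qrefl_apply, inv_mul_cancel₀ h]; simp

variable [FiniteDimensional F V]

theorem Nondeg.witt_step {Φ : Form K V} (hΦ : Φ.Nondeg) (H : Submodule F V) {u u' : V}
    (hu : u ∉ H) (hu' : u' ∉ H) (hB : ∀ x ∈ H, Φ.B x u = Φ.B x u') (hN : Φ.N u = Φ.N u') :
    ∃ g ∈ Φ.elemSet, (∀ x ∈ H, g x = x) ∧ g u = u' := by
  have hd : ∀ x ∈ H, Φ.B x (u' - u) = 0 := fun x hx => by rw [map_sub, hB x hx, sub_self]
  by_cases h1 : Φ.B u (u' - u) = 0
  swap
  · exact ⟨_, Or.inl ⟨_, _, Φ.qrefl_cond hN h1, rfl⟩,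
      fun x hx => by rw [qrefl_apply, hd x hx]; simp, Φ.qrefl_map hN h1⟩
  have hNd : Φ.N (u' - u) = 0 := by
    have := Φ.N_add u (u' - u)
    rw [add_sub_cancel, hN, h1] at this
    simpa using this
  by_cases h2 : u ∈ H ⊔ (F ∙ (u' - u))
  swap
  · obtain ⟨y, hy1, hy2⟩ := hΦ.exists_perp_one h2
    obtain ⟨a, ha⟩ := Φ.N_range y
    have hE : Φ.IsEich (u' - u) y a := ⟨hNd, Φ.B_symm_zero (hy1 _ (Submodule.mem_sup_right
      (Submodule.mem_span_singleton_self _))), ha⟩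
    refine ⟨_, Or.inr (Or.inl ⟨_, _, _, hE, rfl⟩), fun x hx => ?_, ?_⟩
    · rw [eich_of_perp _ _ _ _ _ (hd x hx), hy1 x (Submodule.mem_sup_left hx)]; simp
    · rw [eich_of_perp _ _ _ _ _ h1, hy2]; simp
  obtain ⟨x, hx, y, hy, hxy⟩ := Submodule.mem_sup.1 h2
  obtain ⟨a, rfl⟩ := Submodule.mem_span_singleton.1 hy
  set d := u' - u with hdd
  have ha : a ≠ 0 := by rintro rfl; apply hu; rw [← hxy]; simpa using hx
  have ha1 : a + 1 ≠ 0 := by
    intro h; apply hu'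
    have : u' = x + (a + 1) • d := by rw [add_smul, ← add_assoc, hxy]; simp [hdd]
    rw [this, h]; simpa using hx
  have hdH : d ∉ H := fun h => hu (by rw [← hxy]; exact H.add_mem hx (H.smul_mem _ h))
  obtain ⟨z, hz1, hz2⟩ := hΦ.exists_perp_one hdH
  obtain ⟨b, hb⟩ := Φ.exists_hyp_of hNd hz2
  have hf : ∀ x ∈ H, Φ.B x (z + b • d) = 0 := fun x hx => by
    rw [map_add, Φ.B_smul_right, hz1 x hx, hd x hx]; simp
  refine ⟨_, Or.inr (Or.inr ⟨_, _, hb, Units.mk0 ((a + 1) / a) (div_ne_zero ha1 ha), rfl⟩),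
    fun x hx => Φ.dil_of_perp _ _ _ _ (hd x hx) (hf x hx), ?_⟩
  rw [← hxy, map_add, map_smul, dil_e, Φ.dil_of_perp _ _ _ _ (hd x hx) (hf x hx), smul_smul,
    Units.val_mk0, mul_div_cancel₀ _ ha, add_smul, ← add_assoc, hxy]
  simp [hdd]

/-- Witt's lemma for families, with generation by elementary isometries -/
theorem Nondeg.witt_family_elem {Φ : Form K V} (hΦ : Φ.Nondeg) {k : ℕ} (v w : Fin k → V)
    (hv : LinearIndependent F v) (hw : LinearIndependent F w)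
    (hB : ∀ i j, Φ.B (v i) (v j) = Φ.B (w i) (w j)) (hN : ∀ i, Φ.N (v i) = Φ.N (w i)) :
    ∃ g ∈ Subgroup.closure Φ.elemSet, ∀ i, g (v i) = w i := by
  induction k with
  | zero => exact ⟨1, Subgroup.one_mem _, fun i => i.elim0⟩
  | succ k ih =>
    rw [linearIndependent_finSucc] at hv hw
    obtain ⟨g, hg, hgv⟩ := ih (Fin.tail v) (Fin.tail w) hv.1 hw.1 (fun i j => hB _ _) (fun i => hN _)
    have hgI : g ∈ Φ.Isom := (Subgroup.closure_le _).2 Φ.elemSet_subset hg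
    have h1 : g (v 0) ∉ Submodule.span F (Set.range (Fin.tail w)) := by
      intro h
      apply hv.2
      have : Set.range (Fin.tail w) = (g : V →ₗ[F] V) '' Set.range (Fin.tail v) := by
        rw [← Set.range_comp]; congr 1; ext i; simp [hgv]
      rw [this, ← Submodule.map_span, Submodule.mem_map_equiv] at h
      simpa using h
    obtain ⟨t, ht, ht1, ht2⟩ := hΦ.witt_step _ h1 hw.2 (by
      intro x hx
      induction hx using Submodule.span_induction with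
      | mem x hx => obtain ⟨i, rfl⟩ := hx; rw [← hgv, hgI.1, hgv]; exact hB _ _
      | zero => simp
      | add x y _ _ hx hy => simp [hx, hy]
      | smul c x _ hx => simp [hx]) (by rw [hgI.2, hN])
    refine ⟨t * g, Subgroup.mul_mem _ (Subgroup.subset_closure ht) hg, fun i => ?_⟩
    refine Fin.cases ht2 (fun i => ?_) i
    have := hgv i
    simp only [Fin.tail] at this
    rw [LinearEquiv.mul_apply, this]
    exact ht1 _ (Submodule.subset_span ⟨i, rfl⟩)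

theorem Nondeg.witt_family {Φ : Form K V} (hΦ : Φ.Nondeg) {ι : Type*} [Finite ι] (v w : ι → V)
    (hv : LinearIndependent F v) (hw : LinearIndependent F w)
    (hB : ∀ i j, Φ.B (v i) (v j) = Φ.B (w i) (w j)) (hN : ∀ i, Φ.N (v i) = Φ.N (w i)) :
    ∃ g ∈ Φ.Isom, ∀ i, g (v i) = w i := by
  obtain ⟨k, ⟨e⟩⟩ := Finite.exists_equiv_fin ι
  obtain ⟨g, hg, h⟩ := hΦ.witt_family_elem (v ∘ e.symm) (w ∘ e.symm) (hv.comp _ e.symm.injective)
    (hw.comp _ e.symm.injective) (fun i j => hB _ _) (fun i => hN _)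
  exact ⟨g, (Subgroup.closure_le _).2 Φ.elemSet_subset hg, fun i => by simpa using h (e i)⟩

/-- Witt's lemma for two injective linear maps inducing the same form -/
theorem Nondeg.witt_maps {Φ : Form K V} (hΦ : Φ.Nondeg) {W : Type*} [AddCommGroup W] [Module F W]
    (f₁ f₂ : W →ₗ[F] V) (h₁ : Function.Injective f₁) (h₂ : Function.Injective f₂)
    (hB : ∀ x y, Φ.B (f₁ x) (f₁ y) = Φ.B (f₂ x) (f₂ y)) (hN : ∀ x, Φ.N (f₁ x) = Φ.N (f₂ x)) :
    ∃ g ∈ Φ.Isom, ∀ x, g (f₁ x) = f₂ x := by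
  have : FiniteDimensional F W := FiniteDimensional.of_injective f₁ h₁
  let b := Module.finBasis F W
  obtain ⟨g, hg, h⟩ := hΦ.witt_family (f₁ ∘ b) (f₂ ∘ b)
    (b.linearIndependent.map' _ (LinearMap.ker_eq_bot.2 h₁))
    (b.linearIndependent.map' _ (LinearMap.ker_eq_bot.2 h₂)) (fun i j => hB _ _) (fun i => hN _)
  refine ⟨g, hg, fun x => ?_⟩
  have : (g : V →ₗ[F] V) ∘ₗ f₁ = f₂ := b.ext h
  exact LinearMap.congr_fun this x

/-- Witt's lemma -/
theorem Nondeg.witt {Φ : Form K V} (hΦ : Φ.Nondeg) (X Y : Submodule F V) (φ : X ≃ₗ[F] Y)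
    (hB : ∀ x x' : X, Φ.B (φ x) (φ x') = Φ.B x x') (hN : ∀ x : X, Φ.N (φ x) = Φ.N x) :
    ∃ g ∈ Φ.Isom, ∀ x : X, g x = φ x :=
  hΦ.witt_maps X.subtype (Y.subtype ∘ₗ φ.toLinearMap) X.injective_subtype
    (Y.injective_subtype.comp φ.injective) (fun x y => (hB x y).symm) (fun x => (hN x).symm)

theorem Nondeg.closure_elemSet {Φ : Form K V} (hΦ : Φ.Nondeg) :
    Subgroup.closure Φ.elemSet = Φ.Isom := by
  refine le_antisymm ((Subgroup.closure_le _).2 Φ.elemSet_subset) fun g hg => ?_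
  let b := Module.finBasis F V
  obtain ⟨t, ht, h⟩ := hΦ.witt_family_elem b (g ∘ b) b.linearIndependent
    (b.linearIndependent.map' (g : V →ₗ[F] V) g.ker) (fun i j => (hg.1 _ _).symm)
    (fun i => (hg.2 _).symm)
  have : t = g := b.ext' h
  exact this ▸ ht

/-- transitivity on nonzero vectors of a given norm -/
theorem Nondeg.exists_isom_vec {Φ : Form K V} (hΦ : Φ.Nondeg) {u u' : V} (hu : u ≠ 0) (hu' : u' ≠ 0)
    (hN : Φ.N u = Φ.N u') : ∃ g ∈ Φ.Isom, g u = u' := by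
  obtain ⟨g, hg, -, h⟩ := hΦ.witt_step ⊥ (u := u) (u' := u') (by simpa) (by simpa) (by simp) hN
  exact ⟨g, Φ.elemSet_subset hg, h⟩

theorem Nondeg.exists_hyp {Φ : Form K V} (hΦ : Φ.Nondeg) {e : V} (he0 : e ≠ 0) (he : Φ.N e = 0) :
    ∃ f, Φ.IsHyp e f := by
  obtain ⟨z, -, hz⟩ := hΦ.exists_perp_one (U := ⊥) (u := e) (by simpa)
  obtain ⟨a, ha⟩ := Φ.exists_hyp_of he hz
  exact ⟨_, ha⟩

omit [FiniteDimensional F V] in
theorem IsHyp.linearIndependent {Φ : Form K V} {e f : V} (h : Φ.IsHyp e f) :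
    LinearIndependent F ![e, f] := by
  rw [LinearIndependent.pair_iff]
  intro s t hst
  have h1 := congrArg (fun x => Φ.B x f) hst
  have h2 := congrArg (fun x => Φ.B x e) hst
  simp [h.hef, h.Bff, h.Bee, h.Bfe, K.ε_ne] at h1 h2
  exact ⟨h1, h2⟩

theorem Nondeg.exists_isom_hyp {Φ : Form K V} (hΦ : Φ.Nondeg) {e f e' f' : V} (h : Φ.IsHyp e f)
    (h' : Φ.IsHyp e' f') : ∃ g ∈ Φ.Isom, g e = e' ∧ g f = f' := by
  obtain ⟨g, hg, hh⟩ := hΦ.witt_family ![e, f] ![e', f'] h.linearIndependent h'.linearIndependent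
    (by intro i j; fin_cases i <;> fin_cases j <;>
      simp [h.Bee, h.Bff, h.hef, h.Bfe, h'.Bee, h'.Bff, h'.hef, h'.Bfe])
    (by intro i; fin_cases i <;> simp [h.he, h.hf, h'.he, h'.hf])
  exact ⟨g, hg, hh 0, hh 1⟩

end Form

end Cfsg.Agent.Classical
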