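import Mathlib

/-! Simultaneous eigenbases for commuting families of semisimple split endomorphisms. -/
set_option autoImplicit false
open Module Module.End

namespace Cfsg.Agent.Classical.Wt
variable {K : Type*} [Field K] {V : Type*} [AddCommGroup V] [Module K V] [FiniteDimensional K V]

theorem exists_eigenbasis {α : Type*} (f : α → End K V) (hc : ∀ a b, Commute (f a) (f b))
    (hs : ∀ a, (f a).IsSemisimple) (ht : ∀ a, ⨆ μ, (f a).maxGenEigenspace μ = ⊤)
    (R : V → V → Prop)
    (hR : ∀ W : Submodule K V, ∃ c : Basis (Fin (finrank K W)) K W, ∀ i j, i ≠ j → R (c i) (c j)) :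
    ∃ (b : Basis (Fin (finrank K V)) K V) (wt : Fin (finrank K V) → α → K),
      (∀ a i, f a (b i) = wt i a • b i) ∧ ∀ i j, i ≠ j → wt i = wt j → R (b i) (b j) := by
  classical
  let W : (α → K) → Submodule K V := fun χ => ⨅ a, (f a).maxGenEigenspace (χ a)
  have h1 : iSupIndep W := independent_iInf_maxGenEigenspace_of_forall_mapsTo f
    fun i j φ => mapsTo_maxGenEigenspace_of_comm (hc j i) φ
  have h2 : ⨆ χ, W χ = ⊤ :=
    iSup_iInf_maxGenEigenspace_eq_top_of_iSup_maxGenEigenspace_eq_top_of_commute f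
      (fun a b _ => hc a b) ht
  have h3 : DirectSum.IsInternal W :=
    DirectSum.isInternal_submodule_of_iSupIndep_of_iSup_eq_top h1 h2
  choose c hcR using hR
  let b0 := h3.collectedBasis fun χ => c (W χ)
  haveI : Finite (Σ χ : α → K, Fin (finrank K (W χ))) := Module.Finite.finite_basis b0
  letI := Fintype.ofFinite (Σ χ : α → K, Fin (finrank K (W χ)))
  let e : (Σ χ : α → K, Fin (finrank K (W χ))) ≃ Fin (finrank K V) :=
    Fintype.equivFinOfCardEq (finrank_eq_card_basis b0).symm
  refine ⟨b0.reindex e, fun i => (e.symm i).1, fun a i => ?_, fun i j hij hw => ?_⟩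
  · rw [Basis.reindex_apply]
    have h4 : b0 (e.symm i) ∈ W (e.symm i).1 := h3.collectedBasis_mem _ _
    have h5 := (Submodule.mem_iInf _).1 h4 a
    rw [(hs a).isFinitelySemisimple.maxGenEigenspace_eq_eigenspace, mem_eigenspace_iff] at h5
    exact h5
  · rw [Basis.reindex_apply, Basis.reindex_apply]
    have hne : e.symm i ≠ e.symm j := fun h => hij (e.symm.injective h)
    dsimp only at hw
    revert hw hne
    generalize e.symm i = x
    generalize e.symm j = y
    obtain ⟨χ, k⟩ := x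
    obtain ⟨χ', k'⟩ := y
    rintro (rfl : χ = χ') hne
    have hk : k ≠ k' := fun h => hne (h ▸ rfl)
    have := hcR (W χ) k k' hk
    simpa [b0] using this

open Polynomial in
omit [FiniteDimensional K V] in
theorem semisimple_of_pow {f : End K V} {p : ℕ} (hp : (p : K) ≠ 0) (h : f ^ p = 1) :
    f.IsSemisimple :=
  isSemisimple_of_squarefree_aeval_eq_zero (p := X ^ p - C 1)
    (separable_X_pow_sub_C 1 hp one_ne_zero).squarefree (by simp [h])

omit [FiniteDimensional K V] in
theorem top_of_invol {f : End K V} (h2 : (2 : K) ≠ 0) (h : f ^ 2 = 1) :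
    ⨆ μ, f.maxGenEigenspace μ = ⊤ := by
  refine eq_top_iff.2 fun v _ => ?_
  have hf : f (f v) = v := by
    have := congrArg (fun g : End K V => g v) h
    simpa [sq] using this
  have e : v = (2 : K)⁻¹ • (v + f v) + (2 : K)⁻¹ • (v - f v) := by
    rw [← smul_add, show v + f v + (v - f v) = (2 : K) • v by rw [two_smul]; abel, smul_smul,
      inv_mul_cancel₀ h2, one_smul]
  rw [e]
  refine add_mem (Submodule.smul_mem _ _ (Submodule.mem_iSup_of_mem 1 ?_))
    (Submodule.smul_mem _ _ (Submodule.mem_iSup_of_mem (-1) ?_))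
  · refine genEigenspace_le_maximal f 1 1 ?_
    change v + f v ∈ f.eigenspace 1
    rw [mem_eigenspace_iff, map_add, hf, one_smul, add_comm]
  · refine genEigenspace_le_maximal f (-1) 1 ?_
    change v - f v ∈ f.eigenspace (-1)
    rw [mem_eigenspace_iff, map_sub, hf, neg_one_smul, neg_sub]

theorem eigenbasis_invol {α : Type*} (f : α → End K V) (h2 : (2 : K) ≠ 0)
    (hc : ∀ a b, Commute (f a) (f b)) (hs : ∀ a, f a ^ 2 = 1) (R : V → V → Prop)
    (hR : ∀ W : Submodule K V, ∃ c : Basis (Fin (finrank K W)) K W, ∀ i j, i ≠ j → R (c i) (c j)) :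
    ∃ (b : Basis (Fin (finrank K V)) K V) (wt : Fin (finrank K V) → α → ℤˣ),
      (∀ a i, f a (b i) = ((wt i a : ℤ) : K) • b i) ∧
        ∀ i j, i ≠ j → wt i = wt j → R (b i) (b j) := by
  classical
  obtain ⟨b, wt, h1, h3⟩ := exists_eigenbasis f hc
    (fun a => semisimple_of_pow (p := 2) (by exact_mod_cast h2) (hs a))
    (fun a => top_of_invol h2 (hs a)) R hR
  have h4 : ∀ i a, ∃ u : ℤˣ, ((u : ℤ) : K) = wt i a := by
    intro i a
    have h5 : f a (f a (b i)) = b i := by
      have := congrArg (fun g : End K V => g (b i)) (hs a)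
      simpa [sq] using this
    rw [h1, map_smul, h1, smul_smul] at h5
    have h6 : wt i a * wt i a = 1 := by
      have := congrArg (fun v => b.repr v i) h5
      simpa using this
    rcases mul_self_eq_one_iff.1 h6 with h | h
    · exact ⟨1, by simp [h]⟩
    · exact ⟨-1, by simp [h]⟩
  choose u hu using h4
  refine ⟨b, u, fun a i => by rw [hu, h1], fun i j hij h => h3 i j hij ?_⟩
  funext a
  rw [← hu, ← hu, h]

/-- The weights of a commuting family of elements of order dividing `p` in a representation in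
characteristic prime to `p`. -/
theorem weights {G : Type*} [Group G] {d : ℕ} (ρ : G →* GL (Fin d) K) {p : ℕ} (hp : (p : K) ≠ 0)
    {α : Type*} (x : α → G) (hc : ∀ a b, Commute (x a) (x b)) (hx : ∀ a, x a ^ p = 1) :
    ∃ Ξ : Set (α → AlgebraicClosure K), Ξ.Finite ∧ Ξ.ncard ≤ d ∧
      (∀ χ ∈ Ξ, ∀ a b c, x a * x b = x c → χ a * χ b = χ c) ∧
      (∀ χ ∈ Ξ, ∀ a, χ a ≠ 0) ∧
      (∀ a, ρ (x a) ≠ 1 → ∃ χ ∈ Ξ, χ a ≠ 1) ∧
      ∀ (g : G) (τ : α → α), (∀ a, x a * g = g * x (τ a)) → ∀ χ ∈ Ξ, χ ∘ τ ∈ Ξ := by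
  classical
  let L := AlgebraicClosure K
  let σ : G →* End L (Fin d → L) :=
    (Matrix.toLinAlgEquiv' : Matrix (Fin d) (Fin d) L ≃ₐ[L] _).toMulEquiv.toMonoidHom.comp
      (((algebraMap K L).mapMatrix : Matrix (Fin d) (Fin d) K →+* _).toMonoidHom.comp
        ((Units.coeHom _).comp ρ))
  have hσ : ∀ g, σ g = 1 → ρ g = 1 := by
    intro g hg
    have h1 : ((algebraMap K L).mapMatrix (ρ g : Matrix (Fin d) (Fin d) K)) = 1 :=
      (Matrix.toLinAlgEquiv' : Matrix (Fin d) (Fin d) L ≃ₐ[L] _).injective (by rw [map_one]; exact hg)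
    ext i j
    apply (algebraMap K L).injective
    have := congrFun (congrFun h1 i) j
    rw [RingHom.mapMatrix_apply, Matrix.map_apply] at this
    rw [this]
    by_cases h : i = j <;> simp [Matrix.one_apply, h]
  have hp' : (p : L) ≠ 0 := by
    rw [← map_natCast (algebraMap K L)]
    exact (map_ne_zero _).2 hp
  obtain ⟨b, wt, h1, -⟩ := exists_eigenbasis (fun a => σ (x a)) (fun a b => (hc a b).map σ)
    (fun a => semisimple_of_pow hp' (by rw [← map_pow, hx, map_one]))
    (fun a => iSup_maxGenEigenspace_eq_top _) (fun _ _ => True)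
    (fun W => ⟨finBasis L W, fun _ _ _ => trivial⟩)
  have hinj : ∀ g v, σ g v = 0 → v = 0 := fun g v h => by
    have : σ g⁻¹ (σ g v) = v := by
      rw [← End.mul_apply, ← map_mul, inv_mul_cancel, map_one, End.one_apply]
    rw [← this, h, map_zero]
  have hsub : {χ : α → L | ∃ v ≠ 0, ∀ a, σ (x a) v = χ a • v} ⊆ Set.range wt := by
    rintro χ ⟨v, hv, h⟩
    obtain ⟨i, hi⟩ : ∃ i, b.repr v i ≠ 0 := by
      by_contra h'
      push Not at h'
      exact hv (b.repr.map_eq_zero_iff.1 (Finsupp.ext h'))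
    refine ⟨i, funext fun a => ?_⟩
    have h2 : b.repr (σ (x a) v) i = wt i a * b.repr v i := by
      conv_lhs => rw [← b.sum_repr v]
      simp only [map_sum, map_smul, h1, Basis.repr_self, Finsupp.smul_single, smul_eq_mul, mul_one,
        Finsupp.coe_finsetSum, Finset.sum_apply, Finsupp.single_apply]
      rw [Finset.sum_eq_single i (fun j _ hj => if_neg hj) (by simp), if_pos rfl, mul_comm]
    rw [h, map_smul, Finsupp.smul_apply, smul_eq_mul] at h2
    exact (mul_right_cancel₀ hi h2).symm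
  refine ⟨{χ : α → L | ∃ v ≠ 0, ∀ a, σ (x a) v = χ a • v}, (Set.finite_range wt).subset hsub,
    ?_, ?_, ?_, ?_, ?_⟩
  · refine (Set.ncard_le_ncard hsub (Set.finite_range wt)).trans ?_
    rw [← Set.image_univ]
    refine (Set.ncard_image_le Set.finite_univ).trans ?_
    simp [Set.ncard_univ]
  · rintro χ ⟨v, hv, h⟩ a b c habc
    have h2 := h c
    rw [← habc, map_mul, End.mul_apply, h b, map_smul, h a, smul_smul, mul_comm] at h2
    exact smul_left_injective L hv h2
  · rintro χ ⟨v, hv, h⟩ a ha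
    exact hv (hinj (x a) v (by rw [h, ha, zero_smul]))
  · intro a ha
    by_contra h'
    push Not at h'
    refine ha (hσ _ (b.ext fun i => ?_))
    rw [h1, h' (wt i) ⟨b i, b.ne_zero i, fun a => h1 a i⟩, one_smul, End.one_apply]
  · rintro g τ hg χ ⟨v, hv, h⟩
    refine ⟨σ g v, fun h0 => hv (hinj g v h0), fun a => ?_⟩
    rw [← End.mul_apply, ← map_mul, hg, map_mul, End.mul_apply, h, map_smul]
    rfl

end Cfsg.Agent.Classical.Wt
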