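import Cfsg.Agent.Lib.Classical.Wt1

/-! Additive characters of `F^n`; transitivity of `SL_n` on independent pairs. -/
set_option autoImplicit false
open Module Matrix

namespace Cfsg.Agent.Classical.Wt
variable {F : Type*} [Field F] {L : Type*} [Field L] {ι : Type*} [Fintype ι] [DecidableEq ι]

theorem psi_zero {A : Type*} [AddGroup A] {ψ : A → L} (hm : ∀ a b, ψ a * ψ b = ψ (a + b))
    (h0 : ∀ a, ψ a ≠ 0) : ψ 0 = 1 := by
  have := hm 0 0
  rw [add_zero] at this
  exact mul_left_cancel₀ (h0 0) (by rw [this, mul_one])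

theorem psi_sub {A : Type*} [AddGroup A] {ψ : A → L} (hm : ∀ a b, ψ a * ψ b = ψ (a + b))
    (h0 : ∀ a, ψ a ≠ 0) {a b : A} (h : ψ a = ψ b) : ψ (a - b) = 1 := by
  have := hm (a - b) b
  rw [sub_add_cancel, h] at this
  exact mul_right_cancel₀ (h0 b) (by rw [this, one_mul])

theorem psi_scal {ψ : F → L} (hm : ∀ a b, ψ a * ψ b = ψ (a + b)) (h0 : ∀ a, ψ a ≠ 0)
    (h1 : ∃ t, ψ t ≠ 1) {c c' : F} (h : ∀ t, ψ (c * t) = ψ (c' * t)) : c = c' := by
  by_contra hc
  obtain ⟨t, ht⟩ := h1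
  have hc' : c - c' ≠ 0 := sub_ne_zero.2 hc
  have := psi_sub hm h0 (h (t / (c - c')))
  rw [← sub_mul, mul_div_cancel₀ _ hc'] at this
  exact ht this

theorem psi_inj {ψ : F → L} (hm : ∀ a b, ψ a * ψ b = ψ (a + b)) (h0 : ∀ a, ψ a ≠ 0)
    (h1 : ∃ t, ψ t ≠ 1) {l l' : ι → F} (h : ∀ v, ψ (l ⬝ᵥ v) = ψ (l' ⬝ᵥ v)) : l = l' := by
  funext i
  refine psi_scal hm h0 h1 fun t => ?_
  simpa using h (Pi.single i t)

theorem char_dual [Fintype F] {ψ : F → L} (hm : ∀ a b, ψ a * ψ b = ψ (a + b)) (h0 : ∀ a, ψ a ≠ 0)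
    (h1 : ∃ t, ψ t ≠ 1) {χ : (ι → F) → L} (hχ : ∀ a b, χ a * χ b = χ (a + b))
    (hχ0 : ∀ a, χ a ≠ 0) : ∃ l : ι → F, ∀ v, χ v = ψ (l ⬝ᵥ v) := by
  classical
  have hli := linearIndependent_monoidHom (Multiplicative (ι → F)) L
  haveI : Finite (Multiplicative (ι → F) →* L) := hli.finite
  letI := Fintype.ofFinite (Multiplicative (ι → F) →* L)
  have hc := hli.fintype_card_le_finrank
  rw [finrank_fintype_fun_eq_card] at hc
  let Φ : (ι → F) → (Multiplicative (ι → F) →* L) := fun l =>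
    { toFun := fun v => ψ (l ⬝ᵥ v.toAdd)
      map_one' := by simp [psi_zero hm h0]
      map_mul' := fun a b => by simp [hm] }
  have hΦ : Function.Injective Φ := fun l l' h =>
    psi_inj hm h0 h1 fun v => DFunLike.congr_fun h (Multiplicative.ofAdd v)
  have hb : Function.Bijective Φ :=
    (Fintype.bijective_iff_injective_and_card Φ).2
      ⟨hΦ, le_antisymm (Fintype.card_le_of_injective Φ hΦ) (by simpa using hc)⟩
  obtain ⟨l, hl⟩ := hb.2
    { toFun := fun v => χ v.toAdd
      map_one' := by simp [psi_zero hχ hχ0]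
      map_mul' := fun a b => by simp [hχ] }
  exact ⟨l, fun v => (DFunLike.congr_fun hl (Multiplicative.ofAdd v)).symm⟩

theorem exists_equiv_of_li {V : Type*} [AddCommGroup V] [Module F V] [FiniteDimensional F V]
    {κ : Type*} {u w : κ → V} (hu : LinearIndependent F u) (hw : LinearIndependent F w) :
    ∃ e : V ≃ₗ[F] V, ∀ k, e (u k) = w k := by
  obtain ⟨g, hg⟩ := Submodule.exists_linearEquiv_restrict_eq
    (hu.linearCombinationEquiv.symm ≪≫ₗ hw.linearCombinationEquiv)
  refine ⟨g, fun k => ?_⟩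
  have := hg (hu.linearCombinationEquiv (Finsupp.single k 1))
  simpa using this.symm

theorem exists_SL_of_li {κ : Type*} [Fintype κ] (hκ : Fintype.card κ < Fintype.card ι)
    {u w : κ → ι → F} (hu : LinearIndependent F u) (hw : LinearIndependent F w) :
    ∃ g : SpecialLinearGroup ι F, ∀ k, g.1 *ᵥ u k = w k := by
  obtain ⟨e, he⟩ := exists_equiv_of_li hu hw
  obtain ⟨v, hv⟩ : ∃ v, v ∉ Submodule.span F (Set.range u) := by
    by_contra h
    push Not at h
    have h1 := finrank_span_eq_card hu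
    rw [Submodule.eq_top_iff'.2 h, finrank_top, finrank_fintype_fun_eq_card] at h1
    omega
  obtain ⟨f, hf0, hf⟩ := LinearMap.exists_extend_of_notMem
    (0 : Submodule.span F (Set.range u) →ₗ[F] F) hv 1
  have hd : LinearMap.det (e : (ι → F) →ₗ[F] (ι → F)) ≠ 0 := by
    rw [← LinearEquiv.coe_det]; exact Units.ne_zero _
  set d := LinearMap.det (e : (ι → F) →ₗ[F] (ι → F))
  let T := (e : (ι → F) →ₗ[F] (ι → F)) ∘ₗ LinearMap.transvection f ((d⁻¹ - 1) • v)
  have hT : LinearMap.det T = 1 := by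
    rw [LinearMap.det_comp, LinearMap.transvection.det, map_smul, hf]
    simp [d] at hd ⊢
    exact mul_inv_cancel₀ hd
  refine ⟨⟨LinearMap.toMatrix' T, by rw [LinearMap.det_toMatrix', hT]⟩, fun k => ?_⟩
  change Matrix.toLin' (LinearMap.toMatrix' T) (u k) = w k
  have h2 : f (u k) = 0 :=
    DFunLike.congr_fun hf0 ⟨u k, Submodule.subset_span (Set.mem_range_self k)⟩
  rw [Matrix.toLin'_toMatrix', ← he]
  simp [T, LinearMap.transvection.apply, h2]

theorem cast_ringChar_ne [Finite F] (h : ringChar L ≠ ringChar F) : ((ringChar F : ℕ) : L) ≠ 0 := by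
  intro h0
  rw [ringChar.spec] at h0
  have hp : (ringChar F).Prime := CharP.char_is_prime F _
  rcases (Nat.dvd_prime hp).1 h0 with h1 | h1
  · exact CharP.ringChar_ne_one h1
  · exact h h1

theorem pow_ringChar {G : Type*} [Group G] {A : Type*} [AddCommGroup A] [Module F A] (x : A → G)
    (hx : ∀ a b, x a * x b = x (a + b)) (a : A) : x a ^ ringChar F = 1 := by
  have h0 : x 0 = 1 := by
    have := hx 0 0
    rw [add_zero] at this
    exact mul_eq_left.1 this
  have h : ∀ k : ℕ, x a ^ k = x ((k : F) • a) := by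
    intro k
    induction k with
    | zero => simp [h0]
    | succ k ih => rw [pow_succ, ih, hx, Nat.cast_succ, add_smul, one_smul]
  rw [h, ringChar.Nat.cast_ringChar, zero_smul, h0]

theorem det_one_add_vv (u v : ι → F) : (1 + vecMulVec u v).det = 1 + v ⬝ᵥ u := by
  rw [vecMulVec_eq Unit, det_one_add_replicateCol_mul_replicateRow]

end Cfsg.Agent.Classical.Wt
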