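import Cfsg.Agent.Lib.Classical.Weil1

/-! Weight spaces with multiplicities in complex representations. -/
set_option autoImplicit false
open Module

namespace Cfsg.Agent.Classical.Wt
variable {G V α : Type*} [Group G] [AddCommGroup V] [Module ℂ V] (ρ : Representation ℂ G V) (x : α → G)

def WS (χ : α → ℂ) : Submodule ℂ V := ⨅ a, End.eigenspace (ρ (x a)) (χ a)

variable {ρ x}

theorem mem_WS {χ : α → ℂ} {v : V} : v ∈ WS ρ x χ ↔ ∀ a, ρ (x a) v = χ a • v := by
  simp [WS, End.mem_eigenspace_iff]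

theorem WS.mul {χ : α → ℂ} (h : WS ρ x χ ≠ ⊥) {a b c : α} (e : x a * x b = x c) : χ a * χ b = χ c := by
  obtain ⟨v, hv, h0⟩ := (Submodule.ne_bot_iff _).1 h
  rw [mem_WS] at hv
  refine smul_left_injective ℂ h0 ?_
  show _ • v = _ • v
  rw [← hv c, ← e, map_mul, End.mul_apply, hv, map_smul, hv, smul_smul, mul_comm]

theorem WS.ne {χ : α → ℂ} (h : WS ρ x χ ≠ ⊥) (a : α) : χ a ≠ 0 := fun e => by
  obtain ⟨v, hv, h0⟩ := (Submodule.ne_bot_iff _).1 h
  refine h0 ?_
  rw [← ρ.inv_self_apply (x a) v, mem_WS.1 hv, e, zero_smul, map_zero]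

variable [FiniteDimensional ℂ V]

theorem WS.sum_le (hc : ∀ a b, Commute (x a) (x b)) (O : Finset (α → ℂ)) (U : Submodule ℂ V) {r : ℕ}
    (hU : ∀ χ ∈ O, WS ρ x χ ≤ U) (hr : ∀ χ ∈ O, r ≤ finrank ℂ (WS ρ x χ)) : O.card * r ≤ finrank ℂ U := by
  classical
  have h1 : iSupIndep (WS ρ x) := (End.independent_iInf_maxGenEigenspace_of_forall_mapsTo (fun a => ρ (x a))
    fun i j φ => End.mapsTo_maxGenEigenspace_of_comm ((hc j i).map ρ) φ).mono fun χ =>
      iInf_mono fun a => End.genEigenspace_le_maximal _ _ 1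
  have h2 := (h1.comp (f := fun χ : O => χ.1) Subtype.val_injective).dfinsupp_lsum_injective
  have h3 := LinearMap.finrank_range_of_inj h2
  rw [show finrank ℂ (Π₀ χ : O, (WS ρ x ∘ Subtype.val) χ) = ∑ χ : O, finrank ℂ (WS ρ x χ) from
    finrank_directSum ℂ _] at h3
  refine le_trans ?_ (h3.ge.trans (Submodule.finrank_mono ?_))
  · simpa using Finset.card_nsmul_le_sum (Finset.univ : Finset O) _ r fun χ _ => hr χ χ.2
  · rw [← Submodule.iSup_eq_range_dfinsupp_lsum]
    exact iSup_le fun χ => hU χ χ.2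

theorem WS.exists [Finite G] (hc : ∀ a b, Commute (x a) (x b)) {a : α} (h : ρ (x a) ≠ 1) :
    ∃ χ, WS ρ x χ ≠ ⊥ ∧ χ a ≠ 1 := by
  obtain ⟨b, wt, h1, -⟩ := exists_eigenbasis (fun a => ρ (x a)) (fun a b => (hc a b).map ρ)
    (fun a => semisimple_of_pow (p := Nat.card G) (Nat.cast_ne_zero.2 Nat.card_pos.ne')
      (by rw [← map_pow, pow_card_eq_one', map_one])) (fun a => End.iSup_maxGenEigenspace_eq_top _)
    (fun _ _ => True) fun W => ⟨finBasis ℂ W, fun _ _ _ => trivial⟩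
  by_contra! e
  refine h (b.ext fun i => ?_)
  rw [h1, e (wt i) ((Submodule.ne_bot_iff _).2 ⟨b i, mem_WS.2 fun a => h1 a i, b.ne_zero i⟩)]
  simp

theorem WS.act (g : G) (τ : α → α) (h : ∀ a, x a * g = g * x (τ a)) (χ : α → ℂ) :
    finrank ℂ (WS ρ x χ) ≤ finrank ℂ (WS ρ x (χ ∘ τ)) := by
  refine LinearMap.finrank_le_finrank_of_injective (f := (ρ g).restrict fun v hv => mem_WS.2 fun a => ?_)
    fun v w e => Subtype.ext ?_
  · rw [← End.mul_apply, ← map_mul, h, map_mul, End.mul_apply, mem_WS.1 hv, map_smul]; rfl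
  · simpa using congrArg (fun z => ρ g⁻¹ z.1) e

theorem ne_one_of {G' : Type*} [Group G'] (e : G ≃* G') (hp : commutator G' = ⊤)
    [IsSimpleGroup (G' ⧸ Subgroup.center G')] {k : ℕ} (ρ : Representation ℂ G (Fin k → ℂ)) (hρ : ρ.IsIrreducible)
    (hk : 2 ≤ k) {x y : G} (hx : x * y ≠ y * x) : ρ x ≠ 1 := fun h => by
  rcases Weil.normal_cases hp (ρ.toHomUnits.comp e.symm.toMonoidHom).ker with h' | h'
  · exact hx (e.injective ((map_mul _ _ _).trans ((Subgroup.mem_center_iff.1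
      (h' (x := e x) (Units.ext (by simpa using h))) (e y)).symm.trans (map_mul _ _ _).symm)))
  · have h1 : ∀ g, ρ g = 1 := fun g => by
      have : ρ.toHomUnits (e.symm (e g)) = 1 := h'.ge (Subgroup.mem_top (e g))
      simpa using congrArg Units.val this
    rcases hρ.eq_bot_or_eq_top ⟨ℂ ∙ Pi.single ⟨0, by omega⟩ 1, fun g v hv => by rwa [h1]⟩ with e | e
    · have := congrArg Subrepresentation.toSubmodule e
      exact absurd (Submodule.span_singleton_eq_bot.1 this) (by simp)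
    · have : Pi.single ⟨1, by omega⟩ 1 ∈ (ℂ ∙ (Pi.single ⟨0, by omega⟩ 1 : Fin k → ℂ)) :=
        (congrArg Subrepresentation.toSubmodule e).ge trivial
      obtain ⟨c, hc⟩ := Submodule.mem_span_singleton.1 this
      simpa [Pi.single_apply, Fin.ext_iff] using congrFun hc ⟨1, by omega⟩

theorem det_one_add {F W : Type*} [Field F] [AddCommGroup W] [Module F W] [FiniteDimensional F W] {f : End F W}
    (h : IsNilpotent (1 - f)) : LinearMap.det f = 1 := by
  have := LinearMap.eval_charpoly (1 - f) 1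
  rw [h.charpoly_eq_X_pow_finrank] at this
  simpa using this.symm

end Cfsg.Agent.Classical.Wt
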